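import Cfsg.Agent.Lib.Asch.Linear

/-! A quasisimple classical group lies in no geometric subgroup. -/

set_option autoImplicit false

namespace Cfsg.Lib.Asch

open Matrix Cfsg.Geo Module
open scoped MatrixGroups Kronecker commutatorElement

variable {ι κ μ : Type} [Fintype ι] [DecidableEq ι] [Fintype κ] [DecidableEq κ]
  [Fintype μ] [DecidableEq μ] {F : Type*} [Field F]

theorem IsMaximalIn.eq_inf {G : Type*} [Group G] {K H M : Subgroup G} (h : IsMaximalIn K H)
    (h1 : H ≤ M) (h2 : ¬ K ≤ M) : H = M ⊓ K :=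
  ((h.2 _ (le_inf h1 h.1.le) inf_le_right).resolve_right fun h3 => h2 (inf_eq_right.1 h3)).symm

theorem not_isMaximalIn {G : Type*} [Group G] {K H M : Subgroup G} (h1 : H ≤ M) (h2 : ¬ K ≤ M)
    {g : G} (hK : g ∈ K) (hM : g ∈ M) (hH : g ∉ H) : ¬ IsMaximalIn K H := fun h =>
  hH (IsMaximalIn.eq_inf h h1 h2 ▸ ⟨hM, hK⟩)

theorem ne_top_of_card_pow [Fintype F] {F₀ : Subfield F} {r : ℕ} (hr : 2 ≤ r)
    (h : Fintype.card F = Nat.card F₀ ^ r) : F₀ ≠ ⊤ := by
  rintro rfl
  rw [Nat.card_congr Subfield.topEquiv.toEquiv, Nat.card_eq_fintype_card] at h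
  have := Nat.pow_lt_pow_right (Fintype.one_lt_card (α := F)) (show 1 < r from hr)
  rw [← h, pow_one] at this
  exact lt_irrefl _ this

/-- A quasisimple absolutely irreducible group defined over no proper subfield. -/
structure Cl (G : Subgroup (GL ι F)) : Prop where
  two : 2 ≤ Fintype.card ι
  top : alg F G = ⊤
  perf : ⁅G, G⁆ = G
  simple : ∀ N ≤ G, NormBy G N → N ≤ scalars ι F ∨ N = G
  trace : ∀ F₀ : Subfield F, (∀ g ∈ G, (g : Matrix ι ι F).trace ∈ F₀) → F₀ = ⊤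

/-- `x` is a non-scalar element normalising `G`. -/
def Wit (G : Subgroup (GL ι F)) (x : GL ι F) : Prop :=
  x ∉ scalars ι F ∧ ∀ g ∈ G, x * g * x⁻¹ ∈ G

theorem Wit.of_mem {G H : Subgroup (GL ι F)} (h : H ≤ G) {x : GL ι F} (hx : x ∈ H ⊔ scalars ι F)
    (h0 : x ∉ scalars ι F) : Wit G x :=
  ⟨h0, normBy_sup_left ((NormBy.self G).mono h) (normBy_center scalars_le_center G) x hx⟩

/-- The invertible elements of a subalgebra. -/
def unitsOf {k : Type*} [Field k] [Algebra k F] (A : Subalgebra k (Matrix ι ι F)) :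
    Subgroup (GL ι F) := A.toSubmonoid.units

theorem mem_unitsOf {k : Type*} [Field k] [Algebra k F] [Finite F]
    {A : Subalgebra k (Matrix ι ι F)} {g : GL ι F} : g ∈ unitsOf A ↔ (g : Matrix ι ι F) ∈ A := by
  refine ⟨fun h => h.1, fun h => ⟨h, ?_⟩⟩
  have h1 : g⁻¹ = g ^ (orderOf g - 1) := by
    rw [inv_eq_iff_mul_eq_one, ← pow_succ', Nat.sub_add_cancel (orderOf_pos g), pow_orderOf_eq_one]
  change ((g⁻¹ : GL ι F) : Matrix ι ι F) ∈ A
  rw [h1, Units.val_pow_eq_pow_val]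
  exact pow_mem h _

theorem Nz.normBy_unitsOf [Finite F] {H : Subgroup (GL ι F)} {A : Subalgebra F (Matrix ι ι F)}
    (h : Nz H (A : Set (Matrix ι ι F))) : NormBy H (unitsOf A) := fun g hg x hx =>
  mem_unitsOf.2 (cj_coe g x ▸ h g hg _ (mem_unitsOf.1 hx))

theorem map_map_toLin' (g h : GL ι F) (W : Submodule F (ι → F)) :
    (W.map (toLin' (h : Matrix ι ι F))).map (toLin' (g : Matrix ι ι F)) =
      W.map (toLin' ((g * h : GL ι F) : Matrix ι ι F)) := by
  rw [Units.val_mul, toLin'_mul, Submodule.map_comp]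

theorem mem_stab_iff_map {W : Submodule F (ι → F)} {g : GL ι F} :
    g ∈ subspaceStabilizer W ↔ W.map (toLin' (g : Matrix ι ι F)) = W := by
  constructor
  · intro h
    exact (inv_iff_le_stab.2 le_rfl).map_eq h
  · intro h
    rw [mem_subspaceStabilizer]
    intro v
    constructor
    · intro hv
      exact h ▸ Submodule.mem_map_of_mem hv
    · intro hv
      rw [← h] at hv
      obtain ⟨w, hw, hwv⟩ := hv
      rw [← inv_mulVec_mulVec g v, ← hwv, toLin'_apply, inv_mulVec_mulVec]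
      exact hw

theorem normBy_iInf_stab {t : ℕ} (D : Fin t → Submodule F (ι → F)) :
    NormBy (decompositionStabilizer D) (⨅ i, subspaceStabilizer (D i)) := by
  rintro g ⟨π, hπ⟩ x hx
  rw [Subgroup.mem_iInf] at hx ⊢
  intro i
  obtain ⟨i, rfl⟩ := π.surjective i
  rw [mem_stab_iff_map, ← hπ, map_map_toLin', inv_mul_cancel_right, ← map_map_toLin',
    mem_stab_iff_map.1 (hx i)]

theorem IsMDecomposition.ne_bot {t m : ℕ} {D : Fin t → Submodule F (ι → F)}
    (h : IsMDecomposition m D) (i : Fin t) : D i ≠ ⊥ := fun h0 => by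
  have := h.finrank_eq i
  rw [h0, finrank_bot] at this
  exact h.pos.ne this

theorem IsMDecomposition.ne_top {t m : ℕ} {D : Fin t → Submodule F (ι → F)}
    (h : IsMDecomposition m D) (i : Fin t) : D i ≠ ⊤ := fun h0 => by
  obtain ⟨j, hj⟩ : ∃ j, j ≠ i := by
    have : Nontrivial (Fin t) := Fin.nontrivial_iff_two_le.2 h.two_le
    exact exists_ne i
  have := h.indep.pairwiseDisjoint hj
  rw [Function.onFun, h0, disjoint_top] at this
  exact IsMDecomposition.ne_bot h j this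

theorem Ratl.trace_mem {F₀ : Subfield F} {P : GL ι F} {x : Matrix ι ι F} (h : Ratl F₀ P x) :
    x.trace ∈ F₀ := by
  rw [← trace_cj P⁻¹]
  exact sum_mem fun i _ => h i i

theorem ratl_of_mem_commutator {F₀ : Subfield F} {P g : GL ι F}
    (h : g ∈ ⁅subfieldSubgroup F₀ P, subfieldSubgroup F₀ P⁆) : Ratl F₀ P (g : Matrix ι ι F) := by
  rw [subfieldSubgroup, ← Subgroup.map_commutator, commutator_sup_center scalars_le_center] at h
  obtain ⟨x, hx, rfl⟩ := h
  obtain ⟨a, rfl⟩ := Subgroup.commutator_le_self _ hx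
  intro i j
  rw [cj_coe]
  simp [mul_assoc]

namespace Cl

variable {G : Subgroup (GL ι F)} (h : Cl G)
include h

theorem nonempty : Nonempty ι := Fintype.card_pos_iff.1 (by have := h.two; omega)

theorem irr : Irr G := irr_of_alg_top h.top

theorem not_le_scalars : ¬ G ≤ scalars ι F := fun hc => not_irr_of_le_scalars h.two hc h.irr

theorem le_of_wit {K : Subgroup (GL ι F)} (hK : NormBy G K) {x : GL ι F} (hx : Wit G x)
    (hxK : x ∈ K) : G ≤ K := by
  rcases h.simple (K ⊓ G) inf_le_right (hK.inf (NormBy.self G)) with h1 | h1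
  · refine absurd (mem_scalars_of_alg_top h.top fun g hg => ?_) hx.1
    refine (comm_of_commutator_mem scalars_le_center (T := G) (fun g hg => h1 ⟨?_, ?_⟩) g
      (h.perf.symm ▸ hg)).symm
    · exact K.mul_mem (hK g hg x hxK) (K.inv_mem hxK)
    · rw [commutatorElement_def, mul_assoc, mul_assoc, ← mul_assoc x]
      exact mul_mem hg (hx.2 _ (inv_mem hg))
  · exact inf_eq_right.1 h1

theorem not_le_stab {W : Submodule F (ι → F)} (h0 : W ≠ ⊥) (h1 : W ≠ ⊤) :
    ¬ G ≤ subspaceStabilizer W := fun hc => (h.irr W (inv_iff_le_stab.2 hc)).elim h0 h1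

theorem not_le_dec {t m : ℕ} {D : Fin t → Submodule F (ι → F)} (hD : IsMDecomposition m D)
    {x : GL ι F} (hx : Wit G x) (hxD : ∀ i, x ∈ subspaceStabilizer (D i)) :
    ¬ G ≤ decompositionStabilizer D := fun hc =>
  let o : Fin t := ⟨0, by have := hD.two_le; omega⟩
  h.not_le_stab (IsMDecomposition.ne_bot hD o) (IsMDecomposition.ne_top hD o)
    ((h.le_of_wit ((normBy_iInf_stab D).mono hc) hx (Subgroup.mem_iInf.2 hxD)).trans (iInf_le _ o))

/-- A homomorphism from `G` to a solvable group is trivial. -/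
theorem map_eq_one {S : Type*} [Group S] [Group.IsSolvable S] {M : Subgroup (GL ι F)} (hM : G ≤ M)
    (φ : M →* S) {g : GL ι F} (hg : g ∈ G) : φ ⟨g, hM hg⟩ = 1 := by
  let T : Subgroup S := (G.subgroupOf M).map φ
  have hT : ⁅T, T⁆ = T := by
    rw [← Subgroup.map_commutator]
    congr 1
    apply Subgroup.map_injective M.subtype_injective
    rw [Subgroup.map_commutator, Subgroup.map_subgroupOf_eq_of_le hM, h.perf]
  by_contra hc
  have : T ≠ ⊥ := fun h0 => hc (Subgroup.mem_bot.1 (h0 ▸ ⟨⟨g, hM hg⟩, hg, rfl⟩))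
  exact (Group.IsSolvable.commutator_lt_of_ne_bot this).ne hT

theorem eq_top_of_nz [Finite F] {A : Subalgebra F (Matrix ι ι F)}
    (hA : Nz G (A : Set (Matrix ι ι F))) {x : GL ι F} (hx : Wit G x)
    (hxA : (x : Matrix ι ι F) ∈ A) : A = ⊤ :=
  eq_top_iff.2 (h.top ▸ alg_le.2 fun _ hg =>
    mem_unitsOf.1 (h.le_of_wit hA.normBy_unitsOf hx (mem_unitsOf.2 hxA) hg))

theorem not_le_field [Finite F] {r : ℕ} {K : Subalgebra F (Matrix ι ι F)} (hr : 2 ≤ r)
    (hK : IsFieldSubalgebra r K) : ¬ G ≤ subalgebraNormalizer K := fun hc => by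
  have := h.nonempty
  have hN := (nz_iff_le_normalizer.2 hc).normBy_unitsOf
  have hF : IsField K :=
    { exists_pair_ne := ⟨0, 1, zero_ne_one⟩
      mul_comm := fun x y => Subtype.ext (hK.comm _ x.2 _ y.2)
      mul_inv_cancel := fun {x} h0 => by
        obtain ⟨y, hy, h⟩ := hK.inv x x.2 fun h => h0 (Subtype.ext h)
        exact ⟨⟨y, hy⟩, Subtype.ext h⟩ }
  letI := hF.toField
  let φ : unitsOf K →* K :=
    { toFun := fun g => ⟨g.1, mem_unitsOf.1 g.2⟩, map_one' := rfl, map_mul' := fun _ _ => rfl }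
  have : IsCyclic (unitsOf K) := isCyclic_of_injective_ringHom φ fun x y hxy =>
    Subtype.ext (Units.ext (congrArg Subtype.val hxy))
  have : Group.IsSolvable (MulAut (unitsOf K)) :=
    isSolvable_of_comm fun a b => (IsCyclic.mulAutMulEquiv _).injective (by
      rw [map_mul, map_mul, mul_comm])
  have hsc : K ≤ ⊥ := fun x hx => by
    by_cases h0 : x = 0
    · exact h0 ▸ zero_mem _
    obtain ⟨y, -, hy⟩ := hK.inv x hx h0
    let u : GL ι F := ⟨x, y, hy, mul_eq_one_comm.1 hy⟩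
    obtain ⟨c, hc⟩ : IsSc x := isSc_of_alg_top h.top fun g hg => by
      have := h.map_eq_one hN.le_normalizer (unitsOf K).normalizerMonoidHom hg
      have := congrArg (fun a : MulAut (unitsOf K) => (a ⟨u, mem_unitsOf.2 hx⟩ : GL ι F)) this
      exact congrArg Units.val (mul_inv_eq_iff_eq_mul.1 this).symm
    exact Algebra.mem_bot.2 ⟨c, by rw [hc, Algebra.algebraMap_eq_smul_one]⟩
  have := hK.finrank_eq
  rw [le_bot_iff.1 hsc, Subalgebra.finrank_bot] at this
  omega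

theorem not_nzL [Finite F] (h2 : 2 ≤ Fintype.card μ) {e : ι ≃ κ × μ} {P x : GL ι F} (hx : Wit G x)
    {a : Matrix κ κ F} (ha : (x : Matrix ι ι F) = tr e P (kl _ _ F a)) : ¬ NzL G e P := fun hc => by
  obtain ⟨i⟩ := h.nonempty
  have : Nonempty κ := ⟨(e i).1⟩
  have : Nonempty μ := ⟨(e i).2⟩
  have hA := h.eq_top_of_nz (A := ((tr e P).toAlgHom.comp (kl κ μ F)).range)
    (by rintro g hg _ ⟨y, rfl⟩; obtain ⟨z, hz⟩ := hc g hg y; exact ⟨z, hz.symm⟩) hx ⟨a, ha.symm⟩
  refine not_comm_top (F := F) h2 fun y z => kr_injective (κ := κ) ((tr e P).injective ?_)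
  obtain ⟨w, hw⟩ : tr e P (kr _ _ F y) ∈ ((tr e P).toAlgHom.comp (kl κ μ F)).range :=
    hA ▸ Algebra.mem_top
  have hw : tr e P (kl _ _ F w) = tr e P (kr _ _ F y) := hw
  rw [map_mul, map_mul, map_mul, map_mul, ← hw, ← map_mul, ← map_mul, kl_mul_kr, kr_mul_kl]

theorem not_le_tensor [Finite F] {n₁ n₂ : ℕ} (h2 : 2 ≤ n₂) {e : ι ≃ Fin n₁ × Fin n₂} {P x : GL ι F}
    (hx : Wit G x) {a : Matrix (Fin n₁) (Fin n₁) F}
    (ha : (x : Matrix ι ι F) = tr e P (kl _ _ F a)) : ¬ G ≤ tensorProductSubgroup n₁ n₂ e P :=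
  fun hc => h.not_nzL (by simpa using h2) hx ha (nzL_of_le_tensor hc)

theorem not_le_wreath [Finite F] {k t : ℕ} (hk : 2 ≤ k) (ht : 2 ≤ t) {e : ι ≃ (Fin t → Fin k)}
    {P x : GL ι F} (hx : Wit G x) {i : Fin t} {a : Matrix (Fin k) (Fin k) F}
    (ha : (x : Matrix ι ι F) = tr e P (slot i a)) : ¬ G ≤ tensorWreathSubgroup k t e P := fun hc => by
  have : NeZero k := ⟨by omega⟩
  let A : Fin t → Subalgebra F (Matrix ι ι F) := fun j => ((tr e P).toAlgHom.comp (slot j)).range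
  have hcm : ∀ i j, i ≠ j → ∀ y ∈ A i, ∀ z ∈ A j, y * z = z * y := by
    rintro i j hij _ ⟨y, rfl⟩ _ ⟨z, rfl⟩
    exact (map_mul (tr e P) _ _).symm.trans
      ((congrArg (tr e P) (slot_comm hij y z)).trans (map_mul (tr e P) _ _))
  have hK : NormBy G (⨅ j, subalgebraNormalizer (A j)) := fun g hg y hy => by
    rw [Subgroup.mem_iInf] at hy ⊢
    intro j
    obtain ⟨π, gs, hπ⟩ := cj_slot_of_mem_tensorWreath (hc hg)
    obtain ⟨j, rfl⟩ := π.surjective j
    refine (nz_iff_le_normalizer (H := Subgroup.zpowers _)).1 ?_ (Subgroup.mem_zpowers _)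
    rintro _ ⟨n, rfl⟩ _ ⟨b, rfl⟩
    obtain ⟨c, hc⟩ := nz_iff_le_normalizer.2 le_rfl _ (zpow_mem (hy j) n) _
      (⟨cj (gs j)⁻¹ b, rfl⟩ : _ ∈ A j)
    refine ⟨cj (gs j) c, ?_⟩
    have hc : tr e P (slot j c) = cj (y ^ n) (tr e P (slot j (cj (gs j)⁻¹ b))) := hc
    change tr e P (slot _ _) = cj ((g * y * g⁻¹) ^ n) (tr e P (slot _ b))
    rw [← hπ, hc, conj_zpow, cj_mul, cj_mul, ← cj_cj_inv (gs j) b, ← hπ, cj_inv_cj, cj_inv_cj]
  have h1 := h.le_of_wit hK hx (Subgroup.mem_iInf.2 fun j => by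
    refine (nz_iff_le_normalizer (H := unitsOf (A i))).1 (fun y hy z hz => ?_)
      (mem_unitsOf.2 ⟨a, ha.symm⟩)
    by_cases hij : i = j
    · subst hij
      exact mul_mem (mul_mem (mem_unitsOf.1 hy) hz) (mem_unitsOf.1 (inv_mem hy))
    · rwa [cj_eq_iff.2 (hcm i j hij _ (mem_unitsOf.1 hy) z hz)])
  have hA := h.eq_top_of_nz (nz_iff_le_normalizer.2 (h1.trans (iInf_le _ i))) hx ⟨a, ha.symm⟩
  have : Nontrivial (Fin t) := Fin.nontrivial_iff_two_le.2 ht
  obtain ⟨j, hj⟩ := exists_ne i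
  refine not_comm_top (F := F) (ι := Fin k) (by simpa using hk) fun y z =>
    slot_injective j ((tr e P).injective ?_)
  rw [map_mul, map_mul, map_mul, map_mul]
  exact hcm i j hj.symm _ (hA ▸ Algebra.mem_top) _ ⟨z, rfl⟩

theorem not_le_subfield {F₀ : Subfield F} (h0 : F₀ ≠ ⊤) (P : GL ι F) :
    ¬ G ≤ subfieldSubgroup F₀ P := fun hc =>
  h0 (h.trace F₀ fun g hg =>
    (ratl_of_mem_commutator (Subgroup.commutator_mono hc hc (h.perf.symm ▸ hg))).trace_mem)

theorem not_le_normalizer [Finite F] {R : Subgroup (GL ι F)} {r : ℕ} (hr : r.Prime)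
    (hP : IsPGroup r R) (hR : Irr R) (hn : NormBy R G) : ¬ G ≤ subgroupNormalizer R := fun hc => by
  obtain ⟨x, hx, h0⟩ := SetLike.not_le_iff_exists.1 fun hs => not_irr_of_le_scalars h.two hs hR
  have h1 := h.le_of_wit (normBy_iff_le.2 hc) ⟨h0, hn x hx⟩ hx
  have : Fact r.Prime := ⟨hr⟩
  have := hP.isNilpotent
  refine h.not_le_scalars fun g hg => ?_
  rw [show g = 1 from congrArg Subtype.val (h.map_eq_one h1 (MonoidHom.id R) hg)]
  exact one_mem _

theorem fixes {σ : F →+* F} {A : Matrix ι ι F} (h0 : A ≠ 0)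
    (hc : G ≤ similarityGroup (formOfGram σ A)) : Fixes σ G A :=
  have := h.nonempty
  fixes_of_le_commutator h0 hc h.perf.ge

end Cl

end Cfsg.Lib.Asch
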