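import Cfsg.Agent.Lib.Asch.Block
import Cfsg.Agent.Lib.Asch.Max

/-! Adjoints and orthogonal complements for a non-degenerate reflexive sesquilinear form. -/

set_option autoImplicit false

namespace Cfsg.Lib.Asch

open Matrix Cfsg.Geo Module
open scoped MatrixGroups Kronecker

variable {ι κ μ : Type} [Fintype ι] [DecidableEq ι] [Fintype κ] [DecidableEq κ]
  [Fintype μ] [DecidableEq μ] {F : Type*} [Field F] {σ : F →+* F} {ε : F}
  {f : (ι → F) → (ι → F) → F}

/-- A non-degenerate `ε`-hermitian form. -/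
structure Hm (σ : F →+* F) (ε : F) (f : (ι → F) → (ι → F) → F) : Prop extends IsSesq σ f where
  invol : ∀ a, σ (σ a) = a
  nd : ∀ v, (∀ u, f u v = 0) → v = 0
  swap : ∀ u v, σ (f v u) = ε * f u v

/-- `H` consists of isometries of `f`. -/
def Isom (f : (ι → F) → (ι → F) → F) (H : Subgroup (GL ι F)) : Prop :=
  ∀ g ∈ H, ∀ u v, f ((g : Matrix ι ι F) *ᵥ u) ((g : Matrix ι ι F) *ᵥ v) = f u v

/-- The isometry group. -/
def isoG (f : (ι → F) → (ι → F) → F) : Subgroup (GL ι F) := preserving (Units.coeHom _) f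

theorem mem_isoG {g : GL ι F} :
    g ∈ isoG f ↔ ∀ u v, f ((g : Matrix ι ι F) *ᵥ u) ((g : Matrix ι ι F) *ᵥ v) = f u v := Iff.rfl

theorem isom_iff {H : Subgroup (GL ι F)} : Isom f H ↔ H ≤ isoG f := Iff.rfl

theorem isom_iff_fixesForm {H : Subgroup (GL ι F)} : Isom f H ↔ FixesForm (matrixSet H) f :=
  ⟨by rintro h _ ⟨g, hg, rfl⟩; exact h g hg, fun h g hg => h _ ⟨g, hg, rfl⟩⟩

theorem isoG_le_sim : isoG f ≤ similarityGroup f := fun _ hg => ⟨1, fun u v => by simpa using hg u v⟩

theorem Isom.le_sim {H : Subgroup (GL ι F)} (h : Isom f H) : H ≤ similarityGroup f :=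
  (isom_iff.1 h).trans isoG_le_sim

theorem Isom.mono {H K : Subgroup (GL ι F)} (h : Isom f H) (hK : K ≤ H) : Isom f K :=
  fun g hg => h g (hK hg)

/-- The adjoint. -/
noncomputable def adj (σ : F →+* F) (f : (ι → F) → (ι → F) → F) (x : Matrix ι ι F) :
    Matrix ι ι F := ((gramMatrix f)⁻¹ * xᵀ * gramMatrix f).map σ

/-- `S` is closed under adjoints. -/
def AC (σ : F →+* F) (f : (ι → F) → (ι → F) → F) (S : Set (Matrix ι ι F)) : Prop :=
  ∀ x ∈ S, adj σ f x ∈ S

/-- The orthogonal complement. -/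
def IsSesq.perp (h : IsSesq σ f) (W : Submodule F (ι → F)) : Submodule F (ι → F) where
  carrier := {u | ∀ w ∈ W, f u w = 0}
  add_mem' ha hb w hw := by rw [h.add_left, ha w hw, hb w hw, add_zero]
  zero_mem' w _ := h.zero_left w
  smul_mem' c _ ha w hw := by rw [h.smul_left, ha w hw, mul_zero]

omit [Fintype ι] [DecidableEq ι] in
theorem IsSesq.mem_perp (h : IsSesq σ f) {W : Submodule F (ι → F)} {u : ι → F} :
    u ∈ h.perp W ↔ ∀ w ∈ W, f u w = 0 := Iff.rfl

theorem hm_fG (hσ : ∀ a, σ (σ a) = a) {A : Matrix ι ι F} (hA : IsUnit A)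
    (h : (A.map σ)ᵀ = ε • A) : Hm σ ε (formOfGram σ A) where
  toIsSesq := isSesq_fG A
  invol := hσ
  nd v hv := by
    by_contra h0
    obtain ⟨x, hx⟩ := (((nondeg_fG_iff (Function.Involutive.surjective hσ)).2 hA) v h0).1
    exact hx (hv x)
  swap u v := by rw [← fG_swap hσ, h, fG_smul]

namespace Hm

variable (h : Hm σ ε f)
include h

omit [Fintype ι] [DecidableEq ι] in
theorem surj : Function.Surjective σ := Function.Involutive.surjective h.invol

omit [Fintype ι] [DecidableEq ι] in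
theorem symm0 {u v : ι → F} (h0 : f u v = 0) : f v u = 0 := by
  rw [← map_eq_zero σ, h.swap, h0, mul_zero]

omit [Fintype ι] [DecidableEq ι] in
theorem nd' (v : ι → F) (hv : ∀ u, f v u = 0) : v = 0 := h.nd v fun u => h.symm0 (hv u)

omit [Fintype ι] [DecidableEq ι] in
theorem exists_ne {v : ι → F} (hv : v ≠ 0) : ∃ u, f u v ≠ 0 := by
  by_contra hc
  push Not at hc
  exact hv (h.nd v hc)

omit [Fintype ι] [DecidableEq ι] in
theorem nondeg : IsNondegenerateForm f := fun _ hv =>
  let ⟨u, hu⟩ := h.exists_ne hv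
  ⟨⟨u, hu⟩, u, fun h0 => hu (h.symm0 h0)⟩

omit [Fintype ι] [DecidableEq ι] in
theorem ext_right {v w : ι → F} (hv : ∀ u, f u v = f u w) : v = w :=
  sub_eq_zero.1 (h.nd _ fun u => by rw [h.sub_right, hv, sub_self])

omit [Fintype ι] [DecidableEq ι] in
theorem ext_left {v w : ι → F} (hv : ∀ u, f v u = f w u) : v = w :=
  sub_eq_zero.1 (h.nd' _ fun u => by rw [h.sub_left, hv, sub_self])

omit [Fintype ι] [DecidableEq ι] in
theorem congr_swap {u v u' v' : ι → F} (h0 : f u v = f u' v') : f v u = f v' u' :=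
  σ.injective (by rw [h.swap, h.swap, h0])

theorem unit : IsUnit (gramMatrix f) := h.toIsSesq.isUnit h.surj h.nondeg

theorem eq_fG : f = formOfGram σ (gramMatrix f) := h.toIsSesq.eq_fG

theorem gram_dagger : ((gramMatrix f).map σ)ᵀ = ε • gramMatrix f :=
  Matrix.ext fun _ _ => h.swap _ _

omit [Fintype ι] in
theorem norm_ε [Nonempty ι] : ε * σ ε = 1 := by
  obtain ⟨i⟩ := ‹Nonempty ι›
  obtain ⟨u, hu⟩ := h.exists_ne (v := Pi.single i 1) (by simp)
  have h2 := congrArg σ (h.swap (Pi.single i 1) u)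
  rw [h.invol, map_mul, h.swap, ← mul_assoc, eq_comm, mul_eq_right₀ hu] at h2
  rw [mul_comm, h2]

theorem adj_spec (x : Matrix ι ι F) (u v : ι → F) : f (x *ᵥ u) v = f u (adj σ f x *ᵥ v) := by
  have hA := (isUnit_iff_isUnit_det _).1 h.unit
  conv_lhs => rw [h.eq_fG]
  conv_rhs => rw [h.eq_fG]
  rw [fG_mulVec_left, fG_mulVec_right, adj, gram_fG, map_map_σ h.invol, ← mul_assoc, ← mul_assoc,
    mul_nonsing_inv _ hA, one_mul]

theorem adj_eq {x y : Matrix ι ι F} (hy : ∀ u v, f (x *ᵥ u) v = f u (y *ᵥ v)) : adj σ f x = y :=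
  mat_ext fun v => h.ext_right fun u => by rw [← h.adj_spec, hy]

theorem adj_spec' (x : Matrix ι ι F) (u v : ι → F) : f u (x *ᵥ v) = f (adj σ f x *ᵥ u) v :=
  h.congr_swap (h.adj_spec x v u)

theorem adj_adj (x : Matrix ι ι F) : adj σ f (adj σ f x) = x :=
  h.adj_eq fun u v => (h.adj_spec' x u v).symm

theorem adj_injective : Function.Injective (adj σ f) := Function.LeftInverse.injective h.adj_adj

theorem adj_mul (x y : Matrix ι ι F) : adj σ f (x * y) = adj σ f y * adj σ f x :=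
  h.adj_eq fun u v => by rw [← mulVec_mulVec, h.adj_spec, h.adj_spec, mulVec_mulVec]

theorem adj_add (x y : Matrix ι ι F) : adj σ f (x + y) = adj σ f x + adj σ f y :=
  h.adj_eq fun u v => by rw [add_mulVec, add_mulVec, h.add_left, h.add_right, h.adj_spec, h.adj_spec y]

theorem adj_smul (c : F) (x : Matrix ι ι F) : adj σ f (c • x) = σ c • adj σ f x :=
  h.adj_eq fun u v => by
    rw [smul_mulVec, smul_mulVec, h.smul_left, h.smul_right, h.invol, h.adj_spec]

theorem adj_one : adj σ f 1 = 1 := h.adj_eq fun u v => by rw [one_mulVec, one_mulVec]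

/-- The adjoint as an additive map. -/
noncomputable def adjHom : Matrix ι ι F →+ Matrix ι ι F := AddMonoidHom.mk' (adj σ f) h.adj_add

theorem adj_zero : adj σ f 0 = 0 := map_zero h.adjHom
theorem adj_neg (x : Matrix ι ι F) : adj σ f (-x) = -adj σ f x := map_neg h.adjHom x
theorem adj_sub (x y : Matrix ι ι F) : adj σ f (x - y) = adj σ f x - adj σ f y :=
  map_sub h.adjHom x y

theorem adj_pow (x : Matrix ι ι F) (k : ℕ) : adj σ f (x ^ k) = adj σ f x ^ k := by
  induction k with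
  | zero => simpa using h.adj_one
  | succ k ih => rw [pow_succ, h.adj_mul, ih, pow_succ']

theorem isSc_adj {x : Matrix ι ι F} : IsSc (adj σ f x) ↔ IsSc x := by
  have key : ∀ x : Matrix ι ι F, IsSc x → IsSc (adj σ f x) := by
    rintro _ ⟨c, rfl⟩
    exact ⟨σ c, by rw [h.adj_smul, h.adj_one]⟩
  exact ⟨fun hx => h.adj_adj x ▸ key _ hx, key x⟩

theorem adj_of_sim {g : GL ι F} {c : F}
    (hg : ∀ u v, f ((g : Matrix ι ι F) *ᵥ u) ((g : Matrix ι ι F) *ᵥ v) = c * f u v) :
    adj σ f (g : Matrix ι ι F) = σ c • ((g⁻¹ : GL ι F) : Matrix ι ι F) :=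
  h.adj_eq fun u v => by
    rw [smul_mulVec, h.smul_right, h.invol, ← hg, mulVec_inv_mulVec]

theorem adj_of_iso {g : GL ι F} (hg : g ∈ isoG f) :
    adj σ f (g : Matrix ι ι F) = ((g⁻¹ : GL ι F) : Matrix ι ι F) := by
  simpa using h.adj_of_sim (g := g) (c := 1) fun u v => by rw [mem_isoG.1 hg, one_mul]

theorem mem_isoG_of_adj {g : GL ι F} (hg : adj σ f (g : Matrix ι ι F) * g = 1) : g ∈ isoG f :=
  fun u v => by
    change f ((g : Matrix ι ι F) *ᵥ u) ((g : Matrix ι ι F) *ᵥ v) = f u v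
    rw [h.adj_spec, mulVec_mulVec, hg, one_mulVec]

theorem adj_cj {g : GL ι F} (hg : g ∈ similarityGroup f) (x : Matrix ι ι F) :
    adj σ f (cj g x) = cj g (adj σ f x) := by
  obtain ⟨c, hc⟩ := hg
  refine h.adj_eq fun u v => ?_
  rw [← mulVec_inv_mulVec g u, ← mulVec_inv_mulVec g v, cj_mulVec, cj_mulVec, hc, hc, h.adj_spec]

theorem sc_mem_isoG {c : Fˣ} (hc : (c : F) * σ c = 1) : sc ι c ∈ isoG f := fun u v => by
  change f ((sc ι c : Matrix ι ι F) *ᵥ u) ((sc ι c : Matrix ι ι F) *ᵥ v) = f u v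
  rw [coe_sc, smul_mulVec, smul_mulVec, one_mulVec, one_mulVec, h.smul_left, h.smul_right,
    ← mul_assoc, hc, one_mul]

theorem norm_of_sc_mem [Nonempty ι] {c : Fˣ} (hc : sc ι c ∈ isoG f) : (c : F) * σ c = 1 := by
  obtain ⟨i⟩ := ‹Nonempty ι›
  obtain ⟨u, hu⟩ := h.exists_ne (v := Pi.single i 1) (by simp)
  have := mem_isoG.1 hc u (Pi.single i 1)
  rwa [coe_sc, smul_mulVec, smul_mulVec, one_mulVec, one_mulVec, h.smul_left, h.smul_right,
    ← mul_assoc, mul_eq_right₀ hu] at this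

theorem ac_alg {k : Type*} [Field k] [Algebra k F] {N : Subgroup (GL ι F)}
    (hk : ∀ c : k, ∃ c' : k, algebraMap k F c' = σ (algebraMap k F c))
    (hN : ∀ g ∈ N, adj σ f (g : Matrix ι ι F) ∈ alg k N) : AC σ f (alg k N) := fun x hx => by
  refine alg_induction (p := fun x => adj σ f x ∈ alg k N) hN (fun x y hx hy => ?_)
    (fun c x hx => ?_) hx
  · rw [h.adj_add]; exact add_mem hx hy
  · obtain ⟨c', hc⟩ := hk c
    rw [← algebraMap_smul F, h.adj_smul, ← hc, algebraMap_smul]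
    exact Subalgebra.smul_mem _ hx _

theorem ac_alg_of_isom {k : Type*} [Field k] [Algebra k F] {N : Subgroup (GL ι F)}
    (hk : ∀ c : k, ∃ c' : k, algebraMap k F c' = σ (algebraMap k F c)) (hN : Isom f N) :
    AC σ f (alg k N) :=
  h.ac_alg hk fun g hg => by rw [h.adj_of_iso (hN g hg)]; exact coe_mem_alg (inv_mem hg)

theorem ac_alg' {N : Subgroup (GL ι F)} (hN : Isom f N) : AC σ f (alg F N) :=
  h.ac_alg_of_isom (fun c => ⟨σ c, rfl⟩) hN

theorem ac_cen {A : Subalgebra F (Matrix ι ι F)} (hA : AC σ f A) : AC σ f (cen A) := fun x hx => by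
  have := mem_cen.1 hx
  refine mem_cen.2 ⟨hA _ this.1, fun y hy => ?_⟩
  rw [← h.adj_adj y, ← h.adj_mul, ← h.adj_mul, this.2 _ (hA _ hy)]

theorem isAdjointClosedFor {K : Subalgebra F (Matrix ι ι F)} :
    IsAdjointClosedFor f K ↔ AC σ f K :=
  forall₂_congr fun k _ => ⟨fun ⟨_, h1, h2⟩ => h.adj_eq h2 ▸ h1, fun h1 => ⟨_, h1, h.adj_spec k⟩⟩

theorem isSelfAdjointFor {K : Subalgebra F (Matrix ι ι F)} :
    IsSelfAdjointFor f K ↔ ∀ k ∈ K, adj σ f k = k :=
  forall₂_congr fun k _ => ⟨h.adj_eq, fun h1 u v => by rw [h.adj_spec, h1]⟩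

/-! ### Orthogonal complements -/

omit [Fintype ι] [DecidableEq ι] in
theorem mem_perp' {W : Submodule F (ι → F)} {u : ι → F} :
    u ∈ h.perp W ↔ ∀ w ∈ W, f w u = 0 := forall₂_congr fun _ _ => ⟨h.symm0, h.symm0⟩

omit [DecidableEq ι] in
theorem finrank_perp (W : Submodule F (ι → F)) :
    finrank F W + finrank F (h.perp W) = Fintype.card ι := by
  have : RingHomSurjective σ := ⟨h.surj⟩
  let B : (ι → F) →ₛₗ[σ] Module.Dual F (ι → F) :=
    { toFun := fun w => { toFun := fun u => f u w, map_add' := fun x y => h.add_left x y w,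
                          map_smul' := fun c x => h.smul_left c x w }
      map_add' := fun x y => LinearMap.ext fun u => h.add_right u x y
      map_smul' := fun c x => LinearMap.ext fun u => h.smul_right c u x }
  let j : W →+ W.map B :=
    { toFun := fun x => ⟨B x, Submodule.mem_map_of_mem x.2⟩
      map_zero' := by ext1; simp
      map_add' := fun x y => by ext1; simp }
  have hj : Function.Bijective j := by
    constructor
    · intro x y hxy
      exact Subtype.ext (h.ext_right fun u => LinearMap.congr_fun (congrArg Subtype.val hxy) u)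
    · rintro ⟨_, x, hx, rfl⟩
      exact ⟨⟨x, hx⟩, rfl⟩
  have h1 := congrArg Cardinal.toNat (lift_rank_eq_of_equiv_equiv (R := F) (R' := F) σ
    (AddEquiv.ofBijective j hj) ⟨σ.injective, h.surj⟩ (fun r m => by ext1; simp [j]))
  simp only [Cardinal.toNat_lift] at h1
  have h2 : (W.map B).dualCoannihilator = h.perp W := by
    ext x
    simp only [Submodule.mem_dualCoannihilator, IsSesq.mem_perp]
    exact ⟨fun hx w hw => hx _ ⟨w, hw, rfl⟩, by rintro hx _ ⟨w, hw, rfl⟩; exact hx w hw⟩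
  have h3 := Subspace.finrank_add_finrank_dualCoannihilator_eq (W.map B)
  rw [h2, finrank_fintype_fun_eq_card] at h3
  exact h3 ▸ congrArg (· + _) h1

omit [DecidableEq ι] in
theorem perp_perp (W : Submodule F (ι → F)) : h.perp (h.perp W) = W := by
  refine (Submodule.eq_of_le_of_finrank_eq
    (fun x hx => h.mem_perp'.2 fun w (hw : w ∈ h.perp W) => hw x hx) ?_).symm
  have := h.finrank_perp W
  have := h.finrank_perp (h.perp W)
  omega

omit [Fintype ι] [DecidableEq ι] in
theorem nondegOn_iff {W : Submodule F (ι → F)} : IsNondegenerateOn f W ↔ W ⊓ h.perp W = ⊥ := by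
  rw [Submodule.eq_bot_iff]
  constructor
  · rintro hW w ⟨h1, h2⟩
    by_contra h0
    obtain ⟨x, hx, h3⟩ := (hW w h1 h0).2
    exact h3 (h2 x hx)
  · intro hW w hw h0
    by_contra hc
    refine h0 (hW w ⟨hw, fun x hx => ?_⟩)
    by_contra h3
    exact hc ⟨⟨x, hx, fun h4 => h3 (h.symm0 h4)⟩, x, hx, h3⟩

omit [DecidableEq ι] in
theorem nondegOn_perp {W : Submodule F (ι → F)} (hW : IsNondegenerateOn f W) :
    IsNondegenerateOn f (h.perp W) := by
  rw [h.nondegOn_iff] at hW ⊢
  rw [h.perp_perp, inf_comm, hW]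

omit [DecidableEq ι] in
theorem isCompl_perp {W : Submodule F (ι → F)} (hW : IsNondegenerateOn f W) :
    IsCompl W (h.perp W) :=
  (Submodule.isCompl_iff_disjoint _ _ (by rw [h.finrank_perp, finrank_fintype_fun_eq_card])).2
    (disjoint_iff.2 (h.nondegOn_iff.1 hW))

theorem inv_perp {H : Subgroup (GL ι F)} (hH : H ≤ similarityGroup f) {W : Submodule F (ι → F)}
    (hW : Inv H W) : Inv H (h.perp W) := fun g hg u hu w hw => by
  obtain ⟨c, hc⟩ := hH hg
  rw [← mulVec_inv_mulVec g w, hc, hu _ (hW _ (inv_mem hg) w hw), mul_zero]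

omit [DecidableEq ι] in
theorem perp_ne_bot {W : Submodule F (ι → F)} (hW : W ≠ ⊤) : h.perp W ≠ ⊥ := fun h0 => by
  have := h.finrank_perp W
  rw [h0, finrank_bot, add_zero, ← finrank_fintype_fun_eq_card F] at this
  exact hW (Submodule.eq_top_of_finrank_eq this)

omit [DecidableEq ι] in
theorem perp_ne_top {W : Submodule F (ι → F)} (hW : W ≠ ⊥) : h.perp W ≠ ⊤ := fun h0 => by
  have := h.finrank_perp W
  rw [h0, finrank_top, finrank_fintype_fun_eq_card, add_eq_right, Submodule.finrank_eq_zero] at this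
  exact hW this

omit [DecidableEq ι] in
theorem two_mul_le_of_ts {W : Submodule F (ι → F)} (hW : IsTotallySingularFor f W) :
    2 * finrank F W ≤ Fintype.card ι := by
  have h1 : finrank F W ≤ finrank F (h.perp W) := Submodule.finrank_mono fun u hu => hW u hu
  have := h.finrank_perp W
  omega

omit [DecidableEq ι] in
theorem ne_top_of_ts {W : Submodule F (ι → F)} (hW : IsTotallySingularFor f W) (h0 : W ≠ ⊥) :
    W ≠ ⊤ := by
  rintro rfl
  obtain ⟨v, -, hv⟩ := Submodule.exists_mem_ne_zero_of_ne_bot h0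
  exact hv (h.nd v fun u => hW u trivial v trivial)

/-- A reducible group of similarities fixes a totally isotropic or a non-degenerate subspace. -/
theorem reducible {H : Subgroup (GL ι F)} (hH : H ≤ similarityGroup f) (hI : ¬ Irr H) :
    (∃ W : Submodule F (ι → F), W ≠ ⊥ ∧ IsTotallySingularFor f W ∧ Inv H W) ∨
    ∃ W : Submodule F (ι → F), W ≠ ⊥ ∧ IsNondegenerateOn f W ∧
      2 * finrank F W ≤ Fintype.card ι ∧ Inv H W := by
  simp only [Irr, not_forall, not_or] at hI
  obtain ⟨W, h1, h2, h3⟩ := hI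
  by_cases h4 : W ⊓ h.perp W = ⊥
  · rw [← h.nondegOn_iff] at h4
    have := h.finrank_perp W
    by_cases h5 : 2 * finrank F W ≤ Fintype.card ι
    · exact .inr ⟨W, h2, h4, h5, h1⟩
    · exact .inr ⟨_, h.perp_ne_bot h3, h.nondegOn_perp h4, by omega, h.inv_perp hH h1⟩
  · exact .inl ⟨_, h4, fun u hu v hv => hu.2 v hv.1, fun g hg w hw =>
      ⟨h1 g hg w hw.1, h.inv_perp hH h1 g hg w hw.2⟩⟩

omit [DecidableEq ι] in
/-- A non-degenerate subspace of half the dimension and its complement. -/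
theorem halves {W : Submodule F (ι → F)} (h0 : W ≠ ⊥) (hW : IsNondegenerateOn f W)
    (hn : 2 * finrank F W = Fintype.card ι) :
    IsNondegenerateMDecomposition f (finrank F W) ![W, h.perp W] := by
  have h1 := h.finrank_perp W
  have h2 := h.isCompl_perp hW
  refine ⟨⟨le_rfl, Submodule.one_le_finrank_iff.2 h0, fun i => ?_, ?_, ?_⟩, fun i => ?_,
    fun i j hij => ?_⟩
  · fin_cases i
    · rfl
    · exact (by omega : finrank F (h.perp W) = finrank F W)
  · exact (iSupIndep_pair (i := 0) (j := 1) (by decide) (by decide)).2 h2.disjoint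
  · rw [eq_top_iff, ← h2.sup_eq_top]
    exact sup_le (le_iSup ![W, h.perp W] 0) (le_iSup ![W, h.perp W] 1)
  · fin_cases i
    exacts [hW, h.nondegOn_perp hW]
  · fin_cases i <;> fin_cases j
    · exact absurd rfl hij
    · exact fun u hu v hv => h.symm0 (hv u hu)
    · exact fun u hu v hv => hu v hv
    · exact absurd rfl hij

end Hm

theorem le_dec_of_inv {H : Subgroup (GL ι F)} {t : ℕ} {D : Fin t → Submodule F (ι → F)}
    (h : ∀ i, Inv H (D i)) : H ≤ decompositionStabilizer D :=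
  fun _ hg => ⟨1, fun i => (h i).map_eq hg⟩

end Cfsg.Lib.Asch
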