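import Cfsg.Prelude.Def_GeometricClasses

/-! Matrix algebra facts behind the subgroup structure theorem of the classical groups:
conjugation, matrix units, Skolem–Noether for matrix algebras, central simple subalgebras. -/

set_option autoImplicit false

namespace Cfsg.Lib.Asch

open Matrix Cfsg.Geo
open scoped MatrixGroups Kronecker

variable {ι κ μ : Type} [Fintype ι] [DecidableEq ι] [Fintype κ] [DecidableEq κ]
  [Fintype μ] [DecidableEq μ] {F : Type*} [Field F]

/-- Conjugation by an invertible matrix. -/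
def cj (g : GL ι F) : Matrix ι ι F ≃ₐ[F] Matrix ι ι F where
  toFun x := (g : Matrix ι ι F) * x * ((g⁻¹ : GL ι F) : Matrix ι ι F)
  invFun x := ((g⁻¹ : GL ι F) : Matrix ι ι F) * x * (g : Matrix ι ι F)
  left_inv x := by simp [mul_assoc]
  right_inv x := by simp [mul_assoc]
  map_mul' x y := by simp [mul_assoc]
  map_add' x y := by simp [mul_add, add_mul]
  commutes' c := by simp [Algebra.algebraMap_eq_smul_one]

theorem cj_apply (g : GL ι F) (x : Matrix ι ι F) :
    cj g x = (g : Matrix ι ι F) * x * ((g⁻¹ : GL ι F) : Matrix ι ι F) := rfl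

theorem cj_mul (g h : GL ι F) (x : Matrix ι ι F) : cj (g * h) x = cj g (cj h x) := by
  simp [cj_apply, mul_assoc]

@[simp] theorem cj_one (x : Matrix ι ι F) : cj (1 : GL ι F) x = x := by simp [cj_apply]

@[simp] theorem cj_inv_cj (g : GL ι F) (x : Matrix ι ι F) : cj g⁻¹ (cj g x) = x := by
  rw [← cj_mul, inv_mul_cancel, cj_one]

@[simp] theorem cj_cj_inv (g : GL ι F) (x : Matrix ι ι F) : cj g (cj g⁻¹ x) = x := by
  rw [← cj_mul, mul_inv_cancel, cj_one]

theorem cj_coe (g x : GL ι F) : cj g (x : Matrix ι ι F) = ((g * x * g⁻¹ : GL ι F) : Matrix ι ι F) := by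
  simp [cj_apply]

theorem cj_mul_self (g : GL ι F) (x : Matrix ι ι F) :
    cj g x * (g : Matrix ι ι F) = (g : Matrix ι ι F) * x := by
  simp [cj_apply, mul_assoc]

theorem cj_eq_iff {g : GL ι F} {x y : Matrix ι ι F} :
    cj g x = y ↔ (g : Matrix ι ι F) * x = y * (g : Matrix ι ι F) := by
  constructor
  · rintro rfl; rw [cj_mul_self]
  · intro h; rw [cj_apply, h]; simp [mul_assoc]

theorem cj_mulVec (g : GL ι F) (x : Matrix ι ι F) (v : ι → F) :
    cj g x *ᵥ ((g : Matrix ι ι F) *ᵥ v) = (g : Matrix ι ι F) *ᵥ (x *ᵥ v) := by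
  rw [mulVec_mulVec, mulVec_mulVec, cj_mul_self]

theorem trace_cj (g : GL ι F) (x : Matrix ι ι F) : (cj g x).trace = x.trace := by
  rw [cj_apply, trace_mul_cycle]; simp

theorem inv_mulVec_mulVec (g : GL ι F) (v : ι → F) :
    ((g⁻¹ : GL ι F) : Matrix ι ι F) *ᵥ ((g : Matrix ι ι F) *ᵥ v) = v := by
  rw [mulVec_mulVec]; simp

theorem mulVec_inv_mulVec (g : GL ι F) (v : ι → F) :
    (g : Matrix ι ι F) *ᵥ (((g⁻¹ : GL ι F) : Matrix ι ι F) *ᵥ v) = v := by
  rw [mulVec_mulVec]; simp

theorem mat_ext {x y : Matrix ι κ F} (h : ∀ v, x *ᵥ v = y *ᵥ v) : x = y := by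
  ext i j
  simpa using congrFun (h (Pi.single j 1)) i

/-- A matrix is a scalar. -/
def IsSc (x : Matrix ι ι F) : Prop := ∃ c : F, x = c • (1 : Matrix ι ι F)

theorem isSc_of_comm_single {x : Matrix ι ι F}
    (h : ∀ a b, x * single a b (1 : F) = single a b 1 * x) : IsSc x := by
  have : x ∈ Set.range (Matrix.scalar ι) := by
    rw [mem_range_scalar_iff_commute_single']
    intro i j; exact (h i j).symm
  obtain ⟨c, rfl⟩ := this
  exact ⟨c, by simp [smul_one_eq_diagonal]⟩

theorem isSc_of_comm {x : Matrix ι ι F} (h : ∀ y, x * y = y * x) : IsSc x :=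
  isSc_of_comm_single fun _ _ => h _

theorem IsSc.comm {x : Matrix ι ι F} (h : IsSc x) (y : Matrix ι ι F) : x * y = y * x := by
  obtain ⟨c, rfl⟩ := h; simp

theorem mem_scalars_iff_isSc {g : GL ι F} : g ∈ scalars ι F ↔ IsSc (g : Matrix ι ι F) := by
  rw [mem_scalars_iff]
  constructor
  · rintro ⟨c, hc⟩; exact ⟨c, hc⟩
  · rintro ⟨c, hc⟩
    rcases isEmpty_or_nonempty ι with h | h
    · exact ⟨1, Subsingleton.elim _ _⟩
    · have : c ≠ 0 := by
        rintro rfl
        exact g.ne_zero (by simpa using hc)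
      exact ⟨Units.mk0 c this, hc⟩

theorem scalars_le_center : scalars ι F ≤ Subgroup.center (GL ι F) := fun g hg => by
  rw [Subgroup.mem_center_iff]
  intro h
  exact Units.ext ((mem_scalars_iff_isSc.1 hg).comm h).symm

/-- The scalar `c` as an invertible matrix. -/
def sc (ι : Type) [Fintype ι] [DecidableEq ι] (c : Fˣ) : GL ι F :=
  Units.map (Matrix.scalar ι : F →+* Matrix ι ι F).toMonoidHom c

theorem coe_sc (c : Fˣ) : (sc ι c : Matrix ι ι F) = (c : F) • (1 : Matrix ι ι F) := by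
  simp [sc, smul_one_eq_diagonal]

theorem sc_mem (c : Fˣ) : sc ι c ∈ scalars ι F := ⟨c, rfl⟩

theorem IsSc.cj {x : Matrix ι ι F} (h : IsSc x) (g : GL ι F) : cj g x = x := by
  rw [cj_eq_iff, h.comm]

theorem isSc_cj {x : Matrix ι ι F} {g : GL ι F} : IsSc (cj g x) ↔ IsSc x := by
  constructor
  · intro h
    have := h.cj g⁻¹
    rw [cj_inv_cj] at this
    rwa [this]
  · intro h; rwa [h.cj]

theorem cj_of_mem_scalars {g : GL ι F} (h : g ∈ scalars ι F) (x : Matrix ι ι F) : cj g x = x := by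
  rw [cj_eq_iff, (mem_scalars_iff_isSc.1 h).comm]

/-- Change of index set and of basis. -/
def tr (e : ι ≃ κ) (P : GL ι F) : Matrix κ κ F ≃ₐ[F] Matrix ι ι F :=
  (reindexAlgEquiv F F e.symm).trans (cj P)

theorem tr_apply (e : ι ≃ κ) (P : GL ι F) (x : Matrix κ κ F) :
    tr e P x = cj P (x.submatrix e e) := rfl

theorem tr_mulVec (e : ι ≃ κ) (P : GL ι F) (x : Matrix κ κ F) (v : κ → F) :
    tr e P x *ᵥ ((P : Matrix ι ι F) *ᵥ (v ∘ e)) = (P : Matrix ι ι F) *ᵥ ((x *ᵥ v) ∘ e) := by
  rw [tr_apply, cj_mulVec]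
  congr 1
  rw [submatrix_mulVec_equiv]
  congr 2
  ext a; simp

/-- `tr` on invertible matrices. -/
def trGL (e : ι ≃ κ) (P : GL ι F) : GL κ F ≃* GL ι F := Units.mapEquiv (tr e P).toMulEquiv

@[simp] theorem coe_trGL (e : ι ≃ κ) (P : GL ι F) (g : GL κ F) :
    (trGL e P g : Matrix ι ι F) = tr e P g := rfl

theorem coe_trGL_symm (e : ι ≃ κ) (P : GL ι F) (g : GL ι F) :
    ((trGL e P).symm g : Matrix κ κ F) = (tr e P).symm g := rfl

theorem mem_map_map_iff (e : ι ≃ κ) (P : GL ι F) (S : Subgroup (GL κ F)) (g : GL ι F) :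
    g ∈ (S.map (glReindex e.symm).toMonoidHom).map (MulAut.conj P).toMonoidHom ↔
      (trGL e P).symm g ∈ S := by
  constructor
  · rintro ⟨_, ⟨s, hs, rfl⟩, rfl⟩
    have : (trGL e P).symm ((MulAut.conj P).toMonoidHom ((glReindex e.symm).toMonoidHom s)) = s := by
      rw [MulEquiv.symm_apply_eq]
      exact Units.ext rfl
    rw [this]; exact hs
  · intro h
    refine ⟨_, ⟨_, h, rfl⟩, ?_⟩
    conv_rhs => rw [← (trGL e P).apply_symm_apply g]
    exact Units.ext rfl

theorem tr_cj (e : ι ≃ κ) (P : GL ι F) (g : GL κ F) (x : Matrix κ κ F) :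
    tr e P (cj g x) = cj (trGL e P g) (tr e P x) := by
  rw [cj_apply g, cj_apply (trGL e P g), map_mul, map_mul, ← map_inv]; rfl

theorem tr_symm_cj (e : ι ≃ κ) (P : GL ι F) (g : GL ι F) (x : Matrix κ κ F) :
    tr e P (cj ((trGL e P).symm g) x) = cj g (tr e P x) := by
  rw [tr_cj, MulEquiv.apply_symm_apply]

/-- Skolem–Noether for a matrix algebra. -/
theorem exists_cj_eq (θ : Matrix κ κ F →ₐ[F] Matrix κ κ F) : ∃ a : GL κ F, ∀ x, θ x = cj a x := by
  rcases isEmpty_or_nonempty κ with h | h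
  · exact ⟨1, fun _ => Subsingleton.elim _ _⟩
  have hi : Function.Injective θ := θ.toRingHom.injective
  have hb : Function.Bijective θ :=
    ⟨hi, (LinearMap.injective_iff_surjective (f := θ.toLinearMap)).1 hi⟩
  let Θ : Module.End F (κ → F) ≃ₐ[F] Module.End F (κ → F) :=
    (toLinAlgEquiv'.symm.trans (AlgEquiv.ofBijective θ hb)).trans toLinAlgEquiv'
  obtain ⟨T, hT⟩ := Θ.eq_linearEquivConjAlgEquiv
  let a : GL κ F := ⟨LinearMap.toMatrix' (T : (κ → F) →ₗ[F] (κ → F)),
    LinearMap.toMatrix' (T.symm : (κ → F) →ₗ[F] (κ → F)),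
    by rw [← LinearMap.toMatrix'_comp]; simp, by rw [← LinearMap.toMatrix'_comp]; simp⟩
  refine ⟨a, fun x => ?_⟩
  rw [eq_comm, cj_eq_iff]
  apply mat_ext
  intro v
  have := congrArg (fun f => f (toLinAlgEquiv' x) (T v)) hT
  simp only [Θ, AlgEquiv.trans_apply, AlgEquiv.symm_apply_apply, AlgEquiv.coe_ofBijective,
    LinearEquiv.conjAlgEquiv_apply, LinearMap.comp_apply, LinearEquiv.coe_coe,
    LinearEquiv.symm_apply_apply, toLinAlgEquiv'_apply] at this
  rw [← mulVec_mulVec, ← mulVec_mulVec]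
  simp only [a, LinearMap.toMatrix'_mulVec, LinearEquiv.coe_coe]
  exact this.symm

/-- A system of matrix units gives a tensor decomposition. -/
theorem exists_tr_of_units [Nonempty κ] (E : κ → κ → Matrix ι ι F)
    (hmul : ∀ a b c d, E a b * E c d = if b = c then E a d else 0) (hone : ∑ a, E a a = 1) :
    ∃ (l : ℕ) (e : ι ≃ κ × Fin l) (P : GL ι F),
      ∀ a b, E a b = tr e P (single a b (1 : F) ⊗ₖ (1 : Matrix (Fin l) (Fin l) F)) := by
  obtain ⟨o⟩ := ‹Nonempty κ›
  let U := LinearMap.range (toLin' (E o o))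
  let u := Module.finBasis F U
  have hU : ∀ v ∈ U, E o o *ᵥ v = v := by
    rintro _ ⟨w, rfl⟩
    rw [toLin'_apply, mulVec_mulVec, hmul, if_pos rfl]
  let b : κ × Fin (Module.finrank F U) → ι → F := fun p => E p.1 o *ᵥ (u p.2 : ι → F)
  have hE : ∀ a c p, E a c *ᵥ b p = if c = p.1 then b (a, p.2) else 0 := by
    intro a c p
    simp only [b]
    rw [mulVec_mulVec, hmul]
    split_ifs <;> simp
  have hli : LinearIndependent F b := by
    rw [Fintype.linearIndependent_iff]
    intro g hg p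
    have h1 := congrArg (fun v => E o p.1 *ᵥ v) hg
    simp only [mulVec_sum, mulVec_smul, hE, mulVec_zero, Fintype.sum_prod_type] at h1
    rw [Finset.sum_comm] at h1
    simp only [smul_ite, smul_zero, Finset.sum_ite_eq, Finset.mem_univ, if_true] at h1
    have h2 : ∑ j, g (p.1, j) • u j = 0 := by
      apply Subtype.ext
      rw [Submodule.coe_sum, Submodule.coe_zero, ← h1]
      refine Finset.sum_congr rfl fun j _ => ?_
      simp only [b, Submodule.coe_smul, hU _ (u j).2]
    exact Fintype.linearIndependent_iff.1 u.linearIndependent _ h2 p.2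
  have hsp : ⊤ ≤ Submodule.span F (Set.range b) := by
    intro v _
    have h1 : v = ∑ a, E a o *ᵥ (E o o *ᵥ (E o a *ᵥ v)) := by
      simp only [mulVec_mulVec, ← mul_assoc, hmul, if_true]
      rw [← sum_mulVec, hone, one_mulVec]
    rw [h1]
    refine Submodule.sum_mem _ fun a _ => ?_
    have h2 : E o o *ᵥ (E o a *ᵥ v) ∈ U := ⟨_, rfl⟩
    have h3 := congrArg Subtype.val (u.sum_repr ⟨_, h2⟩)
    simp only [Submodule.coe_sum, Submodule.coe_smul] at h3
    rw [← h3, mulVec_sum]
    refine Submodule.sum_mem _ fun j _ => ?_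
    rw [mulVec_smul]
    exact Submodule.smul_mem _ _ (Submodule.subset_span ⟨(a, j), rfl⟩)
  let B := Module.Basis.mk hli hsp
  let e : ι ≃ κ × Fin (Module.finrank F U) := (Pi.basisFun F ι).indexEquiv B
  let B' := B.reindex e.symm
  letI := (Pi.basisFun F ι).invertibleToMatrix B'
  let P : GL ι F := unitOfInvertible ((Pi.basisFun F ι).toMatrix B')
  have hP : ∀ i j, (P : Matrix ι ι F) i j = b (e j) i := by
    intro i j
    simp [P, B', B, Module.Basis.toMatrix_apply]
  refine ⟨_, e, P, fun a c => ?_⟩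
  rw [tr_apply, eq_comm, cj_eq_iff]
  ext i j
  have h1 : (E a c * (P : Matrix ι ι F)) i j = (E a c *ᵥ b (e j)) i := by
    simp [mul_apply, mulVec, dotProduct, hP]
  rw [h1, hE, mul_apply, ← e.symm.sum_comp]
  simp only [hP, submatrix_apply, Equiv.apply_symm_apply, kroneckerMap_apply, single_apply,
    one_apply, Fintype.sum_prod_type]
  by_cases hc : c = (e j).1
  · simp [hc, ite_and]
  · simp [hc]

theorem kron_one_eq_sum (x : Matrix κ κ F) :
    x ⊗ₖ (1 : Matrix μ μ F) = ∑ a, ∑ b, x a b • (single a b (1 : F) ⊗ₖ (1 : Matrix μ μ F)) := by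
  ext p q
  simp [Matrix.sum_apply, single_apply, ite_and, Finset.sum_ite_eq]

theorem eq_sum_single (x : Matrix κ κ F) : x = ∑ a, ∑ b, x a b • single a b (1 : F) := by
  ext p q
  simp [Matrix.sum_apply, single_apply, ite_and, Finset.sum_ite_eq]

theorem single_mul_single' (a b c d : κ) :
    single a b (1 : F) * single c d 1 = if b = c then single a d 1 else 0 := by
  split_ifs with h
  · subst h; simp
  · exact single_mul_single_of_ne _ _ _ _ h _

theorem sum_single_diag : ∑ a : κ, single a a (1 : F) = 1 := by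
  ext p q
  simp [Matrix.sum_apply, single_apply, ite_and, one_apply, eq_comm]

/-- An algebra map from a matrix algebra gives a tensor decomposition. -/
theorem exists_tr_of_algHom [Nonempty κ] (φ : Matrix κ κ F →ₐ[F] Matrix ι ι F) :
    ∃ (l : ℕ) (e : ι ≃ κ × Fin l) (P : GL ι F),
      ∀ x, φ x = tr e P (x ⊗ₖ (1 : Matrix (Fin l) (Fin l) F)) := by
  obtain ⟨l, e, P, h⟩ := exists_tr_of_units (fun a b => φ (single a b 1))
    (fun a b c d => by
      rw [← map_mul, single_mul_single']; split_ifs <;> simp)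
    (by rw [← map_sum, sum_single_diag, map_one])
  refine ⟨l, e, P, fun x => ?_⟩
  rw [kron_one_eq_sum]
  conv_lhs => rw [eq_sum_single x]
  simp only [map_sum, map_smul, h]

/-- `x ↦ x ⊗ 1`. -/
def kl (κ μ : Type) [Fintype κ] [DecidableEq κ] [Fintype μ] [DecidableEq μ] (F : Type*) [Field F] :
    Matrix κ κ F →ₐ[F] Matrix (κ × μ) (κ × μ) F where
  toFun x := x ⊗ₖ (1 : Matrix μ μ F)
  map_one' := one_kronecker_one
  map_mul' x y := by rw [← mul_kronecker_mul, one_mul]
  map_zero' := zero_kronecker _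
  map_add' x y := add_kronecker _ _ _
  commutes' c := by simp [Algebra.algebraMap_eq_smul_one, smul_kronecker]

/-- `y ↦ 1 ⊗ y`. -/
def kr (κ μ : Type) [Fintype κ] [DecidableEq κ] [Fintype μ] [DecidableEq μ] (F : Type*) [Field F] :
    Matrix μ μ F →ₐ[F] Matrix (κ × μ) (κ × μ) F where
  toFun y := (1 : Matrix κ κ F) ⊗ₖ y
  map_one' := one_kronecker_one
  map_mul' x y := by rw [← mul_kronecker_mul, one_mul]
  map_zero' := kronecker_zero _
  map_add' x y := kronecker_add _ _ _
  commutes' c := by simp [Algebra.algebraMap_eq_smul_one, kronecker_smul]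

theorem kl_apply (x : Matrix κ κ F) : kl κ μ F x = x ⊗ₖ (1 : Matrix μ μ F) := rfl
theorem kr_apply (y : Matrix μ μ F) : kr κ μ F y = (1 : Matrix κ κ F) ⊗ₖ y := rfl

theorem kl_mul_kr (x : Matrix κ κ F) (y : Matrix μ μ F) : kl κ μ F x * kr κ μ F y = x ⊗ₖ y := by
  rw [kl_apply, kr_apply, ← mul_kronecker_mul, one_mul, mul_one]

theorem kr_mul_kl (x : Matrix κ κ F) (y : Matrix μ μ F) : kr κ μ F y * kl κ μ F x = x ⊗ₖ y := by
  rw [kl_apply, kr_apply, ← mul_kronecker_mul, one_mul, mul_one]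

theorem kl_injective [Nonempty κ] [Nonempty μ] : Function.Injective (kl κ μ F) :=
  (kl κ μ F).toRingHom.injective

theorem kr_injective [Nonempty κ] [Nonempty μ] : Function.Injective (kr κ μ F) :=
  (kr κ μ F).toRingHom.injective

/-- The centraliser of `M ⊗ 1` is `1 ⊗ M`. -/
theorem exists_eq_kr [Nonempty κ] {z : Matrix (κ × μ) (κ × μ) F}
    (h : ∀ x, z * kl κ μ F x = kl κ μ F x * z) : ∃ y, z = kr κ μ F y := by
  obtain ⟨o⟩ := ‹Nonempty κ›
  refine ⟨Matrix.of fun j k => z (o, j) (o, k), ?_⟩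
  ext ⟨a, j⟩ ⟨b, k⟩
  have h1 := congrFun (congrFun (h (single b o 1)) (a, j)) (o, k)
  simp only [kl_apply, mul_apply, kroneckerMap_apply, single_apply, one_apply,
    Fintype.sum_prod_type, ite_and] at h1
  simp only [kr_apply, kroneckerMap_apply, one_apply, of_apply]
  by_cases hab : a = b
  · subst hab; simpa using h1
  · simpa [hab, Ne.symm hab] using h1

/-- The centraliser of `1 ⊗ M` is `M ⊗ 1`. -/
theorem exists_eq_kl [Nonempty μ] {z : Matrix (κ × μ) (κ × μ) F}
    (h : ∀ y, z * kr κ μ F y = kr κ μ F y * z) : ∃ x, z = kl κ μ F x := by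
  obtain ⟨o⟩ := ‹Nonempty μ›
  refine ⟨Matrix.of fun j k => z (j, o) (k, o), ?_⟩
  ext ⟨j, a⟩ ⟨k, b⟩
  have h1 := congrFun (congrFun (h (single b o 1)) (j, a)) (k, o)
  simp only [kr_apply, mul_apply, kroneckerMap_apply, single_apply, one_apply,
    Fintype.sum_prod_type, ite_and] at h1
  simp only [kl_apply, kroneckerMap_apply, one_apply, of_apply]
  by_cases hab : a = b
  · subst hab; simpa using h1
  · simpa [hab, Ne.symm hab] using h1

/-- If conjugation by `g` maps the range of `φ` into the range of the injective `ψ`, it is induced by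
an invertible matrix. -/
theorem exists_cj_of_range {φ ψ : Matrix κ κ F →ₐ[F] Matrix ι ι F} (hψ : Function.Injective ψ)
    {g : GL ι F} (h : ∀ x, ∃ y, cj g (φ x) = ψ y) : ∃ a : GL κ F, ∀ x, cj g (φ x) = ψ (cj a x) := by
  choose y hy using h
  let θ : Matrix κ κ F →ₐ[F] Matrix κ κ F :=
    { toFun := y
      map_one' := hψ (by rw [← hy]; simp)
      map_mul' := fun a b => hψ (by rw [map_mul, ← hy, ← hy, ← hy, map_mul, map_mul])
      map_zero' := hψ (by rw [← hy]; simp)
      map_add' := fun a b => hψ (by rw [map_add, ← hy, ← hy, ← hy, map_add, map_add])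
      commutes' := fun c => hψ (by rw [← hy]; simp) }
  obtain ⟨a, ha⟩ := exists_cj_eq θ
  exact ⟨a, fun x => by rw [hy, ← ha]; rfl⟩

theorem isUnit_of_algHom [Nonempty ι] (φ : Matrix κ κ F →ₐ[F] Matrix ι ι F) {x : Matrix κ κ F}
    (h : IsUnit (φ x)) : IsUnit x := by
  rcases isEmpty_or_nonempty κ with hκ | hκ
  · exact isUnit_of_subsingleton _
  have hi : Function.Injective φ := φ.toRingHom.injective
  have : Function.Injective (LinearMap.mulLeft F x) := by
    intro y z hyz
    apply hi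
    apply h.mul_left_cancel
    rw [← map_mul, ← map_mul]
    exact congrArg φ hyz
  obtain ⟨y, hy⟩ := (LinearMap.injective_iff_surjective.1 this) 1
  exact IsUnit.of_mul_eq_one y hy

/-- The normaliser of `M ⊗ 1` consists of Kronecker products. -/
theorem exists_kron_of_normalizes [Nonempty κ] [Nonempty μ] {g : GL (κ × μ) F}
    (h : ∀ x, ∃ y, cj g (kl κ μ F x) = kl κ μ F y) :
    ∃ (a : GL κ F) (b : GL μ F), (g : Matrix (κ × μ) (κ × μ) F) =
      (a : Matrix κ κ F) ⊗ₖ (b : Matrix μ μ F) := by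
  obtain ⟨a, ha⟩ := exists_cj_of_range kl_injective h
  have h1 : ∀ x, (kl κ μ F (a⁻¹ : GL κ F) * g) * kl κ μ F x =
      kl κ μ F x * (kl κ μ F (a⁻¹ : GL κ F) * g) := by
    intro x
    rw [mul_assoc, cj_eq_iff.1 (ha x), ← mul_assoc, ← mul_assoc, ← map_mul, ← map_mul, cj_apply]
    simp [← mul_assoc]
  obtain ⟨y, hy⟩ := exists_eq_kr h1
  have hu : IsUnit y := by
    apply isUnit_of_algHom (kr κ μ F)
    rw [← hy]
    exact ((a⁻¹).isUnit.map _).mul g.isUnit
  obtain ⟨b, rfl⟩ := hu
  refine ⟨a, b, ?_⟩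
  rw [← kl_mul_kr, ← hy, ← mul_assoc, ← map_mul]
  simp

theorem mem_tensorProductSubgroup_iff {n₁ n₂ : ℕ} (e : ι ≃ Fin n₁ × Fin n₂) (P g : GL ι F) :
    g ∈ tensorProductSubgroup n₁ n₂ e P ↔ ∃ (a : GL (Fin n₁) F) (b : GL (Fin n₂) F),
      (g : Matrix ι ι F) = tr e P ((a : Matrix _ _ F) ⊗ₖ (b : Matrix _ _ F)) := by
  rw [tensorProductSubgroup, mem_map_map_iff]
  refine exists_congr fun a => exists_congr fun b => ?_
  rw [coe_trGL_symm, AlgEquiv.symm_apply_eq]

theorem mem_tensorProductSubgroup_of {n₁ n₂ : ℕ} [NeZero n₁] [NeZero n₂] (e : ι ≃ Fin n₁ × Fin n₂)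
    (P : GL ι F) {g : GL ι F}
    (h : ∀ x, ∃ y, cj g (tr e P (kl _ _ F x)) = tr e P (kl _ _ F y)) :
    g ∈ tensorProductSubgroup n₁ n₂ e P := by
  rw [tensorProductSubgroup, mem_map_map_iff]
  apply exists_kron_of_normalizes
  intro x
  obtain ⟨y, hy⟩ := h x
  exact ⟨y, (tr e P).injective (by rw [tr_symm_cj, hy])⟩

/-- A finite semisimple algebra over a finite field with centre the field is a matrix algebra. -/
theorem exists_algEquiv_matrix {k A : Type*} [Field k] [Finite k] [Ring A] [Nontrivial A]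
    [Algebra k A] [Module.Finite k A] [IsSemisimpleRing A]
    (hc : ∀ x : A, (∀ y, x * y = y * x) → ∃ c : k, x = algebraMap k A c) :
    ∃ (m : ℕ) (_ : NeZero m), Nonempty (Matrix (Fin m) (Fin m) k ≃ₐ[k] A) := by
  obtain ⟨n, D, d, _, _, _, hd, ⟨e⟩⟩ :=
    IsSemisimpleRing.exists_algEquiv_pi_matrix_divisionRing_finite k A
  have hfin : ∀ i, Finite (D i) := fun i => Module.finite_of_finite k
  have hcomm : ∀ i (a b : D i), a * b = b * a := fun i a b =>
    (Finite.isDomain_to_isField (D i)).mul_comm a b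
  have key : ∀ i (a : D i), ∃ c : k, (Pi.single i (scalar (Fin (d i)) a) :
      Π i, Matrix (Fin (d i)) (Fin (d i)) (D i)) = algebraMap k _ c := by
    intro i a
    obtain ⟨c, hc⟩ := hc (e.symm (Pi.single i (scalar (Fin (d i)) a))) (fun y => by
      apply e.injective
      rw [map_mul, map_mul, e.apply_symm_apply]
      funext j
      by_cases hj : j = i
      · subst hj
        simp only [Pi.mul_apply, Pi.single_eq_same]
        exact scalar_commute a (hcomm j a) _
      · simp [Pi.single_eq_of_ne hj])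
    exact ⟨c, by rw [← e.commutes, ← hc, e.apply_symm_apply]⟩
  have hsub : ∀ i j : Fin n, i = j := by
    intro i j
    by_contra hij
    obtain ⟨c, hc⟩ := key i 1
    have h1 := congrFun hc j
    have h2 := congrFun hc i
    rw [Pi.single_eq_of_ne (Ne.symm hij), Pi.algebraMap_apply] at h1
    rw [Pi.single_eq_same, Pi.algebraMap_apply] at h2
    have h3 : c = 0 := (algebraMap k (Matrix (Fin (d j)) (Fin (d j)) (D j))).injective
      (by rw [← h1, map_zero])
    rw [h3, map_zero, map_one] at h2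
    exact one_ne_zero h2
  have hne : Nonempty (Fin n) := by
    by_contra h
    rw [not_nonempty_iff] at h
    exact not_subsingleton A e.injective.subsingleton
  obtain ⟨i⟩ := hne
  have hsurj : Function.Bijective (Algebra.ofId k (D i)) := by
    refine ⟨(algebraMap k (D i)).injective, fun a => ?_⟩
    obtain ⟨c, hc⟩ := key i a
    have h2 := congrFun (congrFun (congrFun hc i) 0) 0
    rw [Pi.single_eq_same, Pi.algebraMap_apply] at h2
    refine ⟨c, ?_⟩
    simpa [algebraMap_matrix_apply] using h2.symm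
  have hev : Function.Bijective
      (Pi.evalAlgHom k (fun i => Matrix (Fin (d i)) (Fin (d i)) (D i)) i) := by
    refine ⟨fun x y h => funext fun j => ?_, fun x => ⟨Pi.single i x, by simp⟩⟩
    obtain rfl := hsub i j
    exact h
  exact ⟨d i, hd i, ⟨((AlgEquiv.ofBijective _ hsurj).mapMatrix.trans
    (AlgEquiv.ofBijective _ hev).symm).trans e.symm⟩⟩

end Cfsg.Lib.Asch
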