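import Cfsg.Agent.Lib.Asch.Max
import Cfsg.Agent.Lib.Forms.Matrix

/-! Block monomial matrices. -/

set_option autoImplicit false

namespace Cfsg.Lib.Asch

open Matrix Cfsg.Geo Module
open scoped MatrixGroups Kronecker

variable {ι κ μ : Type} [Fintype ι] [DecidableEq ι] [Fintype κ] [DecidableEq κ]
  [Fintype μ] [DecidableEq μ] {F : Type*} [Field F] {σ : F →+* F}

/-- Coordinates with respect to `e`, `P`. -/
noncomputable def vec (e : ι ≃ κ) (P : GL ι F) : (κ → F) ≃ₗ[F] (ι → F) :=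
  (LinearEquiv.funCongrLeft F F e).trans (Forms.glEquiv ι F P)

omit [Fintype κ] [DecidableEq κ] in
theorem vec_apply (e : ι ≃ κ) (P : GL ι F) (x : κ → F) :
    vec e P x = (P : Matrix ι ι F) *ᵥ (x ∘ e) := rfl

theorem tr_vec (e : ι ≃ κ) (P : GL ι F) (y : Matrix κ κ F) (x : κ → F) :
    tr e P y *ᵥ vec e P x = vec e P (y *ᵥ x) := tr_mulVec e P y x

theorem mulVec_vec (e : ι ≃ κ) (P : GL ι F) (y : Matrix ι ι F) (x : κ → F) :
    y *ᵥ vec e P x = vec e P ((tr e P).symm y *ᵥ x) := by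
  rw [← tr_vec, AlgEquiv.apply_symm_apply]

omit [DecidableEq κ] in
theorem fG_vec (e : ι ≃ κ) (P : GL ι F) (G : Matrix κ κ F) (x y : κ → F) :
    formOfGram σ (trG σ e P G) (vec e P x) (vec e P y) = formOfGram σ G x y := fG_trG e P G x y

theorem exists_vec_eq (b : Basis κ F (ι → F)) :
    ∃ (e : ι ≃ κ) (P : GL ι F), ∀ k, vec e P (Pi.single k 1) = b k := by
  let e : ι ≃ κ := (Pi.basisFun F ι).indexEquiv b
  refine ⟨e, (Forms.glEquiv ι F).symm ((Pi.basisFun F ι).equiv b e), fun k => ?_⟩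
  obtain ⟨i, rfl⟩ := e.surjective k
  rw [vec_apply, Forms.mulVec_glEquiv_symm, ← (Pi.basisFun F ι).equiv_apply i b e]
  congr 1
  funext j
  simp [Pi.single_apply]

theorem vec_eq_sum (e : ι ≃ κ) (P : GL ι F) (x : κ → F) :
    vec e P x = ∑ k, x k • vec e P (Pi.single k 1) := by
  conv_lhs => rw [pi_eq_sum_univ' x]
  simp only [map_sum, map_smul]

theorem det_tr (e : ι ≃ κ) (P : GL ι F) (x : Matrix κ κ F) : (tr e P x).det = x.det := by
  rw [tr_apply, cj_apply, det_units_conj, det_submatrix_equiv_self]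

theorem trace_tr (e : ι ≃ κ) (P : GL ι F) (x : Matrix κ κ F) : (tr e P x).trace = x.trace := by
  rw [tr_apply, trace_cj]
  exact e.sum_comp fun k => x k k

/-- A block monomial matrix. -/
def bm (π : Equiv.Perm μ) (gs : μ → Matrix κ κ F) : Matrix (μ × κ) (μ × κ) F :=
  of fun a b => if a.1 = π b.1 then gs b.1 a.2 b.2 else 0

omit [Fintype κ] [DecidableEq κ] [Fintype μ] in
theorem bm_apply (π : Equiv.Perm μ) (gs : μ → Matrix κ κ F) (a b : μ × κ) :
    bm π gs a b = if a.1 = π b.1 then gs b.1 a.2 b.2 else 0 := rfl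

omit [DecidableEq κ] in
theorem bm_mul (π π' : Equiv.Perm μ) (gs gs' : μ → Matrix κ κ F) :
    bm π gs * bm π' gs' = bm (π * π') fun j => gs (π' j) * gs' j := by
  ext a b
  simp only [mul_apply, bm_apply, Fintype.sum_prod_type, mul_ite, mul_zero, Equiv.Perm.mul_apply]
  rw [Finset.sum_eq_single (π' b.1) (fun j _ hj => by simp [hj]) (by simp)]
  split_ifs <;> simp_all

omit [Fintype κ] [Fintype μ] in
theorem bm_one : bm (1 : Equiv.Perm μ) (fun _ => (1 : Matrix κ κ F)) = 1 := by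
  ext a b
  simp only [bm_apply, one_apply, Prod.ext_iff, Equiv.Perm.one_apply]
  split_ifs <;> simp_all

omit [Fintype κ] [DecidableEq κ] [Fintype μ] in
theorem bm_smul (π : Equiv.Perm μ) (c : F) (gs : μ → Matrix κ κ F) :
    bm π (fun j => c • gs j) = c • bm π gs := by
  ext a b; simp [bm_apply]

omit [Fintype κ] [DecidableEq κ] [Fintype μ] in
theorem bm_transpose (π : Equiv.Perm μ) (gs : μ → Matrix κ κ F) :
    (bm π gs)ᵀ = bm π⁻¹ fun j => (gs (π⁻¹ j))ᵀ := by
  ext a b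
  simp only [transpose_apply, bm_apply]
  by_cases h : b.1 = π a.1
  · simp [h]
  · rw [if_neg h, if_neg fun h' => h (by simp [h'])]

omit [Fintype κ] [DecidableEq κ] [Fintype μ] in
theorem bm_map (π : Equiv.Perm μ) (gs : μ → Matrix κ κ F) :
    (bm π gs).map σ = bm π fun j => (gs j).map σ := by
  ext a b; simp [bm_apply, apply_ite σ]

omit [DecidableEq κ] in
theorem act_bm (π : Equiv.Perm μ) (gs Gs : μ → Matrix κ κ F) :
    act σ (bm π gs) (bm 1 Gs) = bm 1 fun j => act σ (gs j) (Gs (π j)) := by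
  simp [act, bm_transpose, bm_map, bm_mul]

theorem det_bm (π : Equiv.Perm μ) (gs : μ → Matrix κ κ F) :
    (bm π gs).det = (Equiv.Perm.sign π : F) ^ Fintype.card κ * ∏ j, (gs j).det := by
  have h1 : bm π gs = ((π⁻¹.permMatrix F) ⊗ₖ (1 : Matrix κ κ F)) *
      (blockDiagonal gs).submatrix (Equiv.prodComm _ _) (Equiv.prodComm _ _) := by
    have h2 : (π⁻¹.permMatrix F) ⊗ₖ (1 : Matrix κ κ F) = bm π fun _ => 1 := by
      ext a b
      simp [bm_apply, Equiv.Perm.permMatrix, PEquiv.toMatrix_apply, Equiv.symm_apply_eq]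
    have h3 : (blockDiagonal gs).submatrix (Equiv.prodComm _ _) (Equiv.prodComm _ _) = bm 1 gs := by
      ext a b
      simp only [bm_apply, submatrix_apply, blockDiagonal_apply, Equiv.prodComm_apply,
        Prod.snd_swap, Prod.fst_swap, Equiv.Perm.one_apply]
      split_ifs <;> simp_all
    rw [h2, h3, bm_mul]; simp
  rw [h1, det_mul, det_kronecker, det_submatrix_equiv_self, det_blockDiagonal, det_permutation]
  simp

theorem isUnit_bm {π : Equiv.Perm μ} {gs : μ → Matrix κ κ F} :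
    IsUnit (bm π gs) ↔ ∀ j, IsUnit (gs j) := by
  have : ((Equiv.Perm.sign π : ℤ) : F) ≠ 0 := by
    rcases Int.units_eq_one_or (Equiv.Perm.sign π) with h | h <;> simp [h]
  simp [isUnit_iff_isUnit_det, det_bm, this, Finset.prod_eq_zero_iff]

omit [DecidableEq κ] in
theorem bm_mulVec (π : Equiv.Perm μ) (gs : μ → Matrix κ κ F) (x : μ × κ → F) (j : μ) (a : κ) :
    (bm π gs *ᵥ x) (π j, a) = (gs j *ᵥ fun b => x (j, b)) a := by
  simp only [mulVec, dotProduct, bm_apply, Fintype.sum_prod_type, Equiv.apply_eq_iff_eq]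
  rw [Finset.sum_eq_single j (fun i _ hi => by simp [Ne.symm hi]) (by simp)]
  simp

variable {t : ℕ}

/-- The coordinates `e`, `P` are adapted to the decomposition `D`. -/
def Blk (D : μ → Submodule F (ι → F)) (e : ι ≃ μ × κ) (P : GL ι F) : Prop :=
  ∀ i x, vec e P x ∈ D i ↔ ∀ k, k.1 ≠ i → x k = 0

theorem IsMDecomposition.exists_blk {m : ℕ} {D : Fin t → Submodule F (ι → F)}
    (hD : IsMDecomposition m D) (b : ∀ i, Basis κ F (D i)) :
    ∃ (e : ι ≃ Fin t × κ) (P : GL ι F), Blk D e P ∧ ∀ i a, vec e P (Pi.single (i, a) 1) = b i a := by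
  have hI := DirectSum.isInternal_submodule_of_iSupIndep_of_iSup_eq_top hD.indep hD.iSup_eq_top
  set B := (hI.collectedBasis b).reindex (Equiv.sigmaEquivProd _ _) with hB
  obtain ⟨e, P, h⟩ := exists_vec_eq B
  have h' : ∀ i a, vec e P (Pi.single (i, a) 1) = b i a := fun i a => by
    rw [h, hB, Basis.reindex_apply, DirectSum.IsInternal.collectedBasis_coe]; rfl
  refine ⟨e, P, fun i x => ⟨fun hx k hk => ?_, fun hx => ?_⟩, h'⟩
  · rw [← hI.collectedBasis_repr_of_mem_ne b hk.symm (a := k.2) hx]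
    have : B.repr (vec e P x) k = x k := by
      rw [vec_eq_sum]
      simp only [h]
      exact congrFun (B.repr_sum_self x) k
    rw [← this, hB, Basis.repr_reindex_apply]; rfl
  · rw [vec_eq_sum]
    refine sum_mem fun k _ => ?_
    by_cases hk : k.1 = i
    · exact Submodule.smul_mem _ _ (by rw [h' k.1 k.2, ← hk]; exact SetLike.coe_mem _)
    · simp [hx k hk]

theorem IsMDecomposition.exists_blk' {m : ℕ} {D : Fin t → Submodule F (ι → F)}
    (hD : IsMDecomposition m D) : ∃ (e : ι ≃ Fin t × Fin m) (P : GL ι F), Blk D e P :=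
  let ⟨e, P, h, _⟩ := IsMDecomposition.exists_blk hD fun i => finBasisOfFinrankEq F _ (hD.finrank_eq i)
  ⟨e, P, h⟩

namespace Blk

variable {D : Fin t → Submodule F (ι → F)} {e : ι ≃ Fin t × κ} {P : GL ι F} (h : Blk D e P)
include h

theorem exists_bm {g : GL ι F} (hg : g ∈ decompositionStabilizer D) :
    ∃ (π : Equiv.Perm (Fin t)) (gs : Fin t → Matrix κ κ F), (∀ j, IsUnit (gs j)) ∧
      (g : Matrix ι ι F) = tr e P (bm π gs) := by
  obtain ⟨π, hπ⟩ := hg
  have : (tr e P).symm g = bm π fun j => of fun a b => (tr e P).symm g (π j, a) (j, b) := by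
    ext a b
    rw [bm_apply]
    split_ifs with hab
    · rw [of_apply, ← hab]
    · have h1 : (g : Matrix ι ι F) *ᵥ vec e P (Pi.single b 1) ∈ D (π b.1) :=
        hπ b.1 ▸ Submodule.mem_map_of_mem ((h _ _).2 fun k hk =>
          Pi.single_eq_of_ne (fun hc => hk (by rw [hc])) _)
      rw [mulVec_vec, h] at h1
      simpa using h1 a hab
  refine ⟨π, _, isUnit_bm.1 (this ▸ g.isUnit.map (tr e P).symm), ?_⟩
  rw [← this, AlgEquiv.apply_symm_apply]

theorem map_of_bm {g : GL ι F} {π : Equiv.Perm (Fin t)} {gs : Fin t → Matrix κ κ F}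
    (hg : (g : Matrix ι ι F) = tr e P (bm π gs)) (i : Fin t) :
    (D i).map (toLin' (g : Matrix ι ι F)) = D (π i) := by
  have hu : ∀ j, IsUnit (gs j) := isUnit_bm.1 (by
    have := g.isUnit.map (tr e P).symm
    rwa [hg, AlgEquiv.symm_apply_apply] at this)
  ext v
  obtain ⟨w, rfl⟩ : ∃ w, v = (g : Matrix ι ι F) *ᵥ w := ⟨_, (mulVec_inv_mulVec g v).symm⟩
  obtain ⟨x, rfl⟩ := (vec e P).surjective w
  have : (g : Matrix ι ι F) *ᵥ vec e P x ∈ (D i).map (toLin' (g : Matrix ι ι F)) ↔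
      vec e P x ∈ D i := ⟨fun ⟨w, hw, h1⟩ => by
        rwa [← mulVec_injective_iff_isUnit.2 g.isUnit h1], Submodule.mem_map_of_mem⟩
  rw [this, hg, tr_vec, h, h]
  constructor
  · rintro hx ⟨j, a⟩ hk
    obtain ⟨j, rfl⟩ := π.surjective j
    rw [bm_mulVec, show (fun b => x (j, b)) = 0 from funext fun b => hx _ fun hc => hk (congrArg π hc)]
    simp
  · rintro hx ⟨j, a⟩ hk
    have : gs j *ᵥ (fun b => x (j, b)) = gs j *ᵥ 0 := funext fun b => by
      rw [← bm_mulVec π, hx _ fun hc => hk (π.injective hc)]; simp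
    exact congrFun (mulVec_injective_iff_isUnit.2 (hu j) this) a

theorem mem_of_bm {g : GL ι F} {π : Equiv.Perm (Fin t)} {gs : Fin t → Matrix κ κ F}
    (hg : (g : Matrix ι ι F) = tr e P (bm π gs)) : g ∈ decompositionStabilizer D :=
  ⟨π, h.map_of_bm hg⟩

theorem le_sim {H : Subgroup (GL ι F)} (hH : H ≤ decompositionStabilizer D) {A : Matrix κ κ F}
    (hA : ∀ g ∈ H, ∀ π gs, (∀ j, IsUnit (gs j)) → (g : Matrix ι ι F) = tr e P (bm π gs) →
      ∃ c : Fˣ, ∀ j, act σ (gs j) A = (c : F) • A) :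
    H ≤ similarityGroup (formOfGram σ (trG σ e P (bm 1 fun _ => A))) := fun g hg => by
  obtain ⟨π, gs, h1, h2⟩ := h.exists_bm (hH hg)
  obtain ⟨c, hc⟩ := hA g hg π gs h1 h2
  exact mem_sim_iff.2 ⟨c, by rw [h2, act_tr, act_bm, ← trG_smul, ← bm_smul]; simp only [hc]⟩

end Blk

theorem act_one_of_unique [Unique κ] (x : Matrix κ κ F) :
    act σ x 1 = (x.det * σ x.det) • (1 : Matrix κ κ F) := by
  ext a b
  simp [act, mul_apply, Subsingleton.elim a default, Subsingleton.elim b default]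

/-- A monomial group over a field all of whose units have norm one preserves a form. -/
theorem IsMDecomposition.exists_form_of_one {D : Fin t → Submodule F (ι → F)}
    (hD : IsMDecomposition 1 D) (hσ : ∀ a, σ (σ a) = a) (hn : ∀ c : F, c ≠ 0 → c * σ c = 1) :
    ∃ A : Matrix ι ι F, IsUnit A ∧ (A.map σ)ᵀ = A ∧
      decompositionStabilizer D ≤ similarityGroup (formOfGram σ A) := by
  obtain ⟨e, P, h⟩ := IsMDecomposition.exists_blk' hD
  refine ⟨_, ?_, ?_, h.le_sim le_rfl (A := 1) fun g _ π gs h1 _ => ⟨1, fun j => ?_⟩⟩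
  · rw [isUnit_trG, bm_one]; exact isUnit_one
  · rw [dagger_trG hσ, bm_one]; simp
  · rw [act_one_of_unique, hn _ ((isUnit_iff_isUnit_det _).1 (h1 j)).ne_zero, Units.val_one]

theorem IsMDecomposition.exists_form_of_two {D : Fin t → Submodule F (ι → F)}
    (hD : IsMDecomposition 2 D) {H : Subgroup (GL ι F)} (hH : H ≤ decompositionStabilizer D)
    (hd : ∀ g ∈ H, ∀ d : Fin t → F, (∀ j, d j ≠ 0) → (g : Matrix ι ι F).det = ∏ j, d j →
      ∃ c : Fˣ, ∀ j, d j = c) :
    ∃ A : Matrix ι ι F, IsUnit A ∧ Aᵀ = -A ∧ (∀ v, formOfGram (RingHom.id F) A v v = 0) ∧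
      H ≤ similarityGroup (formOfGram (RingHom.id F) A) := by
  obtain ⟨e, P, h⟩ := IsMDecomposition.exists_blk' hD
  refine ⟨_, ?_, ?_, fun v => ?_, h.le_sim hH (A := J2 F) fun g hg π gs h1 h2 => ?_⟩
  · rw [isUnit_trG, isUnit_bm]; exact fun _ => isUnit_J2
  · rw [transpose_trG, bm_transpose, ← neg_one_smul F, ← trG_smul, ← bm_smul]
    simp [J2_transpose]
  · obtain ⟨x, rfl⟩ := (vec e P).surjective v
    rw [fG_vec]
    simp only [formOfGram, Fintype.sum_prod_type, bm_apply, Equiv.Perm.one_apply]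
    refine Finset.sum_eq_zero fun i _ => ?_
    simp only [Fin.sum_univ_two, mul_ite, ite_mul, mul_zero, zero_mul, Finset.sum_add_distrib,
      Finset.sum_ite_eq, Finset.mem_univ, if_true]
    simp [J2, mul_comm]
  · obtain ⟨c, hc⟩ := hd g hg (fun j => (gs j).det)
      (fun j => ((isUnit_iff_isUnit_det _).1 (h1 j)).ne_zero) (by
        rw [h2, det_tr, det_bm]
        rcases Int.units_eq_one_or (Equiv.Perm.sign π) with h | h <;> simp [h])
    exact ⟨c, fun j => by rw [act_J2, hc]⟩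

end Cfsg.Lib.Asch
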