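import Cfsg.Agent.Lib.Asch.FCase
import Cfsg.Agent.Lib.Forms.Symp
import Cfsg.Agent.Lib.Forms.Herm
import Cfsg.Agent.Lib.Forms.More

/-! The quasisimple classical groups satisfy the hypotheses of the structure theorem. -/

set_option autoImplicit false

namespace Cfsg.Lib.Asch

open Matrix Cfsg.Geo Module Cfsg.Lib.Forms
open scoped MatrixGroups Kronecker commutatorElement

variable {ι : Type} [Fintype ι] [DecidableEq ι] {F : Type*} [Field F] {σ : F →+* F} {K : Kind σ}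
  {D : Form K (ι → F)}

/-- Isometries as invertible matrices. -/
noncomputable def fGL (D : Form K (ι → F)) : D.isom →* GL ι F :=
  (glEquiv ι F).symm.toMonoidHom.comp D.isom.subtype

theorem fGL_mulVec (g : D.isom) (v : ι → F) : (fGL D g : Matrix ι ι F) *ᵥ v = g.1 v :=
  mulVec_glEquiv_symm _ _

theorem fGL_injective : Function.Injective (fGL D) :=
  (glEquiv ι F).symm.injective.comp Subtype.val_injective

theorem glEquiv_fGL (g : D.isom) : glEquiv ι F (fGL D g) = g := MulEquiv.apply_symm_apply _ _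

theorem mem_map_fGL {Ω : Subgroup D.isom} {g : GL ι F} :
    g ∈ Ω.map (fGL D) ↔ ∃ h : glEquiv ι F g ∈ D.isom, ⟨_, h⟩ ∈ Ω :=
  ⟨by rintro ⟨k, hk, rfl⟩; simpa [glEquiv_fGL] using hk,
    fun ⟨h, hg⟩ => ⟨_, hg, (glEquiv ι F).symm_apply_apply g⟩⟩

/-- The rank one map `x ↦ B(a, x) b`. -/
def rkOne (D : Form K (ι → F)) (a b : ι → F) : Matrix ι ι F :=
  vecMulVec b fun j => D.B a (Pi.single j 1)

theorem rkOne_mulVec (a b x : ι → F) : rkOne D a b *ᵥ x = D.B a x • b := by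
  rw [rkOne, vecMulVec_mulVec, op_smul_eq_smul]
  congr 1
  conv_rhs => rw [pi_eq_sum_univ' x, map_sum]
  simp [dotProduct, mul_comm]

theorem trace_rkOne (a b : ι → F) : (rkOne D a b).trace = D.B a b := by
  rw [rkOne, trace_vecMulVec]
  conv_rhs => rw [pi_eq_sum_univ' b, map_sum]
  simp [dotProduct]

theorem rkOne_mul (a b c d : ι → F) : rkOne D a b * rkOne D c d = D.B a d • rkOne D c b :=
  mat_ext fun v => by
    rw [← mulVec_mulVec, smul_mulVec, rkOne_mulVec, rkOne_mulVec, rkOne_mulVec, D.B_smul_right,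
      smul_smul, mul_comm]

theorem coe_fGL_eich {e z : ι → F} {d : F} (h : D.IsEich e z d) :
    (fGL D (D.eich e z d h) : Matrix ι ι F) = 1 + (rkOne D z e - K.ε • rkOne D e (z + d • e)) :=
  mat_ext fun v => by
    rw [fGL_mulVec, D.eich_apply, add_mulVec, sub_mulVec, smul_mulVec, rkOne_mulVec, rkOne_mulVec,
      one_mulVec, smul_smul, add_sub_assoc]

theorem exists_rkOne_mem (hD : D.Nondeg) (hn : 3 ≤ Fintype.card ι) {Ω : Subgroup D.isom}
    (hΩ : ∀ e z d h, D.eich e z d h ∈ Ω) {e : ι → F} (he : D.Q e = 0) :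
    rkOne D e e ∈ alg F (Ω.map (fGL D)) := by
  by_cases h0 : e = 0
  · rw [show rkOne D e e = 0 from mat_ext fun v => by simp [rkOne_mulVec, h0]]
    exact zero_mem _
  obtain ⟨f, h⟩ := hD.exists_isHyp he h0
  have h1 := h.finrank_hp
  rw [finrank_fintype_fun_eq_card] at h1
  obtain ⟨z', hz', h2⟩ := Submodule.exists_mem_ne_zero_of_ne_bot (p := D.hp e f) (by
    rintro h3
    rw [h3, finrank_bot] at h1
    omega)
  obtain ⟨z, hz, h3⟩ := h.exists_B_ne_zero hD hz' h2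
  obtain ⟨d, hd⟩ := Form.exists_isEich he (D.mem_hp.1 hz).1
  obtain ⟨d', hd'⟩ := Form.exists_isEich he (D.mem_hp.1 hz').1
  have key : ∀ {z d} (hd : D.IsEich e z d),
      rkOne D z e - K.ε • rkOne D e (z + d • e) ∈ alg F (Ω.map (fGL D)) := fun hd => by
    simpa [coe_fGL_eich] using
      sub_mem (coe_mem_alg (k := F) (Subgroup.mem_map_of_mem (fGL D) (hΩ _ _ _ hd))) (one_mem _)
  have := Subalgebra.smul_mem _ (mul_mem (key hd) (key hd')) (-(K.ε * D.B z z'))⁻¹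
  simp only [sub_mul, mul_sub, smul_mul_assoc, mul_smul_comm, rkOne_mul, D.B_add_right,
    D.B_smul_right, hd.B_ze, hd.B_ee, hd'.B_ez, mul_zero, add_zero, zero_smul, smul_zero, sub_zero,
    zero_sub, smul_smul, ← neg_smul] at this
  rwa [inv_mul_cancel₀ (neg_ne_zero.2 (mul_ne_zero K.ε_ne_zero h3)), one_smul] at this

theorem irr_of_eich (hD : D.Nondeg) (hn : 3 ≤ Fintype.card ι) {e f : ι → F} (h : D.IsHyp e f)
    {Ω : Subgroup D.isom} (hΩ : ∀ e z d h, D.eich e z d h ∈ Ω) : Irr (Ω.map (fGL D)) := by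
  intro W hW
  refine or_iff_not_imp_left.2 fun h0 => eq_top_iff.2 fun x _ => ?_
  obtain ⟨w, hw, hw0⟩ := Submodule.exists_mem_ne_zero_of_ne_bot h0
  have key : ∀ u, D.Q u = 0 → ∀ w ∈ W, D.B u w ≠ 0 → u ∈ W := fun u hu w hw h1 => by
    have := hW.alg (exists_rkOne_mem hD hn hΩ hu) w hw
    rwa [rkOne_mulVec, Submodule.smul_mem_iff _ h1] at this
  obtain ⟨u, hu, h1⟩ : ∃ u, D.Q u = 0 ∧ D.B u w ≠ 0 := by
    by_contra hc
    push Not at hc
    refine hw0 (hD.ext' fun z => ?_)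
    rw [D.B_zero_right]
    exact h.induction_singular (P := fun z => D.B z w = 0) hc
      (fun a b ha hb => by rw [D.B_add_left, ha, hb, add_zero]) z
  refine h.induction_singular (P := (· ∈ W)) (fun y hy => ?_) (fun _ _ => add_mem) x
  by_contra hc
  have h2 : ∀ w ∈ W, D.B y w = 0 := fun w hw => by_contra fun h => hc (key y hy w hw h)
  have h3 := key u hu w hw h1
  refine hc ((Submodule.add_mem_iff_left W h3).1 (key _ ?_ w hw ?_))
  · rw [D.Q_add_of_B (h2 u h3), hy, hu, add_zero]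
  · rwa [D.B_add_left, h2 w hw, zero_add]

theorem Irr.isSc_of_eigen {H : Subgroup (GL ι F)} (hH : Irr H) {x : Matrix ι ι F}
    (hx : ∀ g ∈ H, x * (g : Matrix ι ι F) = g * x) {v : ι → F} (h0 : v ≠ 0) {c : F}
    (hv : x *ᵥ v = c • v) : IsSc x := by
  rcases hH (LinearMap.ker (toLin' (x - c • 1))) (fun g hg w hw => by
    rw [LinearMap.mem_ker, toLin'_apply] at hw ⊢
    rw [mulVec_mulVec, sub_mul, hx g hg, smul_mul_assoc, one_mul]
    conv_lhs => rw [← mul_one (c • _), smul_mul_assoc, ← mul_smul_comm, ← mul_sub]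
    rw [← mulVec_mulVec, hw, mulVec_zero]) with h | h
  · refine absurd (?_ : v ∈ (⊥ : Submodule F _)) h0
    rw [← h, LinearMap.mem_ker, toLin'_apply, sub_mulVec, hv, smul_mulVec, one_mulVec, sub_self]
  · exact ⟨c, sub_eq_zero.1 (toLin'.map_eq_zero_iff.1 (LinearMap.ker_eq_top.1 h))⟩

theorem cl_of_eich [Finite F] (hD : D.Nondeg) (hn : 3 ≤ Fintype.card ι) {e f : ι → F}
    (h : D.IsHyp e f) {Ω : Subgroup D.isom} (hΩ : ∀ e z d h, D.eich e z d h ∈ Ω)
    (hp : ⁅Ω, Ω⁆ = Ω)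
    (hs : ∀ N ≤ Ω, NormBy Ω N → (∀ x ∈ N, ∀ y ∈ Ω, y * x = x * y) ∨ N = Ω)
    (ht : ∀ c : F, ∃ k : ℤ, ∃ z ∈ D.hp e f, ∃ z' ∈ D.hp e f, ∃ d d', K.tr d = D.Q z ∧
      K.tr d' = D.Q z' ∧ K.ε * d * d' - D.B z z' - K.ε * D.B z' z = c + k) :
    Cl (Ω.map (fGL D)) := by
  have hI := irr_of_eich hD hn h hΩ
  have : Nonempty ι := Fintype.card_pos_iff.1 (by omega)
  have hT : alg F (Ω.map (fGL D)) = ⊤ := hI.alg_top (by omega) fun x hx => by
    have h1 := congrArg (· *ᵥ f) ((mem_cen.1 hx).2 _ (exists_rkOne_mem hD hn hΩ h.Q_e))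
    simp only [← mulVec_mulVec, rkOne_mulVec, h.B_ef, one_smul] at h1
    exact hI.isSc_of_eigen (fun g hg => (mem_cen.1 hx).2 _ (coe_mem_alg hg)) h.e_ne_zero h1
  refine ⟨by omega, hT, by rw [← Subgroup.map_commutator, hp], fun N hN hn' => ?_, fun F₀ h0 => ?_⟩
  · have h1 : (N.comap (fGL D)).map (fGL D) = N :=
      Subgroup.map_comap_eq_self (hN.trans (Subgroup.map_le_range _ _))
    rcases hs (N.comap (fGL D)) ((Subgroup.map_le_map_iff_of_injective fGL_injective).1 (h1.trans_le hN))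
      (fun g hg x hx => by simpa using hn' _ (Subgroup.mem_map_of_mem _ hg) _ hx) with h2 | h2
    · refine Or.inl fun x hx => mem_scalars_of_alg_top hT ?_
      obtain ⟨x, -, rfl⟩ := hN hx
      rintro _ ⟨y, hy, rfl⟩
      rw [← map_mul, ← map_mul, h2 x hx y hy]
    · exact Or.inr (by rw [← h1, h2])
  · refine eq_top_iff.2 fun c _ => ?_
    obtain ⟨k, z, hz, z', hz', d, d', h1, h2, h3⟩ := ht c
    rw [D.mem_hp] at hz hz'
    have := h0 _ (Subgroup.mem_map_of_mem (fGL D)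
      (mul_mem (hΩ e z d ⟨h.Q_e, hz.1, h1⟩) (hΩ f z' d' ⟨h.Q_f, hz'.2, h2⟩)))
    have h4 := K.ε_mul
    rw [map_mul, Units.val_mul, coe_fGL_eich, coe_fGL_eich] at this
    simp only [add_mul, mul_add, sub_mul, mul_sub, smul_mul_assoc, mul_smul_comm, rkOne_mul, one_mul,
      mul_one, trace_add, trace_sub, trace_smul, trace_rkOne, trace_one, D.B_add_right,
      D.B_smul_right, hz.1, hz.2, hz'.1, hz'.2, D.eq_zero_symm hz.1, D.eq_zero_symm hz.2,
      D.eq_zero_symm hz'.1, D.eq_zero_symm hz'.2, h.B_ee, h.B_ff, h.B_ef, h.B_fe, smul_eq_mul] at this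
    convert sub_mem (sub_mem this (natCast_mem F₀ (Fintype.card ι))) (intCast_mem F₀ k) using 1
    linear_combination -h3 + (D.B z z' - K.ε * d * d') * h4

theorem simple_of_subgroup {G : Type*} [Group G] {Ω : Subgroup G}
    (h : ∀ N : Subgroup Ω, N.Normal → N ≤ Subgroup.center Ω ∨ N = ⊤) (N : Subgroup G) (hN : N ≤ Ω)
    (hn : NormBy Ω N) : (∀ x ∈ N, ∀ y ∈ Ω, y * x = x * y) ∨ N = Ω :=
  (h (N.subgroupOf Ω) ⟨fun x hx g => hn _ g.2 _ hx⟩).imp
    (fun h x hx y hy => congrArg Subtype.val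
      (Subgroup.mem_center_iff.1 (h (x := ⟨x, hN hx⟩) hx) ⟨y, hy⟩))
    fun h => le_antisymm hN (Subgroup.subgroupOf_eq_top.1 h)

theorem perfect_of_subgroup {G : Type*} [Group G] {Ω : Subgroup G} (h : commutator Ω = ⊤) :
    ⁅Ω, Ω⁆ = Ω := by
  rw [← Subgroup.map_subtype_commutator, h, ← MonoidHom.range_eq_map, Subgroup.range_subtype]

/-! ### The three families -/

theorem cl_sp [Fintype F] {m : ℕ} (h : 3 ≤ m ∨ (2 ≤ m ∧ 3 ≤ Fintype.card F)) : Cl (spGL m F) := by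
  have hD := fSymp_nondeg (F := F) m
  have hp := Symp.commutator_eq_top' hD (finrank_plus m)
    (by rw [Nat.card_eq_fintype_card]; tauto)
  obtain ⟨e, f, hef⟩ := Symp.exists_isHyp hD (by rw [finrank_plus]; omega)
  have := cl_of_eich (Ω := ⊤) hD (by simp; omega) hef (fun _ _ _ _ => trivial) hp
    (fun N _ hN => ((Symp.normal_and_simple hD (by rw [finrank_plus]; omega) hp).1 N
      ⟨fun x hx g => hN g trivial x hx⟩).imp_left fun h x hx y _ =>
        Subgroup.mem_center_iff.1 (h hx) y)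
    fun c => ⟨0, 0, zero_mem _, 0, zero_mem _, c, -1, by simp, by simp, by simp⟩
  convert this using 1
  ext g
  rw [mem_map_fGL, mem_spGL_iff]
  exact ⟨fun h => ⟨h, trivial⟩, fun h => h.1⟩

theorem cl_su [Fintype F] {n q : ℕ} (hF : Fintype.card F = q ^ 2) (hn : 3 ≤ n)
    (h : ¬ (n = 3 ∧ q = 2)) : Cl (GU n F q ⊓ specialLinear (Fin n) F) := by
  obtain ⟨σ, hσ⟩ := isConj_of_card hF
  have hD := stdHerm_nondeg hσ (Fin n)
  have h3 : 3 ≤ finrank F (Fin n → F) := by simpa using hn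
  have h32 : ¬ (finrank F (Fin n → F) = 3 ∧ q = 2) := by simpa using h
  obtain ⟨e, f, hef⟩ := Herm.exists_isHyp hD (by omega)
  obtain ⟨θ, h0, hθ⟩ := hσ.exists_trace_zero
  have := cl_of_eich hD (by simpa using hn) hef
    (fun e z d h => Form.E_le_ker_det (Form.eich_mem_E e z d h))
    (perfect_of_subgroup (Herm.commutator_eq_top hD h3 h32))
    (simple_of_subgroup (Herm.normal_and_simple hD h3 h32).1) fun c => by
      obtain ⟨w, hw, h1⟩ := Herm.hp_universal hD h3 hef (c / θ)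
      exact ⟨0, w, hw, 0, zero_mem _, c / θ, θ, h1.symm, by simpa using hθ, by simp [h0]⟩
  convert this using 1
  ext g
  rw [mem_map_fGL, Subgroup.mem_inf, mem_GU_iff hσ, specialLinear, MonoidHom.mem_ker, ← det_glEquiv]
  exact ⟨fun h => ⟨h.1, h.2⟩, fun ⟨h1, h2⟩ => ⟨h1, h2⟩⟩

theorem omegaGL_eq (D : Form (quadKind F) (ι → F)) :
    omegaGL D.Q = (commutator D.isom).map (fGL D) := by
  ext g
  rw [mem_map_fGL]
  constructor
  · rintro ⟨g, hg, rfl⟩
    exact ⟨_, (mem_Omega_iff D rfl).1 hg⟩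
  · rintro ⟨h1, h2⟩
    exact ⟨⟨g, fun v _ => (mem_isom_quad.1 h1 v :)⟩, (mem_Omega_iff D rfl).2 h2, rfl⟩

theorem cl_omega [Finite F] {D : Form (quadKind F) (ι → F)} (hD : D.Nondeg)
    (hn : 5 ≤ Fintype.card ι) : Cl (omegaGL D.Q) := by
  have h5 : 5 ≤ finrank F (ι → F) := by simpa using hn
  obtain ⟨e, f, hef⟩ := Quad.exists_isHyp hD (by omega)
  obtain ⟨u, w, huw⟩ := Quad.exists_isHyp (hef.nondeg_hp hD) (by have := hef.finrank_hp; omega)
  rw [omegaGL_eq]
  refine cl_of_eich hD (by omega) hef (hD.eich_mem_commutator (Or.inr (by omega)))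
    (perfect_of_subgroup (hD.commutator_commutator_eq_top h5))
    (simple_of_subgroup (hD.omega_normal_and_simple h5).1) fun c => ?_
  have h1 := huw.Q_smul_add 1 (-c)
  have h2 := huw.Q_smul_add 1 1
  refine ⟨-2, _, ((1 : F) • u + -c • w).2, _, ((1 : F) • u + (1 : F) • w).2, -c, 1, ?_, ?_, ?_⟩
  · simpa using h1.symm
  · simpa using h2.symm
  · simp only [← Form.restrict_B, Form.B_lin, huw.B_ee, huw.B_ff, huw.B_ef, huw.B_fe, quadKind_ε,
      RingHom.id_apply]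
    push_cast
    ring

end Cfsg.Lib.Asch
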