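import Cfsg.Agent.Lib.Asch.Norm

/-! Commutative normalised subalgebras (imprimitivity and extension fields) and descent to a
subfield. -/

set_option autoImplicit false

namespace Cfsg.Lib.Asch

open Matrix Cfsg.Geo Module
open scoped MatrixGroups Kronecker

variable {ι κ μ : Type} [Fintype ι] [DecidableEq ι] [Fintype κ] [DecidableEq κ]
  [Fintype μ] [DecidableEq μ] {F : Type*} [Field F]

/-- The column space of a matrix. -/
def rg (x : Matrix ι ι F) : Submodule F (ι → F) := LinearMap.range (toLin' x)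

theorem mem_rg {x : Matrix ι ι F} {w : ι → F} : w ∈ rg x ↔ ∃ v, x *ᵥ v = w := Iff.rfl

theorem mulVec_mem_rg (x : Matrix ι ι F) (v : ι → F) : x *ᵥ v ∈ rg x := ⟨v, rfl⟩

theorem map_rg (g : GL ι F) (x : Matrix ι ι F) :
    (rg x).map (toLin' (g : Matrix ι ι F)) = rg (cj g x) := by
  ext w
  constructor
  · rintro ⟨_, ⟨v, rfl⟩, rfl⟩
    exact ⟨_, cj_mulVec g x v⟩
  · rintro ⟨v, rfl⟩
    refine ⟨_, mulVec_mem_rg x (((g⁻¹ : GL ι F) : Matrix ι ι F) *ᵥ v), ?_⟩
    rw [toLin'_apply, toLin'_apply, ← cj_mulVec, mulVec_inv_mulVec]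

theorem rg_eq_bot {x : Matrix ι ι F} : rg x = ⊥ ↔ x = 0 := by
  rw [rg, LinearMap.range_eq_bot, map_eq_zero_iff _ toLin'.injective]

theorem mem_rg_of_idem {x : Matrix ι ι F} (hx : x * x = x) {w : ι → F} :
    w ∈ rg x ↔ x *ᵥ w = w :=
  ⟨by rintro ⟨v, rfl⟩; rw [toLin'_apply, mulVec_mulVec, hx], fun h => ⟨w, h⟩⟩

theorem finrank_map_gl (g : GL ι F) (W : Submodule F (ι → F)) :
    finrank F (W.map (toLin' (g : Matrix ι ι F))) = finrank F W :=
  (Submodule.equivMapOfInjective _ (fun x y h => by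
    simpa [toLin'_apply, inv_mulVec_mulVec] using
      congrArg (fun v => ((g⁻¹ : GL ι F) : Matrix ι ι F) *ᵥ v) h) W).finrank_eq.symm

/-- A complete system of orthogonal idempotents permuted transitively by `H`. -/
structure IdemSys (H : Subgroup (GL ι F)) {t : ℕ} (ε : Fin t → Matrix ι ι F) : Prop where
  idem : ∀ i, ε i * ε i = ε i
  orth : ∀ i j, i ≠ j → ε i * ε j = 0
  ne : ∀ i, ε i ≠ 0
  sum : ∑ i, ε i = 1
  perm : ∀ h ∈ H, ∀ i, ∃ j, cj h (ε i) = ε j
  trans : ∀ i j, ∃ h ∈ H, cj h (ε i) = ε j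

theorem IdemSys.injective {H : Subgroup (GL ι F)} {t : ℕ} {ε : Fin t → Matrix ι ι F}
    (h : IdemSys H ε) : Function.Injective ε := by
  intro i j hij
  by_contra hne
  exact h.ne i (by rw [← h.idem i, ← h.orth i j hne, hij])

theorem Irr.exists_idemSys [Finite F] {H : Subgroup (GL ι F)} (hH : Irr H)
    {S : Set (Matrix ι ι F)} (hi : ∀ e ∈ S, e * e = e) (h0 : ∀ e ∈ S, e ≠ 0)
    (ho : ∀ e ∈ S, ∀ e' ∈ S, e ≠ e' → e * e' = 0) (hN : Nz H S) (hne : S.Nonempty) :
    ∃ (t : ℕ) (ε : Fin t → Matrix ι ι F), IdemSys H ε ∧ Set.range ε = S := by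
  obtain ⟨t, ⟨b⟩⟩ := Finite.exists_equiv_fin S
  let ε : Fin t → Matrix ι ι F := fun i => b.symm i
  have hr : Set.range ε = S := by
    ext e
    exact ⟨by rintro ⟨i, rfl⟩; exact (b.symm i).2, fun he => ⟨b ⟨e, he⟩, by simp [ε]⟩⟩
  have hm : ∀ i, ε i ∈ S := fun i => (b.symm i).2
  have horth : ∀ i j, i ≠ j → ε i * ε j = 0 := fun i j hij =>
    ho _ (hm i) _ (hm j) fun h => hij (b.symm.injective (Subtype.ext h))
  have key : ∀ e ∈ S, ∀ x : Matrix ι ι F, (∀ h ∈ H, x * cj h e = 0) → x = 0 := by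
    intro e he x hx
    let W := Submodule.span F {w | ∃ h ∈ H, ∃ v, cj h e *ᵥ v = w}
    have hW : Inv H W := by
      intro g hg w hw
      refine Submodule.span_induction (p := fun w _ => (g : Matrix ι ι F) *ᵥ w ∈ W) ?_ ?_ ?_ ?_ hw
      · rintro _ ⟨h, hh, v, rfl⟩
        rw [← cj_mulVec, ← cj_mul]
        exact Submodule.subset_span ⟨_, H.mul_mem hg hh, _, rfl⟩
      · simp
      · intro x y _ _ hx hy; rw [mulVec_add]; exact add_mem hx hy
      · intro c x _ hx; rw [mulVec_smul]; exact W.smul_mem c hx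
    rcases hH W hW with h1 | h1
    · refine absurd (mat_ext fun v => ?_) (h0 e he)
      have : e *ᵥ v ∈ W := Submodule.subset_span ⟨1, H.one_mem, v, by simp⟩
      rw [h1] at this
      simpa using this
    · have : W ≤ LinearMap.ker (toLin' x) := by
        refine Submodule.span_le.2 ?_
        rintro _ ⟨h, hh, v, rfl⟩
        simp [toLin'_apply, hx h hh]
      refine mat_ext fun v => ?_
      simpa using this (h1 ▸ Submodule.mem_top : v ∈ W)
  refine ⟨t, ε, ⟨fun i => hi _ (hm i), horth, fun i => h0 _ (hm i), ?_, fun h hh i => ?_,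
    fun i j => ?_⟩, hr⟩
  · obtain ⟨e, he⟩ := hne
    rw [eq_comm, ← sub_eq_zero]
    refine key e he _ fun h hh => ?_
    obtain ⟨j, hj⟩ : cj h e ∈ Set.range ε := hr ▸ hN h hh e he
    rw [← hj, sub_mul, one_mul, Finset.sum_mul, Finset.sum_eq_single j, hi _ (hm j), sub_self]
    · exact fun i _ hij => horth i j hij
    · simp
  · obtain ⟨j, hj⟩ : cj h (ε i) ∈ Set.range ε := hr ▸ hN h hh _ (hm i)
    exact ⟨j, hj.symm⟩
  · by_contra hc
    push Not at hc
    exact h0 _ (hm j) (key _ (hm i) _ fun h hh =>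
      ho _ (hm j) _ (hN h hh _ (hm i)) (hc h hh).symm)

namespace IdemSys

variable {H : Subgroup (GL ι F)} {t : ℕ} {ε : Fin t → Matrix ι ι F} (h : IdemSys H ε)
include h

theorem le_stab : H ≤ decompositionStabilizer fun i => rg (ε i) := by
  intro g hg
  choose π hπ using h.perm g hg
  have hi : Function.Injective π := fun i j hij =>
    h.injective ((cj g).injective (by rw [hπ, hπ, hij]))
  exact ⟨Equiv.ofBijective π hi.bijective_of_finite, fun i => by rw [map_rg, hπ]; rfl⟩

theorem trans_rg (i j : Fin t) :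
    ∃ g ∈ H, (rg (ε i)).map (toLin' (g : Matrix ι ι F)) = rg (ε j) := by
  obtain ⟨g, hg, hij⟩ := h.trans i j
  exact ⟨g, hg, by rw [map_rg, hij]⟩

theorem mulVec_eq_zero {i j : Fin t} (hij : i ≠ j) {w : ι → F} (hw : w ∈ rg (ε j)) :
    ε i *ᵥ w = 0 := by
  obtain ⟨v, rfl⟩ := hw
  rw [toLin'_apply, mulVec_mulVec, h.orth i j hij, zero_mulVec]

theorem isMDecomposition (ht : 2 ≤ t) : ∃ m, IsMDecomposition m fun i => rg (ε i) := by
  let o : Fin t := ⟨0, by omega⟩
  refine ⟨finrank F (rg (ε o)), ht, ?_, fun i => ?_, ?_, ?_⟩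
  · rw [pos_iff_ne_zero, Ne, Submodule.finrank_eq_zero, rg_eq_bot]
    exact h.ne o
  · obtain ⟨g, -, hg⟩ := h.trans_rg o i
    rw [← hg, finrank_map_gl]
  · rw [iSupIndep_def]
    intro i
    rw [Submodule.disjoint_def]
    intro w hw hw'
    have : (⨆ j ≠ i, rg (ε j)) ≤ LinearMap.ker (toLin' (ε i)) :=
      iSup₂_le fun j hj w hw => h.mulVec_eq_zero (Ne.symm hj) hw
    rw [← (mem_rg_of_idem (h.idem i)).1 hw]
    exact this hw'
  · rw [eq_top_iff]
    intro v _
    rw [← one_mulVec v, ← h.sum, sum_mulVec]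
    exact Submodule.sum_mem _ fun i _ => Submodule.mem_iSup_of_mem i (mulVec_mem_rg _ _)

end IdemSys

theorem IsMDecomposition.mul_eq {t m : ℕ} {D : Fin t → Submodule F (ι → F)}
    (h : IsMDecomposition m D) : t * m = Fintype.card ι := by
  have := (DirectSum.isInternal_submodule_of_iSupIndep_of_iSup_eq_top h.indep h.iSup_eq_top)
  have h2 := (LinearEquiv.ofBijective (DirectSum.coeLinearMap D) this).finrank_eq
  rw [Module.finrank_directSum] at h2
  simpa [h.finrank_eq] using h2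

/-- The primitive idempotents of a commutative subalgebra. -/
def PrimIdem (C : Subalgebra F (Matrix ι ι F)) : Set (Matrix ι ι F) :=
  {e | e ∈ C ∧ e * e = e ∧ e ≠ 0 ∧ ∀ e' ∈ C, e' * e' = e' → e' * e = 0 ∨ e' * e = e}

theorem exists_primIdem [Nonempty ι] {C : Subalgebra F (Matrix ι ι F)}
    (hc : ∀ x ∈ C, ∀ y ∈ C, x * y = y * x) : (PrimIdem C).Nonempty := by
  obtain ⟨e, ⟨heC, hi, h0⟩, hmin⟩ := (InvImage.wf (fun e : Matrix ι ι F => finrank F (rg e))
    wellFounded_lt).has_min {e | e ∈ C ∧ e * e = e ∧ e ≠ 0} ⟨1, one_mem _, one_mul _, one_ne_zero⟩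
  refine ⟨e, heC, hi, h0, fun e' he' hi' => ?_⟩
  by_cases h : e' * e = 0
  · exact Or.inl h
  right
  have h1 : e' * e * (e' * e) = e' * e := by
    rw [mul_assoc, ← mul_assoc e, ← hc e' he' e heC, mul_assoc, hi, ← mul_assoc, hi']
  have h2 : rg (e' * e) ≤ rg e := by
    rintro _ ⟨v, rfl⟩
    rw [toLin'_apply, hc e' he' e heC, ← mulVec_mulVec]
    exact mulVec_mem_rg _ _
  have h3 : rg (e' * e) = rg e := Submodule.eq_of_le_of_finrank_le h2
    (not_lt.1 (hmin _ ⟨mul_mem he' heC, h1, h⟩))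
  refine mat_ext fun v => ?_
  have := (mem_rg_of_idem h1).1 (h3 ▸ mulVec_mem_rg e v)
  rwa [mulVec_mulVec, mul_assoc, hi] at this

theorem primIdem_orth {C : Subalgebra F (Matrix ι ι F)} (hc : ∀ x ∈ C, ∀ y ∈ C, x * y = y * x)
    {e e' : Matrix ι ι F} (he : e ∈ PrimIdem C) (he' : e' ∈ PrimIdem C) (hne : e ≠ e') :
    e * e' = 0 := by
  rcases he'.2.2.2 e he.1 he.2.1 with h | h
  · exact h
  rcases he.2.2.2 e' he'.1 he'.2.1 with h' | h'
  · rw [hc _ he.1 _ he'.1, h']
  · exact absurd (by rw [← h', ← hc _ he.1 _ he'.1, h]) hne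

/-- A multiplicative bijection of `C` permutes the primitive idempotents. -/
theorem primIdem_map {C : Subalgebra F (Matrix ι ι F)} {s s' : Matrix ι ι F → Matrix ι ι F}
    (hs : ∀ x ∈ C, s x ∈ C) (hs' : ∀ x ∈ C, s' x ∈ C) (h1 : ∀ x, s' (s x) = x)
    (h2 : ∀ x, s (s' x) = x) (hm : ∀ x ∈ C, ∀ y ∈ C, s (x * y) = s x * s y) (h0 : s 0 = 0)
    {e : Matrix ι ι F} (he : e ∈ PrimIdem C) : s e ∈ PrimIdem C := by
  have hinj : Function.Injective s := Function.LeftInverse.injective h1
  refine ⟨hs _ he.1, by rw [← hm _ he.1 _ he.1, he.2.1], fun h => he.2.2.1 (hinj (h.trans h0.symm)),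
    fun e' he' hi' => ?_⟩
  have := he.2.2.2 (s' e') (hs' _ he') (hinj (by rw [hm _ (hs' _ he') _ (hs' _ he'), h2, hi']))
  rw [← h2 e', ← hm _ (hs' _ he') _ he.1]
  rcases this with h | h
  · left; rw [h, h0]
  · right; rw [h]

theorem Nz.primIdem {H : Subgroup (GL ι F)} {C : Subalgebra F (Matrix ι ι F)}
    (h : Nz H (C : Set (Matrix ι ι F))) : Nz H (PrimIdem C) := fun g hg _ he =>
  primIdem_map (s := cj g) (s' := cj g⁻¹) (h g hg) (h g⁻¹ (H.inv_mem hg)) (cj_inv_cj g)
    (cj_cj_inv g) (fun x _ y _ => map_mul _ x y) (map_zero _) he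

theorem exists_intermediateField (k L : Type*) [Field k] [Fintype k] [Field L] [Finite L]
    [Algebra k L] {s : ℕ} (hs : s ∣ finrank k L) :
    ∃ K : IntermediateField k L, finrank k K = s ∧ ∀ x, x ∈ K ↔ x ^ (Fintype.card k ^ s) = x := by
  let g := FiniteField.frobeniusAlgEquivOfAlgebraic k L ^ s
  have hg : ∀ x, g x = x ^ (Fintype.card k ^ s) := fun x => by
    simp only [g, AlgEquiv.coe_pow, FiniteField.coe_frobeniusAlgEquivOfAlgebraic_iterate]
  refine ⟨IntermediateField.fixedField (Subgroup.zpowers g), ?_, fun x => ?_⟩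
  · have h1 := IntermediateField.finrank_fixedField_eq_card (Subgroup.zpowers g)
    have h2 := finrank_mul_finrank k (IntermediateField.fixedField (Subgroup.zpowers g)) L
    obtain ⟨d, hd⟩ := hs
    have hpos : 0 < finrank k L := finrank_pos
    have hs0 : s ≠ 0 := by rintro rfl; omega
    have hd0 : d ≠ 0 := by rintro rfl; omega
    rw [Nat.card_zpowers, orderOf_pow' _ hs0, FiniteField.orderOf_frobeniusAlgEquivOfAlgebraic, hd,
      Nat.gcd_mul_right_left, Nat.mul_div_cancel_left _ (Nat.pos_of_ne_zero hs0)] at h1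
    rw [h1, hd] at h2
    exact Nat.eq_of_mul_eq_mul_right (Nat.pos_of_ne_zero hd0) h2
  · rw [IntermediateField.mem_fixedField_iff, ← hg]
    refine ⟨fun h => h g (Subgroup.mem_zpowers g), fun h f hf => ?_⟩
    have : Subgroup.zpowers g ≤ MulAction.stabilizer _ x := by
      rw [Subgroup.zpowers_le]; exact h
    exact this hf

/-- A non-scalar field of matrices contains a canonical subfield of prime degree. -/
theorem exists_prime_subfield [Fintype F] [Nonempty ι] {C : Subalgebra F (Matrix ι ι F)}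
    (hc : ∀ x ∈ C, ∀ y ∈ C, x * y = y * x) (hi : ∀ x ∈ C, x ≠ 0 → ∃ y ∈ C, x * y = 1)
    (hx : ∃ x ∈ C, ¬ IsSc x) :
    ∃ (r : ℕ) (K : Subalgebra F (Matrix ι ι F)), r.Prime ∧ IsFieldSubalgebra r K ∧
      ∀ x, x ∈ K ↔ x ∈ C ∧ x ^ (Fintype.card F ^ r) = x := by
  have hF : IsField C :=
    { exists_pair_ne := ⟨0, 1, zero_ne_one⟩
      mul_comm := fun x y => Subtype.ext (hc _ x.2 _ y.2)
      mul_inv_cancel := fun {x} h0 => by
        obtain ⟨y, hy, h⟩ := hi x x.2 fun h => h0 (Subtype.ext h)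
        exact ⟨⟨y, hy⟩, Subtype.ext h⟩ }
  letI := hF.toField
  have hd : finrank F C ≠ 1 := by
    intro h
    obtain ⟨x, hxC, hx⟩ := hx
    rw [Subalgebra.finrank_eq_one_iff] at h
    rw [h, Algebra.mem_bot] at hxC
    obtain ⟨c, rfl⟩ := hxC
    exact hx ⟨c, Algebra.algebraMap_eq_smul_one c⟩
  obtain ⟨K, hK, hm⟩ := exists_intermediateField F C (Nat.minFac_dvd (finrank F C))
  refine ⟨_, K.toSubalgebra.map C.val, Nat.minFac_prime hd, ⟨?_, ?_, ?_⟩, fun x => ⟨?_, ?_⟩⟩
  · rintro _ ⟨x, -, rfl⟩ _ ⟨y, -, rfl⟩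
    exact hc _ x.2 _ y.2
  · rintro _ ⟨x, hx, rfl⟩ h0
    have h0' : x ≠ 0 := fun h => h0 (by rw [h]; rfl)
    exact ⟨_, ⟨x⁻¹, K.inv_mem hx, rfl⟩, congrArg Subtype.val (mul_inv_cancel₀ h0')⟩
  · rw [← hK]
    exact (K.toSubalgebra.equivMapOfInjective C.val Subtype.val_injective).toLinearEquiv.finrank_eq.symm
  · rintro ⟨x, hx, rfl⟩
    exact ⟨x.2, congrArg Subtype.val ((hm x).1 hx)⟩
  · rintro ⟨hxC, hx⟩
    exact ⟨⟨x, hxC⟩, (hm _).2 (Subtype.ext hx), rfl⟩

/-- A non-scalar commutative subalgebra normalised by an irreducible group gives a system of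
imprimitivity or an extension field. -/
theorem Irr.comm_dichotomy [Fintype F] [Nonempty ι] {H : Subgroup (GL ι F)} (hH : Irr H)
    {C : Subalgebra F (Matrix ι ι F)} (hN : Nz H (C : Set (Matrix ι ι F)))
    (hc : ∀ x ∈ C, ∀ y ∈ C, x * y = y * x) (hx : ∃ x ∈ C, ¬ IsSc x) :
    (∃ (t : ℕ) (ε : Fin t → Matrix ι ι F), 2 ≤ t ∧ IdemSys H ε ∧ Set.range ε = PrimIdem C) ∨
    ∃ (r : ℕ) (K : Subalgebra F (Matrix ι ι F)), r.Prime ∧ IsFieldSubalgebra r K ∧
      Nz H (K : Set (Matrix ι ι F)) ∧ ∀ x, x ∈ K ↔ x ∈ C ∧ x ^ (Fintype.card F ^ r) = x := by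
  obtain ⟨t, ε, hε, hr⟩ := hH.exists_idemSys (S := PrimIdem C) (fun e he => he.2.1)
    (fun e he => he.2.2.1) (fun e he e' he' => primIdem_orth hc he he') hN.primIdem
    (exists_primIdem hc)
  by_cases ht : 2 ≤ t
  · exact Or.inl ⟨t, ε, ht, hε, hr⟩
  right
  have h1 : (1 : Matrix ι ι F) ∈ PrimIdem C := by
    obtain rfl | rfl : t = 0 ∨ t = 1 := by omega
    · exact absurd hε.sum (by simp)
    · rw [← hr, ← hε.sum]; simp
  have := hH.isSemisimpleRing hN
  obtain ⟨r, K, hr, hK, hm⟩ := exists_prime_subfield hc (fun x hx h0 => by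
    obtain ⟨e, he, hI⟩ := IsSemisimpleRing.ideal_eq_span_idempotent (Ideal.span {(⟨x, hx⟩ : C)})
    rcases h1.2.2.2 e e.2 (congrArg Subtype.val he.eq) with h | h
    · rw [mul_one] at h
      have h' : e = 0 := Subtype.ext h
      rw [h', Ideal.span_singleton_zero, Ideal.span_singleton_eq_bot] at hI
      exact absurd (congrArg Subtype.val hI) h0
    · rw [mul_one] at h
      obtain ⟨y, hy⟩ := Ideal.mem_span_singleton'.1 (hI ▸ Ideal.mem_span_singleton_self e)
      exact ⟨y, y.2, by rw [hc _ hx _ y.2, ← h]; exact congrArg Subtype.val hy⟩) hx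
  refine ⟨r, K, hr, hK, fun g hg x hx => ?_, hm⟩
  have := (hm x).1 hx
  exact (hm _).2 ⟨hN g hg _ this.1, by rw [← map_pow, this.2]⟩

/-- The centre of a subalgebra. -/
def cen (A : Subalgebra F (Matrix ι ι F)) : Subalgebra F (Matrix ι ι F) :=
  A ⊓ Subalgebra.centralizer F (A : Set (Matrix ι ι F))

theorem mem_cen {A : Subalgebra F (Matrix ι ι F)} {x : Matrix ι ι F} :
    x ∈ cen A ↔ x ∈ A ∧ ∀ y ∈ A, x * y = y * x := by
  simp only [cen, Algebra.mem_inf, Subalgebra.mem_centralizer_iff, SetLike.mem_coe]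
  exact and_congr_right fun _ => forall₂_congr fun _ _ => eq_comm

theorem cen_comm (A : Subalgebra F (Matrix ι ι F)) : ∀ x ∈ cen A, ∀ y ∈ cen A, x * y = y * x :=
  fun _ hx y hy => (mem_cen.1 hx).2 y (mem_cen.1 hy).1

theorem Nz.cen {H : Subgroup (GL ι F)} {A : Subalgebra F (Matrix ι ι F)}
    (h : Nz H (A : Set (Matrix ι ι F))) : Nz H (cen A : Set (Matrix ι ι F)) := by
  intro g hg x hx
  have := mem_cen.1 hx
  refine mem_cen.2 ⟨h g hg _ this.1, fun y hy => ?_⟩
  rw [← cj_cj_inv g y, ← map_mul, ← map_mul, this.2 _ (h g⁻¹ (H.inv_mem hg) _ hy)]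

theorem IsFieldSubalgebra.dvd_card [Nonempty ι] {r : ℕ} {K : Subalgebra F (Matrix ι ι F)}
    (h : IsFieldSubalgebra r K) : r ∣ Fintype.card ι := by
  have hF : IsField K :=
    { exists_pair_ne := ⟨0, 1, zero_ne_one⟩
      mul_comm := fun x y => Subtype.ext (h.comm _ x.2 _ y.2)
      mul_inv_cancel := fun {x} h0 => by
        obtain ⟨y, hy, h⟩ := h.inv x x.2 fun h => h0 (Subtype.ext h)
        exact ⟨⟨y, hy⟩, Subtype.ext h⟩ }
  letI := hF.toField
  letI : Module K (ι → F) := Module.compHom (ι → F)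
    ((toLinAlgEquiv' : Matrix ι ι F ≃ₐ[F] _).toAlgHom.comp K.val).toRingHom
  have : IsScalarTower F K (ι → F) := ⟨fun c x v => by
    change ((c • x : K) : Matrix ι ι F) *ᵥ v = c • ((x : Matrix ι ι F) *ᵥ v)
    simp [smul_mulVec]⟩
  have := @finrank_mul_finrank F K (ι → F) _ _ _ _ _ _ this _ _ _ _
  rw [h.finrank_eq, finrank_fintype_fun_eq_card] at this
  exact ⟨_, this.symm⟩

/-! ### Subfields -/

theorem exists_maximal_subfield [Fintype F] {F₀ : Subfield F} (h : F₀ ≠ ⊤) :
    ∃ (F₁ : Subfield F) (r : ℕ), F₀ ≤ F₁ ∧ r.Prime ∧ Fintype.card F = Nat.card F₁ ^ r := by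
  have : Fintype F₀ := Fintype.ofFinite _
  have hd : finrank F₀ F ≠ 1 := by
    intro h1
    apply h
    rw [eq_top_iff]
    intro x _
    obtain ⟨c, hc⟩ := exists_smul_eq_of_finrank_eq_one h1 (one_ne_zero (α := F)) x
    rw [← hc, Subfield.smul_def, smul_eq_mul, mul_one]
    exact c.2
  obtain ⟨K, hK, -⟩ := exists_intermediateField F₀ F
    (Nat.div_dvd_of_dvd (Nat.minFac_dvd (finrank F₀ F)))
  refine ⟨K.toSubfield, _, fun x hx => K.algebraMap_mem ⟨x, hx⟩, Nat.minFac_prime hd, ?_⟩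
  have h2 : Nat.card K.toSubfield = Nat.card F₀ ^ finrank F₀ K := Module.natCard_eq_pow_finrank (V := K)
  rw [h2, hK, ← pow_mul, Nat.div_mul_cancel (Nat.minFac_dvd _), ← Nat.card_eq_fintype_card,
    Module.natCard_eq_pow_finrank (K := F₀)]

/-- `x` has entries in `F₀` with respect to the basis given by the columns of `P`. -/
def Ratl (F₀ : Subfield F) (P : GL ι F) (x : Matrix ι ι F) : Prop := ∀ i j, cj P⁻¹ x i j ∈ F₀

theorem mem_subfieldSubgroup_iff {F₀ : Subfield F} {P g : GL ι F} :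
    g ∈ subfieldSubgroup F₀ P ↔ ∃ c : F, c ≠ 0 ∧ Ratl F₀ P (c • (g : Matrix ι ι F)) := by
  have h0 : g ∈ subfieldSubgroup F₀ P ↔ P⁻¹ * g * P ∈
      (GeneralLinearGroup.map (F₀.subtype : F₀ →+* F)).range ⊔ scalars ι F := by
    rw [subfieldSubgroup]
    constructor
    · rintro ⟨x, hx, rfl⟩; simpa [mul_assoc] using hx
    · intro h; exact ⟨_, h, by simp [mul_assoc]⟩
  have h1 : ∀ c : F, cj P⁻¹ (c • (g : Matrix ι ι F)) =
      c • ((P⁻¹ * g * P : GL ι F) : Matrix ι ι F) := fun c => by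
    rw [map_smul, cj_coe, inv_inv]
  rw [h0]
  simp only [Ratl, h1]
  generalize P⁻¹ * g * P = x
  constructor
  · intro h
    rw [← SetLike.mem_coe, Subgroup.mul_normal] at h
    obtain ⟨_, ⟨a, rfl⟩, z, hz, rfl⟩ := h
    obtain ⟨c, hc⟩ := (mem_scalars_iff z).1 hz
    refine ⟨(c : F)⁻¹, by simp, fun i j => ?_⟩
    simp [hc]
  · rintro ⟨c, hc, h⟩
    let a : Matrix ι ι F₀ := Matrix.of fun i j => ⟨_, h i j⟩
    have ha : a.map F₀.subtype = c • (x : Matrix ι ι F) := rfl
    have hdet : a.det ≠ 0 := by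
      intro h0
      have := (F₀.subtype : F₀ →+* F).map_det a
      rw [h0, map_zero, RingHom.mapMatrix_apply, ha, det_smul] at this
      exact mul_ne_zero (pow_ne_zero _ hc) x.det_ne_zero this.symm
    have : x = GeneralLinearGroup.map (F₀.subtype : F₀ →+* F)
        (GeneralLinearGroup.mkOfDetNeZero a hdet) * sc ι (Units.mk0 c hc)⁻¹ := by
      apply Units.ext
      rw [Units.val_mul, coe_sc]
      change _ = a.map F₀.subtype * _
      rw [ha]; simp [smul_smul, hc]
    rw [this]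
    exact Subgroup.mul_mem_sup ⟨_, rfl⟩ (sc_mem _)

theorem mem_subfieldSubgroup_of {F₀ : Subfield F} {P g : GL ι F}
    (h : ∀ x, Ratl F₀ P x → Ratl F₀ P (cj g x)) : g ∈ subfieldSubgroup F₀ P := by
  rcases isEmpty_or_nonempty ι with hι | hι
  · rw [Subsingleton.elim g 1]; exact one_mem _
  set y : GL ι F := P⁻¹ * g * P with hy
  obtain ⟨b, j, hbj⟩ : ∃ b j, ((y⁻¹ : GL ι F) : Matrix ι ι F) b j ≠ 0 := by
    by_contra hc
    push Not at hc
    exact (y⁻¹).ne_zero (Matrix.ext hc)
  refine mem_subfieldSubgroup_iff.2 ⟨_, hbj, fun i a => ?_⟩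
  have := h (cj P (single a b 1)) (fun i j => by
    rw [cj_inv_cj, single_apply]; split_ifs; exacts [one_mem _, zero_mem _]) i j
  rw [← cj_mul, ← cj_mul, ← hy, cj_apply] at this
  rw [map_smul, cj_coe, inv_inv, ← hy]
  convert this using 1
  simp [mul_apply, single_apply, ite_and, mul_comm]

/-- Descent: a form of the full matrix algebra over a subfield is a matrix algebra over it. -/
theorem exists_ratl [Finite F] [Nonempty ι] {F₀ : Subfield F}
    (A : Subalgebra F₀ (Matrix ι ι F)) (hs : Submodule.span F (A : Set (Matrix ι ι F)) = ⊤)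
    (hd : finrank F₀ A ≤ Fintype.card ι ^ 2) : ∃ P : GL ι F, ∀ x, x ∈ A ↔ Ratl F₀ P x := by
  have hM : finrank F (Matrix ι ι F) = Fintype.card ι ^ 2 := by simp [finrank_matrix, sq]
  -- an `F₀`-subspace of `A` spanning everything is `A`
  have key : ∀ I : Submodule F₀ A,
      Submodule.span F (Subtype.val '' (I : Set A) : Set (Matrix ι ι F)) = ⊤ → I = ⊤ := by
    intro I hI
    obtain ⟨s, hs, hsp, hli⟩ := exists_linearIndependent F (Subtype.val '' (I : Set A))
    have : Fintype s := Fintype.ofFinite _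
    have hc : Fintype.card s = Fintype.card ι ^ 2 := by
      rw [← hM, ← finrank_top, ← hI, ← hsp, ← finrank_span_eq_card hli, Subtype.range_coe]
    choose f hf hf' using fun x : s => hs x.2
    have h1 : LinearIndependent F₀ fun x : s => (⟨f x, hf x⟩ : I) := by
      refine LinearIndependent.of_comp (A.val.toLinearMap ∘ₗ I.subtype) ?_
      have : (A.val.toLinearMap ∘ₗ I.subtype) ∘ (fun x : s => (⟨f x, hf x⟩ : I)) = Subtype.val :=
        funext fun x => hf' x
      rw [this]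
      exact hli.restrict_scalars' F₀
    apply Submodule.eq_top_of_finrank_eq
    exact le_antisymm (Submodule.finrank_le I) (hd.trans (hc ▸ h1.fintype_card_le_finrank))
  have hdim : finrank F₀ A = Fintype.card ι ^ 2 := by
    refine le_antisymm hd ?_
    obtain ⟨s, hs', hsp, hli⟩ := exists_linearIndependent F (A : Set (Matrix ι ι F))
    have : Fintype s := Fintype.ofFinite _
    have hc : Fintype.card s = Fintype.card ι ^ 2 := by
      rw [← hM, ← finrank_top, ← hs, ← hsp, ← finrank_span_eq_card hli, Subtype.range_coe]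
    have h1 : LinearIndependent F₀ fun x : s => (⟨x, hs' x.2⟩ : A) :=
      LinearIndependent.of_comp A.val.toLinearMap (hli.restrict_scalars' F₀)
    exact hc ▸ h1.fintype_card_le_finrank
  have hspan : ∀ {p : Matrix ι ι F → Prop}, (∀ x ∈ A, p x) → (∀ x y, p x → p y → p (x + y)) →
      (∀ (c : F) x, p x → p (c • x)) → ∀ x, p x := by
    intro p h1 h2 h3 x
    have hx : x ∈ Submodule.span F (A : Set (Matrix ι ι F)) := hs ▸ Submodule.mem_top
    induction hx using Submodule.span_induction with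
    | mem x hx => exact h1 x hx
    | zero => exact h1 0 (zero_mem _)
    | add x y _ _ hx hy => exact h2 x y hx hy
    | smul c x _ hx => exact h3 c x hx
  have hsimple : IsSimpleRing A := by
    rw [isSimpleRing_iff_isTwoSided_imp]
    refine ⟨inferInstance, fun I hI => ?_⟩
    by_cases h0 : I = ⊥
    · exact Or.inl h0
    right
    obtain ⟨z, hz, hz0⟩ := (Submodule.ne_bot_iff I).1 h0
    let J := Submodule.span F (Subtype.val '' (I : Set A) : Set (Matrix ι ι F))
    have hJ : ∀ a b : Matrix ι ι F, a * z * b ∈ J := by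
      refine hspan (fun a ha => hspan (fun b hb => ?_) (fun x y hx hy => ?_) fun c x hx => ?_)
        (fun x y hx hy b => ?_) fun c x hx b => ?_
      · exact Submodule.subset_span ⟨_, I.mul_mem_right ⟨b, hb⟩ (I.mul_mem_left ⟨a, ha⟩ hz), rfl⟩
      · rw [mul_add]; exact add_mem hx hy
      · rw [mul_smul_comm]; exact J.smul_mem c hx
      · rw [add_mul, add_mul]; exact add_mem (hx b) (hy b)
      · rw [smul_mul_assoc, smul_mul_assoc]; exact J.smul_mem c (hx b)
    obtain ⟨i, j, hij⟩ : ∃ i j, (z : Matrix ι ι F) i j ≠ 0 := by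
      by_contra hc
      push Not at hc
      exact hz0 (Subtype.ext (Matrix.ext hc))
    have hJt : J = ⊤ := by
      rw [eq_top_iff]
      intro x _
      rw [eq_sum_single x]
      refine J.sum_mem fun a _ => J.sum_mem fun b _ => J.smul_mem _ ?_
      convert hJ (single a i ((z : Matrix ι ι F) i j)⁻¹) (single j b 1) using 1
      simp [hij]
    have := key (I.restrictScalars F₀) hJt
    rwa [Submodule.restrictScalars_eq_top_iff] at this
  obtain ⟨m, hm, ⟨φ⟩⟩ := exists_algEquiv_matrix (k := F₀) (A := A) (fun x hx => by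
    obtain ⟨c, hc⟩ : IsSc (x : Matrix ι ι F) := isSc_of_comm (hspan
      (fun y hy => congrArg Subtype.val (hx ⟨y, hy⟩))
      (fun y z hy hz => by rw [mul_add, add_mul, hy, hz])
      fun c y hy => by rw [mul_smul_comm, smul_mul_assoc, hy])
    let b := finBasis F₀ A
    have hb : LinearIndependent F fun i => (b i : Matrix ι ι F) := by
      refine linearIndependent_of_top_le_span_of_card_eq_finrank ?_
        (by rw [Fintype.card_fin, hM]; exact hdim)
      intro y _
      refine hspan (p := fun y => y ∈ Submodule.span F (Set.range fun i => (b i : Matrix ι ι F)))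
        (fun y hy => ?_) (fun _ _ => add_mem) (fun c _ => Submodule.smul_mem _ c) y
      have := congrArg Subtype.val (b.sum_repr ⟨y, hy⟩)
      simp only [AddSubmonoidClass.coe_finsetSum, SetLike.val_smul] at this
      rw [← this]
      exact Submodule.sum_mem _ fun i _ =>
        Submodule.smul_mem _ (b.repr ⟨y, hy⟩ i : F) (Submodule.subset_span ⟨i, rfl⟩)
    have h1 := congrArg Subtype.val (b.sum_repr 1)
    have h2 := congrArg Subtype.val (b.sum_repr x)
    simp only [AddSubmonoidClass.coe_finsetSum, SetLike.val_smul, OneMemClass.coe_one] at h1 h2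
    have h3 : ∀ i, c * b.repr 1 i = b.repr x i := by
      have := Fintype.linearIndependent_iff.1 hb (fun i => c * b.repr 1 i - b.repr x i) (by
        simp only [sub_smul, Finset.sum_sub_distrib, mul_smul, ← Finset.smul_sum]
        exact sub_eq_zero.2 ((congrArg (c • ·) h1).trans (hc.symm.trans h2.symm)))
      exact fun i => sub_eq_zero.1 (this i)
    obtain ⟨i, hi⟩ : ∃ i, b.repr 1 i ≠ 0 := by
      by_contra hc
      push Not at hc
      exact one_ne_zero (b.repr.injective (Finsupp.ext fun i => by rw [hc, map_zero]; rfl))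
    have hcF : c ∈ F₀ := by
      have : c = b.repr x i / b.repr 1 i := by
        rw [eq_div_iff (by exact_mod_cast hi), h3]
      rw [this]
      exact div_mem (b.repr x i).2 (b.repr 1 i).2
    exact ⟨⟨c, hcF⟩, Subtype.ext (by rw [hc, Algebra.algebraMap_eq_smul_one]; rfl)⟩)
  obtain ⟨l, e, P, hP⟩ := exists_tr_of_units (fun a b => (φ (single a b 1) : Matrix ι ι F))
    (fun a b c d => by
      rw [← MulMemClass.coe_mul, ← map_mul, single_mul_single']; split_ifs <;> simp)
    (by rw [← AddSubmonoidClass.coe_finsetSum, ← map_sum, sum_single_diag, map_one]; rfl)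
  have hl : l = 1 := by
    have h1 := φ.toLinearEquiv.finrank_eq
    have h2 := Fintype.card_congr e
    simp only [finrank_matrix, Fintype.card_fin, finrank_self, mul_one, hdim, h2,
      Fintype.card_prod] at h1
    have h3 : m ^ 2 * 1 = m ^ 2 * l ^ 2 := by rw [← mul_pow, ← h1]; ring
    have h4 := Nat.eq_of_mul_eq_mul_left (pow_pos (Nat.pos_of_ne_zero hm.out) 2) h3
    exact (Nat.pow_eq_one.1 h4.symm).resolve_right two_ne_zero
  subst hl
  have hφ : ∀ y, cj P⁻¹ (φ y : Matrix ι ι F) =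
      Matrix.of fun i j => (y (e i).1 (e j).1 : F) := by
    intro y
    conv_lhs => rw [eq_sum_single y]
    simp only [map_sum, map_smul, AddSubmonoidClass.coe_finsetSum, SetLike.val_smul, hP, tr_apply,
      cj_smul_tower, cj_inv_cj]
    ext i j
    simp [Matrix.sum_apply, single_apply, ite_and, Subfield.smul_def, one_apply,
      Subsingleton.elim (e i).2 (e j).2]
  refine ⟨P, fun x => ⟨fun hx i j => ?_, fun hx => ?_⟩⟩
  · have := hφ (φ.symm ⟨x, hx⟩)
    rw [AlgEquiv.apply_symm_apply] at this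
    rw [this]; exact SetLike.coe_mem _
  · have : x = φ (Matrix.of fun a b => ⟨_, hx (e.symm (a, 0)) (e.symm (b, 0))⟩) := by
      apply (cj P⁻¹).injective
      rw [hφ]
      ext i j
      have h1 : ∀ i, e.symm ((e i).1, 0) = i := fun i => by
        rw [Equiv.symm_apply_eq]; exact Prod.ext rfl (Subsingleton.elim _ _)
      simp [h1]
    rw [this]; exact SetLike.coe_mem _

theorem Nz.le_subfieldSubgroup {H : Subgroup (GL ι F)} {F₀ : Subfield F} {P : GL ι F}
    {A : Set (Matrix ι ι F)} (h : Nz H A) (hA : ∀ x, x ∈ A ↔ Ratl F₀ P x) :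
    H ≤ subfieldSubgroup F₀ P := fun g hg =>
  mem_subfieldSubgroup_of fun x hx => (hA _).1 (h g hg x ((hA x).2 hx))

theorem span_alg {N : Subgroup (GL ι F)} (hN : alg F N = ⊤) (F₀ : Subfield F) :
    Submodule.span F (alg F₀ N : Set (Matrix ι ι F)) = ⊤ := by
  rw [eq_top_iff]
  intro x _
  refine Submodule.span_mono ?_ (mem_alg_iff.1 (hN ▸ Algebra.mem_top : x ∈ alg F N))
  rintro _ ⟨g, hg, rfl⟩
  exact coe_mem_alg hg

/-- A subalgebra over `F₀` inside the `F₀`-span of at most `n²` matrices has small dimension. -/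
theorem finrank_le_of_le_span {F₀ : Subfield F} {A : Subalgebra F₀ (Matrix ι ι F)} {α : Type*}
    [Fintype α] (b : α → Matrix ι ι F) (h : ∀ x ∈ A, x ∈ Submodule.span F₀ (Set.range b)) :
    finrank F₀ A ≤ Fintype.card α := by
  have : Module.Finite F₀ (Submodule.span F₀ (Set.range b)) :=
    Module.Finite.span_of_finite _ (Set.finite_range b)
  exact (Submodule.finrank_mono (show Subalgebra.toSubmodule A ≤ _ from h)).trans
    (finrank_range_le_card b)

theorem finrank_alg_le_of_realisable {F₀ F₁ : Subfield F} (h01 : F₀ ≤ F₁) {N : Subgroup (GL ι F)}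
    (h : RealisableOver F₀ (matrixSet N)) : finrank F₁ (alg F₁ N) ≤ Fintype.card ι ^ 2 := by
  obtain ⟨B, hB⟩ := h
  refine (finrank_le_of_le_span (fun p : ι × ι => cj B⁻¹ (single p.1 p.2 1)) fun x hx => ?_).trans
    (by simp [sq])
  refine alg_induction (p := fun x => x ∈ Submodule.span F₁ _) (fun g hg => ?_)
    (fun _ _ => add_mem) (fun c _ => Submodule.smul_mem _ c) hx
  rw [← cj_inv_cj B (g : Matrix ι ι F), eq_sum_single (cj B _)]
  simp only [map_sum, map_smul]
  refine Submodule.sum_mem _ fun a _ => Submodule.sum_mem _ fun b _ => ?_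
  exact Submodule.smul_mem _ (⟨_, h01 (hB _ ⟨g, hg, rfl⟩ a b)⟩ : F₁)
    (Submodule.subset_span ⟨(a, b), rfl⟩)

/-- Fixed points of a semilinear map span a small space over the fixed field. -/
theorem finrank_le_of_fixed [Finite F] {σ : F →+* F} {F₀ : Subfield F}
    (hF : ∀ c, c + σ c ∈ F₀) (hσ : ∃ a : F, a + σ a = 1)
    {A : Subalgebra F₀ (Matrix ι ι F)} (θ : Matrix ι ι F →+ Matrix ι ι F)
    (hθ : ∀ (c : F) x, θ (c • x) = σ c • θ x) (hA : ∀ x ∈ A, θ x = x) :
    finrank F₀ A ≤ Fintype.card ι ^ 2 := by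
  obtain ⟨a, ha⟩ := hσ
  let b := finBasis F₀ A
  have hb : LinearIndependent F fun i => (b i : Matrix ι ι F) := by
    have key : ∀ g : _ → F, ∑ i, g i • (b i : Matrix ι ι F) = 0 → ∀ i, g i + σ (g i) = 0 := by
      intro g hg i
      have h1 := congrArg θ hg
      simp only [map_sum, hθ, hA _ (b _).2, map_zero] at h1
      have := Fintype.linearIndependent_iff.1 b.linearIndependent (fun i => ⟨_, hF (g i)⟩)
        (Subtype.ext (by
          simp only [AddSubmonoidClass.coe_finsetSum, SetLike.val_smul, Subfield.smul_def, add_smul,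
            Finset.sum_add_distrib, hg, h1, add_zero, ZeroMemClass.coe_zero])) i
      exact congrArg Subtype.val this
    rw [Fintype.linearIndependent_iff]
    intro g hg i
    by_contra h0
    have := key (fun j => a / g i * g j) (by simp only [mul_smul, ← Finset.smul_sum, hg, smul_zero]) i
    rw [div_mul_cancel₀ _ h0, ha] at this
    exact one_ne_zero this
  simpa [finrank_matrix, sq] using hb.fintype_card_le_finrank

end Cfsg.Lib.Asch
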