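import Cfsg.Agent.Lib.Asch.Norm

/-! Minimal normal subgroups modulo a central subgroup. -/

set_option autoImplicit false

namespace Cfsg.Lib.Asch

open Subgroup
open scoped commutatorElement

variable {G : Type*} [Group G]

/-- The conjugate of a subgroup. -/
def cjs (h : G) (L : Subgroup G) : Subgroup G := L.map (MulAut.conj h).toMonoidHom

theorem mem_cjs {h x : G} {L : Subgroup G} : x ∈ cjs h L ↔ h⁻¹ * x * h ∈ L := by
  constructor
  · rintro ⟨y, hy, rfl⟩; simpa [mul_assoc] using hy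
  · intro hx; exact ⟨_, hx, by simp [mul_assoc]⟩

theorem conj_mem_cjs (h : G) {x : G} {L : Subgroup G} (hx : x ∈ L) : h * x * h⁻¹ ∈ cjs h L :=
  ⟨x, hx, rfl⟩

theorem cjs_mul (g h : G) (L : Subgroup G) : cjs (g * h) L = cjs g (cjs h L) := by
  ext x; simp [mem_cjs, mul_assoc]

@[simp] theorem cjs_one (L : Subgroup G) : cjs 1 L = L := by ext x; simp [mem_cjs]

theorem cjs_commutator (h : G) (L M : Subgroup G) : cjs h ⁅L, M⁆ = ⁅cjs h L, cjs h M⁆ :=
  map_commutator _ _ _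

theorem cjs_mono (h : G) {L M : Subgroup G} (hL : L ≤ M) : cjs h L ≤ cjs h M := map_mono hL

theorem NormBy.cjs_eq {H N : Subgroup G} (hN : NormBy H N) {h : G} (hh : h ∈ H) : cjs h N = N := by
  ext x
  rw [mem_cjs]
  exact ⟨fun hx => by simpa [mul_assoc] using hN h hh _ hx,
    fun hx => by simpa using hN h⁻¹ (H.inv_mem hh) _ hx⟩

theorem normBy_of_cjs_le {H N : Subgroup G} (h : ∀ g ∈ H, cjs g N ≤ N) : NormBy H N :=
  fun g hg _ hx => h g hg (conj_mem_cjs g hx)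

theorem NormBy.commutator {H N M : Subgroup G} (hN : NormBy H N) (hM : NormBy H M) :
    NormBy H ⁅N, M⁆ :=
  normBy_of_cjs_le fun g hg => by rw [cjs_commutator, hN.cjs_eq hg, hM.cjs_eq hg]

theorem NormBy.sup {H N M : Subgroup G} (hN : NormBy H N) (hM : NormBy H M) :
    NormBy H (N ⊔ M) :=
  normBy_of_cjs_le fun g hg => by
    rw [cjs, Subgroup.map_sup]
    exact sup_le_sup (hN.cjs_eq hg).le (hM.cjs_eq hg).le

theorem NormBy.inf {H N M : Subgroup G} (hN : NormBy H N) (hM : NormBy H M) :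
    NormBy H (N ⊓ M) := fun g hg x hx => ⟨hN g hg x hx.1, hM g hg x hx.2⟩

theorem normBy_of_le_center {Z : Subgroup G} (hZ : Z ≤ center G) (H : Subgroup G) : NormBy H Z :=
  fun g _ x hx => by rwa [mem_center_iff.1 (hZ hx) g, mul_inv_cancel_right]

theorem normBy_iff_le {H N : Subgroup G} : NormBy H N ↔ H ≤ normalizer (N : Set G) :=
  ⟨NormBy.le_normalizer, fun h g hg x hx => (mem_normalizer_iff.1 (h hg) x).1 hx⟩

theorem normBy_sup_left {H K N : Subgroup G} (h : NormBy H N) (h' : NormBy K N) :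
    NormBy (H ⊔ K) N := normBy_iff_le.2 (sup_le h.le_normalizer h'.le_normalizer)

theorem normBy_center {Z : Subgroup G} (hZ : Z ≤ center G) (N : Subgroup G) : NormBy Z N :=
  fun g hg x hx => by rwa [← mem_center_iff.1 (hZ hg) x, mul_inv_cancel_right]

theorem mem_sup_center {Z A : Subgroup G} (hZ : Z ≤ center G) {x : G} :
    x ∈ A ⊔ Z ↔ ∃ a ∈ A, ∃ z ∈ Z, x = a * z := by
  have : Z.Normal := ⟨fun n hn g => normBy_of_le_center hZ ⊤ g trivial n hn⟩
  rw [← SetLike.mem_coe, mul_normal]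
  constructor
  · rintro ⟨a, ha, z, hz, rfl⟩; exact ⟨a, ha, z, hz, rfl⟩
  · rintro ⟨a, ha, z, hz, rfl⟩; exact ⟨a, ha, z, hz, rfl⟩

theorem commutator_sup_center {Z : Subgroup G} (hZ : Z ≤ center G) (A B : Subgroup G) :
    ⁅A ⊔ Z, B ⊔ Z⁆ = ⁅A, B⁆ := by
  refine le_antisymm (commutator_le.2 fun x hx y hy => ?_) (commutator_mono le_sup_left le_sup_left)
  obtain ⟨a, ha, z, hz, rfl⟩ := (mem_sup_center hZ).1 hx
  obtain ⟨b, hb, w, hw, rfl⟩ := (mem_sup_center hZ).1 hy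
  have h1 := mem_center_iff.1 (hZ hz)
  have h2 := mem_center_iff.1 (hZ hw)
  have : ⁅a * z, b * w⁆ = ⁅a, b⁆ := by
    simp only [commutatorElement_def, mul_inv_rev, mul_assoc]
    rw [← mul_assoc z, ← h1, mul_assoc, ← mul_assoc z, ← h1, mul_assoc, mul_inv_cancel_left,
      ← mul_assoc w, ← h2, mul_assoc, mul_inv_cancel_left]
  rw [this]
  exact commutator_mem_commutator ha hb

/-- An element centralising `T` modulo a central subgroup centralises `⁅T, T⁆`. -/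
theorem comm_of_commutator_mem {Z T : Subgroup G} (hZ : Z ≤ center G) {y : G}
    (h : ∀ x ∈ T, ⁅x, y⁆ ∈ Z) : ∀ x ∈ ⁅T, T⁆, x * y = y * x := by
  have : ⁅T, T⁆ ≤ centralizer {y} := by
    refine commutator_le.2 fun a ha b hb => ?_
    rw [mem_centralizer_singleton_iff]
    have h1 := mem_center_iff.1 (hZ (h a ha))
    have h2 := mem_center_iff.1 (hZ (h b hb))
    have ea : a * y = y * a * ⁅a, y⁆ := by rw [h1]; simp [commutatorElement_def, mul_assoc]
    have eb : b * y = y * b * ⁅b, y⁆ := by rw [h2]; simp [commutatorElement_def, mul_assoc]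
    generalize ⁅a, y⁆ = u at ea h1
    generalize ⁅b, y⁆ = v at eb h2
    have ea' : a⁻¹ * y = y * a⁻¹ * u⁻¹ := by
      rw [inv_mul_eq_iff_eq_mul, ← mul_assoc, ← mul_assoc, ea, mul_assoc _ u, ← h1]
      simp [mul_assoc]
    have eb' : b⁻¹ * y = y * b⁻¹ * v⁻¹ := by
      rw [inv_mul_eq_iff_eq_mul, ← mul_assoc, ← mul_assoc, eb, mul_assoc _ v, ← h2]
      simp [mul_assoc]
    have h1' : ∀ g, g * u⁻¹ = u⁻¹ * g := fun g => (Commute.inv_right (h1 g)).eq
    have h2' : ∀ g, g * v⁻¹ = v⁻¹ * g := fun g => (Commute.inv_right (h2 g)).eq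
    calc ⁅a, b⁆ * y = a * (b * (a⁻¹ * (b⁻¹ * y))) := by simp [commutatorElement_def, mul_assoc]
      _ = a * (b * (a⁻¹ * y)) * b⁻¹ * v⁻¹ := by rw [eb']; simp only [mul_assoc]
      _ = a * (b * y) * a⁻¹ * u⁻¹ * b⁻¹ * v⁻¹ := by rw [ea']; simp only [mul_assoc]
      _ = (a * y) * b * v * a⁻¹ * u⁻¹ * b⁻¹ * v⁻¹ := by rw [eb]; simp only [mul_assoc]
      _ = y * a * u * b * v * a⁻¹ * u⁻¹ * b⁻¹ * v⁻¹ := by rw [ea]
      _ = y * ⁅a, b⁆ := by
        rw [h2', h2, h1' (v * _ * _), h1 (y * a)]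
        simp only [mul_assoc]
        rw [← mul_assoc u⁻¹, h2, ← mul_assoc v⁻¹, ← mul_assoc v⁻¹, inv_mul_cancel, one_mul,
          inv_mul_cancel_left]
        simp [commutatorElement_def, mul_assoc]
  exact fun x hx => (mem_centralizer_singleton_iff.1 (this hx))

theorem exists_minimal_normBy [Finite G] {Z H K : Subgroup G} (hZ : Z ≤ K) (hK : ¬ K ≤ Z)
    (hN : NormBy H K) : ∃ N, Z ≤ N ∧ ¬ N ≤ Z ∧ N ≤ K ∧ NormBy H N ∧
      ∀ N', Z ≤ N' → N' ≤ N → NormBy H N' → N' ≤ Z ∨ N' = N := by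
  obtain ⟨N, ⟨h1, h2, h3, h4⟩, hm⟩ := (wellFounded_lt (α := Subgroup G)).has_min
    {N | Z ≤ N ∧ ¬ N ≤ Z ∧ N ≤ K ∧ NormBy H N} ⟨K, hZ, hK, le_rfl, hN⟩
  refine ⟨N, h1, h2, h3, h4, fun N' a b c => ?_⟩
  by_cases h : N' ≤ Z
  · exact Or.inl h
  · exact Or.inr (eq_of_le_of_not_lt b (hm N' ⟨a, h, b.trans h3, c⟩))

/-- A minimal normal subgroup that is an elementary abelian `r`-group modulo `Z`. -/
structure AbMin (Z H N : Subgroup G) (r : ℕ) : Prop where
  prime : r.Prime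
  ge : Z ≤ N
  not_le : ¬ N ≤ Z
  le : N ≤ H
  norm : NormBy H N
  pow : ∀ x ∈ N, x ^ r ∈ Z
  comm : ∀ x ∈ N, ∀ y ∈ N, ⁅x, y⁆ ∈ Z
  min : ∀ N', Z ≤ N' → N' ≤ N → NormBy H N' → N' ≤ Z ∨ N' = N

/-- A conjugacy class of commuting quasisimple subgroups. -/
structure QsFam (Z H : Subgroup G) {t : ℕ} (L : Fin t → Subgroup G) : Prop where
  pos : 0 < t
  le : ∀ i, L i ≤ ⁅H, H⁆
  perfect : ∀ i, ⁅L i, L i⁆ = L i
  not_le : ∀ i, ¬ L i ≤ Z
  simple : ∀ i, ∀ M ≤ L i, NormBy (L i) M → M ≤ Z ∨ M = L i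
  comm : ∀ i j, i ≠ j → ∀ x ∈ L i, ∀ y ∈ L j, x * y = y * x
  perm : ∀ h ∈ H, ∀ i, ∃ j, cjs h (L i) = L j
  trans : ∀ i j, ∃ h ∈ H, cjs h (L i) = L j

theorem min_normal_cases [Finite G] {Z H : Subgroup G} (hZ : Z ≤ center G) (hZH : Z ≤ H)
    (hne : ¬ H ≤ Z) :
    (∃ N r, AbMin Z H N r) ∨ ∃ (t : ℕ) (L : Fin t → Subgroup G), QsFam Z H L := by
  have hZn : Z.Normal := ⟨fun n hn g => normBy_of_le_center hZ ⊤ g trivial n hn⟩
  obtain ⟨N, hZN, hNZ, hNH, hN, hmin⟩ := exists_minimal_normBy hZH hne (NormBy.self H)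
  by_cases hab : ⁅N, N⁆ ≤ Z
  · left
    have hc : ∀ x ∈ N, ∀ y ∈ N, ⁅x, y⁆ ∈ Z := fun x hx y hy => hab (commutator_mem_commutator hx hy)
    have hc' : ∀ x ∈ N, ∀ y ∈ N, Commute (x : G ⧸ Z) y := fun x hx y hy => by
      rw [← commutatorElement_eq_one_iff_commute]
      exact (QuotientGroup.eq_one_iff _).2 (hc x hx y hy)
    obtain ⟨x, hx, hxZ⟩ := SetLike.not_le_iff_exists.1 hNZ
    have h1 : orderOf (x : G ⧸ Z) ≠ 1 := by
      rwa [Ne, orderOf_eq_one_iff, QuotientGroup.eq_one_iff]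
    have hr := Nat.minFac_prime h1
    set o := orderOf (x : G ⧸ Z) with ho
    let N' : Subgroup G :=
      { carrier := {y | y ∈ N ∧ y ^ o.minFac ∈ Z}
        one_mem' := ⟨one_mem _, by simpa using one_mem _⟩
        mul_mem' := fun {a b} ha hb => ⟨mul_mem ha.1 hb.1, by
          rw [← QuotientGroup.eq_one_iff, QuotientGroup.mk_pow, QuotientGroup.mk_mul,
            (hc' a ha.1 b hb.1).mul_pow, ← QuotientGroup.mk_pow, ← QuotientGroup.mk_pow,
            (QuotientGroup.eq_one_iff _).2 ha.2, (QuotientGroup.eq_one_iff _).2 hb.2, one_mul]⟩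
        inv_mem' := fun {a} ha => ⟨inv_mem ha.1, by rw [inv_pow]; exact inv_mem ha.2⟩ }
    have h2 := hmin N' (fun z hz => ⟨hZN hz, pow_mem hz _⟩) (fun _ h => h.1)
      fun g hg y hy => ⟨hN g hg y hy.1, by rw [conj_pow]; exact hZn.conj_mem _ hy.2 g⟩
    rcases h2 with h2 | h2
    · exfalso
      have h3 : x ^ (o / o.minFac) ∈ Z := h2 ⟨pow_mem hx _, by
        rw [← pow_mul, Nat.div_mul_cancel o.minFac_dvd, ← QuotientGroup.eq_one_iff,
          QuotientGroup.mk_pow, pow_orderOf_eq_one]⟩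
      rw [← QuotientGroup.eq_one_iff, QuotientGroup.mk_pow] at h3
      have hpos : 0 < o := orderOf_pos _
      exact pow_ne_one_of_lt_orderOf (Nat.div_pos (Nat.minFac_le hpos) hr.pos).ne'
        (Nat.div_lt_self hpos hr.one_lt) h3
    · exact ⟨N, _, hr, hZN, hNZ, hNH, hN, fun y hy => (h2 ▸ hy : y ∈ N').2, hc, hmin⟩
  right
  obtain ⟨T, hZT, hTZ, hTN, hT, hTm⟩ := exists_minimal_normBy hZN hNZ (NormBy.self N)
  -- the conjugates of `T`
  have cZ : ∀ h, cjs h Z = Z := fun h => (normBy_of_le_center hZ ⊤).cjs_eq trivial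
  have cinv : ∀ (h : G) (A : Subgroup G), cjs h⁻¹ (cjs h A) = A := fun h A => by
    rw [← cjs_mul, inv_mul_cancel, cjs_one]
  have cN : ∀ h ∈ H, ∀ A, NormBy N A → NormBy N (cjs h A) := by
    intro h hh A hA n hn x hx
    rw [mem_cjs] at hx ⊢
    have := hA _ (hN h⁻¹ (H.inv_mem hh) n hn) _ hx
    simpa [mul_assoc] using this
  have c1 : ∀ h, Z ≤ cjs h T := fun h => cZ h ▸ cjs_mono h hZT
  have c2 : ∀ h, ¬ cjs h T ≤ Z := fun h hc => hTZ (cinv h T ▸ cZ h⁻¹ ▸ cjs_mono h⁻¹ hc)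
  have c3 : ∀ h ∈ H, cjs h T ≤ N := fun h hh => hN.cjs_eq hh ▸ cjs_mono h hTN
  have c4 : ∀ h ∈ H, ∀ A, Z ≤ A → A ≤ cjs h T → NormBy N A → A ≤ Z ∨ A = cjs h T := by
    intro h hh A h1 h2 h3
    rcases hTm (cjs h⁻¹ A) (cZ h⁻¹ ▸ cjs_mono _ h1) (cinv h T ▸ cjs_mono _ h2)
      (cN _ (H.inv_mem hh) _ h3) with h4 | h4
    · left
      have := cjs_mono h h4
      rwa [cZ, ← cjs_mul, mul_inv_cancel, cjs_one] at this
    · right; rw [← h4, ← cjs_mul, mul_inv_cancel, cjs_one]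
  have c5 : ∀ h ∈ H, ∀ k ∈ H, cjs h T ≠ cjs k T → ∀ x ∈ cjs h T, ∀ y ∈ cjs k T, ⁅x, y⁆ ∈ Z := by
    intro h hh k hk hne x hx y hy
    have hI : cjs h T ⊓ cjs k T ≤ Z := by
      have hn := (cN h hh T hT).inf (cN k hk T hT)
      rcases c4 h hh _ (le_inf (c1 h) (c1 k)) inf_le_left hn with h1 | h1
      · exact h1
      rcases c4 k hk _ (le_inf (c1 h) (c1 k)) inf_le_right hn with h2 | h2
      · exact h2
      exact absurd (h1.symm.trans h2) hne
    refine hI ⟨?_, ?_⟩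
    · rw [commutatorElement_def, mul_assoc, mul_assoc, ← mul_assoc y]
      exact mul_mem hx (cN h hh T hT y (c3 k hk hy) _ (inv_mem hx))
    · exact (cjs k T).mul_mem (cN k hk T hT x (c3 h hh hx) _ hy) ((cjs k T).inv_mem hy)
  have hsup : ⨆ h ∈ H, cjs h T = N := by
    have h1 : T ≤ ⨆ h ∈ H, cjs h T := le_iSup₂_of_le 1 H.one_mem (by simp)
    refine (hmin _ (hZT.trans h1) (iSup₂_le c3) (normBy_of_cjs_le fun g hg => ?_)).resolve_left
      fun h => hTZ (h1.trans h)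
    simp only [cjs, Subgroup.map_iSup]
    exact iSup₂_le fun h hh => le_iSup₂_of_le (g * h) (H.mul_mem hg hh) (cjs_mul g h T).ge
  have hTT : ¬ ⁅T, T⁆ ≤ Z := by
    intro hc
    apply hab
    have key : ∀ h ∈ H, ∀ k ∈ H, ∀ x ∈ cjs h T, ∀ y ∈ cjs k T, ⁅x, y⁆ ∈ Z := by
      intro h hh k hk x hx y hy
      by_cases he : cjs h T = cjs k T
      · have := cjs_mono k hc
        rw [cZ, cjs_commutator] at this
        exact this (commutator_mem_commutator (he ▸ hx) hy)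
      · exact c5 h hh k hk he x hx y hy
    have hq : ∀ A B : Subgroup G, (∀ x ∈ A, ∀ y ∈ B, ⁅x, y⁆ ∈ Z) ↔
        A ≤ (centralizer (B.map (QuotientGroup.mk' Z))).comap (QuotientGroup.mk' Z) := by
      intro A B
      refine forall₂_congr fun x _ => ?_
      rw [mem_comap, mem_centralizer_iff]
      constructor
      · rintro h _ ⟨y, hy, rfl⟩
        have := (QuotientGroup.eq_one_iff _).2 (h y hy)
        exact (commutatorElement_eq_one_iff_mul_comm.1 this).symm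
      · intro h y hy
        rw [← QuotientGroup.eq_one_iff]
        exact commutatorElement_eq_one_iff_mul_comm.2 (h _ ⟨y, hy, rfl⟩).symm
    rw [commutator_le, hq]
    conv_lhs => rw [← hsup]
    refine iSup₂_le fun h hh => (hq _ _).1 fun x hx y hy => ?_
    rw [← commutatorElement_inv]
    refine inv_mem ?_
    revert x y
    rw [forall₂_comm, hq, ← hsup]
    exact iSup₂_le fun k hk => (hq _ _).1 (key k hk h hh)
  have hL : ∀ h ∈ H, cjs h ⁅T, T⁆ ⊔ Z = cjs h T := by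
    intro h hh
    refine (c4 h hh _ le_sup_right (sup_le (cjs_mono h (commutator_le_self T)) (c1 h))
      ((cN h hh _ (hT.commutator hT)).sup (normBy_of_le_center hZ N))).resolve_left fun hc => ?_
    exact hTT (cinv h ⁅T, T⁆ ▸ cZ h⁻¹ ▸ cjs_mono h⁻¹ (le_sup_left.trans hc))
  have hperf : ∀ h ∈ H, ⁅cjs h ⁅T, T⁆, cjs h ⁅T, T⁆⁆ = cjs h ⁅T, T⁆ := fun h hh => by
    rw [← commutator_sup_center hZ, hL h hh, cjs_commutator]
  have hcomm : ∀ h ∈ H, ∀ k ∈ H, cjs h T ≠ cjs k T → ∀ x ∈ cjs h ⁅T, T⁆, ∀ y ∈ cjs k T,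
      x * y = y * x := fun h hh k hk hne x hx y hy =>
    comm_of_commutator_mem hZ (fun x hx => c5 h hh k hk hne x hx y hy) x (cjs_commutator h T T ▸ hx)
  let S : Set (Subgroup G) := {L | ∃ h ∈ H, cjs h ⁅T, T⁆ = L}
  obtain ⟨t, ⟨b⟩⟩ := Finite.exists_equiv_fin S
  have hb : ∀ h ∈ H, ∃ j, cjs h ⁅T, T⁆ = b.symm j := fun h hh => ⟨b ⟨_, h, hh, rfl⟩, by simp⟩
  refine ⟨t, fun i => b.symm i, Fin.pos (b ⟨_, 1, H.one_mem, rfl⟩), fun i => ?_, fun i => ?_,
    fun i => ?_, fun i => ?_, fun i j hij => ?_, fun g hg i => ?_, fun i j => ?_⟩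
  all_goals obtain ⟨h, hh, hi⟩ := (b.symm i).2
  all_goals rw [← hi]
  · rw [cjs_commutator]
    exact commutator_mono ((c3 h hh).trans hNH) ((c3 h hh).trans hNH)
  · exact hperf h hh
  · intro hc
    exact c2 h (hL h hh ▸ sup_le hc le_rfl)
  · intro M hM hMn
    have h1 : NormBy N (M ⊔ Z) := by
      refine NormBy.sup ?_ (normBy_of_le_center hZ N)
      rw [normBy_iff_le, ← hsup]
      refine iSup₂_le fun k hk => normBy_iff_le.1 ?_
      by_cases he : cjs h T = cjs k T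
      · rw [← he, ← hL h hh]
        exact normBy_sup_left hMn (normBy_center hZ M)
      · intro y hy x hx
        rwa [← hcomm h hh k hk he x (hM hx) y hy, mul_inv_cancel_right]
    rcases c4 h hh _ le_sup_right (sup_le (hM.trans (cjs_mono h (commutator_le_self T))) (c1 h)) h1
      with h2 | h2
    · exact Or.inl (le_sup_left.trans h2)
    · refine Or.inr (le_antisymm hM ?_)
      rw [cjs_commutator, ← h2, commutator_sup_center hZ]
      exact commutator_le_self M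
  · obtain ⟨k, hk, hj⟩ := (b.symm j).2
    rw [← hj]
    intro x hx y hy
    refine hcomm h hh k hk (fun he => hij (b.symm.injective (Subtype.ext ?_))) x hx y
      (cjs_mono k (commutator_le_self T) hy)
    rw [← hi, ← hj, cjs_commutator, cjs_commutator, he]
  · rw [← cjs_mul]; exact hb _ (H.mul_mem hg hh)
  · obtain ⟨k, hk, hj⟩ := (b.symm j).2
    exact ⟨k * h⁻¹, H.mul_mem hk (H.inv_mem hh), by rw [← hj, ← cjs_mul, inv_mul_cancel_right]⟩

theorem QsFam.normBy_iSup {Z H : Subgroup G} {t : ℕ} {L : Fin t → Subgroup G} (h : QsFam Z H L) :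
    NormBy H (⨆ i, L i) := normBy_of_cjs_le fun g hg => by
  simp only [cjs, Subgroup.map_iSup]
  refine iSup_le fun i => ?_
  obtain ⟨j, hj⟩ := h.perm g hg i
  exact le_iSup_of_le j hj.le

theorem QsFam.isSimpleGroup {Z H : Subgroup G} [Z.Normal] {t : ℕ} {L : Fin t → Subgroup G}
    (h : QsFam Z H L) (i : Fin t) : IsSimpleGroup (L i ⧸ Z.subgroupOf (L i)) := by
  have : Nontrivial (L i ⧸ Z.subgroupOf (L i)) := by
    rw [QuotientGroup.nontrivial_iff, Ne, subgroupOf_eq_top]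
    exact h.not_le i
  refine ⟨fun M hM => ?_⟩
  have hn : (M.comap (QuotientGroup.mk' _)).Normal := hM.comap _
  rcases h.simple i ((M.comap (QuotientGroup.mk' _)).map (L i).subtype) (map_subtype_le _) (by
    rintro g hg _ ⟨x, hx, rfl⟩
    exact ⟨_, hn.conj_mem x hx ⟨g, hg⟩, rfl⟩) with h1 | h1
  · left
    rw [eq_bot_iff]
    intro x hx
    obtain ⟨y, rfl⟩ := QuotientGroup.mk_surjective x
    exact (QuotientGroup.eq_one_iff _).2 (h1 ⟨y, hx, rfl⟩)
  · right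
    rw [eq_top_iff]
    intro x _
    obtain ⟨y, rfl⟩ := QuotientGroup.mk_surjective x
    obtain ⟨z, hz, hzy⟩ : (y : G) ∈ (M.comap (QuotientGroup.mk' _)).map (L i).subtype :=
      h1.symm ▸ y.2
    obtain rfl : z = y := Subtype.ext hzy
    exact hz

theorem QsFam.not_isMulCommutative {Z H : Subgroup G} [Z.Normal] {t : ℕ} {L : Fin t → Subgroup G}
    (h : QsFam Z H L) (i : Fin t) : ¬ IsMulCommutative (L i ⧸ Z.subgroupOf (L i)) := by
  intro hc
  apply h.not_le i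
  rw [← h.perfect i, commutator_le]
  intro x hx y hy
  have := hc.is_comm.comm (QuotientGroup.mk ⟨x, hx⟩) (QuotientGroup.mk ⟨y, hy⟩)
  rw [← commutatorElement_eq_one_iff_mul_comm] at this
  exact (QuotientGroup.eq_one_iff (⁅(⟨x, hx⟩ : L i), (⟨y, hy⟩ : L i)⁆)).1 this

end Cfsg.Lib.Asch
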