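import Cfsg.Agent.Lib.Asch.Norm

/-! Tensor powers of matrix algebras. -/

set_option autoImplicit false

namespace Cfsg.Lib.Asch

open Matrix Cfsg.Geo
open scoped MatrixGroups Kronecker

variable {ι κ : Type} [Fintype ι] [DecidableEq ι] [Fintype κ] [DecidableEq κ]
  {F : Type*} [Field F] {t : ℕ}

/-- The tensor product of `t` matrices. -/
def pure (gs : Fin t → Matrix κ κ F) : Matrix (Fin t → κ) (Fin t → κ) F :=
  Matrix.of fun x y => ∏ i, gs i (x i) (y i)

omit [Fintype κ] [DecidableEq κ] in
theorem pure_apply (gs : Fin t → Matrix κ κ F) (x y : Fin t → κ) :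
    pure gs x y = ∏ i, gs i (x i) (y i) := rfl

omit [DecidableEq κ] in
theorem pure_mul (gs hs : Fin t → Matrix κ κ F) : pure (gs * hs) = pure gs * pure hs := by
  ext x y
  simp only [pure_apply, mul_apply, Pi.mul_apply, ← Finset.prod_mul_distrib]
  rw [Finset.prod_univ_sum, Fintype.piFinset_univ]

omit [Fintype κ] in
theorem pure_single (x y : Fin t → κ) :
    pure (fun i => single (x i) (y i) (1 : F)) = single x y 1 := by
  ext z w
  simp only [pure_apply, single_apply, Finset.prod_ite_zero, Finset.mem_univ, forall_const,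
    Finset.prod_const_one, forall_and, ← funext_iff]

omit [Fintype κ] in
theorem pure_one : pure (1 : Fin t → Matrix κ κ F) = 1 := by
  ext z w
  simp only [pure_apply, Pi.one_apply, one_apply, Finset.prod_ite_zero, Finset.mem_univ,
    forall_const, Finset.prod_const_one, ← funext_iff]

/-- `pure` as a monoid hom. -/
def pureHom (t : ℕ) (κ : Type) [Fintype κ] [DecidableEq κ] (F : Type*) [Field F] :
    (Fin t → Matrix κ κ F) →* Matrix (Fin t → κ) (Fin t → κ) F where
  toFun := pure
  map_one' := pure_one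
  map_mul' := pure_mul

omit [Fintype κ] [DecidableEq κ] in
theorem pure_update (gs : Fin t → Matrix κ κ F) (i : Fin t) (a : Matrix κ κ F) (x y : Fin t → κ) :
    pure (Function.update gs i a) x y =
      a (x i) (y i) * ∏ j ∈ Finset.univ.erase i, gs j (x j) (y j) := by
  rw [pure_apply, ← Finset.mul_prod_erase _ _ (Finset.mem_univ i), Function.update_self]
  congr 1
  exact Finset.prod_congr rfl fun j hj => by rw [Function.update_of_ne (Finset.ne_of_mem_erase hj)]

/-- The `i`-th tensor factor. -/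
def slot (i : Fin t) : Matrix κ κ F →ₐ[F] Matrix (Fin t → κ) (Fin t → κ) F where
  toFun a := pure (Pi.mulSingle i a)
  map_one' := by rw [Pi.mulSingle_one, pure_one]
  map_mul' a b := by rw [Pi.mulSingle_mul, pure_mul]
  map_zero' := by ext x y; simp [Pi.mulSingle, pure_update]
  map_add' a b := by ext x y; simp [Pi.mulSingle, pure_update, add_mul]
  commutes' c := by
    rw [Algebra.algebraMap_eq_smul_one, Algebra.algebraMap_eq_smul_one, ← pure_one,
      ← Pi.mulSingle_one i]
    ext x y; simp only [Pi.mulSingle, pure_update, Matrix.smul_apply, smul_eq_mul, mul_assoc]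

theorem slot_apply (i : Fin t) (a : Matrix κ κ F) : slot i a = pure (Pi.mulSingle i a) := rfl

theorem slot_injective [Nonempty κ] (i : Fin t) :
    Function.Injective (slot i : Matrix κ κ F →ₐ[F] _) :=
  (slot (κ := κ) (F := F) i).toRingHom.injective

theorem slot_comm {i j : Fin t} (h : i ≠ j) (a b : Matrix κ κ F) :
    slot i a * slot j b = slot j b * slot i a := by
  rw [slot_apply, slot_apply, ← pure_mul, ← pure_mul]
  exact congrArg pure (Pi.mulSingle_commute (f := fun _ => Matrix κ κ F) h a b).eq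

theorem pure_mul_slot (gs hs : Fin t → Matrix κ κ F) (i : Fin t) {a b : Matrix κ κ F}
    (h : gs i * a = b * hs i) (h' : ∀ j, j ≠ i → gs j = hs j) :
    pure gs * slot i a = slot i b * pure hs := by
  rw [slot_apply, slot_apply, ← pure_mul, ← pure_mul]
  congr 1
  funext j
  by_cases hj : j = i
  · subst hj; simpa using h
  · simp [Pi.mulSingle_eq_of_ne hj, h' j hj]

theorem comm_pure_of_comm_slot {z : Matrix (Fin t → κ) (Fin t → κ) F}
    (h : ∀ i a, z * slot i a = slot i a * z) (gs : Fin t → Matrix κ κ F) :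
    z * pure gs = pure gs * z := by
  have : gs ∈ (Submonoid.centralizer {z}).comap (pureHom t κ F) := by
    rw [← Finset.noncommProd_mulSingle gs]
    refine Submonoid.noncommProd_mem _ _ _ _ fun i _ => ?_
    rintro _ rfl
    exact h i _
  exact this z rfl

theorem isSc_of_comm_slot {z : Matrix (Fin t → κ) (Fin t → κ) F}
    (h : ∀ i a, z * slot i a = slot i a * z) : IsSc z :=
  isSc_of_comm_single fun a b => pure_single (F := F) a b ▸ comm_pure_of_comm_slot h _

/-- Commuting matrix algebras with scalar centraliser give a tensor power decomposition. -/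
theorem exists_tr_power [Nonempty κ] [Nonempty ι] (φ : Fin t → Matrix κ κ F →ₐ[F] Matrix ι ι F)
    (hc : ∀ i j, i ≠ j → ∀ a b, φ i a * φ j b = φ j b * φ i a)
    (hg : ∀ z, (∀ i a, z * φ i a = φ i a * z) → IsSc z) :
    ∃ (e : ι ≃ (Fin t → κ)) (P : GL ι F), ∀ i a, φ i a = tr e P (slot i a) := by
  let Φ : (Fin t → Matrix κ κ F) →* Matrix ι ι F :=
    MonoidHom.noncommPiCoprod (fun i => (φ i : Matrix κ κ F →* Matrix ι ι F)) fun i j h a b =>
      hc i j h a b
  have h1 : ∀ i a, Φ (Pi.mulSingle i a) = φ i a := fun i a =>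
    MonoidHom.noncommPiCoprod_mulSingle (N := fun _ => Matrix κ κ F) _ i a
  have h2 : ∀ [DecidableEq (Fin t)] f i a,
      Φ (Function.update f i a) = Φ (Function.update f i 1) * φ i a := by
    intro _ f i a
    rw [← h1, ← map_mul]
    congr 1
    funext j
    by_cases hj : j = i
    · subst hj; simp
    · simp [hj]
  let Ψ : MultilinearMap F (fun _ : Fin t => Matrix κ κ F) (Matrix ι ι F) :=
    { toFun := Φ
      map_update_add' := fun f i a b => by rw [h2, h2 f i a, h2 f i b, map_add, mul_add]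
      map_update_smul' := fun f i c a => by rw [h2, h2 f i a, map_smul, mul_smul_comm] }
  have h3 : ∀ gs, Φ gs = ∑ x, ∑ y, pure gs x y • Φ fun i => single (x i) (y i) 1 := by
    intro gs
    have : gs = fun i => ∑ p : κ × κ, gs i p.1 p.2 • single p.1 p.2 (1 : F) := funext fun i => by
      rw [Fintype.sum_prod_type]; exact eq_sum_single _
    change Ψ gs = _
    conv_lhs => rw [this]
    rw [Ψ.map_sum, ← Fintype.sum_prod_type',
      ← (Equiv.arrowProdEquivProdArrow (Fin t) (fun _ => κ) fun _ => κ).sum_comp]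
    exact Finset.sum_congr rfl fun r _ => Ψ.map_smul_univ _ _
  obtain ⟨l, e, P, hP⟩ := exists_tr_of_units (κ := Fin t → κ)
    (fun x y => Φ fun i => single (x i) (y i) 1) (fun a b c d => by
      rw [← map_mul]
      split_ifs with h
      · subst h
        congr 1
        funext i
        simp
      · obtain ⟨i, hi⟩ := Function.ne_iff.1 h
        exact Ψ.map_coord_zero (m := (fun i => single (a i) (b i) 1) * fun i => single (c i) (d i) 1)
          i (by rw [Pi.mul_apply, single_mul_single', if_neg hi]))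
    (by
      rw [← map_one Φ, h3 1, pure_one]
      exact Finset.sum_congr rfl fun x _ => by simp [one_apply])
  have h4 : ∀ gs, Φ gs = tr e P (kl _ _ F (pure gs)) := fun gs => by
    rw [h3, kl_apply, kron_one_eq_sum]
    simp only [map_sum, map_smul, hP]
  have hl : l = 1 := by
    have h0 : l ≠ 0 := by
      rintro rfl
      exact (e (Classical.arbitrary ι)).2.elim0
    by_contra hl
    refine not_comm_top (ι := Fin l) (F := F) (by simp; omega) fun x y => ?_
    have : NeZero l := ⟨h0⟩
    have := hg (tr e P (kr _ _ F x)) fun i a => by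
      rw [← h1, h4, ← map_mul, ← map_mul, kl_mul_kr, kr_mul_kl]
    apply kr_injective (κ := Fin t → κ)
    apply (tr e P).injective
    simp only [map_mul]
    exact this.comm _
  subst hl
  refine ⟨e.trans (Equiv.prodUnique _ _), P, fun i a => ?_⟩
  rw [← h1, h4, tr_apply, tr_apply, slot_apply]
  congr 1
  ext i j
  simp [kl_apply, one_apply, Subsingleton.elim (e i).2 (e j).2]

/-- The matrix permuting the tensor factors. -/
def fperm (σ : Equiv.Perm (Fin t)) (κ : Type) [Fintype κ] [DecidableEq κ] (F : Type*) [Field F] :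
    GL (Fin t → κ) F where
  val := Matrix.of fun x y => if y = x ∘ σ then 1 else 0
  inv := Matrix.of fun x y => if x = y ∘ σ then 1 else 0
  val_inv := by
    ext x y
    simp only [mul_apply, of_apply, ite_mul, one_mul, zero_mul, Finset.sum_ite_eq', Finset.mem_univ,
      if_true, one_apply, σ.surjective.injective_comp_right.eq_iff]
  inv_val := by
    apply mul_eq_one_comm.1
    ext x y
    simp only [mul_apply, of_apply, ite_mul, one_mul, zero_mul, Finset.sum_ite_eq', Finset.mem_univ,
      if_true, one_apply, σ.surjective.injective_comp_right.eq_iff]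

theorem cj_fperm_pure (σ : Equiv.Perm (Fin t)) (gs : Fin t → Matrix κ κ F) :
    cj (fperm σ κ F) (pure gs) = pure (gs ∘ σ.symm) := by
  ext x y
  have : ((fperm σ κ F)⁻¹ : GL _ F) = (fperm σ κ F).inv := rfl
  simp only [cj_apply, this]
  simp only [fperm, mul_apply, of_apply, ite_mul, one_mul, zero_mul, Finset.sum_ite_eq',
    Finset.mem_univ, if_true, mul_ite, mul_one, mul_zero, pure_apply, Function.comp_apply]
  rw [← Equiv.prod_comp σ fun i => gs (σ.symm i) (x i) (y i)]
  simp

theorem cj_fperm_slot (σ : Equiv.Perm (Fin t)) (i : Fin t) (a : Matrix κ κ F) :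
    cj (fperm σ κ F) (slot i a) = slot (σ i) a := by
  rw [slot_apply, slot_apply, cj_fperm_pure]
  congr 1
  funext j
  obtain ⟨j, rfl⟩ := σ.surjective j
  simp [Pi.mulSingle_apply]

/-- The tensor product of invertible matrices. -/
def pureGL (gs : Fin t → GL κ F) : GL (Fin t → κ) F :=
  Units.map (pureHom t κ F) (MulEquiv.piUnits.symm gs)

theorem coe_pureGL (gs : Fin t → GL κ F) :
    (pureGL gs : Matrix (Fin t → κ) (Fin t → κ) F) = pure fun i => (gs i : Matrix κ κ F) := rfl

theorem cj_pureGL_slot (gs : Fin t → GL κ F) (i : Fin t) (a : Matrix κ κ F) :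
    cj (pureGL gs) (slot i a) = slot i (cj (gs i) a) := by
  rw [cj_eq_iff, coe_pureGL]
  exact pure_mul_slot _ _ i (cj_mul_self _ _).symm fun _ _ => rfl

theorem exists_eq_fperm_mul (h2 : 2 ≤ Fintype.card κ) {g : GL (Fin t → κ) F}
    (h : ∀ i, ∃ j, ∀ a, ∃ b, cj g (slot i a) = slot j b) :
    ∃ (σ : Equiv.Perm (Fin t)) (gs : Fin t → GL κ F) (c : Fˣ),
      g = fperm σ κ F * pureGL gs * sc _ c := by
  have : Nonempty κ := Fintype.card_pos_iff.1 (by omega)
  choose π hπ using h
  choose a ha using fun i => exists_cj_of_range (slot_injective (π i)) (hπ i)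
  have hi : Function.Injective π := by
    intro i j hij
    by_contra hne
    refine not_comm_top (F := F) h2 fun x y => slot_injective (π i) ?_
    rw [map_mul, map_mul, ← cj_cj_inv (a i) x, ← cj_cj_inv (a j) y, ← ha, hij, ← ha, ← map_mul,
      ← map_mul, slot_comm hne]
  let σ := Equiv.ofBijective π hi.bijective_of_finite
  obtain ⟨c, hc⟩ : (fperm σ κ F * pureGL a)⁻¹ * g ∈ scalars _ F := by
    rw [mem_scalars_iff_isSc]
    refine isSc_of_comm_slot fun i x => cj_eq_iff.1 ?_
    rw [cj_mul, ha, ← show σ i = π i from rfl, ← cj_fperm_slot, ← cj_pureGL_slot, ← cj_mul,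
      ← cj_mul, mul_assoc, inv_mul_cancel, cj_one]
  exact ⟨σ, a, c, by rw [sc, hc, mul_inv_cancel_left]⟩

theorem mem_tensorWreathStandard_of {k : ℕ} (hk : 2 ≤ k) (ht : 0 < t) {g : GL (Fin t → Fin k) F}
    (h : ∀ i, ∃ j, ∀ a, ∃ b, cj g (slot i a) = slot j b) : g ∈ tensorWreathStandard k t F := by
  obtain ⟨σ, gs, c, rfl⟩ := exists_eq_fperm_mul (by simpa using hk) h
  refine mul_mem (mul_mem (Subgroup.subset_closure (Or.inr ⟨σ, fun _ _ => rfl⟩))
    (Subgroup.subset_closure (Or.inl ⟨gs, fun _ _ => rfl⟩)))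
    (Subgroup.subset_closure (Or.inl ⟨Pi.mulSingle ⟨0, ht⟩ (sc _ c), fun x y => ?_⟩))
  have : (sc (Fin t → Fin k) c : Matrix (Fin t → Fin k) (Fin t → Fin k) F) = slot ⟨0, ht⟩ (sc (Fin k) c : Matrix (Fin k) (Fin k) F) := by
    rw [coe_sc, coe_sc, map_smul, map_one]
  rw [this, slot_apply, pure_apply]
  refine Finset.prod_congr rfl fun i _ => ?_
  by_cases hi : i = ⟨0, ht⟩
  · subst hi; simp
  · simp [hi]

theorem mem_tensorWreathSubgroup_of {k : ℕ} (hk : 2 ≤ k) (ht : 0 < t) (e : ι ≃ (Fin t → Fin k))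
    (P : GL ι F) {g : GL ι F}
    (h : ∀ i, ∃ j, ∀ a, ∃ b, cj g (tr e P (slot i a)) = tr e P (slot j b)) :
    g ∈ tensorWreathSubgroup k t e P := by
  rw [tensorWreathSubgroup, mem_map_map_iff]
  refine mem_tensorWreathStandard_of hk ht fun i => ?_
  obtain ⟨j, hj⟩ := h i
  refine ⟨j, fun a => ?_⟩
  obtain ⟨b, hb⟩ := hj a
  exact ⟨b, (tr e P).injective (by rw [tr_symm_cj, hb])⟩

theorem cj_slot_of_mem_tensorWreath {k : ℕ} {e : ι ≃ (Fin t → Fin k)} {P g : GL ι F}
    (h : g ∈ tensorWreathSubgroup k t e P) : ∃ σ : Equiv.Perm (Fin t), ∃ gs : Fin t → GL (Fin k) F,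
      ∀ i a, cj g (tr e P (slot i a)) = tr e P (slot (σ i) (cj (gs i) a)) := by
  rw [tensorWreathSubgroup, mem_map_map_iff] at h
  simp only [← tr_symm_cj, EmbeddingLike.apply_eq_iff_eq]
  generalize (trGL e P).symm g = x at h
  induction h using Subgroup.closure_induction with
  | mem x hx =>
    rcases hx with ⟨gs, hgs⟩ | ⟨σ, hσ⟩
    · obtain rfl : x = pureGL gs := Units.ext (Matrix.ext hgs)
      exact ⟨1, gs, cj_pureGL_slot gs⟩
    · obtain rfl : x = fperm σ _ F := Units.ext (Matrix.ext hσ)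
      exact ⟨σ, 1, by simp [cj_fperm_slot]⟩
  | one => exact ⟨1, 1, by simp⟩
  | mul x y _ _ hx hy =>
    obtain ⟨σ, gs, hx⟩ := hx
    obtain ⟨τ, hs, hy⟩ := hy
    exact ⟨σ * τ, fun i => gs (τ i) * hs i, fun i a => by rw [cj_mul, hy, hx, cj_mul]; rfl⟩
  | inv x _ hx =>
    obtain ⟨σ, gs, hx⟩ := hx
    refine ⟨σ⁻¹, fun i => (gs (σ⁻¹ i))⁻¹, fun i a => (cj x).injective ?_⟩
    rw [cj_cj_inv, hx, cj_cj_inv]; simp

end Cfsg.Lib.Asch
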