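import Cfsg.Agent.Lib.Asch.Comm
import Cfsg.Agent.Lib.Asch.Power
import Cfsg.Agent.Lib.Asch.MinNormal

/-! The form-free core of the subgroup structure theorem. -/

set_option autoImplicit false

namespace Cfsg.Lib.Asch

open Matrix Cfsg.Geo Module
open scoped MatrixGroups Kronecker commutatorElement

variable {ι : Type} [Fintype ι] [DecidableEq ι] {F : Type*} [Field F]

/-- Every normal subgroup of `H` is scalar or absolutely irreducible. -/
def QP (H : Subgroup (GL ι F)) : Prop := ∀ N ≤ H, NormBy H N → N ≤ scalars ι F ∨ alg F N = ⊤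

theorem Irr.qp_or_tensor [Finite F] [Nonempty ι] {H : Subgroup (GL ι F)} (hH : Irr H)
    (hc : ∀ N ≤ H, NormBy H N → ∀ x ∈ cen (alg F N), IsSc x) :
    QP H ∨ ∃ N ≤ H, NormBy H N ∧ ∃ (n₁ n₂ : ℕ) (e : ι ≃ Fin n₁ × Fin n₂) (P : GL ι F),
      2 ≤ n₁ ∧ 2 ≤ n₂ ∧ ∀ x, x ∈ alg F N ↔ ∃ y, x = tr e P (kl _ _ F y) := by
  by_contra h
  push Not at h
  refine h.1 fun N hN hn => ?_
  rcases hH.trichotomy hn.nz (fun x hx h => hc N hN hn x (mem_cen.2 ⟨hx, h⟩)) with h1 | h1 |
    ⟨n₁, n₂, e, P, h1, h2, h3⟩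
  · exact Or.inl fun g hg => mem_scalars_iff_isSc.2 (h1 _ (coe_mem_alg hg))
  · exact Or.inr h1
  · obtain ⟨x, hx⟩ := h.2 N hN hn n₁ n₂ e P h1 h2
    have := h3 x
    tauto

theorem inf_scalars_le_center (H : Subgroup (GL ι F)) :
    scalars ι F ⊓ H ≤ Subgroup.center (GL ι F) := inf_le_left.trans scalars_le_center

theorem Irr.min_normal_cases [Finite F] (h2 : 2 ≤ Fintype.card ι) {H : Subgroup (GL ι F)}
    (hH : Irr H) : (∃ N r, AbMin (scalars ι F ⊓ H) H N r) ∨
      ∃ (t : ℕ) (L : Fin t → Subgroup (GL ι F)), QsFam (scalars ι F ⊓ H) H L :=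
  Asch.min_normal_cases (inf_scalars_le_center H) inf_le_right fun h =>
    not_irr_of_le_scalars h2 (h.trans inf_le_left) hH

section QsFam

variable {H : Subgroup (GL ι F)} {t : ℕ} {L : Fin t → Subgroup (GL ι F)}

theorem QsFam.le' {Z : Subgroup (GL ι F)} (h : QsFam Z H L) (i : Fin t) : L i ≤ H :=
  (h.le i).trans (Subgroup.commutator_le_self H)

theorem QsFam.not_le_scalars (h : QsFam (scalars ι F ⊓ H) H L) (i : Fin t) :
    ¬ L i ≤ scalars ι F := fun hc => h.not_le i (le_inf hc (h.le' i))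

theorem QsFam.alg_iSup (h : QsFam (scalars ι F ⊓ H) H L) (hQ : QP H) : alg F (⨆ i, L i) = ⊤ :=
  (hQ _ (iSup_le h.le') h.normBy_iSup).resolve_left fun hc =>
    h.not_le_scalars ⟨0, h.pos⟩ ((le_iSup L _).trans hc)

theorem QsFam.normBy (h : QsFam (scalars ι F ⊓ H) H L) (i : Fin t) : NormBy (⨆ i, L i) (L i) := by
  rw [normBy_iff_le]
  refine iSup_le fun j => normBy_iff_le.1 ?_
  by_cases hj : j = i
  · subst hj; exact NormBy.self _
  · intro g hg x hx
    rwa [h.comm j i hj g hg x hx, mul_inv_cancel_right]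

theorem cj_mem_alg_cjs {k : Type*} [Field k] [Algebra k F] (g : GL ι F) {N : Subgroup (GL ι F)}
    {x : Matrix ι ι F} (hx : x ∈ alg k N) : cj g x ∈ alg k (cjs g N) := by
  refine alg_induction (p := fun x => cj g x ∈ alg k (cjs g N)) (fun n hn => ?_)
    (fun x y hx hy => ?_) (fun c x hx => ?_) hx
  · rw [cj_coe]; exact coe_mem_alg (conj_mem_cjs g hn)
  · rw [map_add]; exact add_mem hx hy
  · rw [cj_smul_tower]; exact Subalgebra.smul_mem _ hx c

theorem mem_alg_cjs {k : Type*} [Field k] [Algebra k F] {g : GL ι F} {N : Subgroup (GL ι F)}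
    {x : Matrix ι ι F} : x ∈ alg k (cjs g N) ↔ cj g⁻¹ x ∈ alg k N := by
  constructor
  · intro hx
    have := cj_mem_alg_cjs g⁻¹ hx
    rwa [← cjs_mul, inv_mul_cancel, cjs_one] at this
  · intro hx
    simpa using cj_mem_alg_cjs g hx

theorem isSc_of_comm_iSup {α : Type*} {L : α → Subgroup (GL ι F)} (h : alg F (⨆ i, L i) = ⊤)
    {z : Matrix ι ι F} (hz : ∀ i, ∀ g ∈ L i, z * (g : Matrix ι ι F) = g * z) : IsSc z := by
  refine isSc_of_alg_top h fun g hg => ?_
  refine Subgroup.iSup_induction L (C := fun g : GL ι F => z * (g : Matrix ι ι F) = g * z) hg hz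
    (by simp) fun x y hx hy => ?_
  rw [Units.val_mul, ← mul_assoc, hx, mul_assoc, hy, mul_assoc]

/-- The tensor power decomposition given by a class of components. -/
theorem QsFam.exists_power [Finite F] [Nonempty ι] (h : QsFam (scalars ι F ⊓ H) H L) (hQ : QP H) :
    ∃ (k : ℕ) (e : ι ≃ (Fin t → Fin k)) (P : GL ι F), 2 ≤ k ∧
      (∀ i x, x ∈ alg F (L i) ↔ ∃ a, x = tr e P (slot i a)) ∧
      ∀ i j, ∃ g ∈ H, ∀ a, cj g (tr e P (slot i a)) = tr e P (slot j a) := by
  have hT := h.alg_iSup hQ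
  let o : Fin t := ⟨0, h.pos⟩
  obtain ⟨k, hk, φ, hφ⟩ := (irr_of_alg_top hT).exists_algHom (h.normBy o).nz fun x hx hc =>
    isSc_of_comm_iSup hT fun i g hg => by
      by_cases hi : i = o
      · subst hi; exact hc _ (coe_mem_alg hg)
      · exact alg_comm_alg (k := F) (h.comm o i (Ne.symm hi)) hx (coe_mem_alg hg)
  choose g hg hgL using h.trans o
  have hm : ∀ i x, x ∈ alg F (L i) ↔ ∃ a, x = cj (g i) (φ a) := fun i x => by
    rw [← hgL, mem_alg_cjs, ← hφ]
    exact exists_congr fun a => ⟨fun h => by rw [show φ a = _ from h, cj_cj_inv],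
      fun h => by rw [h, cj_inv_cj]; rfl⟩
  obtain ⟨e, P, hP⟩ := exists_tr_power (fun i => (cj (g i)).toAlgHom.comp φ)
    (fun i j hij a b => alg_comm_alg (k := F) (h.comm i j hij) ((hm i _).2 ⟨a, rfl⟩)
      ((hm j _).2 ⟨b, rfl⟩))
    (fun z hz => isSc_of_comm_iSup hT fun i x hx => by
      obtain ⟨a, ha⟩ := (hm i _).1 (coe_mem_alg hx)
      rw [ha]; exact hz i a)
  have hP' : ∀ i a, tr e P (slot i a) = cj (g i) (φ a) := fun i a => (hP i a).symm
  refine ⟨k, e, P, ?_, fun i x => by simp only [hP', hm], fun i j =>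
    ⟨g j * (g i)⁻¹, mul_mem (hg j) (inv_mem (hg i)), fun a => by
      rw [hP', hP', cj_mul, cj_inv_cj]⟩⟩
  by_contra hk2
  obtain rfl : k = 1 := by have := hk.out; omega
  refine h.not_le_scalars o fun x hx => mem_scalars_iff_isSc.2 ?_
  obtain ⟨a, ha⟩ := (hm o _).1 (coe_mem_alg hx)
  rw [ha, isSc_cj]
  exact (isSc_of_subsingleton a).map φ

theorem QsFam.le_tensorWreath (h : QsFam (scalars ι F ⊓ H) H L) {k : ℕ} (hk : 2 ≤ k)
    {e : ι ≃ (Fin t → Fin k)} {P : GL ι F}
    (hm : ∀ i x, x ∈ alg F (L i) ↔ ∃ a, x = tr e P (slot i a)) :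
    H ≤ tensorWreathSubgroup k t e P := fun g hg =>
  mem_tensorWreathSubgroup_of hk h.pos e P fun i => by
    obtain ⟨j, hj⟩ := h.perm g hg i
    exact ⟨j, fun a => (hm j _).1 (hj ▸ cj_mem_alg_cjs g ((hm i _).2 ⟨a, rfl⟩))⟩

theorem QsFam.normBy_one {L : Fin 1 → Subgroup (GL ι F)} {Z : Subgroup (GL ι F)}
    (h : QsFam Z H L) : NormBy H (L 0) := by
  simpa using h.normBy_iSup

theorem QsFam.alg_one {L : Fin 1 → Subgroup (GL ι F)} (h : QsFam (scalars ι F ⊓ H) H L)
    (hQ : QP H) : alg F (L 0) = ⊤ := by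
  simpa using h.alg_iSup hQ

theorem QsFam.isResidualCore {L : Fin 1 → Subgroup (GL ι F)} (h : QsFam (scalars ι F ⊓ H) H L)
    (hQ : QP H) {H₀ : Subgroup (GL ι F)} (h0 : H₀ ≤ H) (h1 : H ≤ H₀ ⊔ scalars ι F)
    (hF : ∀ F₀ : Subfield F, F₀ ≠ ⊤ → ¬ RealisableOver F₀ (matrixSet (L 0))) :
    IsResidualCore H₀ (L 0) := by
  have h' : QsFam (scalars ι F) H L :=
    { h with
      not_le := h.not_le_scalars
      simple := fun i M hM hn => (h.simple i M hM hn).imp_left fun h => h.trans inf_le_left }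
  refine ⟨(h.le 0).trans ?_, h.normBy_one.mono h0, h.perfect 0, h'.isSimpleGroup 0,
    h'.not_isMulCommutative 0, fun g _ hg => ?_, absIrr_of_alg_top (h.alg_one hQ), hF⟩
  · exact (Subgroup.commutator_mono h1 h1).trans
      ((commutator_sup_center scalars_le_center _ _).le.trans (Subgroup.commutator_le_self _))
  · refine mem_scalars_of_alg_top (h.alg_one hQ) fun x hx => ?_
    refine (comm_of_commutator_mem scalars_le_center (T := L 0) (fun x hx => ?_) x
      ((h.perfect 0).symm ▸ hx)).symm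
    rw [← commutatorElement_inv]
    exact inv_mem (hg x hx)

end QsFam

/-! ### Groups of symplectic type -/

theorem mul_pow_of_central {G : Type*} [Group G] {x y z : G} (h : y * x = x * y * z)
    (hx : Commute z x) (hy : Commute z y) (k : ℕ) :
    y ^ k * x = x * y ^ k * z ^ k ∧ (x * y) ^ k = x ^ k * y ^ k * z ^ k.choose 2 := by
  induction k with
  | zero => simp
  | succ k ih =>
    constructor
    · rw [pow_succ, mul_assoc, h, ← mul_assoc, ← mul_assoc, ih.1, pow_succ z, mul_assoc _ (z ^ k),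
        (hy.pow_left k).eq]
      simp only [mul_assoc]
    · rw [pow_succ, ih.2, Nat.choose_succ_succ', Nat.choose_one_right, mul_assoc _ (z ^ _),
        ((hx.mul_right hy).pow_left _).eq, pow_add z, pow_succ x, pow_succ y]
      calc x ^ k * y ^ k * (x * y * z ^ k.choose 2)
          = x ^ k * (y ^ k * x) * y * z ^ k.choose 2 := by simp only [mul_assoc]
        _ = x ^ k * x * y ^ k * (z ^ k * y) * z ^ k.choose 2 := by rw [ih.1]; simp only [mul_assoc]
        _ = _ := by rw [(hy.pow_left k).eq]; simp only [mul_assoc]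

/-- The scalars as a monoid hom. -/
def scHom (ι : Type) [Fintype ι] [DecidableEq ι] (F : Type*) [Field F] : Fˣ →* GL ι F :=
  Units.map (Matrix.scalar ι : F →+* Matrix ι ι F).toMonoidHom

theorem scHom_apply (c : Fˣ) : scHom ι F c = sc ι c := rfl

theorem scHom_injective [Nonempty ι] : Function.Injective (scHom ι F) :=
  Units.map_injective (Matrix.scalar ι : F →+* Matrix ι ι F).injective

theorem isCyclic_of_le_scalars [Finite F] [Nonempty ι] {A : Subgroup (GL ι F)}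
    (h : A ≤ scalars ι F) : IsCyclic A := by
  have : IsCyclic (scalars ι F) :=
    isCyclic_of_surjective (MonoidHom.ofInjective (scHom_injective (ι := ι) (F := F)))
      (MonoidHom.ofInjective _).surjective
  exact Subgroup.isCyclic_of_le h

/-- An absolutely irreducible normal subgroup of symplectic type. -/
structure Extra (H R : Subgroup (GL ι F)) (r m : ℕ) : Prop where
  le : R ≤ H
  norm : NormBy H R
  top : alg F R = ⊤
  symp : IsSymplecticTypeGroup r R
  pow_s : ∀ x ∈ R, x ^ (r * Nat.gcd 2 r) = 1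
  pow_r : ∀ x ∈ R, x ^ r ∈ scalars ι F
  comm : ∀ x ∈ R, ∀ y ∈ R, ⁅x, y⁆ ∈ scalars ι F
  sc_mem : ∀ c : Fˣ, sc ι c ∈ R ↔ sc ι c ∈ H ∧ c ^ (r * Nat.gcd 2 r) = 1
  root : ∃ c : Fˣ, orderOf c = r ∧ sc ι c ∈ R
  pos : 1 ≤ m
  card_ι : Fintype.card ι = r ^ m
  card_center : Nat.card (Subgroup.center R) = Nat.card (R.comap (scHom ι F))
  card : Nat.card R = Nat.card (Subgroup.center R) * r ^ (2 * m)
  basis : ∃ T : ι × ι → GL ι F, (∀ j, T j ∈ R) ∧
    LinearIndependent F (fun j => (T j : Matrix ι ι F)) ∧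
    ∀ x ∈ R, ∃ j, ∃ c : Fˣ, sc ι c ∈ R ∧ x = T j * sc ι c

theorem trace_eq_zero_of_not_scalar {R : Subgroup (GL ι F)} (hR : alg F R = ⊤)
    (hc : ∀ x ∈ R, ∀ y ∈ R, ⁅x, y⁆ ∈ scalars ι F) {x : GL ι F} (hx : x ∈ R)
    (h : x ∉ scalars ι F) : (x : Matrix ι ι F).trace = 0 := by
  by_contra h0
  refine h (mem_scalars_of_alg_top hR fun y hy => ?_)
  obtain ⟨c, hc⟩ := (mem_scalars_iff _).1 (hc y hy x hx)
  have h1 : cj y (x : Matrix ι ι F) = (c : F) • (x : Matrix ι ι F) := by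
    rw [cj_coe, show y * x * y⁻¹ = ⁅y, x⁆ * x by simp [commutatorElement_def], Units.val_mul, hc]
    simp
  have h2 := trace_cj y (x : Matrix ι ι F)
  rw [h1, trace_smul, smul_eq_mul, mul_eq_right₀ h0] at h2
  rw [h2, one_smul, cj_eq_iff] at h1
  exact Units.ext h1.symm

theorem natCast_card_ne_zero [Nonempty ι] {R : Subgroup (GL ι F)} (hR : alg F R = ⊤)
    (hc : ∀ x ∈ R, ∀ y ∈ R, ⁅x, y⁆ ∈ scalars ι F) : (Fintype.card ι : F) ≠ 0 := by
  intro h0
  have : ∀ x ∈ alg F R, x.trace = 0 := fun x hx =>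
    alg_induction (p := fun x => x.trace = 0) (fun g hg => by
      by_cases h : g ∈ scalars ι F
      · obtain ⟨c, hc⟩ := (mem_scalars_iff _).1 h
        simp [hc, h0]
      · exact trace_eq_zero_of_not_scalar hR hc hg h)
      (fun x y hx hy => by rw [trace_add, hx, hy, add_zero])
      (fun c x hx => by rw [trace_smul, hx, smul_zero]) hx
  obtain ⟨a⟩ := ‹Nonempty ι›
  simpa using this (single a a 1) (hR ▸ Algebra.mem_top)

/-- Elements of `R` that are distinct modulo scalars are linearly independent. -/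
theorem linearIndependent_of_not_scalar [Nonempty ι] {R : Subgroup (GL ι F)} (hR : alg F R = ⊤)
    (hc : ∀ x ∈ R, ∀ y ∈ R, ⁅x, y⁆ ∈ scalars ι F) {α : Type*} [Fintype α] {T : α → GL ι F}
    (hT : ∀ j, T j ∈ R) (hne : ∀ i j, (T i)⁻¹ * T j ∈ scalars ι F → i = j) :
    LinearIndependent F fun j => (T j : Matrix ι ι F) := by
  rw [Fintype.linearIndependent_iff]
  intro g hg i
  have := congrArg (fun x => ((((T i)⁻¹ : GL ι F) : Matrix ι ι F) * x).trace) hg
  simp only [Finset.mul_sum, mul_smul_comm, trace_sum, trace_smul, mul_zero, trace_zero,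
    ← Units.val_mul] at this
  rw [Finset.sum_eq_single i] at this
  · simpa [natCast_card_ne_zero hR hc] using this
  · intro j _ hj
    rw [trace_eq_zero_of_not_scalar hR hc (mul_mem (inv_mem (hT i)) (hT j))
      fun h => hj (hne i j h).symm, smul_zero]
  · simp

theorem commutator_pow_eq_one {x y : GL ι F} {r : ℕ} (h : ⁅y, x⁆ ∈ scalars ι F)
    (hy : y ^ r ∈ scalars ι F) : y * x = x * y * ⁅y, x⁆ ∧ ⁅y, x⁆ ^ r = 1 := by
  have hcen : ∀ {z}, z ∈ scalars ι F → ∀ g, Commute z g := fun hz g =>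
    (Subgroup.mem_center_iff.1 (scalars_le_center hz) g).symm
  have h1 := hcen h
  have h3 : y * x = x * y * ⁅y, x⁆ := by rw [← (h1 _).eq]; simp [commutatorElement_def]
  have h4 := (mul_pow_of_central h3 (h1 x) (h1 y) r).1
  rw [(hcen hy x).eq] at h4
  exact ⟨h3, (mul_eq_left.1 h4.symm)⟩

theorem extra_mk [Finite F] (h2 : 2 ≤ Fintype.card ι) {H R : Subgroup (GL ι F)} {r : ℕ}
    (hr : r.Prime) (hle : R ≤ H) (hRn : NormBy H R) (hR : alg F R = ⊤)
    (hps : ∀ x ∈ R, x ^ (r * Nat.gcd 2 r) = 1) (hpr : ∀ x ∈ R, x ^ r ∈ scalars ι F)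
    (hcm : ∀ x ∈ R, ∀ y ∈ R, ⁅x, y⁆ ∈ scalars ι F)
    (hsm : ∀ c : Fˣ, sc ι c ∈ H → c ^ (r * Nat.gcd 2 r) = 1 → sc ι c ∈ R)
    (hab : ∀ A ≤ R, NormBy H A → (∀ x ∈ A, ∀ y ∈ A, x * y = y * x) → A ≤ scalars ι F) :
    ∃ m, Extra H R r m := by
  have : Nonempty ι := Fintype.card_pos_iff.1 (by omega)
  have hcen : ∀ {z}, z ∈ scalars ι F → ∀ g, Commute z g := fun hz g =>
    (Subgroup.mem_center_iff.1 (scalars_le_center hz) g).symm
  set s := r * Nat.gcd 2 r with hs
  have hz : ∀ x ∈ R, ∀ y ∈ R, ⁅y, x⁆ ^ r = 1 := fun x hx y hy =>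
    (commutator_pow_eq_one (hcm y hy x hx) (hpr y hy)).2
  have hZ : ∀ x : R, x ∈ Subgroup.center R ↔ (x : GL ι F) ∈ scalars ι F := fun x => by
    rw [Subgroup.mem_center_iff]
    exact ⟨fun hx => mem_scalars_of_alg_top hR fun g hg => (congrArg Subtype.val (hx ⟨g, hg⟩)).symm,
      fun hx g => Subtype.ext (hcen hx g).eq.symm⟩
  obtain ⟨x, hx, y, hy, hxy⟩ : ∃ x ∈ R, ∃ y ∈ R, x * y ≠ y * x := by
    by_contra hc
    push Not at hc
    exact not_alg_top_of_comm h2 hc hR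
  have hs0 : s ≠ 0 := mul_ne_zero hr.ne_zero (Nat.gcd_ne_zero_left two_ne_zero)
  have hexp : Monoid.exponent R ∣ s :=
    Monoid.exponent_dvd_of_forall_pow_eq_one fun g => Subtype.ext (hps _ g.2)
  have : Fact r.Prime := ⟨hr⟩
  -- the transversal
  let T : R ⧸ Subgroup.center R → GL ι F := fun q => (q.out : R)
  have : Fintype (R ⧸ Subgroup.center R) := Fintype.ofFinite _
  have hli := linearIndependent_of_not_scalar hR hcm (T := T) (fun q => q.out.2) fun i j hij => by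
    rw [← i.out_eq, ← j.out_eq]
    exact QuotientGroup.eq.2 ((hZ _).2 hij)
  have hT : ∀ x ∈ R, ∃ j, ∃ c : Fˣ, sc ι c ∈ R ∧ x = T j * sc ι c := fun x hx => by
    obtain ⟨z, hz⟩ := QuotientGroup.mk_out_eq_mul (Subgroup.center R) ⟨x, hx⟩
    obtain ⟨c, hc⟩ := (hZ _).1 (inv_mem z.2)
    refine ⟨QuotientGroup.mk ⟨x, hx⟩, c, ?_, ?_⟩
    · rw [show sc ι c = _ from hc]; exact SetLike.coe_mem _
    · rw [show sc ι c = _ from hc]; simp [T, hz]
  have hcard : Fintype.card (R ⧸ Subgroup.center R) = Fintype.card ι ^ 2 := by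
    have h1 : finrank F (Matrix ι ι F) = Fintype.card ι ^ 2 := by simp [finrank_matrix, sq]
    rw [← h1]
    refine le_antisymm hli.fintype_card_le_finrank (finrank_le_of_span_eq_top
      (v := fun j => (T j : Matrix ι ι F)) (eq_top_iff.2 fun x _ => ?_))
    refine alg_induction (p := fun x => x ∈ Submodule.span F _) (fun g hg => ?_)
      (fun _ _ => add_mem) (fun c _ => Submodule.smul_mem _ c) (hR ▸ Algebra.mem_top : x ∈ alg F R)
    obtain ⟨j, c, -, rfl⟩ := hT g hg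
    rw [Units.val_mul, coe_sc, mul_smul_comm, mul_one]
    exact Submodule.smul_mem _ _ (Submodule.subset_span ⟨j, rfl⟩)
  have hP : IsPGroup r R := fun g => ⟨2, Subtype.ext (by
    have : s ∣ r ^ 2 := by rw [sq]; exact mul_dvd_mul_left _ (Nat.gcd_dvd_right _ _)
    obtain ⟨c, hc⟩ := this
    rw [hc, pow_mul, Subgroup.coe_pow, Subgroup.coe_pow, hps _ g.2, one_pow, Subgroup.coe_one])⟩
  obtain ⟨j, hj⟩ := IsPGroup.iff_card.1 (hP.to_quotient (Subgroup.center R))
  rw [Nat.card_eq_fintype_card, hcard] at hj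
  obtain ⟨m, -, hm⟩ := (Nat.dvd_prime_pow hr).1 (hj ▸ dvd_pow_self _ two_ne_zero)
  let b : ι × ι ≃ R ⧸ Subgroup.center R := Fintype.equivOfCardEq (by simp [hcard, sq])
  refine ⟨m, hle, hRn, hR, ⟨hr, hP, fun A hA hA' => ?_, ?_⟩, hps, hpr, hcm, fun c => ?_, ?_, ?_, hm,
    ?_, ?_,
    T ∘ b, fun j => (b j).out.2, hli.comp _ b.injective, fun x hx => ?_⟩
  · have hn : NormBy H (A.map R.subtype) := by
      rintro g hg _ ⟨x, hx, rfl⟩
      let φ := R.normalizerMonoidHom ⟨g, hRn.le_normalizer hg⟩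
      exact ⟨φ x, Subgroup.characteristic_iff_le_comap.1 hA φ hx, rfl⟩
    have := isCyclic_of_le_scalars (hab _ (Subgroup.map_subtype_le A) hn (by
      rintro _ ⟨x, hx, rfl⟩ _ ⟨y, hy, rfl⟩
      exact congrArg (fun z : A => ((z : R) : GL ι F)) (hA'.is_comm.comm ⟨x, hx⟩ ⟨y, hy⟩)))
    exact isCyclic_of_surjective _ (A.equivMapOfInjective _ R.subtype_injective).symm.surjective
  · have hne : ∀ k, (∀ g : R, g ^ k = 1) → k ∣ 2 → False := fun k hk hk2 => by
      obtain ⟨c, hc⟩ := hk2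
      have h3 : ∀ g : R, g * g = 1 := fun g => by rw [← sq, hc, pow_mul, hk, one_pow]
      refine hxy (congrArg Subtype.val (?_ : (⟨x, hx⟩ : R) * ⟨y, hy⟩ = ⟨y, hy⟩ * ⟨x, hx⟩))
      generalize (⟨x, hx⟩ : R) = a
      generalize (⟨y, hy⟩ : R) = b
      rw [← eq_inv_of_mul_eq_one_left (h3 (a * b)).symm.symm |>.symm, _root_.mul_inv_rev,
        ← eq_inv_of_mul_eq_one_left (h3 a), ← eq_inv_of_mul_eq_one_left (h3 b)]
    have h3 := hne _ Monoid.pow_exponent_eq_one
    rcases hr.eq_two_or_odd' with rfl | ho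
    · obtain ⟨i, hi, he⟩ := (Nat.dvd_prime_pow Nat.prime_two (m := 2)).1 hexp
      rw [he] at h3 ⊢
      interval_cases i
      · exact absurd (by decide) h3
      · exact absurd (by decide) h3
      · rfl
    · have hg : Nat.gcd 2 r = 1 := (Nat.coprime_two_left.2 ho)
      rw [hs, hg, mul_one] at hexp
      rw [hg, mul_one]
      exact ((Nat.dvd_prime hr).1 hexp).resolve_left fun h => h3 (h ▸ one_dvd 2)
  · have h3 : sc ι c ^ s = 1 ↔ c ^ s = 1 := by
      rw [← scHom_apply, ← map_pow, map_eq_one_iff _ scHom_injective]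
    exact ⟨fun hc => ⟨hle hc, h3.1 (hps _ hc)⟩, fun hc => hsm c hc.1 hc.2⟩
  · obtain ⟨c, hc⟩ := hcm x hx y hy
    have hc' : scHom ι F c = ⁅x, y⁆ := hc
    refine ⟨c, orderOf_eq_prime (scHom_injective (ι := ι) ?_) ?_, ?_⟩
    · rw [map_pow, hc', hz y hy x hx, map_one]
    · rintro rfl
      rw [map_one, eq_comm, commutatorElement_eq_one_iff_mul_comm] at hc'
      exact hxy hc'
    · rw [← scHom_apply, hc']
      exact mul_mem (mul_mem (mul_mem hx hy) (inv_mem hx)) (inv_mem hy)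
  · by_contra h0
    obtain rfl : m = 0 := by omega
    rw [pow_zero] at hm
    omega
  · refine (Nat.card_congr (Equiv.ofBijective (fun c : R.comap (scHom ι F) =>
      (⟨⟨scHom ι F c, c.2⟩, (hZ _).2 (sc_mem _)⟩ : Subgroup.center R)) ⟨fun a b hab => ?_, ?_⟩)).symm
    · exact Subtype.ext (scHom_injective (congrArg (fun z : Subgroup.center R => ((z : R) : GL ι F)) hab))
    · rintro ⟨z, hz⟩
      obtain ⟨c, hc⟩ := (hZ z).1 hz
      exact ⟨⟨c, show scHom ι F c ∈ R from (show scHom ι F c = z from hc) ▸ z.2⟩,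
        Subtype.ext (Subtype.ext hc)⟩
  · rw [Subgroup.card_eq_card_quotient_mul_card_subgroup (Subgroup.center R),
      Nat.card_eq_fintype_card, hcard, hm, mul_comm, ← pow_mul, mul_comm m]
  · obtain ⟨j, c, h1, h2⟩ := hT x hx
    exact ⟨b.symm j, c, h1, by simpa using h2⟩

theorem AbMin.exists_extra [Finite F] (h2 : 2 ≤ Fintype.card ι) {H N : Subgroup (GL ι F)} {r : ℕ}
    (h : AbMin (scalars ι F ⊓ H) H N r) (hQ : QP H) : ∃ R m, Extra H R r m := by
  have : Nonempty ι := Fintype.card_pos_iff.1 (by omega)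
  have hr := h.prime
  have hcen : ∀ {z}, z ∈ scalars ι F → ∀ g, Commute z g := fun hz g =>
    (Subgroup.mem_center_iff.1 (scalars_le_center hz) g).symm
  have hN : alg F N = ⊤ := (hQ N h.le h.norm).resolve_left fun hc => h.not_le (le_inf hc h.le)
  set s := r * Nat.gcd 2 r with hs
  have hz : ∀ x ∈ N, ∀ y ∈ N, y * x = x * y * ⁅y, x⁆ ∧ ⁅y, x⁆ ^ r = 1 := fun x hx y hy =>
    commutator_pow_eq_one (h.comm y hy x hx).1 (h.pow y hy).1
  have hsc : r ∣ s.choose 2 := by
    rcases hr.eq_two_or_odd' with rfl | ho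
    · decide
    · have : Nat.gcd 2 r = 1 := (Nat.coprime_two_left.2 ho)
      rw [hs, this, mul_one]
      exact hr.dvd_choose_self two_ne_zero (hr.two_le.lt_of_ne fun h => by
        rw [← h] at ho; exact absurd ho (by decide))
  have hmul : ∀ x ∈ N, ∀ y ∈ N, (x * y) ^ s = x ^ s * y ^ s := by
    intro x hx y hy
    have h1 := hcen (h.comm y hy x hx).1
    obtain ⟨c, hc⟩ := hsc
    rw [(mul_pow_of_central (hz x hx y hy).1 (h1 x) (h1 y) s).2, hc, pow_mul ⁅y, x⁆,
      (hz x hx y hy).2, one_pow, mul_one]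
  let R : Subgroup (GL ι F) :=
    { carrier := {x | x ∈ N ∧ x ^ s = 1}
      one_mem' := ⟨one_mem _, one_pow _⟩
      mul_mem' := fun {a b} ha hb => ⟨mul_mem ha.1 hb.1, by rw [hmul _ ha.1 _ hb.1, ha.2, hb.2, one_mul]⟩
      inv_mem' := fun {a} ha => ⟨inv_mem ha.1, by rw [inv_pow, ha.2, inv_one]⟩ }
  have hRN : R ≤ N := fun _ h => h.1
  have hRn : NormBy H R := fun g hg x hx => ⟨h.norm g hg x hx.1, by rw [conj_pow, hx.2]; simp⟩
  have hR : alg F R = ⊤ := by
    refine (hQ R (hRN.trans h.le) hRn).resolve_left fun hc => ?_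
    let f : N →* scalars ι F :=
      { toFun := fun x => ⟨x ^ s, by rw [hs, pow_mul]; exact pow_mem (h.pow x x.2).1 _⟩
        map_one' := Subtype.ext (one_pow _)
        map_mul' := fun x y => Subtype.ext (hmul _ x.2 _ y.2) }
    have := isCyclic_of_le_scalars (le_refl (scalars ι F))
    have hcomm := commutative_of_cyclic_center_quotient f (fun x hx => by
      rw [Subgroup.mem_center_iff]
      intro g
      exact Subtype.ext (hcen (hc ⟨x.2, congrArg Subtype.val hx⟩) g).eq.symm)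
    exact not_alg_top_of_comm h2 (fun x hx y hy => congrArg Subtype.val (hcomm ⟨x, hx⟩ ⟨y, hy⟩)) hN
  refine ⟨R, extra_mk h2 hr (hRN.trans h.le) hRn hR (fun x hx => hx.2) (fun x hx => (h.pow x hx.1).1)
    (fun x hx y hy => (h.comm x hx.1 y hy.1).1) (fun c h1 h3 => ⟨h.ge ⟨sc_mem c, h1⟩, ?_⟩)
    fun A hA hn hc => (hQ A (hA.trans (hRN.trans h.le)) hn).resolve_right (not_alg_top_of_comm h2 hc)⟩
  rw [← scHom_apply, ← map_pow, h3, map_one]

namespace Extra

variable {H R : Subgroup (GL ι F)} {r m : ℕ} (h : Extra H R r m)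
include h

theorem prime : r.Prime := h.symp.prime

theorem nonempty : Nonempty ι := Fintype.card_pos_iff.1 (h.card_ι ▸ pow_pos h.prime.pos m)

theorem natCast_ne_zero : (r : F) ≠ 0 := by
  have := h.nonempty
  have := natCast_card_ne_zero h.top h.comm
  rw [h.card_ι, Nat.cast_pow] at this
  exact fun h0 => this (by rw [h0, zero_pow (by have := h.pos; omega)])

theorem ne_char {p : ℕ} [CharP F p] : r ≠ p := by
  rintro rfl
  exact h.natCast_ne_zero (CharP.cast_eq_zero F r)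

theorem dvd_card_sub_one [Fintype F] : r ∣ Fintype.card F - 1 := by
  obtain ⟨c, hc, -⟩ := h.root
  classical
  rw [← hc, ← Fintype.card_units]
  exact orderOf_dvd_card

/-- If the scalars of `R` lie in `F₀` then `R` spans a small `F₀`-algebra. -/
theorem finrank_alg_le {F₀ : Subfield F} (h0 : ∀ c : Fˣ, sc ι c ∈ R → (c : F) ∈ F₀) :
    finrank F₀ (alg F₀ R) ≤ Fintype.card ι ^ 2 := by
  obtain ⟨T, -, -, hT⟩ := h.basis
  refine (finrank_le_of_le_span (fun j => (T j : Matrix ι ι F)) fun x hx => ?_).trans (by simp [sq])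
  refine alg_induction (p := fun x => x ∈ Submodule.span F₀ _) (fun g hg => ?_)
    (fun _ _ => add_mem) (fun c _ => Submodule.smul_mem _ c) hx
  obtain ⟨j, c, hc, rfl⟩ := hT g hg
  rw [Units.val_mul, coe_sc, mul_smul_comm, mul_one]
  exact Submodule.smul_mem _ (⟨_, h0 c hc⟩ : F₀) (Submodule.subset_span ⟨j, rfl⟩)

theorem le_normalizer : H ≤ subgroupNormalizer R := h.norm.le_normalizer

end Extra

end Cfsg.Lib.Asch
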