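import Cfsg.Agent.Lib.Asch.Fac

/-! Extraspecial `2`-groups: construction from generators, minus type in symplectic groups. -/

set_option autoImplicit false

namespace Cfsg.Lib.Asch

open Matrix Cfsg.Geo Module Cfsg.Lib.Forms Subgroup
open scoped MatrixGroups Kronecker commutatorElement

variable {ι κ μ : Type} [Fintype ι] [DecidableEq ι] [Fintype κ] [DecidableEq κ]
  [Fintype μ] [DecidableEq μ] {F : Type*} [Field F] {σ : F →+* F} {ε : F}
  {f : (ι → F) → (ι → F) → F}

/-- Commuting up to sign. -/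
def PmC {M : Type*} [Mul M] [Neg M] (x y : M) : Prop := x * y = y * x ∨ x * y = -(y * x)

section
variable {G : Type*} [Group G] [HasDistribNeg G] {x y z : G}

theorem PmC.symm (h : PmC x y) : PmC y x :=
  h.imp Eq.symm fun h => by rw [h, neg_neg]

theorem PmC.mul (h : PmC x y) (h' : PmC x z) : PmC x (y * z) := by
  rw [PmC, ← mul_assoc]
  rcases h with h | h <;> rcases h' with h' | h' <;> simp [h, h', mul_assoc]

theorem PmC.inv (h : PmC x y) : PmC x y⁻¹ := by
  refine h.symm.imp (fun h => ?_) fun h => ?_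
  · rw [mul_inv_eq_iff_eq_mul, mul_assoc, ← h, inv_mul_cancel_left]
  · rw [mul_inv_eq_iff_eq_mul, neg_mul, mul_assoc, ← mul_neg, ← h, inv_mul_cancel_left]

theorem pmC_closure {S : Set G} (h : ∀ s ∈ S, ∀ t ∈ S, PmC s t) :
    ∀ x ∈ closure S, ∀ y ∈ closure S, PmC x y := by
  have key : ∀ x, (∀ t ∈ S, PmC x t) → ∀ y ∈ closure S, PmC x y := fun x hx y hy =>
    closure_induction hx (Or.inl (by simp)) (fun _ _ _ _ => PmC.mul) (fun _ _ => PmC.inv) hy
  exact fun x hx => key x fun t ht => (key t (h t ht) x hx).symm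

theorem sq_closure {S : Set G} (h : ∀ s ∈ S, ∀ t ∈ S, PmC s t)
    (hs : ∀ s ∈ S, s * s = 1 ∨ s * s = -1) : ∀ x ∈ closure S, x * x = 1 ∨ x * x = -1 := by
  intro x hx
  induction hx using closure_induction with
  | mem x hx => exact hs x hx
  | one => simp
  | mul x y hx hy h1 h2 =>
    rw [mul_assoc, ← mul_assoc y]
    rcases pmC_closure h y hy x hx with h3 | h3 <;> rw [h3] <;>
      simp only [neg_mul, mul_neg, mul_assoc y, ← mul_assoc x x, mul_assoc x y] <;>
      rcases h1 with h1 | h1 <;> rcases h2 with h2 | h2 <;> simp [h1, h2]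
  | inv x hx h1 =>
    rw [← _root_.mul_inv_rev]
    rcases h1 with h1 | h1 <;> simp [h1]

end

theorem neg_one_mem_scalars : (-1 : GL ι F) ∈ scalars ι F :=
  mem_scalars_iff_isSc.2 ⟨-1, by simp⟩

theorem ne_neg_self [Nonempty ι] (h2 : (2 : F) ≠ 0) (x : GL ι F) : x ≠ -x := fun h => by
  have : (2 : F) • (x : Matrix ι ι F) = 0 := by
    rw [two_smul]; nth_rw 2 [h]; simp
  exact x.ne_zero ((smul_eq_zero.1 this).resolve_left h2)

theorem exists_anticomm (hn : 3 ≤ Fintype.card ι) {R : Subgroup (GL ι F)} (hT : alg F R = ⊤)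
    (hc : ∀ x ∈ R, ∀ y ∈ R, PmC x y) (hs : ∀ x ∈ R, x * x = 1 ∨ x * x = -1) {a : GL ι F}
    (ha : a ∈ R) (h0 : a ∉ scalars ι F) : ∃ s ∈ R, s * s = -1 ∧ a * s = -(s * a) := by
  by_contra hn'
  have h1 : ∀ s ∈ R, a * s = -(s * a) → s * s = 1 := fun s h h' =>
    (hs s h).resolve_right fun h'' => hn' ⟨s, h, h'', h'⟩
  obtain ⟨b, hb, hab⟩ : ∃ b ∈ R, a * b = -(b * a) := by
    by_contra h
    exact h0 (mem_scalars_of_alg_top hT fun b hb => (hc a ha b hb).resolve_right fun h' => h ⟨b, hb, h'⟩)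
  have hba : b * a = -(a * b) := by rw [hab, neg_neg]
  let C := R ⊓ centralizer {a, b}
  have hC : ∀ {c}, c ∈ C ↔ c ∈ R ∧ a * c = c * a ∧ b * c = c * b := by
    simp [C, mem_centralizer_iff]
  have h2 : ∀ c ∈ C, c * c = 1 := fun c h => by
    obtain ⟨h3, h4, h5⟩ := hC.1 h
    have := h1 _ (mul_mem h3 hb) (by rw [← mul_assoc, h4, mul_assoc, hab, mul_neg, mul_assoc])
    rwa [mul_assoc, ← mul_assoc b, h5, mul_assoc, h1 b hb hab, mul_one] at this
  let w : Fin 4 → GL ι F := ![1, a, b, a * b]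
  have h3 : ∀ x ∈ R, ∃ i, x * w i ∈ C := fun x hx => by
    rcases hc a ha x hx with h4 | h4 <;> rcases hc b hb x hx with h5 | h5
    · exact ⟨0, hC.2 ⟨by simpa [w], by simpa [w], by simpa [w]⟩⟩
    · exact ⟨1, hC.2 ⟨mul_mem hx ha, by simp [w, ← mul_assoc, h4],
        by simp [w, ← mul_assoc, h5]; simp [mul_assoc, hab]⟩⟩
    · exact ⟨2, hC.2 ⟨mul_mem hx hb, by simp [w, ← mul_assoc, h4]; simp [mul_assoc, hba],
        by simp [w, ← mul_assoc, h5]⟩⟩
    · exact ⟨3, hC.2 ⟨mul_mem hx (mul_mem ha hb), by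
        simp [w, ← mul_assoc, h4]; simp [mul_assoc, hba], by
        simp [w, ← mul_assoc, h5]; simp [mul_assoc, ← mul_assoc b a, hba]⟩⟩
  have h4 : C ≤ scalars ι F := fun c h => mem_scalars_of_alg_top hT fun x hx => by
    obtain ⟨i, hi⟩ := h3 x hx
    obtain ⟨-, h5, h6⟩ := hC.1 h
    have h7 : c * (x * w i) = x * w i * c := by
      rw [← inv_eq_of_mul_eq_one_right (h2 _ (mul_mem h hi)), _root_.mul_inv_rev,
        inv_eq_of_mul_eq_one_right (h2 _ hi), inv_eq_of_mul_eq_one_right (h2 _ h)]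
    have h8 : w i * c = c * w i := by
      fin_cases i <;> simp [w, h5, h6, mul_assoc]
      rw [← mul_assoc, h5, mul_assoc]
    rwa [mul_assoc x, h8, ← mul_assoc, ← mul_assoc, mul_left_inj] at h7
  have h5 : ⊤ ≤ Submodule.span F (Set.range fun i => (((w i)⁻¹ : GL ι F) : Matrix ι ι F)) :=
    fun x _ => alg_induction (p := fun x => x ∈ Submodule.span F _) (fun g hg => by
      obtain ⟨i, hi⟩ := h3 g hg
      obtain ⟨c, hc⟩ := mem_scalars_iff_isSc.1 (h4 hi)
      rw [← mul_inv_cancel_right g (w i), Units.val_mul, hc, smul_mul_assoc, one_mul]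
      exact Submodule.smul_mem _ _ (Submodule.subset_span ⟨i, rfl⟩))
      (fun _ _ => add_mem) (fun c _ => Submodule.smul_mem _ c) (hT ▸ Algebra.mem_top : x ∈ alg F R)
  have h6 := (Submodule.finrank_mono h5).trans (finrank_range_le_card _)
  rw [finrank_top, finrank_matrix, finrank_self, Fintype.card_fin] at h6
  nlinarith

theorem exists_extra_two [Finite F] (h2 : (2 : F) ≠ 0) (hn : 3 ≤ Fintype.card ι) {S : Set (GL ι F)}
    (hc : ∀ s ∈ S, ∀ t ∈ S, PmC s t) (hs : ∀ s ∈ S, s * s = 1 ∨ s * s = -1)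
    (hT : alg F (closure S) = ⊤) (hz : ∀ c : Fˣ, c ^ 4 = 1 → sc ι c ∈ closure S) :
    ∃ m, Extra (subgroupNormalizer (closure S)) (closure S) 2 m := by
  have : Nonempty ι := Fintype.card_pos_iff.1 (by omega)
  have h3 := pmC_closure hc
  have h4 := sq_closure hc hs
  refine extra_mk (by omega) Nat.prime_two le_normalizer (normBy_iff_le.2 le_rfl) hT
    (fun x hx => ?_) (fun x hx => ?_) (fun x hx y hy => ?_) (fun c _ => hz c) fun A hA hN hAc a ha => ?_
  · rw [show 2 * Nat.gcd 2 2 = 2 * 2 from rfl, pow_mul, sq x]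
    rcases h4 x hx with h | h <;> simp [h]
  · rw [sq]
    rcases h4 x hx with h | h <;> rw [h]
    exacts [one_mem _, neg_one_mem_scalars]
  · rw [commutatorElement_def]
    rcases h3 x hx y hy with h | h <;> simp [h, neg_one_mem_scalars]
  by_contra h0
  obtain ⟨s, hs, h5, h6⟩ := exists_anticomm hn hT h3 h4 (hA ha) h0
  have h7 : (s : Matrix ι ι F) * s = -1 := by simpa using congrArg Units.val h5
  let u : GL ι F := ⟨1 + s, (2 : F)⁻¹ • (1 - s), by
      rw [mul_smul_comm, mul_sub, add_mul, add_mul, h7, inv_smul_eq_iff₀ h2, two_smul]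
      simp only [mul_one, one_mul]; abel, by
      rw [smul_mul_assoc, mul_add, sub_mul, sub_mul, h7, inv_smul_eq_iff₀ h2, two_smul]
      simp only [mul_one, one_mul]; abel⟩
  have h8 : ∀ x : GL ι F, x * s = -(s * x) → u * x * u⁻¹ = s * x := fun x hx => by
    have hx' : (x : Matrix ι ι F) * s = -(s * x) := by simpa using congrArg Units.val hx
    rw [mul_inv_eq_iff_eq_mul]
    ext1
    simp only [Units.val_mul, u, mul_add, add_mul, mul_assoc, hx', mul_neg, ← mul_assoc s.val s.val,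
      h7]
    simp [add_comm]
  have h9 : u ∈ subgroupNormalizer (closure S) := mem_normalizer_fintype fun x hx => by
    rcases h3 x hx s hs with h | h
    · rwa [show u * x = x * u from Units.ext (by
        simpa [u, mul_add, add_mul] using congrArg Units.val h.symm), mul_inv_cancel_right]
    · exact h8 x h ▸ mul_mem hs hx
  have := hAc a ha _ (hN u h9 a ha)
  rw [h8 a h6, ← mul_assoc, h6, mul_left_inj] at this
  exact ne_neg_self h2 _ this.symm

theorem Extra.eq_two [Finite F] (h : Hm (RingHom.id F) ε f) {H R : Subgroup (GL ι F)} {r m : ℕ}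
    (hR : Extra H R r m) (hI : Isom f R) : r = 2 ∧ Nat.card (center R) = 2 := by
  have := hR.nonempty
  have h1 : ∀ c : Fˣ, sc ι c ∈ R → c ^ 2 = 1 := fun c hc =>
    Units.ext (by simpa [sq] using h.norm_of_sc_mem (isom_iff.1 hI hc))
  obtain ⟨c, hc, hc'⟩ := hR.root
  obtain rfl : r = 2 := (Nat.prime_dvd_prime_iff_eq hR.prime Nat.prime_two).1
    (hc ▸ orderOf_dvd_of_pow_eq_one (h1 c hc'))
  refine ⟨rfl, (hR.card_center_two rfl).resolve_right fun h4 => ?_⟩
  rw [hR.card_center] at h4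
  have := IsCyclic.exponent_eq_card (α := R.comap (scHom ι F))
  have h5 := Monoid.exponent_dvd_of_forall_pow_eq_one (G := R.comap (scHom ι F)) (n := 2)
    fun c => Subtype.ext (h1 c c.2)
  rw [this, h4] at h5
  exact absurd h5 (by decide)

theorem Extra.minus [Finite F] (h : Hm (RingHom.id F) ε f) (ha : ∀ v, f v v = 0)
    {H R : Subgroup (GL ι F)} {m : ℕ} (hR : Extra H R 2 m) (hI : Isom f R) : IsOfMinusType m R := by
  intro A hA hA2
  have := hR.nonempty
  have h2 : (2 : F) ≠ 0 := by simpa using hR.natCast_ne_zero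
  let B := A.map R.subtype
  have hB : B ≤ R := map_subtype_le _
  have hc : ∀ x ∈ alg F B, ∀ y ∈ alg F B, x * y = y * x := fun x hx y hy => alg_comm_alg (by
    rintro _ ⟨x, hx, rfl⟩ _ ⟨y, hy, rfl⟩
    exact congrArg (fun z : A => z.1.1) (mul_comm' (⟨x, hx⟩ : A) ⟨y, hy⟩)) hx hy
  have hsq : ∀ b ∈ B, b * b = 1 := by
    rintro _ ⟨x, hx, rfl⟩
    exact congrArg Subtype.val (hA2 x hx)
  have hN : Nz R (alg F B : Set (Matrix ι ι F)) := fun g hg x hx =>
    alg_induction (p := fun x => cj g x ∈ alg F B) (fun b hb => by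
      obtain ⟨c, hc⟩ := mem_scalars_iff_isSc.1 (hR.comm g hg b (hB hb))
      rw [cj_coe, show g * b * g⁻¹ = ⁅g, b⁆ * b by simp [commutatorElement_def], Units.val_mul, hc,
        smul_mul_assoc, one_mul]
      exact Subalgebra.smul_mem _ (coe_mem_alg hb) c)
      (fun x y hx hy => by rw [map_add]; exact add_mem hx hy)
      (fun c x hx => by rw [map_smul]; exact Subalgebra.smul_mem _ hx c) hx
  obtain ⟨t, e, he, hr⟩ := (irr_of_alg_top hR.top).exists_idemSys (S := PrimIdem (alg F B))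
    (fun e he => he.2.1) (fun e he => he.2.2.1) (fun e he e' he' => primIdem_orth hc he he')
    hN.primIdem (exists_primIdem hc)
  have hP : ∀ i, e i ∈ PrimIdem (alg F B) := fun i => hr ▸ ⟨i, rfl⟩
  let N := (center R).subgroupOf A
  have := Fintype.ofFinite (A ⧸ N)
  have h3 := linearIndependent_of_not_scalar hR.top hR.comm (T := fun q : A ⧸ N => q.out.1.1)
    (fun q => q.out.1.2) fun q q' hq => by
      rw [← q.out_eq', ← q'.out_eq', QuotientGroup.eq]
      exact mem_center_iff.2 fun g => Subtype.ext (mem_center_iff.1 (scalars_le_center hq) g)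
  have h4 : Fintype.card (A ⧸ N) ≤ t := by
    refine (linearIndependent_iff_card_le_finrank_span.1 h3).trans
      ((Submodule.finrank_mono (Submodule.span_le.2 ?_)).trans
        ((finrank_range_le_card (R := F) e).trans (by simp)))
    rintro _ ⟨q, rfl⟩
    have hb : q.out.1.1 ∈ B := ⟨_, q.out.2, rfl⟩
    beta_reduce
    generalize q.out.1.1 = b at hb
    have h5 : (b : Matrix ι ι F) * b = 1 := congrArg Units.val (hsq b hb)
    rw [SetLike.mem_coe, ← mul_one b.val, ← he.sum, Finset.mul_sum]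
    refine sum_mem fun i _ => ?_
    have h6 : e i ∈ Submodule.span F (Set.range e) := Submodule.subset_span ⟨i, rfl⟩
    rcases (hP i).2.2.2 ((2 : F)⁻¹ • (1 + b)) (Subalgebra.smul_mem _ (add_mem (one_mem _)
      (coe_mem_alg hb)) _) (by
        rw [smul_mul_assoc, mul_smul_comm, mul_add, add_mul, add_mul, h5, inv_smul_eq_iff₀ h2,
          smul_comm, inv_smul_eq_iff₀ h2, smul_inv_smul₀ h2, two_smul]
        simp only [mul_one, one_mul]; abel) with h7 | h7 <;>
      rw [smul_mul_assoc, inv_smul_eq_iff₀ h2, add_mul, one_mul] at h7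
    · rw [eq_neg_of_add_eq_zero_right (h7.trans (smul_zero _))]; exact neg_mem h6
    · rw [two_smul, add_right_inj] at h7; rwa [h7]
  have h5 : Nat.card N ≤ 2 := (hR.eq_two h hI).2 ▸ Nat.card_le_card_of_injective
    (fun x : N => (⟨x.1.1, x.2⟩ : center R)) fun x y hxy =>
      Subtype.ext (Subtype.ext (congrArg (fun z : center R => z.1) hxy))
  have h6 : 2 * t ≤ 2 ^ m := by
    rcases Nat.lt_or_ge t 2 with ht | ht
    · exact (show 2 * t ≤ 2 ^ 1 by omega).trans (Nat.pow_le_pow_right two_pos hR.pos)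
    obtain ⟨k, hk⟩ := he.nondeg h ht fun i => alg_induction (p := fun x => adj _ f x = x)
      (fun b hb => by
        rw [h.adj_of_iso (isom_iff.1 hI (hB hb)), inv_eq_of_mul_eq_one_right (hsq b hb)])
      (fun x y hx hy => by rw [h.adj_add, hx, hy]) (fun c x hx => by rw [h.adj_smul, hx]; rfl)
      (hP i).1
    obtain ⟨l, hl⟩ := h.even_finrank ha (hk.nondegenerate ⟨0, by omega⟩)
    rw [hk.decomp.finrank_eq] at hl
    have := hk.decomp.pos
    rw [← hR.card_ι, ← IsMDecomposition.mul_eq hk.decomp, mul_comm]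
    exact Nat.mul_le_mul_left _ (by omega)
  rw [card_eq_card_quotient_mul_card_subgroup N, Nat.card_eq_fintype_card, pow_succ]
  have := Nat.two_pow_pos m
  nlinarith

end Cfsg.Lib.Asch
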