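import Cfsg.Agent.Lib.Asch.Block
import Cfsg.Agent.Lib.Linear.Stab
import Cfsg.Agent.Lib.Linear.Simple

/-! Maximal subgroups of the special linear groups. -/

set_option autoImplicit false

namespace Cfsg.Lib.Asch

open Matrix Cfsg.Geo Module
open scoped MatrixGroups Kronecker commutatorElement

variable {ι κ μ : Type} [Fintype ι] [DecidableEq ι] [Fintype κ] [DecidableEq κ]
  [Fintype μ] [DecidableEq μ] {F : Type*} [Field F] {σ : F →+* F}

/-! ### Quadratic subfields -/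

/-- The algebra spanned by `1` and a quadratic element. -/
def quadAlg (y : Matrix ι ι F) {s t : F} (h : y * y = s • y + t • 1) :
    Subalgebra F (Matrix ι ι F) where
  carrier := {x | ∃ a b : F, x = a • 1 + b • y}
  mul_mem' := by
    rintro _ _ ⟨a, b, rfl⟩ ⟨c, d, rfl⟩
    refine ⟨a * c + b * d * t, a * d + b * c + b * d * s, ?_⟩
    simp only [add_mul, mul_add, smul_mul_assoc, mul_smul_comm, one_mul, mul_one, h]
    module
  add_mem' := by
    rintro _ _ ⟨a, b, rfl⟩ ⟨c, d, rfl⟩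
    exact ⟨a + c, b + d, by module⟩
  algebraMap_mem' c := ⟨c, 0, by simp [Algebra.algebraMap_eq_smul_one]⟩

theorem self_mem_quadAlg {y : Matrix ι ι F} {s t : F} (h : y * y = s • y + t • 1) :
    y ∈ quadAlg y h := ⟨0, 1, by simp⟩

theorem quadAlg_comm {y : Matrix ι ι F} {s t : F} (h : y * y = s • y + t • 1) :
    ∀ x ∈ quadAlg y h, ∀ z ∈ quadAlg y h, x * z = z * x := by
  rintro _ ⟨a, b, rfl⟩ _ ⟨c, d, rfl⟩
  simp only [add_mul, mul_add, smul_mul_assoc, mul_smul_comm, one_mul, mul_one]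
  module

theorem isFieldSubalgebra_quadAlg [Nonempty ι] {y : Matrix ι ι F} {s t : F}
    (h : y * y = s • y + t • 1) (hi : ∀ c : F, c * c ≠ s * c + t) :
    IsFieldSubalgebra 2 (quadAlg y h) := by
  have h1 : (1 : Matrix ι ι F) ≠ 0 := one_ne_zero
  refine ⟨quadAlg_comm h, ?_, ?_⟩
  · rintro _ ⟨a, b, rfl⟩ h0
    have hN : a * a + a * b * s - b * b * t ≠ 0 := fun hN => by
      by_cases hb : b = 0
      · subst hb
        have : a = 0 := by simpa using hN
        simp [this] at h0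
      · refine hi (-a / b) ?_
        field_simp
        linear_combination hN
    obtain ⟨u, hu⟩ : ∃ u, (a * a + a * b * s - b * b * t) * u = 1 := ⟨_, mul_inv_cancel₀ hN⟩
    refine ⟨_, ⟨u * (a + b * s), -(u * b), rfl⟩, ?_⟩
    simp only [add_mul, mul_add, smul_mul_assoc, mul_smul_comm, one_mul, mul_one, h]
    match_scalars
    · linear_combination hu
    · ring
  · have hli : LinearIndependent F ![(1 : Matrix ι ι F), y] := by
      rw [LinearIndependent.pair_iff' h1]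
      rintro c rfl
      refine hi c (smul_left_injective F h1 ?_)
      simpa [smul_smul, add_smul] using h
    have : (quadAlg y h).toSubmodule = Submodule.span F (Set.range ![(1 : Matrix ι ι F), y]) := by
      ext x
      rw [Matrix.range_cons, Matrix.range_cons, Matrix.range_empty, Set.union_empty,
        Set.singleton_union, Submodule.mem_span_pair]
      exact exists₂_congr fun _ _ => eq_comm
    rw [← Subalgebra.finrank_toSubmodule, this, finrank_span_eq_card hli]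
    rfl

theorem nz_quadAlg {H : Subgroup (GL ι F)} {y : Matrix ι ι F} {s t : F}
    (h : y * y = s • y + t • 1) (hH : ∀ g ∈ H, cj g y ∈ quadAlg y h) :
    Nz H (quadAlg y h : Set (Matrix ι ι F)) := by
  rintro g hg _ ⟨a, b, rfl⟩
  rw [map_add, map_smul, map_smul, map_one]
  exact add_mem (Subalgebra.smul_mem _ (one_mem _) a) (Subalgebra.smul_mem _ (hH g hg) b)

/-! ### Small fields -/

theorem pow_eq_one_of_card [Fintype F] {k : ℕ} (h : Fintype.card F = k + 1) {c : F} (hc : c ≠ 0) :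
    c ^ k = 1 := by
  simpa [h] using FiniteField.pow_card_sub_one_eq_one c hc

theorem eq_zero_or_one [Fintype F] (h : Fintype.card F = 2) (c : F) : c = 0 ∨ c = 1 :=
  or_iff_not_imp_left.2 fun hc => by simpa using pow_eq_one_of_card h hc

theorem two_eq_zero_of_card [Fintype F] (h : Fintype.card F = 2) : (2 : F) = 0 :=
  two_eq_zero_of_not_odd (by rw [h]; decide)

theorem eq_one_or_neg_one [Fintype F] (h : Fintype.card F = 3) {c : F} (hc : c ≠ 0) :
    c = 1 ∨ c = -1 := sq_eq_one_iff.1 (pow_eq_one_of_card h hc)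

/-- The element of order three in `GL₂(2)`. -/
def W2 (F : Type*) [Field F] : Matrix (Fin 2) (Fin 2) F := !![0, 1; 1, 1]

theorem W2_mul_self : W2 F * W2 F = (1 : F) • W2 F + (1 : F) • 1 := by
  ext i j; fin_cases i <;> fin_cases j <;> simp [W2]

theorem eq_W2_or [Fintype F] (h : Fintype.card F = 2) {z : Matrix (Fin 2) (Fin 2) F}
    (hz : z * z = (1 : F) • z + (1 : F) • 1) : z = W2 F ∨ z = 1 + W2 F := by
  have h2 : (1 : F) + 1 = 0 := by rw [one_add_one_eq_two, two_eq_zero_of_card h]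
  have h00 := congrFun (congrFun hz 0) 0
  have h01 := congrFun (congrFun hz 0) 1
  have h11 := congrFun (congrFun hz 1) 1
  simp only [mul_apply, Fin.sum_univ_two] at h00 h01 h11
  clear hz
  rw [eta_fin_two z, one_fin_two, W2]
  rcases eq_zero_or_one h (z 0 0) with h1 | h1 <;> rcases eq_zero_or_one h (z 0 1) with h3 | h3 <;>
    rcases eq_zero_or_one h (z 1 0) with h4 | h4 <;> rcases eq_zero_or_one h (z 1 1) with h5 | h5 <;>
    simp_all

theorem NzL.exists_field [Fintype F] (h2 : Fintype.card F = 2) [Nonempty μ] {H : Subgroup (GL ι F)}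
    {e : ι ≃ Fin 2 × μ} {P : GL ι F} (h : NzL H e P) :
    ∃ hy : tr e P (kl _ _ F (W2 F)) * tr e P (kl _ _ F (W2 F)) = (1 : F) • _ + (1 : F) • 1,
      IsFieldSubalgebra 2 (quadAlg _ hy) ∧ H ≤ subalgebraNormalizer (quadAlg _ hy) := by
  have : Nonempty ι := ⟨e.symm (0, Classical.arbitrary μ)⟩
  have hy : tr e P (kl _ _ F (W2 F)) * tr e P (kl _ μ F (W2 F)) =
      (1 : F) • tr e P (kl _ μ F (W2 F)) + (1 : F) • 1 := by
    rw [← map_mul, ← map_mul, W2_mul_self, map_add, map_add, map_smul, map_smul, map_smul, map_smul,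
      map_one, map_one]
  refine ⟨hy, isFieldSubalgebra_quadAlg hy fun c => ?_, (nz_quadAlg hy fun g hg => ?_).le_normalizer⟩
  · rcases eq_zero_or_one h2 c with rfl | rfl <;> simp
  · obtain ⟨z, hz⟩ := h g hg (W2 F)
    rcases eq_W2_or h2 (z := z) (kl_injective (μ := μ) ((tr e P).injective (by
      simpa [hz] using congrArg (cj g) hy))) with rfl | rfl
    · rw [hz]; exact self_mem_quadAlg hy
    · exact ⟨1, 1, by simp [hz]⟩

/-! ### The special linear group -/

theorem mem_sl {g : GL ι F} : g ∈ specialLinear ι F ↔ (g : Matrix ι ι F).det = 1 := by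
  rw [specialLinear, MonoidHom.mem_ker, ← Units.val_eq_one, GeneralLinearGroup.val_det_apply]

theorem range_toGL : (SpecialLinearGroup.toGL (n := ι) (R := F)).range = specialLinear ι F := by
  ext g
  rw [mem_sl]
  exact ⟨by rintro ⟨g, rfl⟩; exact g.2, fun h => ⟨⟨_, h⟩, Units.ext rfl⟩⟩

theorem toGL_mem (g : Matrix.SpecialLinearGroup ι F) : g.toGL ∈ specialLinear ι F := mem_sl.2 g.2

theorem wit_sl {x : GL ι F} (h : x ∉ scalars ι F) : Wit (specialLinear ι F) x :=
  ⟨h, fun g hg => (MonoidHom.normal_ker _).conj_mem g hg x⟩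

/-- An elementary transvection as an element of `GL`. -/
def tv {i j : ι} (h : i ≠ j) (c : F) : GL ι F := (SpecialLinearGroup.transvection h c).toGL

theorem coe_tv {i j : ι} (h : i ≠ j) (c : F) : (tv h c : Matrix ι ι F) = 1 + single i j c := rfl

theorem tv_mem {i j : ι} (h : i ≠ j) (c : F) : tv h c ∈ specialLinear ι F :=
  toGL_mem _

theorem not_isSc_tv {i j : ι} (h : i ≠ j) : ¬ IsSc (tv h (1 : F) : Matrix ι ι F) := by
  rintro ⟨c, hc⟩
  simpa [coe_tv, h] using congrFun (congrFun hc i) j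

theorem exists_not_isSc (h : 2 ≤ Fintype.card ι) : ∃ a : GL ι F, ¬ IsSc (a : Matrix ι ι F) :=
  let ⟨_, _, hij⟩ := Fintype.exists_pair_of_one_lt_card h
  ⟨_, not_isSc_tv hij⟩

theorem isSc_of_map [Nonempty ι] {x : Matrix κ κ F} (φ : Matrix κ κ F →ₐ[F] Matrix ι ι F)
    (hφ : Function.Injective φ) (h : IsSc (φ x)) : IsSc x :=
  let ⟨c, hc⟩ := h
  ⟨c, hφ (by rw [hc, map_smul, map_one])⟩

theorem cl_sl (hn : 3 ≤ Fintype.card ι) : Cl (specialLinear ι F) := by
  have hinj := SpecialLinearGroup.toGL_injective (n := ι) (R := F)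
  refine ⟨by omega, eq_top_iff.2 fun x _ => ?_, ?_, fun N hN hn' => ?_, fun F₀ h => ?_⟩
  · have h1 : ∀ i j : ι, i ≠ j → single i j (1 : F) ∈ alg F (specialLinear ι F) := fun i j hij => by
      simpa [coe_tv] using sub_mem (coe_mem_alg (k := F) (tv_mem hij (1 : F))) (one_mem _)
    rw [eq_sum_single x]
    refine sum_mem fun i _ => sum_mem fun j _ => Subalgebra.smul_mem _ ?_ _
    obtain ⟨k, hi, hj⟩ := Linear.exists_third_index hn i j
    simpa using mul_mem (h1 i k hi.symm) (h1 k j hj)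
  · rw [← range_toGL, MonoidHom.range_eq_map, ← Subgroup.map_commutator, ← commutator_def,
      Linear.sl_commutator_eq_top (Or.inl hn)]
  · have : (N.comap (SpecialLinearGroup.toGL (n := ι) (R := F))).Normal :=
      ⟨fun x hx g => by simpa using hn' _ (toGL_mem g) _ hx⟩
    rw [← range_toGL] at hN ⊢
    rcases Linear.sl_normal_le_center_or_eq_top (Or.inl hn)
      (N.comap (SpecialLinearGroup.toGL (n := ι) (R := F))) with h | h
    · refine Or.inl fun x hx => ?_
      obtain ⟨x, rfl⟩ := hN hx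
      obtain ⟨c, -, hc⟩ := Matrix.SpecialLinearGroup.mem_center_iff.1 (h hx)
      exact mem_scalars_iff_isSc.2 ⟨c, by simpa [smul_one_eq_diagonal] using hc.symm⟩
    · exact Or.inr (le_antisymm hN (by rintro _ ⟨x, rfl⟩; exact (h ▸ Subgroup.mem_top x : x ∈ N.comap _)))
  · obtain ⟨i, j, hij⟩ := Fintype.exists_pair_of_one_lt_card (show 1 < Fintype.card ι by omega)
    refine eq_top_iff.2 fun c _ => ?_
    have := sub_mem (h _ (mul_mem (tv_mem hij c) (tv_mem hij.symm 1))) (natCast_mem F₀ (Fintype.card ι))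
    simpa [coe_tv, mul_add, add_mul, hij, hij.symm] using this

theorem sl_not_le_dec {t m : ℕ} {D : Fin t → Submodule F (ι → F)} (hD : IsMDecomposition m D) :
    ¬ specialLinear ι F ≤ decompositionStabilizer D := fun hc => by
  have : Nontrivial (Fin t) := Fin.nontrivial_iff_two_le.2 hD.two_le
  obtain ⟨i, j, hij⟩ := exists_pair_ne (Fin t)
  obtain ⟨v, hv, hv0⟩ := Submodule.exists_mem_ne_zero_of_ne_bot (IsMDecomposition.ne_bot hD i)
  obtain ⟨w, hw, hw0⟩ := Submodule.exists_mem_ne_zero_of_ne_bot (IsMDecomposition.ne_bot hD j)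
  have hd : ∀ {i j}, i ≠ j → ∀ {v}, v ∈ D i → v ∈ D j → v = 0 := fun hij _ h1 h2 =>
    (Submodule.disjoint_def.1 (hD.indep.pairwiseDisjoint hij)) _ h1 h2
  obtain ⟨φ, h1, h2⟩ := Linear.exists_dotProduct_of_notMem (fun h => hv0 (hd hij hv h)) (1 : F)
  have h3 : (1 + vecMulVec w φ).det = 1 := by rw [Linear.det_one_add_vecMulVec, h1 w hw, add_zero]
  obtain ⟨π, hπ⟩ := hc (toGL_mem ⟨_, h3⟩)
  have h4 : v + w ∈ D (π i) := by
    have : (1 + vecMulVec w φ) *ᵥ v ∈ D (π i) := hπ i ▸ Submodule.mem_map_of_mem hv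
    rwa [Linear.one_add_vecMulVec_mulVec, h2, one_smul] at this
  by_cases h5 : π i = i
  · rw [h5] at h4
    exact hw0 (hd hij ((Submodule.add_mem_iff_right _ hv).1 h4) hw)
  · refine hv0 (Submodule.disjoint_def.1 (hD.indep i) v hv ?_)
    rw [← add_sub_cancel_right v w]
    have hle : ∀ k, k ≠ i → D k ≤ ⨆ k, ⨆ (_ : k ≠ i), D k := fun k hk =>
      le_iSup₂_of_le k hk le_rfl
    exact sub_mem (hle _ h5 h4) (hle _ hij.symm hw)

theorem sl_not_le_sim (hn : 3 ≤ Fintype.card ι) {A : Matrix ι ι F} (h0 : A ≠ 0) :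
    ¬ specialLinear ι F ≤ similarityGroup (formOfGram σ A) := fun hc => by
  refine h0 (Matrix.ext fun a c => ?_)
  obtain ⟨b, hb, hc'⟩ := Linear.exists_third_index hn a c
  have := congrFun (congrFun ((cl_sl hn).fixes h0 hc _ (tv_mem hb.symm 1)) b) c
  rw [← fG_single (σ := σ) (act σ _ A), fG_act] at this
  rw [coe_tv, add_mulVec, add_mulVec, one_mulVec, one_mulVec, single_mulVec_eq, single_mulVec_eq] at this
  refine (fG_single (σ := σ) A a c).symm.trans ?_
  simpa [hc', (isSesq_fG A).add_left, fG_single] using this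

theorem sl_not_le_sim' (hn : 3 ≤ Fintype.card ι) {f : (ι → F) → (ι → F) → F} (hf : IsSesq σ f)
    (hσ : Function.Surjective σ) (h : IsNondegenerateForm f) :
    ¬ specialLinear ι F ≤ similarityGroup f := by
  have := (cl_sl (F := F) hn).nonempty
  rw [hf.eq_fG]
  exact sl_not_le_sim hn (hf.gram_ne_zero hσ h)

theorem sl_not_le_tensor [Finite F] (hn : 3 ≤ Fintype.card ι) {n₁ n₂ : ℕ} (h1 : 2 ≤ n₁) (h2 : 2 ≤ n₂)
    (e : ι ≃ Fin n₁ × Fin n₂) (P : GL ι F) :
    ¬ specialLinear ι F ≤ tensorProductSubgroup n₁ n₂ e P := by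
  have := (cl_sl (F := F) hn).nonempty
  have : NeZero n₁ := ⟨by omega⟩
  have : NeZero n₂ := ⟨by omega⟩
  obtain ⟨a, ha⟩ := exists_not_isSc (F := F) (ι := Fin n₁) (by simpa using h1)
  let φ := (tr e P).toAlgHom.comp (kl (Fin n₁) (Fin n₂) F)
  exact (cl_sl hn).not_le_tensor h2 (x := Units.map φ.toMonoidHom a) (a := a)
    (wit_sl fun h => ha (isSc_of_map φ ((tr e P).injective.comp kl_injective)
      (mem_scalars_iff_isSc.1 h))) rfl

theorem sl_not_le_wreath [Finite F] (hn : 3 ≤ Fintype.card ι) {k t : ℕ} (h1 : 2 ≤ k) (h2 : 2 ≤ t)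
    (e : ι ≃ (Fin t → Fin k)) (P : GL ι F) :
    ¬ specialLinear ι F ≤ tensorWreathSubgroup k t e P := by
  have := (cl_sl (F := F) hn).nonempty
  have : NeZero k := ⟨by omega⟩
  have : NeZero t := ⟨by omega⟩
  obtain ⟨a, ha⟩ := exists_not_isSc (F := F) (ι := Fin k) (by simpa using h1)
  let φ := (tr e P).toAlgHom.comp (slot 0)
  exact (cl_sl hn).not_le_wreath h1 h2 (x := Units.map φ.toMonoidHom a) (a := a) (i := 0)
    (wit_sl fun h => ha (isSc_of_map φ ((tr e P).injective.comp (slot_injective 0))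
      (mem_scalars_iff_isSc.1 h))) rfl

theorem sl_not_le_normalizer [Fintype F] (hn : 3 ≤ Fintype.card ι) {r : ℕ} {R : Subgroup (GL ι F)}
    (h : IsLinearSymplecticTypeData r R) : ¬ specialLinear ι F ≤ subgroupNormalizer R :=
  (cl_sl hn).not_le_normalizer h.symplecticType.prime h.symplecticType.pGroup
    (irr_iff.2 h.absIrred.1) fun x _ g hg => (MonoidHom.normal_ker _).conj_mem g hg x

/-- The alternatives for a maximal subgroup of the special linear group. -/
inductive SLCase [Fintype F] (H : Subgroup (GL ι F)) : Prop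
  | c1 (h : ∃ W : Submodule F (ι → F), W ≠ ⊥ ∧ W ≠ ⊤ ∧ H = subspaceStabilizer W ⊓ specialLinear ι F)
  | c2 (t m : ℕ) (ht : 2 ≤ t) (htm : t * m = Fintype.card ι) (h1 : m = 1 → 5 ≤ Fintype.card F)
      (h2 : m = 2 → 3 ≤ Fintype.card F) (h3 : m = 2 → t = 2 → 4 ≤ Fintype.card F)
      (h : ∃ D : Fin t → Submodule F (ι → F), IsMDecomposition m D ∧
        H = decompositionStabilizer D ⊓ specialLinear ι F)
  | c3 (r : ℕ) (hr : r.Prime) (hd : r ∣ Fintype.card ι)
      (h : ∃ K : Subalgebra F (Matrix ι ι F), IsFieldSubalgebra r K ∧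
        H = subalgebraNormalizer K ⊓ specialLinear ι F)
  | c4 (n₁ n₂ : ℕ) (h1 : 2 ≤ n₁) (h2 : n₁ < n₂) (hn : n₁ * n₂ = Fintype.card ι)
      (h3 : n₁ = 2 → 3 ≤ Fintype.card F)
      (h : ∃ (e : ι ≃ Fin n₁ × Fin n₂) (P : GL ι F),
        H = tensorProductSubgroup n₁ n₂ e P ⊓ specialLinear ι F)
  | c5 (h : ∃ (F₀ : Subfield F) (r : ℕ) (P : GL ι F), r.Prime ∧ Fintype.card F = Nat.card F₀ ^ r ∧
      H = subfieldSubgroup F₀ P ⊓ specialLinear ι F)
  | c6 (r m : ℕ) (hr : r.Prime) (hm : Fintype.card ι = r ^ m) (R : Subgroup (GL ι F))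
      (hR : IsLinearSymplecticTypeData r R) (h : H = subgroupNormalizer R ⊓ specialLinear ι F)
  | c7 (m t : ℕ) (h1 : 3 ≤ m) (h2 : 2 ≤ t) (hn : m ^ t = Fintype.card ι)
      (h : ∃ (e : ι ≃ (Fin t → Fin m)) (P : GL ι F),
        H = tensorWreathSubgroup m t e P ⊓ specialLinear ι F)
  | c8s (he : Even (Fintype.card ι)) (h : ∃ f : (ι → F) → (ι → F) → F, IsSymplecticForm f ∧
      H = similarityGroup f ⊓ specialLinear ι F)
  | c8o (h : Odd (Fintype.card F) ∧ ∃ Q : (ι → F) → F, IsNondegenerateQuadraticForm Q ∧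
      H = quadSimilarityGroup Q ⊓ specialLinear ι F)
  | c8u (h : ∃ (σ : F ≃+* F) (f : (ι → F) → (ι → F) → F), IsUnitaryForm σ f ∧
      H = similarityGroup f ⊓ specialLinear ι F)
  | res (h : InLinearResidualClass H)

theorem slCase [Fintype F] (hn : 3 ≤ Fintype.card ι) {H : Subgroup (GL ι F)}
    (hH : IsMaximalIn (specialLinear ι F) H) : SLCase H := by
  have hC := cl_sl (F := F) hn
  have := hC.nonempty
  have hq : 2 ≤ Fintype.card F := Fintype.one_lt_card
  by_cases hI : Irr H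
  swap
  · simp only [Irr, not_forall, not_or] at hI
    obtain ⟨W, h1, h2, h3⟩ := hI
    exact .c1 ⟨W, h2, h3, IsMaximalIn.eq_inf hH h1.le_stab (hC.not_le_stab h2 h3)⟩
  have c8b : C8b H → SLCase H := fun h => by
    rcases h.even_or with ⟨f, h1, h2, h⟩ | ⟨ho, Q, h1, h⟩
    · exact .c8s h2 ⟨f, h1, IsMaximalIn.eq_inf hH h
        (sl_not_le_sim' hn (isSesq_id_iff.2 h1.bilinear) Function.surjective_id h1.nondegenerate)⟩
    · exact .c8o ⟨ho, Q, h1, IsMaximalIn.eq_inf hH h fun hc => sl_not_le_sim' hn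
        (isSesq_id_iff.2 h1.polar_bilinear) Function.surjective_id h1.nondegenerate
        (hc.trans (quadSim_le_sim Q))⟩
  have c8u : C8u H → SLCase H := fun ⟨σ, f, h1, h⟩ => .c8u ⟨σ, f, h1, IsMaximalIn.eq_inf hH h
    (sl_not_le_sim' hn (IsUnitaryForm.isSesq h1) σ.surjective h1.nondegenerate)⟩
  have c3 : ∀ r K, r.Prime → IsFieldSubalgebra r K → H ≤ subalgebraNormalizer K → SLCase H :=
    fun r K hr hK h => .c3 r hr (IsFieldSubalgebra.dvd_card hK)
      ⟨K, hK, IsMaximalIn.eq_inf hH h (hC.not_le_field hr.two_le hK)⟩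
  rcases linCase hn H with ⟨W, h0, h1, h⟩ | ⟨t, m, D, hD, h⟩ | ⟨r, K, hr, hK, h⟩ |
    ⟨n₁, n₂, e, P, h1, h2, h⟩ | ⟨F₀, r, P, h1, h2, h⟩ | ⟨r, m, R, hR, hm, h⟩ |
    ⟨m, t, e, P, h1, h2, h⟩ | h | h | h
  · exact ((hI W (inv_iff_le_stab.2 h)).elim h0 h1).elim
  · by_cases h1 : m = 1 ∧ Fintype.card F ≤ 3
    · obtain ⟨rfl, h1⟩ := h1
      obtain ⟨A, h2, h3, h4⟩ := IsMDecomposition.exists_form_of_one (σ := RingHom.id F) hD
        (fun _ => rfl) fun c hc => by
          obtain h | h : Fintype.card F = 2 ∨ Fintype.card F = 3 := by omega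
          · simp [(eq_zero_or_one h c).resolve_left hc]
          · simpa [sq] using pow_eq_one_of_card h hc
      exact c8b (hI.c8b hC.two h2.ne_zero (Or.inl (by simpa using h3)) (h.trans h4))
    by_cases h2 : m = 1 ∧ Fintype.card F = 4
    · obtain ⟨rfl, h2⟩ := h2
      obtain ⟨σ, h3, h4, h5⟩ := exists_invol (q := 2) h2
      obtain ⟨A, h6, h7, h8⟩ := IsMDecomposition.exists_form_of_one (σ := (σ : F →+* F)) hD h4
        fun c hc => by rw [RingHom.coe_coe, h3, ← pow_succ', pow_eq_one_of_card h2 hc]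
      exact c8u ⟨σ, _, isUnitaryForm_fG h4 h5 h6 h7, h.trans h8⟩
    by_cases h3 : m = 2 ∧ (Fintype.card F = 2 ∨ (t = 2 ∧ Fintype.card F = 3))
    · obtain ⟨rfl, h3⟩ := h3
      obtain ⟨A, h4, h5, -, h6⟩ := IsMDecomposition.exists_form_of_two hD h fun g hg d h0 hd => by
        rcases h3 with h3 | ⟨rfl, h3⟩
        · exact ⟨1, fun j => (eq_zero_or_one h3 _).resolve_left (h0 j)⟩
        · rw [mem_sl.1 (hH.1.le hg), Fin.prod_univ_two] at hd
          refine ⟨Units.mk0 _ (h0 0), fun j => ?_⟩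
          fin_cases j
          · rfl
          · refine mul_left_cancel₀ (h0 0) (hd.symm.trans ?_)
            simpa [sq] using (pow_eq_one_of_card h3 (h0 0)).symm
      exact c8b (hI.c8b hC.two h4.ne_zero (Or.inr h5) h6)
    exact .c2 t m hD.two_le (IsMDecomposition.mul_eq hD) (by omega) (by omega) (by omega)
      ⟨D, hD, IsMaximalIn.eq_inf hH h (sl_not_le_dec hD)⟩
  · exact c3 r K hr hK h
  · by_cases h3 : n₁ = 2 ∧ Fintype.card F = 2
    · obtain ⟨rfl, h3⟩ := h3
      have : NeZero n₂ := ⟨by omega⟩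
      obtain ⟨hy, h4, h5⟩ := (nzL_of_le_tensor h).exists_field h3
      exact c3 2 _ Nat.prime_two h4 h5
    exact .c4 n₁ n₂ h1 h2 (by simpa using (Fintype.card_congr e).symm) (by omega)
      ⟨e, P, IsMaximalIn.eq_inf hH h (sl_not_le_tensor hn h1 (by omega) e P)⟩
  · exact .c5 ⟨F₀, r, P, h1, h2,
      IsMaximalIn.eq_inf hH h (hC.not_le_subfield (ne_top_of_card_pow h1.two_le h2) P)⟩
  · exact .c6 r m hR.symplecticType.prime hm R hR
      (IsMaximalIn.eq_inf hH h (sl_not_le_normalizer hn hR))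
  · exact .c7 m t h1 h2 (by simpa using (Fintype.card_congr e).symm)
      ⟨e, P, IsMaximalIn.eq_inf hH h (sl_not_le_wreath hn (by omega) h2 e P)⟩
  exacts [c8b h, c8u h, .res h]

/-! ### Arithmetic of the minimal field -/

theorem IsMinimalFieldFor.mod [Fintype F] {r p e : ℕ} (hr : r.Prime) (hrp : r ≠ p)
    (h : IsMinimalFieldFor r p e F) :
    e < r ∧ (p % r) ^ e % r = 1 ∧ ∀ d < e, 0 < d → (p % r) ^ d % r ≠ 1 := by
  obtain ⟨hp, -, -, h1, h2⟩ := h
  have key : ∀ d, r ∣ p ^ d - 1 ↔ (p % r) ^ d % r = 1 := fun d => by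
    rw [← Nat.pow_mod, ← Nat.modEq_iff_dvd' (Nat.one_le_pow _ _ hp.pos), Nat.ModEq,
      Nat.mod_eq_of_lt hr.one_lt, eq_comm]
  refine ⟨?_, (key e).1 h1, fun d hd h0 h => h2 d h0 hd ((key d).2 h)⟩
  by_contra he
  have := hr.two_le
  refine h2 (r - 1) (by omega) (by omega) ?_
  rw [← Nat.modEq_iff_dvd' (Nat.one_le_pow _ _ hp.pos), ← Nat.totient_prime hr]
  exact (Nat.ModEq.pow_totient ((Nat.coprime_primes hp hr).2 hrp.symm)).symm

theorem IsLinearSymplecticTypeData.odd [Fintype F] {r : ℕ} {R : Subgroup (GL ι F)} (hr : r ≠ 2)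
    (h : IsLinearSymplecticTypeData r R) : ∃ p e, p.Prime ∧ CharP F p ∧ Fintype.card F = p ^ e ∧
      Odd e ∧ e < r ∧ (p % r) ^ e % r = 1 ∧ ∀ d < e, 0 < d → (p % r) ^ d % r ≠ 1 := by
  obtain ⟨p, e, h1, h2, ⟨-, h3, h4, -⟩ | ⟨h3, -⟩ | ⟨h3, -⟩⟩ := h.field
  · rw [h4] at h2
    exact ⟨p, e, h2.1, h2.2.1, h2.2.2.1, h3,
      IsMinimalFieldFor.mod h.symplecticType.prime h1 h2⟩
  all_goals exact absurd h3 hr

theorem IsLinearSymplecticTypeData.two [Fintype F] {R : Subgroup (GL ι F)}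
    (hn : 3 ≤ Fintype.card ι) (h : IsLinearSymplecticTypeData 2 R) :
    ∃ p, p.Prime ∧ Fintype.card F = p ∧ p % 4 = 1 := by
  obtain ⟨p, e, h1, h2, ⟨h3, -⟩ | ⟨-, rfl, h3, -⟩ | ⟨-, -, h3, -⟩⟩ := h.field
  · exact absurd h3 (by decide)
  · rw [h3] at h2
    obtain ⟨hp, -, h4, h5, -⟩ := h2
    have := hp.two_le
    exact ⟨p, hp, by simpa using h4, by rw [pow_one] at h5; omega⟩
  · omega

theorem eq_of_prime_pow {n r m s : ℕ} (hr : r.Prime) (hs : s.Prime) (h : n = r ^ m) (hd : s ∣ n) :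
    r = s := ((Nat.prime_dvd_prime_iff_eq hs hr).1 (hs.dvd_of_dvd_pow (h ▸ hd))).symm

end Cfsg.Lib.Asch
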