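import Cfsg.Agent.Lib.Asch.FormAlg
import Cfsg.Agent.Lib.Asch.SL

/-! The subgroup structure theorem for groups of isometries, before specialising the form. -/

set_option autoImplicit false

namespace Cfsg.Lib.Asch

open Matrix Cfsg.Geo Module
open scoped MatrixGroups Kronecker commutatorElement

variable {ι κ μ : Type} [Fintype ι] [DecidableEq ι] [Fintype κ] [DecidableEq κ]
  [Fintype μ] [DecidableEq μ] {F : Type*} [Field F] {σ : F →+* F} {ε : F}
  {f : (ι → F) → (ι → F) → F}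

/-! ### The forms of the statement files -/

omit [Fintype ι] [DecidableEq ι] in
theorem hm_of (hs : IsSesq σ f) (hσ : ∀ a, σ (σ a) = a) (hn : IsNondegenerateForm f)
    (h : ∀ u v, σ (f v u) = ε * f u v) : Hm σ ε f :=
  ⟨hs, hσ, fun v hv => by_contra fun h0 => let ⟨x, hx⟩ := (hn v h0).1; hx (hv x), h⟩

omit [Fintype ι] [DecidableEq ι] in
theorem IsSymplecticForm.hm (h : IsSymplecticForm f) : Hm (RingHom.id F) (-1) f :=
  hm_of (isSesq_id_iff.2 h.bilinear) (fun _ => rfl) h.nondegenerate fun u v => by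
    rw [h.skew, neg_one_mul]; rfl

omit [Fintype ι] [DecidableEq ι] in
theorem IsSymmetricForm.hm (h : IsSymmetricForm f) : Hm (RingHom.id F) 1 f :=
  hm_of (isSesq_id_iff.2 h.bilinear) (fun _ => rfl) h.nondegenerate fun u v => by
    rw [h.symm, one_mul]; rfl

omit [Fintype ι] [DecidableEq ι] in
theorem IsNondegenerateQuadraticForm.hm {Q : (ι → F) → F} (h : IsNondegenerateQuadraticForm Q) :
    Hm (RingHom.id F) 1 (QuadraticMap.polar Q) :=
  hm_of (isSesq_id_iff.2 h.polar_bilinear) (fun _ => rfl) h.nondegenerate fun u v => by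
    rw [QuadraticMap.polar_comm, one_mul]; rfl

omit [Fintype ι] [DecidableEq ι] in
theorem IsUnitaryForm.hm {τ : F ≃+* F} (h : IsUnitaryForm τ f) : Hm (τ : F →+* F) 1 f :=
  hm_of (IsUnitaryForm.isSesq h) h.involutive h.nondegenerate fun u v => by
    rw [one_mul, h.herm u]; rfl

omit [Fintype ι] [DecidableEq ι] in
theorem Hm.symplectic (h : Hm (RingHom.id F) ε f) (ha : ∀ v, f v v = 0) : IsSymplecticForm f :=
  ⟨isSesq_id_iff.1 h.toIsSesq, fun v w => by
    have := ha (v + w)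
    rw [h.add_left, h.add_right, h.add_right, ha, ha] at this
    linear_combination this, ha, h.nondeg⟩

omit [Fintype ι] [DecidableEq ι] in
theorem Hm.alt (h : Hm (RingHom.id F) (-1) f) (h2 : (2 : F) ≠ 0) (v : ι → F) : f v v = 0 :=
  (mul_eq_zero.1 (by linear_combination (h.swap v v : f v v = _))).resolve_left h2

omit [Fintype ι] [DecidableEq ι] in
theorem Hm.symm (h : Hm (RingHom.id F) 1 f) (u v : ι → F) : f u v = f v u :=
  (h.swap v u).trans (one_mul _)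

omit [Fintype ι] [DecidableEq ι] in
theorem Hm.symmetric (h : Hm (RingHom.id F) 1 f) : IsSymmetricForm f :=
  ⟨isSesq_id_iff.1 h.toIsSesq, h.symm, h.nondeg⟩

omit [Fintype ι] [DecidableEq ι] in
theorem Hm.unitaryPow (h : Hm σ 1 f) {q : ℕ} (hq : ∀ a, σ a = a ^ q) : IsUnitaryFormPow q f :=
  ⟨h.add_left, h.smul_left, fun v w => by rw [← hq, h.swap, one_mul], h.nondeg⟩

omit [Fintype ι] in
theorem Hm.eps_or [Nonempty ι] (h : Hm (RingHom.id F) ε f) : ε = 1 ∨ ε = -1 :=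
  mul_self_eq_one_iff.1 h.norm_ε

omit [Fintype ι] in
theorem Hm.eps_eq_one [Nonempty ι] (h : Hm (RingHom.id F) ε f) (h2 : (2 : F) = 0) : ε = 1 :=
  h.eps_or.elim id fun h => by linear_combination h - h2

theorem IsSesq.isom_iff_fixes (h : IsSesq σ f) {H : Subgroup (GL ι F)} :
    Isom f H ↔ Fixes σ H (gramMatrix f) := by
  rw [fixes_iff, ← h.eq_fG, isom_iff_fixesForm]

theorem Hm.sim_of_normBy [Nonempty ι] (h : Hm σ ε f) {H N : Subgroup (GL ι F)} (hI : Isom f N)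
    (hN : alg F N = ⊤) (hn : NormBy H N) : H ≤ similarityGroup f := by
  rw [h.eq_fG]
  exact (h.isom_iff_fixes.1 hI).normBy_le_sim hN h.unit.ne_zero hn

theorem Hm.isom_of_le_commutator [Nonempty ι] (h : Hm σ ε f) {H N : Subgroup (GL ι F)}
    (hH : H ≤ similarityGroup f) (hN : N ≤ ⁅H, H⁆) : Isom f N :=
  h.isom_iff_fixes.2 (fixes_of_le_commutator h.unit.ne_zero (h.eq_fG ▸ hH) hN)

/-! ### Subfields -/

/-- The fixed field. -/
def fixF (ρ : F →+* F) : Subfield F := RingHom.eqLocusField ρ (RingHom.id F)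

theorem mem_fixF {ρ : F →+* F} {x : F} : x ∈ fixF ρ ↔ ρ x = x := Iff.rfl

theorem card_fixF [Fintype F] {ρ : F →+* F} (h : ∀ a, ρ (ρ a) = a) (hne : ρ ≠ RingHom.id F) :
    Fintype.card F = Nat.card (fixF ρ) ^ 2 := by
  obtain ⟨q, hq⟩ := Forms.exists_isConj hne h
  rw [← Nat.card_eq_fintype_card, hq.card, ← hq.card_fixed]
  rfl

theorem eq_fixF [Fintype F] {ρ : F →+* F} (h : ∀ a, ρ (ρ a) = a) (hne : ρ ≠ RingHom.id F)
    {F₀ : Subfield F} (h0 : Fintype.card F = Nat.card F₀ ^ 2) : F₀ = fixF ρ := by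
  ext x
  rw [mem_subfield_iff_pow, mem_subfield_iff_pow,
    Nat.pow_left_injective two_ne_zero (h0.symm.trans (card_fixF h hne))]

theorem hilbert90 {ρ : F →+* F} (h : ∀ a, ρ (ρ a) = a) {F₀ : Subfield F} (h0 : ∀ a ∈ F₀, ρ a ∈ F₀)
    (hne : ∃ a ∈ F₀, ρ a ≠ a) {η : F} (hη : η ∈ F₀) (h1 : η * ρ η = 1) :
    ∃ c ∈ F₀, c ≠ 0 ∧ η * ρ c = c := by
  obtain ⟨a, ha, hne⟩ := hne
  have key : ∀ b ∈ F₀, b + η * ρ b ≠ 0 → ∃ c ∈ F₀, c ≠ 0 ∧ η * ρ c = c := fun b hb h2 =>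
    ⟨_, add_mem hb (mul_mem hη (h0 b hb)), h2, by
      rw [map_add, map_mul, h]; linear_combination b * h1⟩
  by_cases h2 : 1 + η * ρ 1 = 0
  · refine key a ha fun h3 => hne ?_
    rw [map_one] at h2
    linear_combination ρ a * h2 - h3
  · exact key 1 (one_mem _) h2

theorem exists_comp_invol [Finite F] {σ τ : F →+* F} (hσ : ∀ a, σ (σ a) = a) (hτ : ∀ a, τ (τ a) = a)
    (hne : τ ≠ σ) : (∀ a, σ.comp τ (σ.comp τ a) = a) ∧ σ.comp τ ≠ RingHom.id F := by
  by_cases h1 : σ = RingHom.id F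
  · subst h1; exact ⟨hτ, hne⟩
  by_cases h2 : τ = RingHom.id F
  · subst h2; exact ⟨hσ, h1⟩
  obtain ⟨q, hq⟩ := Forms.exists_isConj h1 hσ
  obtain ⟨q', hq'⟩ := Forms.exists_isConj h2 hτ
  obtain rfl := Nat.pow_left_injective two_ne_zero (hq.card.symm.trans hq'.card)
  exact absurd (RingHom.ext fun x => (hq'.apply x).trans (hq.apply x).symm) hne

/-- Class 5: a subfield structure carrying a multiple of the form. -/
def Sub5 [Fintype F] (f : (ι → F) → (ι → F) → F) (H : Subgroup (GL ι F)) : Prop :=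
  ∃ (F₀ : Subfield F) (r : ℕ) (P : GL ι F) (ζ : F), r.Prime ∧ Fintype.card F = Nat.card F₀ ^ r ∧
    H ≤ subfieldSubgroup F₀ P ∧ ζ ≠ 0 ∧ ∀ i j, ζ * gramMatrix (pull f (Equiv.refl ι) P) i j ∈ F₀

theorem Hm.sub5_of_realisable [Fintype F] [Nonempty ι] (h : Hm σ ε f) {H N : Subgroup (GL ι F)}
    (hn : NormBy H N) (hN : alg F N = ⊤) (hI : Isom f N) {F₀ : Subfield F} (h0 : F₀ ≠ ⊤)
    (hr : RealisableOver F₀ (matrixSet N)) : Sub5 f H := by
  obtain ⟨F₁, r, h1, hr', hc⟩ := exists_maximal_subfield h0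
  obtain ⟨P, ζ, h2⟩ := h.subfield_of_finrank hn hN hI (finrank_alg_le_of_realisable h1 hr)
  exact ⟨F₁, r, P, ζ, hr', hc, h2⟩

theorem Extra.sub5 [Fintype F] (h : Hm σ ε f) {H R : Subgroup (GL ι F)} {r m : ℕ}
    (hR : Extra H R r m) (hI : Isom f H) {F₀ : Subfield F} (h0 : F₀ ≠ ⊤)
    (hs : ∀ c : Fˣ, sc ι c ∈ R → (c : F) ∈ F₀) : Sub5 f H := by
  have := hR.nonempty
  obtain ⟨F₁, r, h1, hr', hc⟩ := exists_maximal_subfield h0
  obtain ⟨P, ζ, h2⟩ := h.subfield_of_finrank hR.norm hR.top (hI.mono hR.le)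
    (hR.finrank_alg_le fun c hc => h1 (hs c hc))
  exact ⟨F₁, r, P, ζ, hr', hc, h2⟩

/-- Two invariant forms with different automorphisms give a subfield structure. -/
theorem Hm.sub5_of_two_forms [Fintype F] [Nonempty ι] (h : Hm σ ε f) {τ : F →+* F} {ε' : F}
    {f' : (ι → F) → (ι → F) → F} (h' : Hm τ ε' f') (hne : τ ≠ σ) {H N : Subgroup (GL ι F)}
    (hH : H ≤ similarityGroup f) (hH' : H ≤ similarityGroup f') (hN : alg F N = ⊤) (hI : Isom f N)
    (hI' : ∀ g ∈ N, ∃ c : F, c * σ (τ c) = 1 ∧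
      ∀ u v, f' ((g : Matrix ι ι F) *ᵥ u) ((g : Matrix ι ι F) *ᵥ v) = c * f' u v) : Sub5 f H := by
  obtain ⟨h1, h2⟩ := exists_comp_invol h.invol h'.invol hne
  let ρ := σ.comp τ
  have hs : ∀ (c : F) x, adj σ f (adj τ f' (c • x)) = ρ c • adj σ f (adj τ f' x) := fun c x => by
    rw [h'.adj_smul, h.adj_smul]; rfl
  let A : Subalgebra (fixF ρ) (Matrix ι ι F) :=
    { carrier := {x | adj σ f (adj τ f' x) = x}
      mul_mem' := fun {x y} hx hy => by
        rw [Set.mem_setOf_eq, h'.adj_mul, h.adj_mul, hx, hy]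
      add_mem' := fun {x y} hx hy => by
        rw [Set.mem_setOf_eq, h'.adj_add, h.adj_add, hx, hy]
      algebraMap_mem' := fun c => by
        rw [Set.mem_setOf_eq, Algebra.algebraMap_eq_smul_one, Subfield.smul_def, hs, h'.adj_one,
          h.adj_one, mem_fixF.1 c.2] }
  have hA : ∀ x, x ∈ A ↔ adj σ f (adj τ f' x) = x := fun _ => Iff.rfl
  have h3 : ∃ a ∈ (⊤ : Subfield F), ρ a ≠ a := by
    by_contra hc
    push Not at hc
    exact h2 (RingHom.ext fun a => hc a trivial)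
  obtain ⟨P, ζ, h4⟩ := h.subfield_of_alg (H := H) A (by
      rw [eq_top_iff]
      intro x _
      refine alg_induction (p := fun x => x ∈ Submodule.span F _) (fun g hg => ?_)
        (fun _ _ => add_mem) (fun c _ => Submodule.smul_mem _ c) (hN ▸ Algebra.mem_top : x ∈ alg F N)
      obtain ⟨c, hc, hg'⟩ := hI' g hg
      obtain ⟨d, -, hd0, hd⟩ := hilbert90 h1 (F₀ := ⊤) (fun _ _ => trivial) h3 (η := ρ c) trivial
        (by rw [h1, mul_comm]; exact hc)
      rw [← inv_smul_smul₀ hd0 (g : Matrix ι ι F)]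
      refine Submodule.smul_mem _ _ (Submodule.subset_span ((hA _).2 ?_))
      rw [hs, h'.adj_of_sim hg', h.adj_smul, h.adj_of_iso (hI _ (inv_mem hg)), inv_inv, smul_smul,
        mul_comm]
      exact congrArg (· • _) hd)
    (finrank_le_of_fixed (σ := ρ) (fun c => by rw [mem_fixF, map_add, h1, add_comm])
      (Forms.exists_trace_eq (hσ := h1) (Or.inl h2) (map_one _)) (h.adjHom.comp h'.adjHom) hs
      fun x hx => hx)
    (fun g hg x hx => (hA _).2 (by rw [h'.adj_cj (hH' hg), h.adj_cj (hH hg), (hA x).1 hx]))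
    fun x hx => (hA _).2 (by
      have := congrArg (adj σ f) ((hA x).1 hx)
      rw [h.adj_adj] at this
      rw [← this, h'.adj_adj, this])
  exact ⟨_, 2, P, ζ, Nat.prime_two, card_fixF h1 h2, h4⟩

theorem Hm.sub5_of_isom [Fintype F] [Nonempty ι] (h : Hm σ ε f) {τ : F →+* F} {ε' : F}
    {f' : (ι → F) → (ι → F) → F} (h' : Hm τ ε' f') (hne : τ ≠ σ) {H N : Subgroup (GL ι F)}
    (hn : NormBy H N) (hN : alg F N = ⊤) (hI : Isom f N) (hI' : Isom f' N) : Sub5 f H :=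
  h.sub5_of_two_forms h' hne (h.sim_of_normBy hI hN hn) (h'.sim_of_normBy hI' hN hn) hN hI
    fun g hg => ⟨1, by simp, fun u v => by rw [hI' g hg, one_mul]⟩

/-! ### The alternatives -/

theorem Irr.alg_top [Finite F] [Nonempty ι] {H : Subgroup (GL ι F)} (hI : Irr H)
    (h2 : 2 ≤ Fintype.card ι) (hc : ∀ x ∈ cen (alg F H), IsSc x) : alg F H = ⊤ := by
  rcases hI.trichotomy (NormBy.self H).nz (fun x hx h => hc x (mem_cen.2 ⟨hx, h⟩)) with h | h |
    ⟨n₁, n₂, e, P, h1, h2, h⟩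
  · exact absurd hI (not_irr_of_le_scalars h2 fun g hg =>
      mem_scalars_iff_isSc.2 (h _ (coe_mem_alg hg)))
  · exact h
  · have : NeZero n₁ := ⟨by omega⟩
    have : NeZero n₂ := ⟨by omega⟩
    have : Nontrivial (Fin n₂) := Fin.nontrivial_iff_two_le.2 h2
    obtain ⟨j, hj⟩ := exists_ne (0 : Fin n₂)
    have hinj : Function.Injective fun y => tr e P (kr (Fin n₁) (Fin n₂) F y) :=
      (tr e P).injective.comp kr_injective
    rcases hI (rg (tr e P (kr _ _ F (single 0 0 1)))) (fun g hg w hw => by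
      obtain ⟨y, hy⟩ := (h _).1 (coe_mem_alg hg)
      obtain ⟨v, rfl⟩ := mem_rg.1 hw
      rw [hy, mulVec_mulVec, ← map_mul, kl_mul_kr, ← kr_mul_kl, map_mul, ← mulVec_mulVec]
      exact mulVec_mem_rg _ _) with h3 | h3
    · have := hinj ((rg_eq_bot.1 h3).trans (by simp : _ = tr e P (kr (Fin n₁) (Fin n₂) F 0)))
      simpa using congrFun (congrFun this 0) 0
    · have := hinj (show tr e P (kr _ _ F (single j j 1)) = tr e P (kr (Fin n₁) (Fin n₂) F 0) from
        mat_ext fun v => by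
          obtain ⟨w, rfl⟩ := mem_rg.1 (h3 ▸ Submodule.mem_top : v ∈ rg _)
          rw [mulVec_mulVec, ← map_mul, ← map_mul]
          simp [hj])
      simpa using congrFun (congrFun this j) j

theorem Cl.not_le_dec_two {G : Subgroup (GL ι F)} (h : Cl G) {m : ℕ}
    {D : Fin 2 → Submodule F (ι → F)} (hD : IsMDecomposition m D) :
    ¬ G ≤ decompositionStabilizer D := fun hc => by
  refine h.not_le_stab (IsMDecomposition.ne_bot hD 0) (IsMDecomposition.ne_top hD 0)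
    (h.perf ▸ Subgroup.commutator_le.2 fun a ha b hb => ?_)
  obtain ⟨π, hπ⟩ := hc ha
  obtain ⟨ρ, hρ⟩ := hc hb
  have h1 : ∀ π ρ : Equiv.Perm (Fin 2), ∃ i, ρ (π i) = 0 ∧ π (ρ i) = 0 := by decide
  obtain ⟨i, h2, h3⟩ := h1 π ρ
  rw [mem_stab_iff_map]
  conv_lhs => rw [← h2, ← hρ, ← hπ, map_map_toLin', map_map_toLin']
  rw [show ⁅a, b⁆ * b * a = a * b by simp [commutatorElement_def], ← map_map_toLin', hρ, hπ, h3]

/-- `G` stabilises no orthogonal decomposition. -/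
def NoDec (f : (ι → F) → (ι → F) → F) (G : Subgroup (GL ι F)) : Prop :=
  ∀ (t m : ℕ) (D : Fin t → Submodule F (ι → F)), IsNondegenerateMDecomposition f m D →
    ¬ G ≤ decompositionStabilizer D

/-- The standing hypotheses: `H` is a group of isometries whose elements normalise `G`. -/
structure Ctx (σ : F →+* F) (ε : F) (f : (ι → F) → (ι → F) → F) (G H : Subgroup (GL ι F)) :
    Prop where
  hm : Hm σ ε f
  cl : Cl G
  iso : Isom f H
  wit : ∀ x ∈ H, x ∉ scalars ι F → Wit G x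
  nd : NoDec f G

/-- A decomposition into orthogonal non-degenerate subspaces permuted transitively. -/
structure Dec (f : (ι → F) → (ι → F) → F) (H : Subgroup (GL ι F)) {t : ℕ} (m : ℕ)
    (D : Fin t → Submodule F (ι → F)) : Prop where
  nd : IsNondegenerateMDecomposition f m D
  le : H ≤ decompositionStabilizer D
  trans : ∀ i j, ∃ g ∈ H, (D i).map (toLin' (g : Matrix ι ι F)) = D j

/-- A normalised adjoint-closed extension field. -/
structure Fld (σ : F →+* F) (f : (ι → F) → (ι → F) → F) (H : Subgroup (GL ι F)) (r : ℕ)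
    (K : Subalgebra F (Matrix ι ι F)) : Prop where
  prime : r.Prime
  field : IsFieldSubalgebra r K
  nz : Nz H (K : Set (Matrix ι ι F))
  ac : AC σ f K
  wit : r = Fintype.card ι → ∃ x ∈ H, x ∉ scalars ι F ∧ ∀ k ∈ K, (x : Matrix ι ι F) * k = k * x

/-- The alternatives arising from a commutative normalised algebra. -/
inductive CommCase (σ : F →+* F) (f : (ι → F) → (ι → F) → F) (H : Subgroup (GL ι F)) : Prop
  | dec (t m : ℕ) (D : Fin t → Submodule F (ι → F)) (h : Dec f H m D)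
  | pair (e : Fin 2 → Matrix ι ι F) (he : IdemSys H e) (ha : adj σ f (e 0) = e 1)
  | fld (r : ℕ) (K : Subalgebra F (Matrix ι ι F)) (h : Fld σ f H r K)

/-- A tensor decomposition of the space and the form. -/
structure Tens (σ : F →+* F) (ε : F) (f : (ι → F) → (ι → F) → F) (G H : Subgroup (GL ι F))
    (e : ι ≃ κ × μ) (P : GL ι F) (A₁ : Matrix κ κ F) (A₂ : Matrix μ μ F) (ε₁ ε₂ : F) : Prop where
  irr : Irr H
  top : alg F H = ⊤
  two₁ : 2 ≤ Fintype.card κ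
  two₂ : 2 ≤ Fintype.card μ
  nz : NzL H e P
  not_nz : ¬ NzL G e P
  hm₁ : Hm σ ε₁ (formOfGram σ A₁)
  hm₂ : Hm σ ε₂ (formOfGram σ A₂)
  eps : ε₁ * ε₂ = ε
  gram : gramMatrix (pull f e P) = A₁ ⊗ₖ A₂

/-- A tensor power decomposition of the space and the form. -/
structure Pow (σ : F →+* F) (ε : F) (f : (ι → F) → (ι → F) → F) (G H : Subgroup (GL ι F)) {t k : ℕ}
    (e : ι ≃ (Fin t → Fin k)) (P : GL ι F) (A : Matrix (Fin k) (Fin k) F) (ε₁ c : F) : Prop where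
  irr : Irr H
  two_t : 2 ≤ t
  two_k : 2 ≤ k
  le : H ≤ tensorWreathSubgroup k t e P
  not_le : ¬ G ≤ tensorWreathSubgroup k t e P
  hm₁ : Hm σ ε₁ (formOfGram σ A)
  ne : c ≠ 0
  eps : σ c * ε₁ ^ t = ε * c
  gram : gramMatrix (pull f e P) = c • pure fun _ => A
  perf : ∃ N ≤ ⁅H, H⁆, NormBy H N ∧ alg F N = ⊤
  factor : ∃ L : Subgroup (GL (Fin k) F), ⁅L, L⁆ = L ∧ alg F L = ⊤ ∧ Isom (formOfGram σ A) L

/-- The almost simple case. -/
structure Res (σ : F →+* F) (H₀ H L : Subgroup (GL ι F)) : Prop where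
  irr : Irr H
  core : IsResidualCore H₀ L
  top : alg F L = ⊤
  norm : NormBy H L
  le : L ≤ H
  form : ∀ (τ : F →+* F) (ε' : F) (f' : (ι → F) → (ι → F) → F), Hm τ ε' f' → Isom f' L → τ = σ

/-- The alternatives of the structure theorem for groups of isometries. -/
inductive FCase [Fintype F] (σ : F →+* F) (ε : F) (f : (ι → F) → (ι → F) → F)
    (G H₀ H : Subgroup (GL ι F)) : Prop
  | red (h : ¬ Irr H)
  | comm (hI : Irr H) (h : CommCase σ f H)
  | tens (n₁ n₂ : ℕ) (e : ι ≃ Fin n₁ × Fin n₂) (P : GL ι F) (A₁ : Matrix (Fin n₁) (Fin n₁) F)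
      (A₂ : Matrix (Fin n₂) (Fin n₂) F) (ε₁ ε₂ : F) (h : Tens σ ε f G H e P A₁ A₂ ε₁ ε₂)
  | sub (hI : Irr H) (h : Sub5 f H)
  | extra (hI : Irr H) (R : Subgroup (GL ι F)) (r m : ℕ) (h : Extra H R r m)
  | pow (t k : ℕ) (e : ι ≃ (Fin t → Fin k)) (P : GL ι F) (A : Matrix (Fin k) (Fin k) F) (ε₁ c : F)
      (h : Pow σ ε f G H e P A ε₁ c)
  | res (L : Subgroup (GL ι F)) (h : Res σ H₀ H L)

theorem NzL.of_swap [Nonempty μ] {H : Subgroup (GL ι F)} {e : ι ≃ κ × μ} {P : GL ι F}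
    (h : NzL H (e.trans (Equiv.prodComm _ _)) P) : NzL H e P := h.swap

theorem Tens.swap {G H : Subgroup (GL ι F)} {e : ι ≃ κ × μ} {P : GL ι F} {A₁ : Matrix κ κ F}
    {A₂ : Matrix μ μ F} {ε₁ ε₂ : F} (h : Tens σ ε f G H e P A₁ A₂ ε₁ ε₂) :
    Tens σ ε f G H (e.trans (Equiv.prodComm _ _)) P A₂ A₁ ε₂ ε₁ :=
  have : Nonempty κ := Fintype.card_pos_iff.1 (by have := h.two₁; omega)
  have : Nonempty μ := Fintype.card_pos_iff.1 (by have := h.two₂; omega)
  ⟨h.irr, h.top, h.two₂, h.two₁, h.nz.swap, fun hc => h.not_nz hc.of_swap, h.hm₂, h.hm₁,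
    (mul_comm _ _).trans h.eps, gram_pull_swap h.gram⟩

theorem isom_slot [Nonempty κ] {t : ℕ} {f : ((Fin t → κ) → F) → ((Fin t → κ) → F) → F}
    {A : Matrix κ κ F} (hA : IsUnit A) {c : F} (hc : c ≠ 0)
    (hg : gramMatrix f = c • pure fun _ => A) {i : Fin t} {a : Matrix κ κ F}
    (h : act σ (slot i a) (gramMatrix f) = gramMatrix f) : act σ a A = A := by
  have hd := (isUnit_iff_isUnit_det _).1 hA
  rw [hg, act_smul, slot_apply, act_pure] at h
  have h1 := congrArg (· * pure fun _ : Fin t => A⁻¹) (smul_right_injective _ hc h)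
  simp only [← pure_mul] at h1
  have h2 : slot i (act σ a A * A⁻¹) = slot i 1 := by
    rw [slot_apply, map_one, ← pure_one]
    convert h1 using 2 <;> funext j
    · by_cases hj : j = i
      · subst hj; simp
      · simp [hj, act_one, mul_nonsing_inv _ hd]
    · simp [mul_nonsing_inv _ hd]
  rw [← nonsing_inv_mul_cancel_right A (act σ a A) hd, slot_injective i h2, one_mul]

namespace Ctx

variable {G H : Subgroup (GL ι F)} (h : Ctx σ ε f G H)
include h

theorem nonempty : Nonempty ι := h.cl.nonempty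

theorem sim : H ≤ similarityGroup f := h.iso.le_sim

omit h in
theorem _root_.Cfsg.Lib.Asch.Hm.comm [Fintype F] [Nonempty ι] (h : Hm σ ε f) (hI : Irr H)
    (hH : H ≤ similarityGroup f) {C : Subalgebra F (Matrix ι ι F)}
    (hN : Nz H (C : Set (Matrix ι ι F))) (hc : ∀ x ∈ C, ∀ y ∈ C, x * y = y * x) (hA : AC σ f C)
    (hx : ∃ x ∈ C, ¬ IsSc x)
    (hw : (∃ x ∈ H, x ∉ scalars ι F ∧ ∀ k ∈ C, (x : Matrix ι ι F) * k = k * x) ∨
      ∃ a b, (∀ k ∈ C, a * k = k * a) ∧ (∀ k ∈ C, b * k = k * b) ∧ a * b ≠ b * a) :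
    CommCase σ f H := by
  rcases h.comm_case hI hH hN hc hA hx with ⟨t, e, ht, he, hm, ha⟩ | ⟨e, he, -, ha⟩ |
    ⟨r, K, hr, hK, hn, hle, ha⟩
  · obtain ⟨m, hm'⟩ := he.nondeg h ht ha
    exact .dec t m _ ⟨hm', he.le_stab, he.trans_rg⟩
  · exact .pair e he ha
  · refine .fld r K ⟨hr, hK, hn, ha, ?_⟩
    rintro rfl
    rcases hw with ⟨x, h1, h2, h3⟩ | ⟨a, b, h1, h2, h3⟩
    · exact ⟨x, h1, h2, fun k hk => h3 k (hle hk)⟩
    · exact absurd (hK.comm _ (IsFieldSubalgebra.mem_of_comm hK fun k hk => h1 k (hle hk)) _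
        (IsFieldSubalgebra.mem_of_comm hK fun k hk => h2 k (hle hk))) h3

/-- A quadratic element with at most two conjugates. -/
theorem comm_of_two [Fintype F] (hI : Irr H) (hT : alg F H = ⊤) {y y' : Matrix ι ι F} {s t : F}
    (hy : y * y = s • y + t • 1) (hy' : y' ∈ quadAlg y hy) (ha : adj σ f y ∈ quadAlg y hy)
    (hs : ¬ IsSc y) (hH : ∀ g ∈ H, cj g y = y ∨ cj g y = y') : CommCase σ f H := by
  have := h.nonempty
  refine h.hm.comm hI h.sim (nz_quadAlg hy fun g hg => ?_) (quadAlg_comm hy) ?_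
    ⟨y, self_mem_quadAlg hy, hs⟩ (Or.inl ?_)
  · rcases hH g hg with h1 | h1 <;> rw [h1]
    exacts [self_mem_quadAlg hy, hy']
  · rintro _ ⟨a, b, rfl⟩
    rw [h.hm.adj_add, h.hm.adj_smul, h.hm.adj_smul, h.hm.adj_one]
    exact add_mem (Subalgebra.smul_mem _ (one_mem _) _) (Subalgebra.smul_mem _ ha _)
  by_contra hc
  have key : ∀ g ∈ H, cj g y = y → ∀ x, g * x = x * g := fun g hg hy x => by
    refine (Subgroup.mem_center_iff.1 (scalars_le_center ?_) x).symm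
    by_contra h0
    refine hc ⟨g, hg, h0, ?_⟩
    rintro _ ⟨a, b, rfl⟩
    simp only [mul_add, add_mul, mul_smul_comm, smul_mul_assoc, mul_one, one_mul, cj_eq_iff.1 hy]
  refine not_alg_top_of_comm h.cl.two (fun a ha b hb => ?_) hT
  rcases hH a ha with h1 | h1
  · exact key a ha h1 b
  rcases hH b hb with h2 | h2
  · exact (key b hb h2 a).symm
  have := key (a⁻¹ * b) (mul_mem (inv_mem ha) hb) (by rw [cj_mul, h2, ← h1, cj_inv_cj]) a
  rw [mul_inv_cancel_left, mul_assoc, inv_mul_eq_iff_eq_mul] at this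
  exact this.symm

theorem fcase [Fintype F] {H₀ : Subgroup (GL ι F)} (h0 : H₀ ≤ H) (h1 : H ≤ H₀ ⊔ scalars ι F) :
    FCase σ ε f G H₀ H := by
  have := h.nonempty
  have h2 := h.cl.two
  by_cases hI : Irr H
  swap
  · exact .red hI
  by_cases hc : ∀ N ≤ H, NormBy H N → ∀ x ∈ cen (alg F N), IsSc x
  swap
  · push Not at hc
    obtain ⟨N, hle, hN, y, hy, hy'⟩ := hc
    refine .comm hI (h.hm.comm hI h.sim (hN.nz (k := F)).cen (cen_comm _)
      (h.hm.ac_cen (h.hm.ac_alg' (h.iso.mono hle))) ⟨y, hy, hy'⟩ (Or.inl ?_))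
    by_contra hw
    push Not at hw
    refine hy' (alg_induction (p := IsSc) (fun g hg => mem_scalars_iff_isSc.1 ?_) ?_ ?_
      (mem_cen.1 hy).1)
    · by_contra hg'
      obtain ⟨k, hk, hk'⟩ := hw g (hle hg) hg'
      exact hk' ((mem_cen.1 hk).2 _ (coe_mem_alg hg)).symm
    · rintro _ _ ⟨a, rfl⟩ ⟨b, rfl⟩
      exact ⟨a + b, (add_smul _ _ _).symm⟩
    · rintro c _ ⟨a, rfl⟩
      exact ⟨c * a, smul_smul _ _ _⟩
  rcases hI.qp_or_tensor hc with hQ | ⟨N, hle, hN, n₁, n₂, e, P, h3, h4, hm⟩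
  swap
  · have : NeZero n₁ := ⟨by omega⟩
    have : NeZero n₂ := ⟨by omega⟩
    obtain ⟨A₁, A₂, ε₁, ε₂, h5, h6, h7, h8⟩ := (h.hm.pull e P).exists_kron fun y => by
      obtain ⟨z, hz⟩ := (hm _).1 (h.hm.ac_alg' (h.iso.mono hle) _ ((hm _).2 ⟨y, rfl⟩))
      exact ⟨z, (tr e P).injective (by rw [← h.hm.adj_tr, hz])⟩
    obtain ⟨x, hx, hx'⟩ : ∃ x ∈ N, x ∉ scalars ι F := by
      by_contra hw
      push Not at hw
      refine not_comm_top (F := F) (ι := Fin n₁) (by simpa using h3) fun a b =>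
        kl_injective (μ := Fin n₂) ((tr e P).injective ?_)
      rw [map_mul, map_mul, map_mul, map_mul]
      exact alg_comm_alg (k := F) (fun g hg g' _ =>
        (Subgroup.mem_center_iff.1 (scalars_le_center (hw g hg)) g').symm) ((hm _).2 ⟨a, rfl⟩)
        ((hm _).2 ⟨b, rfl⟩)
    obtain ⟨a, ha⟩ := (hm _).1 (coe_mem_alg hx)
    exact .tens n₁ n₂ e P A₁ A₂ ε₁ ε₂ ⟨hI, hI.alg_top h2 (hc H le_rfl (NormBy.self H)),
      by simpa using h3, by simpa using h4, hN.nzL hm,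
      h.cl.not_nzL (by simpa using h4) (h.wit x (hle hx) hx') ha, h5, h6, h7, h8⟩
  rcases hI.min_normal_cases h2 with ⟨N, r, hN⟩ | ⟨t, L, hL⟩
  · obtain ⟨R, m, hR⟩ := hN.exists_extra h2 hQ
    exact .extra hI R r m hR
  rcases (show 1 ≤ t from hL.pos).eq_or_lt with rfl | ht
  · have hT := hL.alg_one hQ
    have hN := hL.normBy_one
    have hiso := h.iso.mono (hL.le' 0)
    by_contra hn
    refine hn (.res (L 0) ⟨hI, hL.isResidualCore hQ h0 h1 fun F₀ h3 h4 =>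
      hn (.sub hI (h.hm.sub5_of_realisable hN hT hiso h3 h4)), hT, hN, hL.le' 0,
      fun τ ε' f' h3 h4 => by_contra fun h5 => hn (.sub hI (h.hm.sub5_of_isom h3 h5 hN hT hiso h4))⟩)
  obtain ⟨k, e, P, hk, hm, htr⟩ := hL.exists_power hQ
  have : NeZero k := ⟨by omega⟩
  let o : Fin t := ⟨0, hL.pos⟩
  choose θ hθ using fun y => (hm o _).1 (h.hm.ac_alg' (h.iso.mono (hL.le' o)) _ ((hm o _).2 ⟨y, rfl⟩))
  obtain ⟨A, ε₁, c, h3, h4, h5, h6⟩ := (h.hm.pull e P).exists_pure hL.pos (θ := θ) fun i y => by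
    obtain ⟨g, hg, hgi⟩ := htr o i
    apply (tr e P).injective
    rw [← h.hm.adj_tr, ← hgi, ← hgi, h.hm.adj_cj (h.sim hg), hθ]
  obtain ⟨x, hx, hx'⟩ := SetLike.not_le_iff_exists.1 (hL.not_le_scalars o)
  obtain ⟨a, ha⟩ := (hm o _).1 (coe_mem_alg hx)
  let φ := (tr e P).toAlgHom.comp (slot (κ := Fin k) o)
  have hφ : Function.Injective φ := (tr e P).injective.comp (slot_injective o)
  let ψ : GL (Fin k) F →* GL ι F := Units.map φ.toMonoidHom
  have hψ : ((L o).comap ψ).map ψ = L o := Subgroup.map_comap_eq_self fun g hg => by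
    obtain ⟨b, hb⟩ := (hm o _).1 (coe_mem_alg hg)
    exact ⟨(isUnit_of_algHom φ (x := b) (hb ▸ g.isUnit :)).unit, Units.ext hb.symm⟩
  refine .pow t k e P A ε₁ c ⟨hI, ht, hk, hL.le_tensorWreath hk hm,
    h.cl.not_le_wreath hk ht (h.wit x (hL.le' o hx) hx') ha, h3, h4, h5, h6,
    ⟨_, iSup_le hL.le, hL.normBy_iSup, hL.alg_iSup hQ⟩, (L o).comap ψ, ?_, ?_, ?_⟩
  · apply Subgroup.map_injective (f := ψ) (Units.map_injective hφ)
    rw [Subgroup.map_commutator, hψ, hL.perfect]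
  · refine eq_top_iff.2 fun y _ => ?_
    obtain ⟨z, hz, hyz⟩ := alg_induction (p := fun x => ∃ z ∈ alg F ((L o).comap ψ), φ z = x)
      (fun g hg => by
        obtain ⟨g, hg, rfl⟩ : g ∈ ((L o).comap ψ).map ψ := hψ.symm ▸ hg
        exact ⟨g, coe_mem_alg hg, rfl⟩)
      (by rintro _ _ ⟨a, ha, rfl⟩ ⟨b, hb, rfl⟩; exact ⟨_, add_mem ha hb, map_add _ _ _⟩)
      (by rintro c _ ⟨a, ha, rfl⟩; exact ⟨_, Subalgebra.smul_mem _ ha c, map_smul _ _ _⟩)
      ((hm o _).2 ⟨y, rfl⟩)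
    exact hφ hyz ▸ hz
  · intro g hg u v
    have := h3.unit
    rw [gram_fG] at this
    rw [← fG_act, isom_slot this h4 h6 (h.hm.act_pull (h.iso _ (hL.le' o hg)) rfl)]

end Ctx

/-- The hypotheses hold for a subgroup of `G` extended by the scalar isometries. -/
theorem ctx_sup (hm : Hm σ ε f) {G H₀ : Subgroup (GL ι F)} (hG : Cl G) (hI : Isom f G)
    (hd : NoDec f G) (h0 : H₀ ≤ G) : Ctx σ ε f G (H₀ ⊔ (scalars ι F ⊓ isoG f)) :=
  ⟨hm, hG, isom_iff.2 (sup_le (h0.trans (isom_iff.1 hI)) inf_le_right), fun _ hx =>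
    Wit.of_mem h0 ((sup_le_sup_left inf_le_left H₀ : _ ≤ H₀ ⊔ scalars ι F) hx), hd⟩

end Cfsg.Lib.Asch
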