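import Cfsg.Agent.Lib.Asch.Tools

/-! Factor groups of a tensor decomposition, diagonal algebras of decompositions, two- and
three-dimensional orthogonal factors. -/

set_option autoImplicit false

namespace Cfsg.Lib.Asch

open Matrix Cfsg.Geo Module Cfsg.Lib.Forms
open scoped MatrixGroups Kronecker commutatorElement

variable {ι κ μ : Type} [Fintype ι] [DecidableEq ι] [Fintype κ] [DecidableEq κ]
  [Fintype μ] [DecidableEq μ] {F : Type*} [Field F] {σ : F →+* F} {ε : F}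
  {f : (ι → F) → (ι → F) → F}

theorem NzL.exists_kron [Nonempty κ] [Nonempty μ] {H : Subgroup (GL ι F)} {e : ι ≃ κ × μ}
    {P : GL ι F} (h : NzL H e P) {g : GL ι F} (hg : g ∈ H) : ∃ (a : GL κ F) (b : GL μ F),
      (g : Matrix ι ι F) = tr e P ((a : Matrix κ κ F) ⊗ₖ (b : Matrix μ μ F)) := by
  obtain ⟨a, b, hab⟩ := exists_kron_of_normalizes (g := (trGL e P).symm g) fun x =>
    (h g hg x).imp fun y hy => (tr e P).injective (by rw [tr_symm_cj, hy])
  exact ⟨a, b, by rw [← hab, coe_trGL_symm, AlgEquiv.apply_symm_apply]⟩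

theorem cj_kron {e : ι ≃ κ × μ} {P g : GL ι F} {a : GL κ F} {b : GL μ F}
    (h : (g : Matrix ι ι F) = tr e P ((a : Matrix κ κ F) ⊗ₖ (b : Matrix μ μ F))) (x : Matrix κ κ F)
    (y : Matrix μ μ F) : cj g (tr e P (x ⊗ₖ y)) = tr e P (cj a x ⊗ₖ cj b y) := by
  rw [cj_eq_iff, h, ← map_mul, ← map_mul, ← mul_kronecker_mul, ← mul_kronecker_mul, cj_mul_self,
    cj_mul_self]

/-- The group induced on the second tensor factor. -/
def facR (H : Subgroup (GL ι F)) (e : ι ≃ κ × μ) (P : GL ι F) : Subgroup (GL μ F) where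
  carrier := {b | ∃ g ∈ H, ∃ a : GL κ F,
    (g : Matrix ι ι F) = tr e P ((a : Matrix κ κ F) ⊗ₖ (b : Matrix μ μ F))}
  one_mem' := ⟨1, one_mem _, 1, by simp⟩
  mul_mem' := by
    rintro b b' ⟨g, hg, a, h⟩ ⟨g', hg', a', h'⟩
    exact ⟨_, mul_mem hg hg', a * a', by simp [h, h', ← map_mul, mul_kronecker_mul]⟩
  inv_mem' := by
    rintro b ⟨g, hg, a, h⟩
    exact ⟨_, inv_mem hg, a⁻¹, Units.inv_eq_of_mul_eq_one_right (by
      rw [h, ← map_mul, ← mul_kronecker_mul]; simp)⟩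

theorem sc_mem_facR {H : Subgroup (GL ι F)} {e : ι ≃ κ × μ} {P : GL ι F} (c : Fˣ) :
    sc μ c ∈ facR H e P :=
  ⟨1, one_mem _, sc κ c⁻¹, by simp [coe_sc, smul_kronecker, kronecker_smul, smul_smul]⟩

theorem NzL.alg_facR [Nonempty κ] [Nonempty μ] {H : Subgroup (GL ι F)} {e : ι ≃ κ × μ} {P : GL ι F}
    (h : NzL H e P) (hT : alg F H = ⊤) : alg F (facR H e P) = ⊤ := by
  refine eq_top_iff.2 fun y _ => ?_
  obtain ⟨p⟩ := ‹Nonempty κ›
  have := alg_induction (p := fun x => ∀ p q : κ,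
    ((tr e P).symm x).submatrix (p, ·) (q, ·) ∈ alg F (facR H e P)) (fun g hg p q => by
      obtain ⟨a, b, hab⟩ := h.exists_kron hg
      rw [hab, AlgEquiv.symm_apply_apply]
      exact Subalgebra.smul_mem _ (coe_mem_alg (N := facR H e P) (g := b) ⟨g, hg, a, hab⟩) ((a : Matrix κ κ F) p q))
    (fun x y hx hy p q => by rw [map_add]; exact add_mem (hx p q) (hy p q))
    (fun c x hx p q => by rw [map_smul]; exact Subalgebra.smul_mem _ (hx p q) c)
    (hT ▸ Algebra.mem_top : tr e P (1 ⊗ₖ y) ∈ alg F H) p p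
  rw [AlgEquiv.symm_apply_apply] at this
  convert this using 1
  ext; simp

theorem Hm.transpose_mul_gram (h : Hm σ ε f) (x : Matrix ι ι F) :
    xᵀ * gramMatrix f = gramMatrix f * (adj σ f x).map σ :=
  fG_injective (σ := σ) fun u v => by
    rw [← fG_mulVec_left, ← fG_mulVec_right, ← h.eq_fG, h.adj_spec]

theorem Hm.transpose_mul' {A : Matrix ι ι F} (h : Hm σ ε (formOfGram σ A)) (x : Matrix ι ι F) :
    xᵀ * A = A * (adj σ (formOfGram σ A) x).map σ := by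
  simpa only [gram_fG] using h.transpose_mul_gram x

theorem Hm.unit' {A : Matrix ι ι F} (h : Hm σ ε (formOfGram σ A)) : IsUnit A := by
  simpa only [gram_fG] using h.unit

theorem Hm.dagger' {A : Matrix ι ι F} (h : Hm σ ε (formOfGram σ A)) : (A.map σ)ᵀ = ε • A := by
  simpa only [gram_fG] using h.gram_dagger

theorem Hm.adj_kron (h : Hm σ ε f) {e : ι ≃ κ × μ} {P : GL ι F} {A₁ : Matrix κ κ F}
    {A₂ : Matrix μ μ F} {ε₁ ε₂ : F} (h₁ : Hm σ ε₁ (formOfGram σ A₁)) (h₂ : Hm σ ε₂ (formOfGram σ A₂))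
    (hA : gramMatrix (Asch.pull f e P) = A₁ ⊗ₖ A₂) (x : Matrix κ κ F) (y : Matrix μ μ F) :
    adj σ f (tr e P (x ⊗ₖ y)) =
      tr e P (adj σ (formOfGram σ A₁) x ⊗ₖ adj σ (formOfGram σ A₂) y) := by
  rw [h.adj_tr, (h.pull e P).adj_eq_of_gram]
  rw [hA, kron_map, ← kroneckerMap_transpose, ← mul_kronecker_mul, ← mul_kronecker_mul,
    h₁.transpose_mul', h₂.transpose_mul']

namespace Tens

variable {G H : Subgroup (GL ι F)} {e : ι ≃ κ × μ} {P : GL ι F} {A₁ : Matrix κ κ F}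
  {A₂ : Matrix μ μ F} {ε₁ ε₂ : F} (h : Tens σ ε f G H e P A₁ A₂ ε₁ ε₂)
include h

theorem ne₁ : Nonempty κ := Fintype.card_pos_iff.1 (by have := h.two₁; omega)

theorem ne₂ : Nonempty μ := Fintype.card_pos_iff.1 (by have := h.two₂; omega)

theorem ne : Nonempty ι := have := h.ne₁; have := h.ne₂; e.nonempty

theorem card_eq : Fintype.card κ * Fintype.card μ = Fintype.card ι := by
  rw [Fintype.card_congr e, Fintype.card_prod]

theorem exists_kron {g : GL ι F} (hg : g ∈ H) : ∃ (a : GL κ F) (b : GL μ F), b ∈ facR H e P ∧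
    (g : Matrix ι ι F) = tr e P ((a : Matrix κ κ F) ⊗ₖ (b : Matrix μ μ F)) :=
  have := h.ne₁; have := h.ne₂
  let ⟨a, b, hab⟩ := h.nz.exists_kron hg
  ⟨a, b, ⟨g, hg, a, hab⟩, hab⟩

theorem facR_top : alg F (facR H e P) = ⊤ := have := h.ne₁; have := h.ne₂; h.nz.alg_facR h.top

theorem facR_sim (hm : Hm σ ε f) (hI : Isom f H) :
    facR H e P ≤ similarityGroup (formOfGram σ A₂) := by
  rintro b ⟨g, hg, a, hab⟩
  have := h.ne; have := h.ne₂
  obtain ⟨s, t, -, -, h1⟩ := hm.factor_sim h.gram (isom_iff.1 hI hg) hab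
  exact mem_sim_of h.hm₂.unit' h1

theorem adj_kr (hm : Hm σ ε f) (y : Matrix μ μ F) :
    adj σ f (tr e P (1 ⊗ₖ y)) = tr e P (1 ⊗ₖ adj σ (formOfGram σ A₂) y) := by
  rw [hm.adj_kron h.hm₁ h.hm₂ h.gram, h.hm₁.adj_one]

theorem adj_kl (hm : Hm σ ε f) (x : Matrix κ κ F) :
    adj σ f (tr e P (x ⊗ₖ 1)) = tr e P (adj σ (formOfGram σ A₁) x ⊗ₖ 1) := by
  rw [hm.adj_kron h.hm₁ h.hm₂ h.gram, h.hm₂.adj_one]

/-- A commutative algebra normalised by a factor group. -/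
theorem comm [Fintype F] (hm : Hm σ ε f) (hI : Isom f H) {C : Subalgebra F (Matrix μ μ F)}
    (hN : Nz (facR H e P) (C : Set (Matrix μ μ F))) (hc : ∀ x ∈ C, ∀ y ∈ C, x * y = y * x)
    (hA : AC σ (formOfGram σ A₂) C) (hx : ∃ x ∈ C, ¬ IsSc x) : CommCase σ f H := by
  have := h.ne; have := h.ne₁; have := h.ne₂
  let φ := (tr e P).toAlgHom.comp (kr κ μ F)
  have hφ : ∀ y, φ y = tr e P (1 ⊗ₖ y) := fun _ => rfl
  obtain ⟨x, hx, hx'⟩ := hx
  obtain ⟨a, ha⟩ := not_forall.1 (not_comm_top (F := F) h.two₁)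
  obtain ⟨b, hb⟩ := not_forall.1 ha
  have key : ∀ a, ∀ k ∈ C.map φ, tr e P (a ⊗ₖ 1) * k = k * tr e P (a ⊗ₖ 1) := by
    rintro a _ ⟨y, -, rfl⟩
    simp only [RingHom.coe_coe, hφ, ← map_mul, ← mul_kronecker_mul, mul_one, one_mul]
  refine hm.comm h.irr hI.le_sim (C := C.map φ) ?_ ?_ ?_ ⟨φ x, ⟨x, hx, rfl⟩, fun hs =>
    hx' (isSc_of_map φ ((tr e P).injective.comp kr_injective) hs)⟩
    (Or.inr ⟨_, _, key a, key b, fun hab => hb (kl_injective (μ := μ) ((tr e P).injective ?_))⟩)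
  · rintro g hg _ ⟨y, hy, rfl⟩
    obtain ⟨a, b, hb, hab⟩ := h.exists_kron hg
    exact ⟨_, hN b hb y hy, by rw [RingHom.coe_coe, hφ, hφ, cj_kron hab, map_one]⟩
  · rintro _ ⟨x, hx, rfl⟩ _ ⟨y, hy, rfl⟩
    rw [← map_mul, hc x hx y hy, map_mul]
  · rintro _ ⟨y, hy, rfl⟩
    exact ⟨_, hA y hy, (h.adj_kr hm y).symm⟩
  · simpa only [map_mul, kl_apply] using hab

end Tens

/-! ### The diagonal algebra of a decomposition -/

/-- The matrices acting as scalars on each member of a family of subspaces. -/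
def decAlg (D : μ → Submodule F (ι → F)) : Subalgebra F (Matrix ι ι F) where
  carrier := {x | ∀ i, ∃ c : F, ∀ v ∈ D i, x *ᵥ v = c • v}
  mul_mem' hx hy i :=
    let ⟨c, hc⟩ := hx i; let ⟨d, hd⟩ := hy i
    ⟨d * c, fun v hv => by rw [← mulVec_mulVec, hd v hv, mulVec_smul, hc v hv, smul_smul]⟩
  add_mem' hx hy i :=
    let ⟨c, hc⟩ := hx i; let ⟨d, hd⟩ := hy i
    ⟨c + d, fun v hv => by rw [add_mulVec, hd v hv, hc v hv, add_smul]⟩
  algebraMap_mem' c _ := ⟨c, fun v _ => by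
    rw [Algebra.algebraMap_eq_smul_one, smul_mulVec, one_mulVec]⟩

omit [Fintype μ] [DecidableEq μ] [DecidableEq ι] in
theorem mat_ext_of_iSup {D : μ → Submodule F (ι → F)} (hD : iSup D = ⊤) [DecidableEq ι]
    {x y : Matrix ι ι F} (h : ∀ i, ∀ v ∈ D i, x *ᵥ v = y *ᵥ v) : x = y :=
  mat_ext fun v => Submodule.iSup_induction D (motive := fun v => x *ᵥ v = y *ᵥ v)
    (hD ▸ Submodule.mem_top : v ∈ iSup D) h (by simp) fun u v hu hv => by simp [mulVec_add, hu, hv]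

section
variable {t m : ℕ} {D : Fin t → Submodule F (ι → F)}

theorem decAlg_comm (hD : iSup D = ⊤) : ∀ x ∈ decAlg D, ∀ y ∈ decAlg D, x * y = y * x :=
  fun _ hx _ hy => mat_ext_of_iSup hD fun i v hv => by
    obtain ⟨c, hc⟩ := hx i
    obtain ⟨d, hd⟩ := hy i
    simp only [← mulVec_mulVec, hc v hv, hd v hv, mulVec_smul, smul_smul, mul_comm]

theorem nz_decAlg {H : Subgroup (GL ι F)} (hH : H ≤ decompositionStabilizer D) :
    Nz H (decAlg D : Set (Matrix ι ι F)) := fun g hg x hx i => by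
  obtain ⟨π, hπ⟩ := hH hg
  obtain ⟨c, hc⟩ := hx (π.symm i)
  refine ⟨c, fun v hv => ?_⟩
  rw [← π.apply_symm_apply i, ← hπ] at hv
  obtain ⟨w, hw, rfl⟩ := hv
  rw [toLin'_apply, cj_mulVec, hc w hw, mulVec_smul]

theorem Hm.ac_decAlg (h : Hm σ ε f) (hD : IsNondegenerateMDecomposition f m D) :
    AC σ f (decAlg D) := fun x hx i => by
  obtain ⟨c, hc⟩ := hx i
  refine ⟨σ c, fun v hv => h.ext_right fun u => ?_⟩
  rw [← h.adj_spec, h.smul_right, h.invol]
  refine Submodule.iSup_induction D (motive := fun u => f (x *ᵥ u) v = c * f u v)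
    (hD.decomp.iSup_eq_top ▸ Submodule.mem_top : u ∈ iSup D) (fun j u hu => ?_)
    (by simp [h.zero_left]) fun u w hu hw => by rw [mulVec_add, h.add_left, h.add_left, hu, hw, mul_add]
  by_cases hij : j = i
  · rw [hc u (hij ▸ hu), h.smul_left]
  · obtain ⟨d, hd⟩ := hx j
    rw [hd u hu, h.smul_left, hD.orthogonal j i hij u hu v hv, mul_zero, mul_zero]

theorem IsMDecomposition.exists_diag (hD : IsMDecomposition m D) (d : Fin t → F) :
    ∃ x : Matrix ι ι F, ∀ i, ∀ v ∈ D i, x *ᵥ v = d i • v := by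
  obtain ⟨e, P, h⟩ := IsMDecomposition.exists_blk' hD
  refine ⟨tr e P (bm 1 fun i => d i • 1), fun i v hv => ?_⟩
  obtain ⟨w, rfl⟩ := (vec e P).surjective v
  rw [tr_vec, ← map_smul]
  congr 1
  ext ⟨j, a⟩
  have := bm_mulVec 1 (fun i => d i • (1 : Matrix (Fin m) (Fin m) F)) w j a
  rw [Equiv.Perm.one_apply, smul_mulVec, one_mulVec] at this
  by_cases hij : j = i
  · subst hij; simp [this]
  · simp [this, (h i w).1 hv (j, a) hij]

theorem IsMDecomposition.exists_not_isSc (hD : IsMDecomposition m D) :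
    ∃ x ∈ decAlg D, ¬ IsSc x := by
  have : Nontrivial (Fin t) := Fin.nontrivial_iff_two_le.2 hD.two_le
  obtain ⟨i, j, hij⟩ := exists_pair_ne (Fin t)
  obtain ⟨x, hx⟩ := IsMDecomposition.exists_diag hD (Pi.single i 1)
  refine ⟨x, fun k => ⟨_, hx k⟩, fun ⟨c, hc⟩ => ?_⟩
  have key : ∀ k, c = (Pi.single i 1 : Fin t → F) k := fun k => by
    obtain ⟨v, hv, h0⟩ := Submodule.exists_mem_ne_zero_of_ne_bot (IsMDecomposition.ne_bot hD k)
    have := hx k v hv
    rw [hc, smul_mulVec, one_mulVec] at this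
    exact smul_left_injective F h0 this
  simpa [hij.symm] using (key i).symm.trans (key j)

theorem Tens.comm_of_dec [Fintype F] {G H : Subgroup (GL ι F)} {e : ι ≃ κ × μ} {P : GL ι F}
    {A₁ : Matrix κ κ F} {A₂ : Matrix μ μ F} {ε₁ ε₂ : F} (h : Tens σ ε f G H e P A₁ A₂ ε₁ ε₂)
    (hm : Hm σ ε f) (hI : Isom f H) {D : Fin t → Submodule F (μ → F)}
    (hD : IsNondegenerateMDecomposition (formOfGram σ A₂) m D)
    (hH : facR H e P ≤ decompositionStabilizer D) : CommCase σ f H :=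
  h.comm hm hI (nz_decAlg hH) (decAlg_comm hD.decomp.iSup_eq_top) (h.hm₂.ac_decAlg hD)
    (IsMDecomposition.exists_not_isSc hD.decomp)

end

/-! ### Two-dimensional factors -/

theorem eq_smul_J2 {A : Matrix (Fin 2) (Fin 2) F} (h : Aᵀ = -A) (h0 : ∀ i, A i i = 0) :
    A = A 0 1 • J2 F := by
  have := congrFun (congrFun h 0) 1
  ext i j; fin_cases i <;> fin_cases j <;> simp_all [J2]

theorem diag_eq_zero_of_skew (h2 : (2 : F) ≠ 0) {A : Matrix ι ι F} (h : Aᵀ = -A) (i : ι) :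
    A i i = 0 := by
  have := congrFun (congrFun h i) i
  simp only [transpose_apply, Matrix.neg_apply] at this
  exact mul_left_cancel₀ h2 (by linear_combination this)

theorem transpose_mul_J2 (x : Matrix (Fin 2) (Fin 2) F) : xᵀ * J2 F = J2 F * adjugate x := by
  ext i j; fin_cases i <;> fin_cases j <;> simp [J2, adjugate_fin_two, mul_apply, Fin.sum_univ_two]

theorem add_adjugate_two (x : Matrix (Fin 2) (Fin 2) F) : x + adjugate x = x.trace • 1 := by
  ext i j; fin_cases i <;> fin_cases j <;> simp [adjugate_fin_two, trace_fin_two, add_comm]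

/-- The adjoint for an alternating form in dimension two. -/
theorem Hm.adj_two {f : (Fin 2 → F) → (Fin 2 → F) → F} (h : Hm (RingHom.id F) ε f)
    (ha : ∀ v, f v v = 0) (x : Matrix (Fin 2) (Fin 2) F) : adj (RingHom.id F) f x = adjugate x := by
  refine h.adj_eq_of_gram ?_
  rw [eq_smul_J2 (A := gramMatrix f) (by ext i j; exact (h.symplectic ha).skew _ _) fun i => ha _,
    mul_smul_comm, smul_mul_assoc, transpose_mul_J2]
  rfl

/-- The skew elements for a symmetric form in dimension two. -/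
theorem Hm.exists_skew_two {f : (Fin 2 → F) → (Fin 2 → F) → F} (h : Hm (RingHom.id F) 1 f)
    (h2 : (2 : F) ≠ 0) : ∃ (y : Matrix (Fin 2) (Fin 2) F) (d : F), d ≠ 0 ∧
      y * y = (0 : F) • y + d • 1 ∧ adj (RingHom.id F) f y = -y ∧
      ∀ x, adj (RingHom.id F) f x = -x → ∃ c : F, x = c • y := by
  have hd := (isUnit_iff_isUnit_det _).1 h.unit
  set A := gramMatrix f with hA
  have hs : Aᵀ = A := by simpa using h.gram_dagger
  refine ⟨A⁻¹ * J2 F, -A⁻¹.det, neg_ne_zero.2 (isUnit_nonsing_inv_det _ hd).ne_zero, ?_, ?_,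
    fun x hx => ⟨(A * x) 0 1, ?_⟩⟩
  · have := act_J2 A⁻¹
    rw [act, transpose_nonsing_inv, hs] at this
    rw [← mul_assoc, show A⁻¹ * J2 F * A⁻¹ = _ from this]
    ext i j; fin_cases i <;> fin_cases j <;> simp [J2]
  · refine h.adj_eq_of_gram ?_
    rw [transpose_mul, transpose_nonsing_inv, hs, ← hA, nonsing_inv_mul_cancel_right _ _ hd,
      J2_transpose]
    exact (by rw [mul_neg, mul_nonsing_inv_cancel_left _ _ hd] : -J2 F = A * -(A⁻¹ * J2 F))
  · have h1 : (A * x)ᵀ = -(A * x) := by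
      rw [transpose_mul, hs, hA, h.transpose_mul_gram, hx]; exact mul_neg _ _
    rw [← mul_smul_comm, ← eq_smul_J2 h1 (diag_eq_zero_of_skew h2 h1),
      nonsing_inv_mul_cancel_left _ _ hd]

theorem Hm.not_isSc_of_skew (h : Hm (RingHom.id F) ε f) (h2 : (2 : F) ≠ 0) {y : Matrix ι ι F}
    (hy : adj (RingHom.id F) f y = -y) (h0 : y ≠ 0) : ¬ IsSc y := by
  rintro ⟨c, rfl⟩
  rw [h.adj_smul, h.adj_one, eq_neg_iff_add_eq_zero, RingHom.id_apply, ← two_smul F] at hy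
  exact h0 ((smul_eq_zero.1 hy).resolve_left h2)

theorem ac_quadAlg (h : Hm σ ε f) {y : Matrix ι ι F} {s t : F} (hy : y * y = s • y + t • 1)
    (ha : adj σ f y ∈ quadAlg y hy) : AC σ f (quadAlg y hy) := by
  rintro _ ⟨a, b, rfl⟩
  rw [h.adj_add, h.adj_smul, h.adj_smul, h.adj_one]
  exact add_mem (Subalgebra.smul_mem _ (one_mem _) _) (Subalgebra.smul_mem _ ha _)

/-- A two-dimensional orthogonal tensor factor. -/
theorem Tens.comm_of_o2 [Fintype F] (h2 : (2 : F) ≠ 0) {G H : Subgroup (GL ι F)} {e : ι ≃ κ × Fin 2}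
    {P : GL ι F} {A₁ : Matrix κ κ F} {A₂ : Matrix (Fin 2) (Fin 2) F} {ε₁ : F}
    (h : Tens (RingHom.id F) ε f G H e P A₁ A₂ ε₁ 1) (hm : Hm (RingHom.id F) ε f) (hI : Isom f H) :
    CommCase (RingHom.id F) f H := by
  obtain ⟨y, d, hd, hy, ha, hx⟩ := h.hm₂.exists_skew_two h2
  refine h.comm hm hI (nz_quadAlg hy fun b hb => ?_) (quadAlg_comm hy)
    (ac_quadAlg h.hm₂ hy (ha ▸ neg_mem (self_mem_quadAlg hy)))
    ⟨y, self_mem_quadAlg hy, h.hm₂.not_isSc_of_skew h2 ha ?_⟩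
  · obtain ⟨c, hc⟩ := hx (cj b y) (by rw [h.hm₂.adj_cj (h.facR_sim hm hI hb), ha, map_neg])
    exact hc ▸ Subalgebra.smul_mem _ (self_mem_quadAlg hy) c
  · rintro rfl
    simp [eq_comm (a := (0 : Matrix (Fin 2) (Fin 2) F)), hd] at hy

end Cfsg.Lib.Asch
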