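import Cfsg.Agent.Lib.Asch.Adj
import Cfsg.Agent.Lib.Forms.HermField

/-! Adjoint-closed algebras: decompositions, extension fields, subfields, tensor products. -/

set_option autoImplicit false

namespace Cfsg.Lib.Asch

open Matrix Cfsg.Geo Module
open scoped MatrixGroups Kronecker

variable {ι κ μ : Type} [Fintype ι] [DecidableEq ι] [Fintype κ] [DecidableEq κ]
  [Fintype μ] [DecidableEq μ] {F : Type*} [Field F] {σ : F →+* F} {ε : F}
  {f : (ι → F) → (ι → F) → F}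

/-! ### Idempotents -/

theorem mem_stab_rg {x : GL ι F} {e : Matrix ι ι F} (h : (x : Matrix ι ι F) * e = e * x) :
    x ∈ subspaceStabilizer (rg e) := by
  rw [mem_stab_iff_map, map_rg, cj_eq_iff.2 h]

theorem IdemSys.nondeg (h : Hm σ ε f) {H : Subgroup (GL ι F)} {t : ℕ} {e : Fin t → Matrix ι ι F}
    (he : IdemSys H e) (ht : 2 ≤ t) (ha : ∀ i, adj σ f (e i) = e i) :
    ∃ m, IsNondegenerateMDecomposition f m fun i => rg (e i) := by
  obtain ⟨m, hm⟩ := he.isMDecomposition ht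
  refine ⟨m, hm, fun i => h.nondegOn_iff.2 ((Submodule.eq_bot_iff _).2 fun w hw => h.nd' w fun u => ?_),
    fun i j hij u hu v hv => ?_⟩
  · rw [← (mem_rg_of_idem (he.idem i)).1 hw.1, h.adj_spec, ha]
    exact hw.2 _ (mulVec_mem_rg _ _)
  · rw [← (mem_rg_of_idem (he.idem i)).1 hu, h.adj_spec, ha, he.mulVec_eq_zero hij hv, h.zero_right]

theorem IdemSys.ts_pair (h : Hm σ ε f) {H : Subgroup (GL ι F)} {e : Fin 2 → Matrix ι ι F}
    (he : IdemSys H e) (ha : adj σ f (e 0) = e 1) (i : Fin 2) :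
    IsTotallySingularFor f (rg (e i)) := fun u hu v hv => by
  rw [← (mem_rg_of_idem (he.idem i)).1 hu, h.adj_spec]
  fin_cases i
  · exact ha ▸ (he.mulVec_eq_zero (i := 1) (j := 0) (by decide) hv).symm ▸ h.zero_right _
  · have : adj σ f (e 1) = e 0 := ha ▸ h.adj_adj _
    exact this ▸ (he.mulVec_eq_zero (i := 0) (j := 1) (by decide) hv).symm ▸ h.zero_right _

theorem Hm.comm_case [Fintype F] [Nonempty ι] (h : Hm σ ε f) {H : Subgroup (GL ι F)} (hI : Irr H)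
    (hH : H ≤ similarityGroup f) {C : Subalgebra F (Matrix ι ι F)}
    (hN : Nz H (C : Set (Matrix ι ι F))) (hc : ∀ x ∈ C, ∀ y ∈ C, x * y = y * x) (hA : AC σ f C)
    (hx : ∃ x ∈ C, ¬ IsSc x) :
    (∃ (t : ℕ) (e : Fin t → Matrix ι ι F), 2 ≤ t ∧ IdemSys H e ∧ (∀ i, e i ∈ C) ∧
      ∀ i, adj σ f (e i) = e i) ∨
    (∃ e : Fin 2 → Matrix ι ι F, IdemSys H e ∧ (∀ i, e i ∈ C) ∧ adj σ f (e 0) = e 1) ∨
    ∃ (r : ℕ) (K : Subalgebra F (Matrix ι ι F)), r.Prime ∧ IsFieldSubalgebra r K ∧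
      Nz H (K : Set (Matrix ι ι F)) ∧ K ≤ C ∧ AC σ f K := by
  rcases hI.comm_dichotomy hN hc hx with ⟨t, e, ht, he, hr⟩ | ⟨r, K, hr, hK, hn, hm⟩
  swap
  · exact .inr (.inr ⟨r, K, hr, hK, hn, fun x hx => ((hm x).1 hx).1, fun x hx =>
      (hm _).2 ⟨hA _ ((hm x).1 hx).1, by rw [← h.adj_pow, ((hm x).1 hx).2]⟩⟩)
  have hm : ∀ i, e i ∈ PrimIdem C := fun i => hr ▸ ⟨i, rfl⟩
  by_cases hf : ∀ i, adj σ f (e i) = e i
  · exact .inl ⟨t, e, ht, he, fun i => (hm i).1, hf⟩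
  push Not at hf
  obtain ⟨o, ho⟩ := hf
  have hP : ∀ a ∈ PrimIdem C, adj σ f a ∈ PrimIdem C := fun a ha =>
    primIdem_map hA hA h.adj_adj h.adj_adj
      (fun x hx y hy => by rw [h.adj_mul, hc _ (hA _ hx) _ (hA _ hy)]) h.adj_zero ha
  have hne : ∀ a ∈ PrimIdem C, adj σ f a ≠ a := by
    rw [← hr]
    rintro _ ⟨i, rfl⟩ hi
    obtain ⟨g, hg, hgi⟩ := he.trans o i
    rw [← hgi, h.adj_cj (hH hg)] at hi
    exact ho ((cj g).injective hi)
  have h1 : ∀ a ∈ PrimIdem C, a * adj σ f a = 0 := fun a ha =>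
    primIdem_orth hc ha (hP a ha) (hne a ha).symm
  have h2 : ∀ a ∈ PrimIdem C, adj σ f a * a = 0 := fun a ha =>
    primIdem_orth hc (hP a ha) ha (hne a ha)
  obtain ⟨s, d, hd, hs⟩ := hI.exists_idemSys (S := (fun a => a + adj σ f a) '' PrimIdem C)
    (by
      rintro _ ⟨a, ha, rfl⟩
      simp only [mul_add, add_mul, h1 a ha, h2 a ha, ha.2.1, (hP a ha).2.1, add_zero, zero_add])
    (by
      rintro _ ⟨a, ha, rfl⟩ h0
      have := congrArg (· * a) h0
      simp only [add_mul, h2 a ha, ha.2.1, add_zero, zero_mul] at this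
      exact ha.2.2.1 this)
    (by
      rintro _ ⟨a, ha, rfl⟩ _ ⟨b, hb, rfl⟩ hab
      have h3 : a ≠ b := fun h => hab (by rw [h])
      have h4 : a ≠ adj σ f b := fun h' => hab (by simp only [h', h.adj_adj, add_comm])
      simp only [mul_add, add_mul, primIdem_orth hc ha hb h3, primIdem_orth hc ha (hP b hb) h4,
        primIdem_orth hc (hP a ha) hb (fun h' => h4 (by rw [← h', h.adj_adj])),
        primIdem_orth hc (hP a ha) (hP b hb) (fun h' => h3 (h.adj_injective h')), add_zero])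
    (by
      rintro g hg _ ⟨a, ha, rfl⟩
      exact ⟨_, hN.primIdem g hg a ha, by simp only [map_add, h.adj_cj (hH hg)]⟩)
    ⟨_, _, hm o, rfl⟩
  have hd' : ∀ i, ∃ a ∈ PrimIdem C, a + adj σ f a = d i := fun i =>
    (hs ▸ ⟨i, rfl⟩ : d i ∈ (fun a => a + adj σ f a) '' PrimIdem C)
  by_cases hs2 : 2 ≤ s
  · refine .inl ⟨s, d, hs2, hd, fun i => ?_, fun i => ?_⟩ <;> obtain ⟨a, ha, hi⟩ := hd' i
    · exact hi ▸ add_mem ha.1 (hP a ha).1
    · rw [← hi, h.adj_add, h.adj_adj, add_comm]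
  obtain rfl | rfl : s = 0 ∨ s = 1 := by omega
  · exact absurd hd.sum (by simp)
  obtain ⟨a, ha, hi⟩ := hd' 0
  have h3 : a + adj σ f a = 1 := by rw [hi, ← hd.sum]; simp
  have hr' : ∀ b ∈ PrimIdem C, ∃ j, b = ![a, adj σ f a] j := fun b hb => by
    by_contra hc'
    push Not at hc'
    refine hb.2.2.1 ?_
    rw [← mul_one b, ← h3, mul_add, primIdem_orth hc hb ha (hc' 0),
      primIdem_orth hc hb (hP a ha) (hc' 1), add_zero]
  have hm' : ∀ j, ![a, adj σ f a] j ∈ PrimIdem C := fun j => by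
    fin_cases j
    exacts [ha, hP a ha]
  refine .inr (.inl ⟨![a, adj σ f a], ⟨fun i => (hm' i).2.1, fun i j hij => ?_,
    fun i => (hm' i).2.2.1, by simpa using h3, fun g hg i => hr' _ (hN.primIdem g hg _ (hm' i)),
    fun i j => ?_⟩, fun i => (hm' i).1, rfl⟩)
  · fin_cases i <;> fin_cases j
    exacts [absurd rfl hij, h1 a ha, h2 a ha, absurd rfl hij]
  · obtain ⟨i', hi'⟩ : ![a, adj σ f a] i ∈ Set.range e := hr ▸ hm' i
    obtain ⟨j', hj'⟩ : ![a, adj σ f a] j ∈ Set.range e := hr ▸ hm' j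
    rw [← hi', ← hj']
    exact he.trans i' j'

/-! ### Extension fields -/

theorem IsFieldSubalgebra.isField [Nonempty ι] {r : ℕ} {K : Subalgebra F (Matrix ι ι F)}
    (h : IsFieldSubalgebra r K) : IsField K where
  exists_pair_ne := ⟨0, 1, zero_ne_one⟩
  mul_comm x y := Subtype.ext (h.comm _ x.2 _ y.2)
  mul_inv_cancel {x} h0 :=
    let ⟨y, hy, h⟩ := h.inv x x.2 fun h => h0 (Subtype.ext h)
    ⟨⟨y, hy⟩, Subtype.ext h⟩

/-- The adjoint on a commutative adjoint-closed algebra. -/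
noncomputable def Hm.adjRing (h : Hm σ ε f) {K : Subalgebra F (Matrix ι ι F)}
    (hc : ∀ x ∈ K, ∀ y ∈ K, x * y = y * x) (hA : AC σ f K) : K →+* K where
  toFun x := ⟨adj σ f x, hA _ x.2⟩
  map_one' := Subtype.ext h.adj_one
  map_zero' := Subtype.ext h.adj_zero
  map_add' x y := Subtype.ext (h.adj_add _ _)
  map_mul' x y := Subtype.ext ((h.adj_mul _ _).trans (hc _ (hA _ y.2) _ (hA _ x.2)))

theorem Hm.field_ne_two [Fintype F] [Nonempty ι] (h : Hm σ ε f) (hσ : ∃ a, σ a ≠ a)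
    {K : Subalgebra F (Matrix ι ι F)} (hK : IsFieldSubalgebra 2 K) : ¬ AC σ f K := fun hA => by
  letI := (IsFieldSubalgebra.isField hK).toField
  obtain ⟨a, ha⟩ := hσ
  have h1 : h.adjRing hK.comm hA (algebraMap F K a) = algebraMap F K (σ a) :=
    Subtype.ext (by
      change adj σ f (algebraMap F _ a) = algebraMap F _ (σ a)
      rw [Algebra.algebraMap_eq_smul_one, Algebra.algebraMap_eq_smul_one, h.adj_smul, h.adj_one])
  obtain ⟨s, hs⟩ := Forms.exists_isConj (σ := h.adjRing hK.comm hA)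
    (fun h0 => ha ((algebraMap F K).injective (by rw [← h1, h0]; rfl)))
    fun x => Subtype.ext (h.adj_adj _)
  have h2 := hs.card
  rw [Module.natCard_eq_pow_finrank (K := F), hK.finrank_eq, Nat.card_eq_fintype_card] at h2
  rw [hs.apply, ← Nat.pow_left_injective two_ne_zero h2, ← map_pow, FiniteField.pow_card] at h1
  exact ha ((algebraMap F K).injective h1.symm)

theorem Hm.field_not_self [Fintype F] [Nonempty ι] (h : Hm (RingHom.id F) ε f) {r : ℕ}
    (hr : r.Prime) {K : Subalgebra F (Matrix ι ι F)} (hK : IsFieldSubalgebra r K)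
    (hA : AC (RingHom.id F) f K) (hn : ¬ IsSelfAdjointFor f K) :
    r = 2 ∧ (∀ k ∈ K, adj (RingHom.id F) f k = k → IsSc k) ∧
      ∃ θ ∈ K, θ + adj (RingHom.id F) f θ = 1 := by
  letI := (IsFieldSubalgebra.isField hK).toField
  let τ : K →ₐ[F] K :=
    { h.adjRing hK.comm hA with
      commutes' := fun a => Subtype.ext (by
        change adj _ f (algebraMap F _ a) = algebraMap F _ a
        rw [Algebra.algebraMap_eq_smul_one, h.adj_smul, h.adj_one]; rfl) }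
  have hτ : ∀ x, τ (τ x) = x := fun x => Subtype.ext (h.adj_adj _)
  have hne : h.adjRing hK.comm hA ≠ RingHom.id K := fun h0 => hn (h.isSelfAdjointFor.2 fun k hk =>
    congrArg Subtype.val (RingHom.congr_fun h0 ⟨k, hk⟩))
  refine ⟨?_, fun k hk hkk => ?_, ?_⟩
  · have h1 : orderOf (AlgEquiv.ofAlgHom τ τ (AlgHom.ext hτ) (AlgHom.ext hτ)) = 2 :=
      orderOf_eq_prime (AlgEquiv.ext hτ) fun h0 => hne (RingHom.ext fun x => AlgEquiv.congr_fun h0 x)
    have h2 := orderOf_dvd_natCard (AlgEquiv.ofAlgHom τ τ (AlgHom.ext hτ) (AlgHom.ext hτ))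
    rw [h1, IsGalois.card_aut_eq_finrank, hK.finrank_eq] at h2
    exact ((Nat.prime_dvd_prime_iff_eq Nat.prime_two hr).1 h2).symm
  · rcases (Subalgebra.isSimpleOrder_of_finrank_prime F K (hK.finrank_eq ▸ hr)).eq_bot_or_eq_top
      (AlgHom.equalizer τ (AlgHom.id F K)) with h1 | h1
    · obtain ⟨c, hc⟩ := Algebra.mem_bot.1 (h1 ▸ Subtype.ext hkk :
        (⟨k, hk⟩ : K) ∈ (⊥ : Subalgebra F K))
      exact ⟨c, by rw [← Algebra.algebraMap_eq_smul_one]; exact (congrArg Subtype.val hc).symm⟩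
    · exact absurd (RingHom.ext fun x =>
        (h1 ▸ Algebra.mem_top : x ∈ AlgHom.equalizer τ (AlgHom.id F K))) hne
  · obtain ⟨b, hb⟩ := Forms.exists_trace_eq (σ := h.adjRing hK.comm hA) (hσ := hτ) (Or.inl hne)
      (map_one _)
    exact ⟨b, b.2, congrArg Subtype.val hb⟩

/-- A matrix commuting with a subfield of full degree lies in it. -/
theorem IsFieldSubalgebra.mem_of_comm [Nonempty ι] {K : Subalgebra F (Matrix ι ι F)}
    (hK : IsFieldSubalgebra (Fintype.card ι) K) {x : Matrix ι ι F} (hx : ∀ k ∈ K, x * k = k * x) :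
    x ∈ K := by
  obtain ⟨i⟩ := ‹Nonempty ι›
  let v : ι → F := Pi.single i 1
  let φ : K →ₗ[F] (ι → F) :=
    { toFun := fun k => (k : Matrix ι ι F) *ᵥ v
      map_add' := fun _ _ => add_mulVec _ _ _
      map_smul' := fun _ _ => smul_mulVec _ _ _ }
  have hi : Function.Injective φ := (injective_iff_map_eq_zero φ).2 fun k hk => by
    by_contra h0
    obtain ⟨y, hy, h1⟩ := hK.inv k k.2 fun h => h0 (Subtype.ext h)
    have : v = 0 := by
      rw [← one_mulVec v, ← h1, hK.comm _ k.2 _ hy, ← mulVec_mulVec]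
      exact (congrArg (y *ᵥ ·) hk).trans (mulVec_zero y)
    simpa [v] using congrFun this i
  have hs := (LinearMap.injective_iff_surjective_of_finrank_eq_finrank
    (by rw [hK.finrank_eq, finrank_fintype_fun_eq_card])).1 hi
  obtain ⟨k, hk⟩ := hs (x *ᵥ v)
  have hk : (k : Matrix ι ι F) *ᵥ v = x *ᵥ v := hk
  rw [show x = k from mat_ext fun w => by
    obtain ⟨l, rfl⟩ := hs w
    change x *ᵥ ((l : Matrix ι ι F) *ᵥ v) = (k : Matrix ι ι F) *ᵥ ((l : Matrix ι ι F) *ᵥ v)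
    rw [mulVec_mulVec, hx _ l.2, ← mulVec_mulVec, ← hk, mulVec_mulVec, mulVec_mulVec,
      hK.comm _ l.2 _ k.2]]
  exact k.2

/-! ### Change of coordinates -/

/-- The form in new coordinates. -/
noncomputable def pull (f : (ι → F) → (ι → F) → F) (e : ι ≃ κ) (P : GL ι F) (x y : κ → F) : F :=
  f (vec e P x) (vec e P y)

omit [Fintype κ] [DecidableEq κ] in
theorem Hm.pull (h : Hm σ ε f) (e : ι ≃ κ) (P : GL ι F) : Hm σ ε (pull f e P) where
  add_left x y v := by simp only [Asch.pull, map_add, h.add_left]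
  smul_left c x v := by simp only [Asch.pull, map_smul, h.smul_left]
  add_right v x y := by simp only [Asch.pull, map_add, h.add_right]
  smul_right c v x := by simp only [Asch.pull, map_smul, h.smul_right]
  invol := h.invol
  nd v hv := (vec e P).injective ((h.nd _ fun u => by
    simpa [Asch.pull] using hv ((vec e P).symm u)).trans (map_zero _).symm)
  swap u v := h.swap _ _

theorem Hm.adj_tr (h : Hm σ ε f) (e : ι ≃ κ) (P : GL ι F) (x : Matrix κ κ F) :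
    adj σ f (tr e P x) = tr e P (adj σ (Asch.pull f e P) x) :=
  h.adj_eq fun u v => by
    obtain ⟨u, rfl⟩ := (vec e P).surjective u
    obtain ⟨v, rfl⟩ := (vec e P).surjective v
    rw [tr_vec, tr_vec]
    exact (h.pull e P).adj_spec x u v

theorem pull_mulVec {e : ι ≃ κ} {P : GL ι F} {g : Matrix ι ι F} {a : Matrix κ κ F} (hg : g = tr e P a)
    (x y : κ → F) : pull f e P (a *ᵥ x) (a *ᵥ y) = f (g *ᵥ vec e P x) (g *ᵥ vec e P y) := by
  rw [hg, tr_vec, tr_vec]; rfl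

theorem Hm.act_gram (h : Hm σ ε f) {a : Matrix ι ι F} {c : F}
    (ha : ∀ u v, f (a *ᵥ u) (a *ᵥ v) = c * f u v) :
    act σ a (gramMatrix f) = c • gramMatrix f :=
  fG_injective (σ := σ) fun u v => by rw [fG_act, fG_smul, ← h.eq_fG, ha]

theorem Hm.act_pull (h : Hm σ ε f) {e : ι ≃ κ} {P : GL ι F} {g : GL ι F} (hg : g ∈ isoG f)
    {a : Matrix κ κ F} (ha : (g : Matrix ι ι F) = tr e P a) :
    act σ a (gramMatrix (Asch.pull f e P)) = gramMatrix (Asch.pull f e P) := by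
  simpa using (h.pull e P).act_gram (a := a) (c := 1) fun u v => by
    rw [pull_mulVec ha, mem_isoG.1 hg, one_mul]; rfl

theorem Hm.cj_gram (h : Hm σ ε f) (x : Matrix ι ι F) :
    cj h.unit.unit⁻¹ x = (adj σ f xᵀ).map σ := by
  rw [adj, map_map_σ h.invol, cj_apply, inv_inv, coe_units_inv, IsUnit.unit_spec, transpose_transpose]

/-! ### Subfields -/

theorem ratl_one {F₀ : Subfield F} {x : Matrix ι ι F} : Ratl F₀ 1 x ↔ ∀ i j, x i j ∈ F₀ := by
  simp [Ratl, cj_one]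

theorem ratl_tr {F₀ : Subfield F} {e : ι ≃ κ} {P : GL ι F} {x : Matrix κ κ F} :
    Ratl F₀ P (tr e P x) ↔ ∀ i j, x i j ∈ F₀ := by
  rw [Ratl, tr_apply, cj_inv_cj]
  exact ⟨fun h i j => by simpa using h (e.symm i) (e.symm j), fun h i j => h _ _⟩

theorem Hm.exists_zeta (h : Hm σ ε f) {F₀ : Subfield F} {P : GL ι F} (hσ : ∀ c ∈ F₀, σ c ∈ F₀)
    (hA : ∀ x, Ratl F₀ P x → Ratl F₀ P (adj σ f x)) :
    ∃ ζ : F, ζ ≠ 0 ∧ ∀ i j, ζ * gramMatrix (Asch.pull f (Equiv.refl ι) P) i j ∈ F₀ := by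
  have h' := h.pull (Equiv.refl ι) P
  have : h'.unit.unit⁻¹ ∈ subfieldSubgroup F₀ 1 := mem_subfieldSubgroup_of fun x hx => by
    rw [ratl_one] at hx ⊢
    intro i j
    rw [h'.cj_gram]
    have := hA _ ((ratl_tr (e := Equiv.refl ι) (x := xᵀ)).2 fun i j => hx j i)
    rw [h.adj_tr, ratl_tr] at this
    exact hσ _ (this i j)
  obtain ⟨c, hc, h1⟩ := mem_subfieldSubgroup_iff.1 (inv_mem_iff.1 this)
  exact ⟨c, hc, ratl_one.1 h1⟩

theorem Hm.rational (h : Hm σ ε f) {F₀ : Subfield F} {P : GL ι F} (hσ : ∀ c ∈ F₀, σ c ∈ F₀) {ζ : F}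
    (hζ : ∀ i j, ζ * gramMatrix (Asch.pull f (Equiv.refl ι) P) i j ∈ F₀) :
    IsFormRationalStructure f F₀ ζ P := fun u v hu hv => by
  change ζ * Asch.pull f (Equiv.refl ι) P u v ∈ F₀
  rw [(h.pull _ P).eq_fG, formOfGram, Finset.mul_sum]
  refine sum_mem fun a _ => ?_
  rw [Finset.mul_sum]
  refine sum_mem fun b _ => ?_
  rw [← mul_assoc, mul_left_comm]
  exact mul_mem (mul_mem (hu a) (hζ a b)) (hσ _ (hv b))

theorem mem_subfield_iff_pow [Finite F] {K : Subfield F} {x : F} : x ∈ K ↔ x ^ Nat.card K = x := by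
  have := Fintype.ofFinite K
  obtain ⟨L, h1, h2⟩ := exists_intermediateField K F (one_dvd _)
  rw [Nat.card_eq_fintype_card, ← pow_one (Fintype.card K), ← h2,
    IntermediateField.finrank_eq_one_iff.1 h1, IntermediateField.mem_bot]
  exact ⟨fun h => ⟨⟨x, h⟩, rfl⟩, by rintro ⟨y, rfl⟩; exact y.2⟩

theorem map_mem_subfield [Finite F] (σ : F →+* F) (F₀ : Subfield F) : ∀ c ∈ F₀, σ c ∈ F₀ :=
  fun c hc => mem_subfield_iff_pow.2 (by rw [← map_pow, mem_subfield_iff_pow.1 hc])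

/-- A form of the matrix algebra over a subfield that is closed under adjoints. -/
theorem Hm.subfield_of_alg [Finite F] [Nonempty ι] (h : Hm σ ε f) {H : Subgroup (GL ι F)}
    {F₀ : Subfield F} (A : Subalgebra F₀ (Matrix ι ι F))
    (hs : Submodule.span F (A : Set (Matrix ι ι F)) = ⊤) (hd : finrank F₀ A ≤ Fintype.card ι ^ 2)
    (hN : Nz H (A : Set (Matrix ι ι F))) (hA : AC σ f A) :
    ∃ (P : GL ι F) (ζ : F), H ≤ subfieldSubgroup F₀ P ∧ ζ ≠ 0 ∧
      ∀ i j, ζ * gramMatrix (Asch.pull f (Equiv.refl ι) P) i j ∈ F₀ := by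
  obtain ⟨P, hP⟩ := exists_ratl A hs hd
  obtain ⟨ζ, h1, h2⟩ := h.exists_zeta (P := P) (map_mem_subfield σ F₀)
    fun x hx => (hP _).1 (hA _ ((hP _).2 hx))
  exact ⟨P, ζ, hN.le_subfieldSubgroup hP, h1, h2⟩

theorem Hm.subfield_of_finrank [Finite F] [Nonempty ι] (h : Hm σ ε f) {H N : Subgroup (GL ι F)}
    (hn : NormBy H N) (hN : alg F N = ⊤) (hI : Isom f N) {F₀ : Subfield F}
    (hd : finrank F₀ (alg F₀ N) ≤ Fintype.card ι ^ 2) :
    ∃ (P : GL ι F) (ζ : F), H ≤ subfieldSubgroup F₀ P ∧ ζ ≠ 0 ∧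
      ∀ i j, ζ * gramMatrix (Asch.pull f (Equiv.refl ι) P) i j ∈ F₀ :=
  h.subfield_of_alg _ (span_alg hN F₀) hd hn.nz
    (h.ac_alg_of_isom (fun c => ⟨⟨_, map_mem_subfield σ F₀ _ c.2⟩, rfl⟩) hI)

/-! ### Tensor products -/

omit [Fintype κ] [DecidableEq κ] [Fintype μ] [DecidableEq μ] in
theorem exists_smul_of_kron {a A : Matrix κ κ F} {b B : Matrix μ μ F} {c : F} (ha : a ≠ 0)
    (hb : b ≠ 0) (h : a ⊗ₖ b = c • (A ⊗ₖ B)) : ∃ s t : F, s * t = c ∧ a = s • A ∧ b = t • B := by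
  obtain ⟨i, j, hij⟩ : ∃ i j, a i j ≠ 0 := by
    by_contra hc; push Not at hc; exact ha (Matrix.ext hc)
  obtain ⟨k, l, hkl⟩ : ∃ i j, b i j ≠ 0 := by
    by_contra hc; push Not at hc; exact hb (Matrix.ext hc)
  have h1 : ∀ i j k l, a i j * b k l = c * (A i j * B k l) := fun i j k l =>
    congrFun (congrFun h (i, k)) (j, l)
  refine ⟨c * B k l / b k l, c * A i j / a i j, ?_, Matrix.ext fun i j => ?_,
    Matrix.ext fun k l => ?_⟩
  · field_simp
    linear_combination (-c) * h1 i j k l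
  · rw [Matrix.smul_apply, smul_eq_mul]; field_simp; linear_combination h1 i j k l
  · rw [Matrix.smul_apply, smul_eq_mul]; field_simp; linear_combination h1 i j k l

omit [Fintype κ] [DecidableEq κ] [Fintype μ] [DecidableEq μ] in
theorem kron_map (a : Matrix κ κ F) (b : Matrix μ μ F) : (a ⊗ₖ b).map σ = a.map σ ⊗ₖ b.map σ :=
  Matrix.ext fun _ _ => map_mul σ _ _

omit [Fintype κ] [Fintype μ] in
theorem kl_map (x : Matrix κ κ F) : (x ⊗ₖ (1 : Matrix μ μ F)).map σ = x.map σ ⊗ₖ (1 : Matrix μ μ F) := by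
  rw [kron_map, Matrix.map_one _ (map_zero σ) (map_one σ)]

omit [Fintype ι] [DecidableEq ι] in
theorem dagger_ne_zero {A : Matrix ι ι F} (h : A ≠ 0) : (A.map σ)ᵀ ≠ 0 := fun h0 =>
  h (Matrix.ext fun i j => (map_eq_zero σ).1 (congrFun (congrFun h0 j) i))

theorem Hm.exists_kron [Nonempty κ] [Nonempty μ] {f : (κ × μ → F) → (κ × μ → F) → F} (h : Hm σ ε f)
    (hA : ∀ y, ∃ z, adj σ f (kl κ μ F y) = kl κ μ F z) :
    ∃ (A₁ : Matrix κ κ F) (A₂ : Matrix μ μ F) (ε₁ ε₂ : F), Hm σ ε₁ (formOfGram σ A₁) ∧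
      Hm σ ε₂ (formOfGram σ A₂) ∧ ε₁ * ε₂ = ε ∧ gramMatrix f = A₁ ⊗ₖ A₂ := by
  obtain ⟨a, b, hab⟩ := exists_kron_of_normalizes (g := h.unit.unit⁻¹) fun x => by
    obtain ⟨z, hz⟩ := hA xᵀ
    refine ⟨z.map σ, ?_⟩
    rw [h.cj_gram, kl_apply, ← kroneckerMap_transpose, transpose_one, ← kl_apply, hz, kl_apply,
      kl_apply, kl_map]
  have h1 : gramMatrix f = ((a⁻¹ : GL κ F) : Matrix κ κ F) ⊗ₖ ((b⁻¹ : GL μ F) : Matrix μ μ F) := by
    rw [← h.unit.unit_spec, ← Units.inv_mul_eq_one, hab, ← mul_kronecker_mul, Units.mul_inv,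
      Units.mul_inv, one_kronecker_one]
  have h2 := h.gram_dagger
  rw [h1, kron_map, ← kroneckerMap_transpose] at h2
  obtain ⟨s, t, h3, h4, h5⟩ := exists_smul_of_kron (dagger_ne_zero (a⁻¹).ne_zero)
    (dagger_ne_zero (b⁻¹).ne_zero) h2
  exact ⟨_, _, s, t, hm_fG h.invol (a⁻¹).isUnit h4, hm_fG h.invol (b⁻¹).isUnit h5, h3, h1⟩

theorem Hm.tensor_struct (h : Hm σ ε f) {n₁ n₂ : ℕ} {e : ι ≃ Fin n₁ × Fin n₂} {P : GL ι F}
    {A₁ : Matrix (Fin n₁) (Fin n₁) F} {A₂ : Matrix (Fin n₂) (Fin n₂) F}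
    (hA : gramMatrix (Asch.pull f e P) = A₁ ⊗ₖ A₂) :
    IsTensorFormStructure σ f (formOfGram σ A₁) (formOfGram σ A₂) e P :=
  ⟨1, one_ne_zero, fun x y => by
    rw [gram_fG, gram_fG, one_mul, ← hA, ← (h.pull e P).eq_fG]; rfl⟩

omit [Fintype κ] [DecidableEq κ] [Fintype μ] [DecidableEq μ] in
theorem gram_pull_swap [DecidableEq κ] [DecidableEq μ] [Fintype κ] [Fintype μ] {e : ι ≃ κ × μ}
    {P : GL ι F} {A₁ : Matrix κ κ F} {A₂ : Matrix μ μ F}
    (hA : gramMatrix (pull f e P) = A₁ ⊗ₖ A₂) :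
    gramMatrix (pull f (e.trans (Equiv.prodComm _ _)) P) = A₂ ⊗ₖ A₁ := by
  ext ⟨a, b⟩ ⟨c, d⟩
  have := congrFun (congrFun hA (b, a)) (d, c)
  rw [kroneckerMap_apply, mul_comm] at this
  refine Eq.trans ?_ this
  have h1 : ∀ (a : μ) (b : κ), (Pi.single (a, b) 1 : μ × κ → F) ∘ (e.trans (Equiv.prodComm _ _)) =
      (Pi.single (b, a) 1 : κ × μ → F) ∘ e := fun a b => funext fun i => by
    simp [Pi.single_apply, Prod.ext_iff, and_comm]
  simp only [gramMatrix, pull, vec_apply, h1]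

theorem Hm.factor_sim [Nonempty ι] (h : Hm σ ε f) {e : ι ≃ κ × μ} {P : GL ι F} {A₁ : Matrix κ κ F}
    {A₂ : Matrix μ μ F} (hA : gramMatrix (Asch.pull f e P) = A₁ ⊗ₖ A₂) {g : GL ι F}
    (hg : g ∈ isoG f) {a : Matrix κ κ F} {b : Matrix μ μ F}
    (hab : (g : Matrix ι ι F) = tr e P (a ⊗ₖ b)) :
    ∃ s t : F, s * t = 1 ∧ act σ a A₁ = s • A₁ ∧ act σ b A₂ = t • A₂ := by
  have h1 := h.act_pull hg hab
  have : Nonempty (κ × μ) := e.symm.nonempty
  have h0 := (h.pull e P).unit.ne_zero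
  rw [← h1] at h0
  rw [hA, act_kron] at h1 h0
  exact exists_smul_of_kron (fun h => h0 (by rw [h, zero_kronecker]))
    (fun h => h0 (by rw [h, kronecker_zero])) (h1.trans (one_smul _ _).symm)

/-! ### Tensor powers -/

variable {t : ℕ}

omit [Fintype κ] [DecidableEq κ] in
theorem exists_smul_of_pure (ht : 0 < t) {A B : Matrix κ κ F} {c : F} (hB : B ≠ 0)
    (h : (pure fun _ : Fin t => B) = c • pure fun _ => A) : ∃ s : F, B = s • A := by
  classical
  obtain ⟨k, l, hkl⟩ : ∃ i j, B i j ≠ 0 := by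
    by_contra hc; push Not at hc; exact hB (Matrix.ext hc)
  let o : Fin t := ⟨0, ht⟩
  have h1 : ∀ (A : Matrix κ κ F) a b, pure (fun _ : Fin t => A) (Function.update (fun _ => k) o a)
      (Function.update (fun _ => l) o b) = A a b * A k l ^ (t - 1) := fun A a b => by
    rw [pure_apply, ← Finset.mul_prod_erase _ _ (Finset.mem_univ o), Finset.prod_congr rfl
      (g := fun _ => A k l) fun j hj => by simp [Finset.ne_of_mem_erase hj]]
    simp
  refine ⟨c * A k l ^ (t - 1) / B k l ^ (t - 1), Matrix.ext fun a b => ?_⟩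
  have := congrFun (congrFun h (Function.update (fun _ => k) o a)) (Function.update (fun _ => l) o b)
  rw [Matrix.smul_apply, h1, h1] at this
  rw [Matrix.smul_apply, smul_eq_mul]
  field_simp
  linear_combination this

omit [Fintype κ] [DecidableEq κ] in
theorem pure_dagger (gs : Fin t → Matrix κ κ F) :
    ((pure gs).map σ)ᵀ = pure fun i => ((gs i).map σ)ᵀ :=
  Matrix.ext fun x y => by simp only [transpose_apply, map_apply, pure_apply, map_prod]

theorem slot_dagger (i : Fin t) (a : Matrix κ κ F) : ((slot i a).map σ)ᵀ = slot i (a.map σ)ᵀ := by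
  rw [slot_apply, slot_apply, pure_dagger]
  congr 1
  funext j
  by_cases hj : j = i
  · subst hj; simp
  · simp [hj, Matrix.map_one _ (map_zero σ) (map_one σ)]

theorem Hm.exists_pure [Nonempty κ] (ht : 0 < t) {f : ((Fin t → κ) → F) → ((Fin t → κ) → F) → F}
    (h : Hm σ ε f) {θ : Matrix κ κ F → Matrix κ κ F} (hA : ∀ i y, adj σ f (slot i y) = slot i (θ y)) :
    ∃ (A : Matrix κ κ F) (ε₁ c : F), Hm σ ε₁ (formOfGram σ A) ∧ c ≠ 0 ∧ σ c * ε₁ ^ t = ε * c ∧
      gramMatrix f = c • pure fun _ => A := by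
  have h1 : ∀ i x, cj h.unit.unit⁻¹ (slot i x) = slot i ((θ xᵀ).map σ) := fun i x => by
    have h2 := slot_dagger (σ := RingHom.id F) i x
    have h3 := congrArg transpose (slot_dagger (σ := σ) i (θ xᵀ))
    have h4 := slot_dagger (σ := RingHom.id F) i ((θ xᵀ).map σ)ᵀ
    simp only [RingHom.coe_id, map_id, transpose_transpose] at h2 h3 h4
    rw [h.cj_gram, h2, hA, h3, h4]
  let o : Fin t := ⟨0, ht⟩
  obtain ⟨a, ha⟩ := exists_cj_of_range (slot_injective o) (g := h.unit.unit⁻¹) fun x => ⟨_, h1 o x⟩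
  have h2 : ∀ x, (θ xᵀ).map σ = cj a x := fun x => slot_injective o ((h1 o x).symm.trans (ha x))
  obtain ⟨c, hc⟩ : IsSc ((h.unit.unit * pureGL fun _ => a : GL (Fin t → κ) F) :
      Matrix (Fin t → κ) (Fin t → κ) F) := isSc_of_comm_slot fun i x => cj_eq_iff.1 (by
    rw [cj_mul, cj_pureGL_slot, ← h2, ← h1, cj_cj_inv])
  have h0 : c ≠ 0 := fun h0 => (h.unit.unit * pureGL fun _ => a).ne_zero (by rw [hc, h0, zero_smul])
  have h3 : gramMatrix f = c • pure fun _ => ((a⁻¹ : GL κ F) : Matrix κ κ F) := by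
    have := congrArg (· * pure fun _ : Fin t => ((a⁻¹ : GL κ F) : Matrix κ κ F)) hc
    simp only [Units.val_mul, coe_pureGL, IsUnit.unit_spec, mul_assoc, ← pure_mul, smul_mul_assoc,
      one_mul] at this
    rwa [show ((fun _ : Fin t => (a : Matrix κ κ F)) * fun _ => ((a⁻¹ : GL κ F) : Matrix κ κ F)) = 1
      from funext fun _ => a.mul_inv, pure_one, mul_one] at this
  have h4 := h.gram_dagger
  rw [h3, map_smul_σ, transpose_smul, pure_dagger] at h4
  have h5 : σ c ≠ 0 := (map_ne_zero σ).2 h0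
  obtain ⟨s, hs⟩ := exists_smul_of_pure ht (c := (σ c)⁻¹ * (ε * c)) (A := (a⁻¹).val)
    (dagger_ne_zero (σ := σ) (a⁻¹).ne_zero) (by
      rw [mul_smul, mul_smul, ← h4, inv_smul_smul₀ h5])
  refine ⟨_, s, c, hm_fG h.invol (a⁻¹).isUnit hs, h0, ?_, h3⟩
  rw [hs, pure_smul, smul_smul, smul_smul] at h4
  simpa using smul_left_injective F (isUnit_pure fun _ => (a⁻¹).isUnit).ne_zero h4

theorem Hm.power_struct (h : Hm σ ε f) {k : ℕ} {e : ι ≃ (Fin t → Fin k)} {P : GL ι F}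
    {A : Matrix (Fin k) (Fin k) F} {c : F} (hc : c ≠ 0)
    (hA : gramMatrix (Asch.pull f e P) = c • pure fun _ => A) :
    IsTensorPowerFormStructure σ f (formOfGram σ A) e P :=
  ⟨c, hc, fun x y => by
    rw [gram_fG]
    exact (congrFun (congrFun (h.pull e P).eq_fG x) y).trans (by rw [hA, fG_smul]; rfl)⟩

end Cfsg.Lib.Asch
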