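import Cfsg.Agent.Lib.Asch.Sesq

/-! The subgroup structure theorem for the linear groups. -/

set_option autoImplicit false

namespace Cfsg.Lib.Asch

open Matrix Cfsg.Geo Module
open scoped MatrixGroups Kronecker

variable {ι κ μ : Type} [Fintype ι] [DecidableEq ι] [Fintype κ] [DecidableEq κ]
  [Fintype μ] [DecidableEq μ] {F : Type*} [Field F]

/-! ### Finite fields -/

/-- The subfield of elements fixed by `x ↦ x ^ p ^ d`. -/
def fixSub (F : Type*) [Field F] (p d : ℕ) [ExpChar F p] : Subfield F :=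
  RingHom.eqLocusField (iterateFrobenius F p d) (RingHom.id F)

theorem mem_fixSub {p d : ℕ} [ExpChar F p] {x : F} : x ∈ fixSub F p d ↔ x ^ p ^ d = x := Iff.rfl

theorem fixSub_ne_top [Fintype F] {p e d : ℕ} [ExpChar F p] (hp : p.Prime)
    (he : Fintype.card F = p ^ e) (h0 : 0 < d) (hd : d < e) : fixSub F p d ≠ ⊤ := by
  intro h
  classical
  have h1 : 1 < p ^ d := Nat.one_lt_pow h0.ne' hp.one_lt
  have : Fintype.card F - 1 ∣ p ^ d - 1 := (FiniteField.forall_pow_eq_one_iff F _).1 fun x => by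
    have : (x : F) ^ p ^ d = x := mem_fixSub.1 (h ▸ Subfield.mem_top _)
    apply Units.ext
    rw [Units.val_pow_eq_pow_val, Units.val_one]
    apply mul_right_cancel₀ x.ne_zero
    rw [← pow_succ, Nat.sub_add_cancel h1.le, this, one_mul]
  have h2 := Nat.le_of_dvd (by omega) this
  have := Nat.pow_lt_pow_right hp.one_lt hd
  omega

theorem pow_pow_eq_self_of_dvd {c : F} {z k : ℕ} (hc : c ^ z = 1) (hk : 0 < k) (h : z ∣ k - 1) :
    c ^ k = c := by
  obtain ⟨a, ha⟩ := h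
  rw [← Nat.sub_add_cancel hk, pow_succ, ha, pow_mul, hc, one_pow, one_mul]

theorem minimal_or_subfield [Fintype F] {z : ℕ} (hz : z ∣ Fintype.card F - 1) :
    (∃ F₀ : Subfield F, F₀ ≠ ⊤ ∧ ∀ c : F, c ^ z = 1 → c ∈ F₀) ∨
      ∃ p e, 0 < e ∧ IsMinimalFieldFor z p e F := by
  obtain ⟨p, hp⟩ := CharP.exists F
  obtain ⟨e, hpp, he⟩ := FiniteField.card F p
  have : ExpChar F p := ExpChar.prime hpp
  by_cases h : ∀ d : ℕ, 0 < d → d < e → ¬ z ∣ p ^ d - 1
  · exact Or.inr ⟨p, e, e.pos, hpp, hp, he, he ▸ hz, h⟩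
  · push Not at h
    obtain ⟨d, h0, hd, h⟩ := h
    exact Or.inl ⟨fixSub F p d, fixSub_ne_top hpp he h0 hd, fun c hc =>
      pow_pow_eq_self_of_dvd hc (pow_pos hpp.pos d) h⟩

/-- The involutory automorphism of a field of square order. -/
theorem exists_invol [Fintype F] {q : ℕ} (h : Fintype.card F = q ^ 2) :
    ∃ σ : F ≃+* F, (∀ a, σ a = a ^ q) ∧ (∀ a, σ (σ a) = a) ∧ ∃ a, σ a ≠ a := by
  obtain ⟨p, hp⟩ := CharP.exists F
  obtain ⟨e, hpp, he⟩ := FiniteField.card F p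
  have : ExpChar F p := ExpChar.prime hpp
  obtain ⟨d, -, rfl⟩ := (Nat.dvd_prime_pow hpp).1 (he ▸ h ▸ dvd_pow_self q two_ne_zero : q ∣ p ^ (e : ℕ))
  have hd : (e : ℕ) = d * 2 := Nat.pow_right_injective hpp.two_le (by simp only [← he, h, pow_mul])
  have h0 := e.pos
  refine ⟨iterateFrobeniusEquiv F p d, fun _ => rfl, fun a => ?_, ?_⟩
  · change (a ^ p ^ d) ^ p ^ d = a
    rw [← pow_mul, ← sq, ← h, FiniteField.pow_card]
  · by_contra hc
    push Not at hc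
    exact fixSub_ne_top (d := d) hpp he (by omega) (by omega) (eq_top_iff.2 fun x _ => hc x)

theorem card_units_pow [Fintype F] {s : ℕ} (hs : s ∣ Fintype.card F - 1) :
    Nat.card (powMonoidHom s : Fˣ →* Fˣ).ker = s := by
  classical
  rw [IsCyclic.card_powMonoidHom_ker, Nat.card_eq_fintype_card, Fintype.card_units,
    Nat.gcd_eq_right hs]

/-! ### Subfields -/

theorem le_subfield_of_finrank [Fintype F] [Nonempty ι] {H N : Subgroup (GL ι F)} (hn : NormBy H N)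
    (hN : alg F N = ⊤) {F₁ : Subfield F} (h : finrank F₁ (alg F₁ N) ≤ Fintype.card ι ^ 2) :
    ∃ P : GL ι F, (∀ x, x ∈ alg F₁ N ↔ Ratl F₁ P x) ∧ H ≤ subfieldSubgroup F₁ P := by
  obtain ⟨P, hP⟩ := exists_ratl (alg F₁ N) (span_alg hN F₁) h
  exact ⟨P, hP, (hn.nz (k := F₁)).le_subfieldSubgroup hP⟩

/-- Class 5 in the linear case. -/
def C5 (H : Subgroup (GL ι F)) [Fintype F] : Prop :=
  ∃ (F₀ : Subfield F) (r : ℕ) (P : GL ι F), r.Prime ∧ Fintype.card F = Nat.card F₀ ^ r ∧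
    H ≤ subfieldSubgroup F₀ P

theorem c5_of_realisable [Fintype F] [Nonempty ι] {H N : Subgroup (GL ι F)} (hn : NormBy H N)
    (hN : alg F N = ⊤) {F₀ : Subfield F} (h0 : F₀ ≠ ⊤) (h : RealisableOver F₀ (matrixSet N)) :
    C5 H := by
  obtain ⟨F₁, r, h1, hr, hc⟩ := exists_maximal_subfield h0
  obtain ⟨P, -, hP⟩ := le_subfield_of_finrank hn hN (finrank_alg_le_of_realisable h1 h)
  exact ⟨F₁, r, P, hr, hc, hP⟩

theorem Extra.c5 [Fintype F] {H R : Subgroup (GL ι F)} {r m : ℕ} (h : Extra H R r m)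
    {F₀ : Subfield F} (h0 : F₀ ≠ ⊤) (hs : ∀ c : Fˣ, sc ι c ∈ R → (c : F) ∈ F₀) : C5 H := by
  have := h.nonempty
  obtain ⟨F₁, r, h1, hr, hc⟩ := exists_maximal_subfield h0
  obtain ⟨P, -, hP⟩ := le_subfield_of_finrank h.norm h.top
    (h.finrank_alg_le fun c hc => h1 (hs c hc))
  exact ⟨F₁, r, P, hr, hc, hP⟩

/-! ### The centre of a group of symplectic type -/

namespace Extra

variable {H R : Subgroup (GL ι F)} {r m : ℕ} (h : Extra H R r m)
include h

theorem pow_card_center {c : Fˣ} (hc : sc ι c ∈ R) :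
    (c : F) ^ Nat.card (Subgroup.center R) = 1 := by
  rw [h.card_center, ← Units.val_pow_eq_pow_val, Units.val_eq_one]
  exact congrArg Subtype.val (pow_card_eq_one' (x := (⟨c, hc⟩ : R.comap (scHom ι F))))

theorem card_center_dvd [Fintype F] : Nat.card (Subgroup.center R) ∣ Fintype.card F - 1 := by
  classical
  rw [h.card_center, ← Fintype.card_units, ← Nat.card_eq_fintype_card]
  exact Subgroup.card_subgroup_dvd_card _

theorem card_center_dvd' [Finite F] : Nat.card (Subgroup.center R) ∣ r * Nat.gcd 2 r := by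
  rw [h.card_center, ← IsCyclic.exponent_eq_card]
  exact Monoid.exponent_dvd_of_forall_pow_eq_one fun c => Subtype.ext ((h.sc_mem c).1 c.2).2

theorem dvd_card_center : r ∣ Nat.card (Subgroup.center R) := by
  obtain ⟨c, hc, hc'⟩ := h.root
  rw [h.card_center, ← hc]
  exact Subgroup.orderOf_dvd_natCard _ hc'

theorem card_center_odd [Finite F] (hr : Odd r) : Nat.card (Subgroup.center R) = r :=
  Nat.dvd_antisymm (by simpa [Nat.coprime_two_left.2 hr] using h.card_center_dvd') h.dvd_card_center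

theorem card_center_two [Finite F] (hr : r = 2) :
    Nat.card (Subgroup.center R) = 2 ∨ Nat.card (Subgroup.center R) = 4 := by
  subst hr
  have h1 := h.card_center_dvd'
  have h2 := h.dvd_card_center
  have := Nat.le_of_dvd (by decide) h1
  generalize Nat.card (Subgroup.center R) = z at *
  norm_num at this h1
  interval_cases z <;> simp_all

theorem mul_self_of_card_center (hz : Nat.card (Subgroup.center R) = 2) (c : Fˣ)
    (hc : sc ι c ∈ R) : (c : F) * RingHom.id F c = 1 := by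
  simpa [hz, sq] using h.pow_card_center hc

theorem card_odd [Finite F] (hr : Odd r) : Nat.card R = r ^ (1 + 2 * m) := by
  rw [h.card, h.card_center_odd hr]; ring

theorem card_of_two (hr : r = 2) (hz : Nat.card (Subgroup.center R) = 2) :
    Nat.card R = 2 ^ (1 + 2 * m) := by
  rw [h.card, hz, hr]; ring

theorem card_of_four (hr : r = 2) (hz : Nat.card (Subgroup.center R) = 4) :
    Nat.card R = 2 ^ (2 + 2 * m) := by
  rw [h.card, hz, hr]; ring

/-- In a minimal field of even degree the scalars of `R` have norm one. -/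
theorem norm_eq_one [Fintype F] {p d : ℕ} (h0 : 0 < d)
    (hm : IsMinimalFieldFor (Nat.card (Subgroup.center R)) p (2 * d) F) (c : Fˣ)
    (hc : sc ι c ∈ R) : (c : F) * c ^ p ^ d = 1 := by
  obtain ⟨hp, hc', -, h1, h2⟩ := hm
  have h3 := h2 d h0 (by omega)
  have h4 : p ^ (2 * d) - 1 = (p ^ d + 1) * (p ^ d - 1) := by
    rw [mul_comm 2, pow_mul, ← Nat.sq_sub_sq, one_pow]
  have : Nat.card (Subgroup.center R) ∣ p ^ d + 1 := by
    rcases h.prime.eq_two_or_odd' with hr | hr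
    · have hodd : Odd (p ^ d) := (hp.eq_two_or_odd'.resolve_left fun h2 =>
        h.ne_char (hr.trans h2.symm)).pow
      obtain ⟨a, ha⟩ := hodd
      rcases h.card_center_two hr with hz | hz <;> rw [hz] at h3 ⊢ <;> omega
    · rw [h.card_center_odd hr] at h1 h3 ⊢
      exact ((Nat.Prime.dvd_mul h.prime).1 (h4 ▸ h1)).resolve_right h3
  obtain ⟨a, ha⟩ := this
  rw [← pow_succ', ha, pow_mul, h.pow_card_center hc, one_pow]

theorem degree_le_two [Fintype F] {p e : ℕ} (hr : r = 2)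
    (hm : IsMinimalFieldFor (Nat.card (Subgroup.center R)) p e F) : e ≤ 2 := by
  obtain ⟨hp, hc', -, -, h2⟩ := hm
  by_contra he
  obtain ⟨a, rfl⟩ := hp.eq_two_or_odd'.resolve_left fun h2 => h.ne_char (hr.trans h2.symm)
  refine h2 2 two_pos (by omega) ((by simpa [hr] using h.card_center_dvd' : _ ∣ 4).trans ?_)
  exact ⟨a ^ 2 + a, by rw [Nat.sub_eq_iff_eq_add (Nat.one_le_pow _ _ (by omega))]; ring⟩

end Extra

/-- The unitary part of class 8. -/
def C8u (H : Subgroup (GL ι F)) : Prop :=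
  ∃ (σ : F ≃+* F) (f : (ι → F) → (ι → F) → F), IsUnitaryForm σ f ∧ H ≤ similarityGroup f

theorem Extra.linear_cases [Fintype F] (hn : 3 ≤ Fintype.card ι) {H R : Subgroup (GL ι F)}
    {r m : ℕ} (h : Extra H R r m) (hH : Irr H) :
    C5 H ∨ IsLinearSymplecticTypeData r R ∨ C8b H ∨ C8u H := by
  have := h.nonempty
  rcases minimal_or_subfield h.card_center_dvd with ⟨F₀, h0, hF⟩ | ⟨p, e, he, hm⟩
  · exact Or.inl (h.c5 h0 fun c hc => hF _ (h.pow_card_center hc))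
  right
  by_cases hz : Nat.card (Subgroup.center R) = 2
  · obtain ⟨G, h0, hG⟩ := h.exists_fixes (h.mul_self_of_card_center hz)
    exact Or.inr (Or.inl (hG.c8b (by omega) hH h.top h.norm h0))
  rcases Nat.even_or_odd' e with ⟨d, rfl | rfl⟩
  · obtain ⟨σ, h1, h2, h3⟩ := exists_invol (F := F) (q := p ^ d) (by rw [hm.2.2.1, ← pow_mul, mul_comm])
    obtain ⟨G, h0, hG⟩ := h.exists_fixes (σ := (σ : F →+* F)) fun c hc => by
      rw [RingHom.coe_coe, h1, h.norm_eq_one (by omega) hm c hc]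
    exact Or.inr (Or.inr ⟨σ, hG.c8u h2 h3 h.top h.norm h0⟩)
  · have := hm.2.1
    refine Or.inl ⟨h.symp, absIrr_of_alg_top h.top, p, _, h.ne_char, hm, ?_⟩
    rcases h.prime.eq_two_or_odd' with hr | hr
    · have h4 := (h.card_center_two hr).resolve_left hz
      have := h.degree_le_two hr hm
      refine Or.inr (Or.inl ⟨hr, by omega, h4, ?_, m, h.card_of_four hr h4⟩)
      have h5 := h.card_ι
      have h6 := h.pos
      rw [hr] at h5
      by_contra hc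
      obtain h7 : Fintype.card ι = 3 := by omega
      exact absurd (h7 ▸ h5 ▸ dvd_pow_self 2 (by omega) : 2 ∣ 3) (by decide)
    · exact Or.inl ⟨hr, by simp, h.card_center_odd hr, m, h.pos, h.card_odd hr⟩

/-! ### Tensor products -/

theorem tr_swap (e : ι ≃ κ × μ) (P : GL ι F) (a : Matrix κ κ F) (b : Matrix μ μ F) :
    tr (e.trans (Equiv.prodComm _ _)) P (b ⊗ₖ a) = tr e P (a ⊗ₖ b) := by
  rw [tr_apply, tr_apply]
  congr 1
  ext; simp [mul_comm]

/-- `H` normalises the left factor of a tensor decomposition. -/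
def NzL (H : Subgroup (GL ι F)) (e : ι ≃ κ × μ) (P : GL ι F) : Prop :=
  ∀ g ∈ H, ∀ x, ∃ y, cj g (tr e P (kl _ _ F x)) = tr e P (kl _ _ F y)

theorem NzL.swap [Nonempty κ] {H : Subgroup (GL ι F)} {e : ι ≃ κ × μ} {P : GL ι F}
    (h : NzL H e P) : NzL H (e.trans (Equiv.prodComm _ _)) P := fun g hg x => by
  simpa only [kl_apply, tr_swap, kr_apply] using cj_kr_of_cj_kl (h g⁻¹ (inv_mem hg)) x

theorem NzL.le_tensor {n₁ n₂ : ℕ} (h1 : 2 ≤ n₁) (h2 : 2 ≤ n₂) {H : Subgroup (GL ι F)}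
    {e : ι ≃ Fin n₁ × Fin n₂} {P : GL ι F} (h : NzL H e P) :
    H ≤ tensorProductSubgroup n₁ n₂ e P := fun g hg =>
  have : NeZero n₁ := ⟨by omega⟩
  have : NeZero n₂ := ⟨by omega⟩
  mem_tensorProductSubgroup_of e P (h g hg)

theorem nzL_of_le_tensor {n₁ n₂ : ℕ} {H : Subgroup (GL ι F)} {e : ι ≃ Fin n₁ × Fin n₂}
    {P : GL ι F} (h : H ≤ tensorProductSubgroup n₁ n₂ e P) : NzL H e P := fun g hg x => by
  obtain ⟨a, b, hab⟩ := (mem_tensorProductSubgroup_iff e P g).1 (h hg)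
  refine ⟨cj a x, cj_eq_iff.2 ?_⟩
  rw [hab, ← map_mul, ← map_mul, kl_apply, kl_apply, ← mul_kronecker_mul, ← mul_kronecker_mul,
    cj_mul_self, mul_one, one_mul]

theorem NormBy.nzL {H N : Subgroup (GL ι F)} (h : NormBy H N) {e : ι ≃ κ × μ} {P : GL ι F}
    (hm : ∀ x, x ∈ alg F N ↔ ∃ y, x = tr e P (kl _ _ F y)) : NzL H e P := fun g hg x =>
  (hm _).1 (h.nz (k := F) g hg _ ((hm _).2 ⟨x, rfl⟩))

/-! ### The main theorem -/

theorem C8b.even_or {H : Subgroup (GL ι F)} [Fintype F] (h : C8b H) :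
    (∃ f : (ι → F) → (ι → F) → F, IsSymplecticForm f ∧ Even (Fintype.card ι) ∧
      H ≤ similarityGroup f) ∨
    (Odd (Fintype.card F) ∧ ∃ Q : (ι → F) → F, IsNondegenerateQuadraticForm Q ∧
      H ≤ quadSimilarityGroup Q) :=
  h.imp_left fun ⟨f, h1, h2⟩ => ⟨f, h1, IsSymplecticForm.even h1, h2⟩

theorem IsSesq.gram_ne_zero [Nonempty ι] {σ : F →+* F} {f : (ι → F) → (ι → F) → F}
    (h : IsSesq σ f) (hσ : Function.Surjective σ) (hf : IsNondegenerateForm f) :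
    gramMatrix f ≠ 0 := (h.isUnit hσ hf).ne_zero

/-- The alternatives of the structure theorem in the linear case. -/
inductive LinCase [Fintype F] (H : Subgroup (GL ι F)) : Prop
  | c1 (W : Submodule F (ι → F)) (h0 : W ≠ ⊥) (h1 : W ≠ ⊤) (h : H ≤ subspaceStabilizer W)
  | c2 (t m : ℕ) (D : Fin t → Submodule F (ι → F)) (hD : IsMDecomposition m D)
      (h : H ≤ decompositionStabilizer D)
  | c3 (r : ℕ) (K : Subalgebra F (Matrix ι ι F)) (hr : r.Prime) (hK : IsFieldSubalgebra r K)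
      (h : H ≤ subalgebraNormalizer K)
  | c4 (n₁ n₂ : ℕ) (e : ι ≃ Fin n₁ × Fin n₂) (P : GL ι F) (h1 : 2 ≤ n₁) (h2 : n₁ < n₂)
      (h : H ≤ tensorProductSubgroup n₁ n₂ e P)
  | c5 (h : C5 H)
  | c6 (r m : ℕ) (R : Subgroup (GL ι F)) (hR : IsLinearSymplecticTypeData r R)
      (hm : Fintype.card ι = r ^ m) (h : H ≤ subgroupNormalizer R)
  | c7 (m t : ℕ) (e : ι ≃ (Fin t → Fin m)) (P : GL ι F) (h1 : 3 ≤ m) (h2 : 2 ≤ t)
      (h : H ≤ tensorWreathSubgroup m t e P)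
  | c8b (h : C8b H)
  | c8u (h : C8u H)
  | res (h : InLinearResidualClass H)

theorem linCase [Fintype F] (hn : 3 ≤ Fintype.card ι) (H₀ : Subgroup (GL ι F)) : LinCase H₀ := by
  have : Nonempty ι := Fintype.card_pos_iff.1 (by omega)
  have h2 : 2 ≤ Fintype.card ι := by omega
  let H := H₀ ⊔ scalars ι F
  have h0 : H₀ ≤ H := le_sup_left
  have c8b : C8b H → LinCase H₀ := fun h => .c8b (h.imp (fun ⟨f, h1, h2⟩ => ⟨f, h1, h0.trans h2⟩)
    fun ⟨ho, Q, h1, h2⟩ => ⟨ho, Q, h1, h0.trans h2⟩)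
  have c8u : C8u H → LinCase H₀ := fun ⟨σ, f, h1, h2⟩ => .c8u ⟨σ, f, h1, h0.trans h2⟩
  have c5 : C5 H → LinCase H₀ := fun ⟨F₀, r, P, h1, h2, h3⟩ => .c5 ⟨F₀, r, P, h1, h2, h0.trans h3⟩
  have c7 : ∀ (k t : ℕ) (e : ι ≃ (Fin t → Fin k)) (P : GL ι F), 2 ≤ k → 2 ≤ t → Irr H →
      H ≤ tensorWreathSubgroup k t e P → LinCase H₀ := fun k t e P hk ht hH h => by
    rcases hk.eq_or_lt with rfl | hk
    · exact c8b (hH.c8b_of_tensorWreath_two h2 h)
    · exact .c7 k t e P hk ht (h0.trans h)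
  by_cases hH : Irr H
  swap
  · simp only [Irr, not_forall, not_or] at hH
    obtain ⟨W, h1, h2, h3⟩ := hH
    exact .c1 W h2 h3 (h0.trans h1.le_stab)
  by_cases hc : ∀ N ≤ H, NormBy H N → ∀ x ∈ cen (alg F N), IsSc x
  swap
  · push Not at hc
    obtain ⟨N, -, hN, hx⟩ := hc
    rcases hH.comm_dichotomy (hN.nz (k := F)).cen (cen_comm _) hx with
      ⟨t, ε, ht, hε, -⟩ | ⟨r, K, hr, hK, hN, -⟩
    · obtain ⟨m, hm⟩ := hε.isMDecomposition ht
      exact .c2 t m _ hm (h0.trans hε.le_stab)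
    · exact .c3 r K hr hK (h0.trans hN.le_normalizer)
  rcases hH.qp_or_tensor hc with hQ | ⟨N, -, hN, n₁, n₂, e, P, h1, h2, hm⟩
  swap
  · have hL := hN.nzL hm
    have : NeZero n₁ := ⟨by omega⟩
    rcases lt_trichotomy n₁ n₂ with h | rfl | h
    · exact .c4 n₁ n₂ e P h1 h (h0.trans (hL.le_tensor h1 h2))
    · obtain ⟨e', P', h3, h4⟩ := exists_tr_two e P 1
      exact c7 _ 2 e' P' h1 le_rfl hH (le_tensorWreath_two h1 hL h3 h4)
    · exact .c4 n₂ n₁ _ P h2 h (h0.trans (hL.swap.le_tensor h2 h1))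
  rcases hH.min_normal_cases h2 with ⟨N, r, hN⟩ | ⟨t, L, hL⟩
  · obtain ⟨R, m, hR⟩ := hN.exists_extra h2 hQ
    rcases hR.linear_cases hn hH with h | h | h | h
    exacts [c5 h, .c6 r m R h hR.card_ι (h0.trans hR.le_normalizer), c8b h, c8u h]
  rcases (show 1 ≤ t from hL.pos).eq_or_lt with rfl | ht
  swap
  · obtain ⟨k, e, P, hk, hm, -⟩ := hL.exists_power hQ
    exact c7 k t e P hk ht hH (hL.le_tensorWreath hk hm)
  have hT := hL.alg_one hQ
  have hN := hL.normBy_one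
  have hb : ∀ f : (ι → F) → (ι → F) → F, IsBilinearForm f → IsNondegenerateForm f →
      FixesForm (matrixSet (L 0)) f → LinCase H₀ := fun f h1 h3 h4 =>
    c8b (((isSesq_id_iff.2 h1).fixes h4).c8b h2 hH hT hN
      ((isSesq_id_iff.2 h1).gram_ne_zero Function.surjective_id h3))
  by_contra hc
  refine hc (.res ⟨L 0, hL.isResidualCore hQ h0 le_rfl fun F₀ h1 h3 =>
    hc (c5 (c5_of_realisable hN hT h1 h3)), ?_, ?_, ?_⟩)
  · rintro ⟨Q, h1, h3⟩
    exact hc (hb _ h1.polar_bilinear h1.nondegenerate (fixesForm_polar h3))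
  · rintro ⟨f, h1, h3⟩
    exact hc (hb _ h1.bilinear h1.nondegenerate h3)
  · rintro ⟨σ, f, h1, h3⟩
    refine hc (c8u ⟨σ, f, h1, ?_⟩)
    have hs := IsUnitaryForm.isSesq h1
    rw [hs.eq_fG]
    exact (hs.fixes h3).normBy_le_sim hT (hs.gram_ne_zero σ.surjective h1.nondegenerate) hN

theorem linear_structure [Fintype F] {n : ℕ} (hn : 3 ≤ n) (H : Subgroup (GL (Fin n) F)) :
    (∃ M, InLinearClass n F M ∧ H ≤ M) ∨ InLinearResidualClass H := by
  unfold InLinearClass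
  rcases linCase (by simpa using hn) H with ⟨W, h0, h1, h⟩ | ⟨t, m, D, hD, h⟩ | ⟨r, K, hr, hK, h⟩ |
    ⟨n₁, n₂, e, P, h1, h2, h⟩ | ⟨F₀, r, P, h1, h2, h⟩ | ⟨r, m, R, hR, -, h⟩ |
    ⟨m, t, e, P, h1, h2, h⟩ | h | ⟨σ, f, h1, h⟩ | h
  · exact .inl ⟨_, .inl ⟨W, h0, h1, rfl⟩, h⟩
  · exact .inl ⟨_, .inr <| .inr <| .inr <| .inl ⟨t, m, D, hD, rfl⟩, h⟩
  · exact .inl ⟨_, .inr <| .inr <| .inr <| .inr <| .inl ⟨r, K, hr, hK, rfl⟩, h⟩
  · exact .inl ⟨_, .inr <| .inr <| .inr <| .inr <| .inr <| .inl ⟨n₁, n₂, e, P, h1, h2, rfl⟩, h⟩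
  · exact .inl ⟨_, .inr <| .inr <| .inr <| .inr <| .inr <| .inr <| .inl ⟨F₀, r, P, h1, h2, rfl⟩, h⟩
  · exact .inl ⟨_, .inr <| .inr <| .inr <| .inr <| .inr <| .inr <| .inr <| .inl ⟨r, R, hR, rfl⟩, h⟩
  · exact .inl ⟨_, .inr <| .inr <| .inr <| .inr <| .inr <| .inr <| .inr <| .inr <|
      .inl ⟨m, t, e, P, h1, h2, rfl⟩, h⟩
  · rcases h.even_or with ⟨f, h1, h2, h⟩ | ⟨ho, Q, h1, h⟩
    · rw [Fintype.card_fin] at h2
      exact .inl ⟨_, .inr <| .inr <| .inr <| .inr <| .inr <| .inr <| .inr <| .inr <| .inr <|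
        .inl ⟨f, h1, h2, by obtain ⟨k, rfl⟩ := h2; omega, rfl⟩, h⟩
    · exact .inl ⟨_, .inr <| .inr <| .inr <| .inr <| .inr <| .inr <| .inr <| .inr <| .inr <|
        .inr <| .inr ⟨Q, h1, ho, hn, rfl⟩, h⟩
  · exact .inl ⟨_, .inr <| .inr <| .inr <| .inr <| .inr <| .inr <| .inr <| .inr <| .inr <|
      .inr <| .inl ⟨σ, f, h1, hn, rfl⟩, h⟩
  · exact .inr h

end Cfsg.Lib.Asch
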