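import Cfsg.Agent.Lib.Asch.O

/-! Geometric subgroups that are not maximal: orthogonal groups, subspaces and decompositions. -/

set_option autoImplicit false

namespace Cfsg.Lib.Asch

open Matrix Cfsg.Geo Module Cfsg.Lib.Forms Subgroup
open QuadraticMap (polar)
open scoped MatrixGroups Kronecker commutatorElement

variable {ι κ μ : Type} [Fintype ι] [DecidableEq ι] [Fintype κ] [DecidableEq κ]
  [Fintype μ] [DecidableEq μ] {F : Type*} [Field F] {σ : F →+* F} {ε : F}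
  {f : (ι → F) → (ι → F) → F} {Q : (ι → F) → F}

theorem between {B : Type*} [Group B] {G H : Subgroup B} (Y : Subgroup B) (h1 : H ⊓ G ≤ Y)
    (h3 : ¬ G ≤ Y) {g : B} (hG : g ∈ G) (hY : g ∈ Y) (hH : g ∉ H) : ∃ K, H ⊓ G < K ∧ K < G :=
  exists_between_inf Y h1 (fun h => hH (h ⟨hY, hG⟩)) h3

/-- The stabiliser of a set of vectors. -/
abbrev stS (T : Set (ι → F)) : Subgroup (GL ι F) := stabilizing (glToMat ι F) T

theorem mem_stS [Finite F] {T : Set (ι → F)} {g : GL ι F}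
    (h : ∀ v ∈ T, (g : Matrix ι ι F) *ᵥ v ∈ T) : g ∈ stS T := fun v => ⟨h v, fun hv => by
  have hi : Function.Injective fun v => (g : Matrix ι ι F) *ᵥ v := fun a b hab => by
    simpa only [inv_mulVec_mulVec] using congrArg (((g⁻¹ : GL ι F) : Matrix ι ι F) *ᵥ ·) hab
  obtain ⟨w, hw, h1⟩ := (((Set.toFinite T).injOn_iff_bijOn_of_mapsTo h).1 hi.injOn).surjOn hv
  exact hi h1 ▸ hw⟩

omit [Fintype ι] [DecidableEq ι] in
theorem not_mem_any {t : ℕ} {D : Fin t → Submodule F (ι → F)}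
    (ho : ∀ i j, i ≠ j → AreOrthogonalFor f (D i) (D j)) {i j : Fin t} (hij : i ≠ j)
    {w x y : ι → F} (hx : x ∈ D i) (hy : y ∈ D j) (h1 : f w x ≠ 0) (h2 : f w y ≠ 0) :
    ¬ ∃ l, w ∈ D l := fun ⟨l, hl⟩ => by
  by_cases h4 : l = i
  · exact h2 (ho _ j (h4 ▸ hij) _ hl y hy)
  · exact h1 (ho _ i h4 _ hl x hx)

theorem not_mem_dec {t : ℕ} {D : Fin t → Submodule F (ι → F)} {g : GL ι F} {k : Fin t} {u : ι → F}
    (hu : u ∈ D k) (h : ¬ ∃ l, (g : Matrix ι ι F) *ᵥ u ∈ D l) : g ∉ decompositionStabilizer D :=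
  fun ⟨π, hπ⟩ => h ⟨π k, hπ k ▸ Submodule.mem_map_of_mem hu⟩

omit [DecidableEq ι] in
theorem Hm.exists_perp_mem (h : Hm σ ε f) {W : Submodule F (ι → F)} {s : Finset (ι → F)}
    (hW : s.card < finrank F W) : ∃ w ∈ W, w ≠ 0 ∧ ∀ e ∈ s, f w e = 0 := by
  have h2 := Submodule.finrank_sup_add_finrank_inf_eq W (h.perp (Submodule.span F s))
  have h3 := h.finrank_perp (Submodule.span F s)
  have h4 := finrank_span_finset_le_card (R := F) s
  have h5 := Submodule.finrank_le (W ⊔ h.perp (Submodule.span F s))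
  rw [finrank_fintype_fun_eq_card] at h5
  rw [Set.finrank] at h4
  obtain ⟨w, hw, h0⟩ := Submodule.exists_mem_ne_zero_of_ne_bot
    (p := W ⊓ h.perp (Submodule.span F s)) fun h => by rw [h, finrank_bot] at h2; omega
  exact ⟨w, hw.1, h0, fun e he => hw.2 e (Submodule.subset_span he)⟩

omit [DecidableEq ι] in
theorem span_ne_top (hn : 2 ≤ Fintype.card ι) (v : ι → F) : Submodule.span F {v} ≠ ⊤ := fun h => by
  have := (finrank_span_le_card (R := F) ({v} : Set (ι → F)))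
  rw [h] at this
  simp at this; omega

namespace NQ

variable (hQ : NQ Q)
include hQ

theorem cl [Finite F] (hn : 5 ≤ Fintype.card ι) : Cl (omegaGL Q) := cl_omega (qForm_nondeg hQ) hn

theorem fGL_mem {x : (qForm hQ).isom} (hx : x ∈ commutator _) : fGL _ x ∈ omegaGL Q :=
  (omegaGL_eq (qForm hQ)).ge ⟨x, hx, rfl⟩

theorem eich (hn : 5 ≤ Fintype.card ι) {e z : ι → F} (he : Q e = 0) (hz : polar Q z e = 0) :
    ∃ g ∈ omegaGL Q, ∀ x, (g : Matrix ι ι F) *ᵥ x = x + polar Q x z • e - polar Q x e • (z + Q z • e) :=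
  ⟨_, hQ.fGL_mem ((qForm_nondeg hQ).eich_mem_commutator (Form.good_of_finrank (by simp; omega)) e z _
    (Form.isEich_quad he hz)), fun x => by
      rw [fGL_mulVec, Form.eich_apply, quadKind_ε, one_mul]; rfl⟩

theorem refl2 {a b : ι → F} (h0 : Q a ≠ 0) (h : Q b = Q a) : ∃ g ∈ omegaGL Q, ∀ x y,
    y = x - ((Q a)⁻¹ * polar Q x b) • b → (g : Matrix ι ι F) *ᵥ x = y - ((Q a)⁻¹ * polar Q y a) • a :=
  ⟨_, hQ.fGL_mem ((qForm_nondeg hQ).refl_mul_refl_mem_commutator (v := a) (w := b) h0 one_ne_zero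
    (by rw [one_pow, one_mul]; exact h)), fun x y hy => by
      rw [fGL_mulVec, Form.isom_mul_apply, Form.refl_apply, Form.refl_apply b, hy, ← h]
      rw [show (qForm hQ).Q a = Q b from h.symm]; rfl⟩

omit [DecidableEq ι] in
theorem exists_perp {e w : ι → F} (h : w ∉ Submodule.span F {e}) :
    ∃ z, polar Q z e = 0 ∧ polar Q w z = 1 :=
  let ⟨z, h1, h2⟩ := (qForm_nondeg hQ).exists_perp_B_eq h 1
  ⟨z, (qForm hQ).mem_perp_span_singleton.1 h1, h2⟩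

theorem eich_move (hn : 5 ≤ Fintype.card ι) {U W : Submodule F (ι → F)}
    (hU : IsTotallySingularQuad Q U) {e : ι → F} (he : e ∈ U) (heW : e ∉ W) (hW : 2 ≤ finrank F W) :
    ∃ g ∈ omegaGL Q, g ∈ subspaceStabilizer U ∧ g ∉ subspaceStabilizer W := by
  obtain ⟨w, hw, h0, h1⟩ := hQ.hm.exists_perp_mem (s := {e}) hW
  replace h1 := h1 e (by simp)
  obtain ⟨z, h2, h3⟩ := hQ.exists_perp (e := e) (w := w) fun h => by
    obtain ⟨a, rfl⟩ := Submodule.mem_span_singleton.1 h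
    exact heW ((W.smul_mem_iff (left_ne_zero_of_smul h0)).1 hw)
  obtain ⟨g, hg, h4⟩ := hQ.eich hn (hU e he) h2
  refine ⟨g, hg, mem_stab_of_mapsTo fun u hu => ?_, fun h => heW ?_⟩
  · rw [h4, ts hU u hu e he, zero_smul, sub_zero]
    exact add_mem hu (U.smul_mem _ he)
  · have := (h w).1 hw
    change (g : Matrix ι ι F) *ᵥ w ∈ W at this
    rw [h4, h1, h3, zero_smul, sub_zero, one_smul] at this
    exact (W.add_mem_iff_right hw).1 this

variable [Fintype F]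

theorem nm_plane (hn : 5 ≤ Fintype.card ι) (h3 : Fintype.card F ≤ 3) {W : Submodule F (ι → F)}
    (h : finrank F W = 2) (hW : IsNondegenerateOn (polar Q) W) (hp : IsPlusTypeOn Q W) :
    ∃ K, subspaceStabilizer W ⊓ omegaGL Q < K ∧ K < omegaGL Q := by
  obtain ⟨v, hv, h1, h2, u, hu, h0, h4⟩ := hQ.plane_three h3 hW h hp
  obtain ⟨⟨e, he⟩, h5, h6⟩ := Quad.exists_singular ((qForm hQ).restrict (hQ.hm.perp W))
    (by have := hQ.hm.finrank_perp W; omega)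
  have h7 : ∀ w ∈ W, polar Q w e = 0 := hQ.hm.mem_perp'.1 he
  obtain ⟨g, hg, h8⟩ := hQ.eich hn (e := e) h6 (hQ.hm.symm0 (hQ.hm.symm0 (h7 u hu)))
  obtain ⟨w, hw, h9⟩ := (hW u hu h0).1
  refine between (subspaceStabilizer (Submodule.span F {v})) (fun x hx => mem_stab_of_mapsTo fun y hy => ?_)
    ((hQ.cl hn).not_le_stab (by simpa using hQ.ne_zero h1 one_ne_zero) (span_ne_top (by omega) v)) hg
    (mem_stab_of_mapsTo fun y hy => ?_) fun h => h5 (Subtype.ext ?_)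
  · obtain ⟨a, rfl⟩ := Submodule.mem_span_singleton.1 hy
    rw [mulVec_smul]
    exact Submodule.smul_mem _ _ (h2 _ ((hx.1 v).1 hv) ((mem_isometryGroup_iff.1 (omegaGL_le hx.2) v).trans h1))
  · obtain ⟨a, rfl⟩ := Submodule.mem_span_singleton.1 hy
    rwa [mulVec_smul, h8, h4, h7 v hv, zero_smul, zero_smul, add_zero, sub_zero]
  · have := (h w).1 hw
    change (g : Matrix ι ι F) *ᵥ w ∈ W at this
    rw [h8, h7 w hw, zero_smul, sub_zero, W.add_mem_iff_right hw, W.smul_mem_iff h9] at this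
    exact (Submodule.mem_bot F).1 (hQ.hm.nondegOn_iff.1 hW ▸ ⟨this, he⟩)

theorem nm_sub (hn : 6 ≤ Fintype.card ι) (hp : Plus Q) {W : Submodule F (ι → F)}
    (hW : IsTotallySingularQuad Q W) (h : 2 * (finrank F W + 1) = Fintype.card ι) :
    ∃ K, subspaceStabilizer W ⊓ omegaGL Q < K ∧ K < omegaGL Q := by
  obtain ⟨U, h1, h2, h3⟩ := hQ.exists_max (by omega) hp (H := subspaceStabilizer W ⊓ omegaGL Q)
    inf_le_right hW (inv_iff_le_stab.2 inf_le_left) h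
  have h0 : U ≠ ⊥ := fun h0 => by rw [h0, finrank_bot] at h2; omega
  obtain ⟨e, he, h4⟩ : ∃ e ∈ U, e ∉ W := by
    by_contra! h4
    have := Submodule.finrank_mono (show U ≤ W from h4); omega
  obtain ⟨g, h5, h6, h7⟩ := hQ.eich_move (by omega) h1 he h4 (by omega)
  exact between _ h3.le_stab ((hQ.cl (by omega)).not_le_stab h0 (hQ.hm.ne_top_of_ts (ts h1) h0)) h5 h6 h7

theorem nm_pair (hn : 5 ≤ Fintype.card ι) {k : ℕ} (hk : Odd k) {D : Fin 2 → Submodule F (ι → F)}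
    (hD : IsMDecomposition k D) (h : ∀ i, IsTotallySingularQuad Q (D i)) :
    ∃ K, decompositionStabilizer D ⊓ omegaGL Q < K ∧ K < omegaGL Q := by
  have h1 := IsMDecomposition.mul_eq hD
  have h2 : D 0 ⊓ D 1 = ⊥ := (hD.indep.pairwiseDisjoint (by decide : (0 : Fin 2) ≠ 1)).eq_bot
  obtain ⟨e, he, h0⟩ := Submodule.exists_mem_ne_zero_of_ne_bot (IsMDecomposition.ne_bot hD 0)
  have h3 : e ∉ D 1 := fun h => h0 ((Submodule.mem_bot F).1 (h2 ▸ ⟨he, h⟩))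
  obtain ⟨g, h5, h6, h7⟩ := hQ.eich_move hn (h 0) he h3 (by rw [hD.finrank_eq]; omega)
  refine between (subspaceStabilizer (D 0)) (fun x ⟨⟨π, hπ⟩, hx⟩ => mem_stab_iff_map.2 ?_)
    ((hQ.cl hn).not_le_stab (IsMDecomposition.ne_bot hD 0) (IsMDecomposition.ne_top hD 0)) h5 h6
    fun ⟨π, hπ⟩ => h7 (mem_stab_iff_map.2 ?_)
  · have h4 := hQ.omega_even (by omega) (h 0) (by rw [hD.finrank_eq, h1]) hx
    rw [hπ] at h4 ⊢
    obtain h8 | h8 : π 0 = 0 ∨ π 0 = 1 := by omega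
    · rw [h8]
    · rw [h8, h2, hD.finrank_eq, finrank_bot] at h4
      exact absurd hk (Nat.not_odd_iff_even.2 h4)
  · rw [hπ]
    obtain h8 | h8 : π 1 = 0 ∨ π 1 = 1 := by omega
    · have h9 : π 0 = 1 := by have := π.injective.ne (by decide : (0 : Fin 2) ≠ 1); omega
      exact absurd (h9 ▸ hπ 0 ▸ (mem_stab_iff_map.1 h6).ge he) h3
    · rw [h8]

section Dec

variable {t k : ℕ} {D : Fin t → Submodule F (ι → F)}

omit hQ in
theorem le_stS (c : F) : decompositionStabilizer D ⊓ omegaGL Q ≤ stS {v | Q v = c ∧ ∃ i, v ∈ D i} :=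
  fun g hg => mem_stS (inv_set (inf_le_right.trans omegaGL_le) inf_le_left c g hg)

omit [Fintype F] in
theorem eich_out (hn : 5 ≤ Fintype.card ι) (hD : IsNondegenerateMDecomposition (polar Q) k D)
    (j : Fin 4 ↪ Fin t) {c a b : F} (hc : c ≠ 0) (h : 1 + a ^ 2 + b ^ 2 = 0) {v : Fin t → ι → F}
    (hv : ∀ i, v i ∈ D i) (h1 : ∀ i, Q (v i) = c) {u z : ι → F} (hu : u ∈ D (j 0)) (hz : z ∈ D (j 0))
    (h0 : polar Q u z ≠ 0) : ∃ g ∈ omegaGL Q, (¬ ∃ l, (g : Matrix ι ι F) *ᵥ u ∈ D l) ∧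
      ∃ e, e = v (j 1) + a • v (j 2) + b • v (j 3) ∧
        ∀ x, (g : Matrix ι ι F) *ᵥ x = x + polar Q x z • e - polar Q x e • (z + Q z • e) := by
  have ho : ∀ {i l : Fin 4}, i ≠ l → ∀ x ∈ D (j i), polar Q x (v (j l)) = 0 := fun h x hx =>
    hD.orthogonal _ _ (j.injective.ne h) x hx _ (hv _)
  have h2 : ∀ x ∈ D (j 0), polar Q x (v (j 1) + a • v (j 2) + b • v (j 3)) = 0 := fun x hx => by
    simp [hQ.hm.add_right, hQ.hm.smul_right, ho (i := 0) _ x hx]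
  obtain ⟨g, hg, h3⟩ := hQ.eich hn (e := v (j 1) + a • v (j 2) + b • v (j 3)) (by
    simp only [add, hQ.smul, h1, hQ.hm.add_left, hQ.hm.smul_left, hQ.hm.smul_right,
      ho (i := 1) (l := 2) (by decide) _ (hv _), ho (i := 1) (l := 3) (by decide) _ (hv _),
      ho (i := 2) (l := 3) (by decide) _ (hv _)]
    linear_combination c * h) (h2 z hz)
  obtain ⟨y, hy, h4⟩ := (hD.nondegenerate _ _ (hv (j 1)) (hQ.ne_zero (h1 _) hc)).2
  refine ⟨g, hg, not_mem_any hD.orthogonal (j.injective.ne (by decide : (0 : Fin 4) ≠ 1)) hz hy ?_ ?_,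
    _, rfl, h3⟩ <;> rw [h3, h2 u hu, zero_smul, sub_zero, hQ.hm.add_left, hQ.hm.smul_left]
  · rwa [hQ.hm.symm0 (h2 z hz), mul_zero, add_zero]
  · simp [hQ.hm.add_left, hQ.hm.smul_left, hQ.hm.symm0 (ho (i := 1) _ y hy), h0, h4,
      hD.orthogonal _ _ (j.injective.ne (by decide : (0 : Fin 4) ≠ 1)) u hu y hy]

omit [Fintype F] in
theorem not_le_stS (hn : 5 ≤ Fintype.card ι) (hD : IsNondegenerateMDecomposition (polar Q) k D)
    (ht : 4 ≤ t) {c a b : F} (hc : c ≠ 0) (h : 1 + a ^ 2 + b ^ 2 = 0) (hv : ∀ i, ∃ v ∈ D i, Q v = c) :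
    ¬ omegaGL Q ≤ stS {v | Q v = c ∧ ∃ i, v ∈ D i} := fun hle => by
  choose v hv h1 using hv
  obtain ⟨z, hz, h0⟩ := (hD.nondegenerate _ _ (hv (Fin.castLEEmb ht 0)) (hQ.ne_zero (h1 _) hc)).2
  obtain ⟨g, hg, h2, -⟩ := hQ.eich_out hn hD (Fin.castLEEmb ht) hc h hv h1 (hv _) hz h0
  exact h2 ((hle hg _).1 ⟨h1 _, _, hv _⟩).2

omit [Fintype F] [Fintype ι] [DecidableEq ι] hQ in
theorem iso_polar {W W' : Submodule F (ι → F)} {e : W ≃ₗ[F] W'} (he : ∀ w : W, Q (e w) = Q w)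
    (u v : W) : polar Q (e u) (e v) = polar Q u v := by
  rw [polar, ← Submodule.coe_add, ← map_add, he, he, he]; rfl

theorem nm_frame (hn : 5 ≤ Fintype.card ι) (hD : IsOrthogonalMDecomposition Q k D) (ht : 4 ≤ t)
    (h2 : (2 : F) ≠ 0) {c a b : F} (hc : c ≠ 0) (h : 1 + a ^ 2 + b ^ 2 = 0) {i : Fin t}
    (hp : ∀ u ∈ D i, ∀ v ∈ D i, Q u = c → Q v = c → v ∈ Submodule.span F {u} ∨ polar Q u v = 0)
    (hv : ∃ u ∈ D i, ∃ v ∈ D i, Q u = c ∧ Q v = c ∧ polar Q u v = 0) :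
    ∃ K, decompositionStabilizer D ⊓ omegaGL Q < K ∧ K < omegaGL Q := by
  set T := {v | Q v = c ∧ ∃ i, v ∈ D i}
  replace hv : ∀ j, ∃ u ∈ D j, ∃ v ∈ D j, Q u = c ∧ Q v = c ∧ polar Q u v = 0 := fun j => by
    obtain ⟨u, hu, v, hv, h1, h3, h4⟩ := hv
    obtain ⟨e, he⟩ := hD.isometric i j
    exact ⟨_, (e ⟨u, hu⟩).2, _, (e ⟨v, hv⟩).2, (he _).trans h1, (he _).trans h3, (iso_polar he _ _).trans h4⟩
  replace hp : ∀ u ∈ T, ∀ w ∈ T, w ∈ Submodule.span F {u} ∨ polar Q u w = 0 :=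
    fun u ⟨hu, j, hj⟩ w ⟨hw, l, hl⟩ => by
      by_cases hjl : j = l
      swap
      · exact Or.inr (hD.decomp.orthogonal j l hjl u hj w hl)
      subst hjl
      obtain ⟨e, he⟩ := hD.isometric j i
      refine (hp _ (e ⟨u, hj⟩).2 _ (e ⟨w, hl⟩).2 ((he _).trans hu) ((he _).trans hw)).imp
        (fun h => ?_) (iso_polar he _ _).symm.trans
      obtain ⟨a, ha⟩ := Submodule.mem_span_singleton.1 h
      exact Submodule.mem_span_singleton.2 ⟨a, congrArg Subtype.val (e.injective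
        (a₁ := a • ⟨u, hj⟩) (a₂ := ⟨w, hl⟩) (Subtype.ext (by rw [map_smul]; exact ha)))⟩
  have h3 : 2 * c ≠ 0 := mul_ne_zero h2 hc
  have hs : ∀ u ∈ T, ∀ v ∈ T, polar Q u v = 0 → Q (u - v) = 2 * c := fun u hu v hv h => by
    rw [sub_eq_add_neg, add (Q := Q), hQ.hm.neg_right, h, ← neg_one_smul F v, hQ.smul, hu.1, hv.1]; ring
  have hr : ∀ u ∈ T, ∀ v ∈ T, polar Q u v = 0 → ∀ x ∈ T, x - ((2 * c)⁻¹ * polar Q x (u - v)) • (u - v) ∈ T := by
    intro u hu v hv h0 x hx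
    have h4 : ∀ u ∈ T, ∀ v ∈ T, ∀ s : F, s • u ∈ T → s • v ∈ T := fun u hu v ⟨h5, l, h6⟩ s h7 =>
      ⟨by rw [hQ.smul, h5, ← hu.1, ← hQ.smul, h7.1, hu.1], l, (D l).smul_mem s h6⟩
    rcases hp u hu x hx with h5 | h5
    · obtain ⟨s, rfl⟩ := Submodule.mem_span_singleton.1 h5
      rw [hQ.hm.smul_left, hQ.hm.sub_right, h0, hQ.self, hu.1, sub_zero, mul_left_comm, inv_mul_cancel₀ h3]
      simpa [smul_sub] using h4 u hu v hv s hx
    rcases hp v hv x hx with h6 | h6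
    · obtain ⟨s, rfl⟩ := Submodule.mem_span_singleton.1 h6
      rw [hQ.hm.smul_left, hQ.hm.sub_right, hQ.hm.symm0 h0, hQ.self, hv.1, zero_sub, mul_left_comm, mul_neg,
        inv_mul_cancel₀ h3]
      simpa [smul_sub] using h4 v hv u hu s hx
    · simpa [hQ.hm.sub_right, hQ.hm.symm0 h5, hQ.hm.symm0 h6] using hx
  let j := Fin.castLEEmb ht
  have hj : j 0 ≠ j 1 := j.injective.ne (by decide)
  obtain ⟨u, hu, u', hu', h4, h5, h6⟩ := hv (j 0)
  obtain ⟨v, hv', v', hv'', h7, h8, h9⟩ := hv (j 1)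
  have ho := hD.decomp.orthogonal _ _ hj
  have ho' := hD.decomp.orthogonal _ _ hj.symm
  have h10 := hs u ⟨h4, _, hu⟩ v ⟨h7, _, hv'⟩ (ho u hu v hv')
  obtain ⟨g, hg, h11⟩ := hQ.refl2 (h10 ▸ h3) ((hs v ⟨h7, _, hv'⟩ v' ⟨h8, _, hv''⟩ h9).trans h10.symm)
  rw [h10] at h11
  refine between (stS T) (le_stS c) (hQ.not_le_stS hn hD.decomp ht hc h fun j =>
    let ⟨u, hu, _, _, h, _⟩ := hv j; ⟨u, hu, h⟩) hg (mem_stS fun x hx => ?_)
    (not_mem_dec (add_mem hu hu') (not_mem_any hD.decomp.orthogonal hj hu' hv' ?_ ?_))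
  · rw [h11 x _ rfl]
    exact hr u ⟨h4, _, hu⟩ v ⟨h7, _, hv'⟩ (ho u hu v hv') _ (hr v ⟨h7, _, hv'⟩ v' ⟨h8, _, hv''⟩ h9 x hx)
  all_goals
    rw [h11 _ (u + u') (by simp [ho _ (add_mem hu hu') _ (sub_mem hv' hv'')]), hQ.hm.sub_right,
      ho _ (add_mem hu hu') _ hv', hQ.hm.add_left, hQ.self, h4, hQ.hm.symm0 h6, add_zero, sub_zero,
      inv_mul_cancel₀ h3, one_smul, show u + u' - (u - v) = u' + v by abel, hQ.hm.add_left, hQ.self]
  · rwa [ho' v hv' u' hu', h5, add_zero]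
  · rwa [ho u' hu' v hv', h7, zero_add]

theorem nm_lattice (hn : 5 ≤ Fintype.card ι) (hD : IsNondegenerateMDecomposition (polar Q) k D)
    (ht : 4 ≤ t) {a : ℤ} (h : 2 + (a : F) ^ 2 = 0) (hv : ∀ i, ∃ v ∈ D i, Q v = 1)
    (hp : ∀ i, ∀ u ∈ D i, ∀ v ∈ D i, Q u = 1 → Q v = 1 → ∃ n : ℤ, polar Q u v = n)
    (h0 : (⊥ : Subfield F) ≠ ⊤ ∨ ∃ i, ∃ u ∈ D i, u ≠ 0 ∧ ∀ v ∈ D i, Q v = 1 → polar Q v u = 0) :
    ∃ K, decompositionStabilizer D ⊓ omegaGL Q < K ∧ K < omegaGL Q := by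
  set T := {v | Q v = 1 ∧ ∃ i, v ∈ D i}
  set L := AddSubgroup.closure T
  have h1 : ∀ u ∈ L, ∀ v ∈ L, ∃ n : ℤ, polar Q u v = n := fun u hu v hv => by
    refine AddSubgroup.closure_induction₂ (p := fun u v _ _ => ∃ n : ℤ, polar Q u v = n)
      (fun u v (⟨hu, j, hj⟩ : u ∈ T) (⟨hv, l, hl⟩ : v ∈ T) => ?_) (fun _ _ => ⟨0, by simp [hQ.hm.zero_left]⟩)
      (fun _ _ => ⟨0, by simp [hQ.hm.zero_right]⟩)
      (fun _ _ _ _ _ _ ⟨m, hm⟩ ⟨n, hn⟩ => ⟨m + n, by simp [hQ.hm.add_left, hm, hn]⟩)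
      (fun _ _ _ _ _ _ ⟨m, hm⟩ ⟨n, hn⟩ => ⟨m + n, by simp [hQ.hm.add_right, hm, hn]⟩)
      (fun _ _ _ _ ⟨m, hm⟩ => ⟨-m, by simp [hQ.hm.neg_left, hm]⟩)
      (fun _ _ _ _ ⟨m, hm⟩ => ⟨-m, by simp [hQ.hm.neg_right, hm]⟩) hu hv
    by_cases hjl : j = l
    · exact hp j u hj v (hjl ▸ hl) hu hv
    · exact ⟨0, by simp [hD.orthogonal j l hjl u hj v hl]⟩
  choose v hv h2 using hv
  have h3 : ∀ i, v i ∈ L := fun i => AddSubgroup.subset_closure ⟨h2 i, i, hv i⟩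
  let j := Fin.castLEEmb ht
  obtain ⟨u, hu, h4⟩ := (hD.nondegenerate _ _ (hv (j 0)) (hQ.ne_zero (h2 _) one_ne_zero)).1
  obtain ⟨g, hg, h5, e, he, h6⟩ := hQ.eich_out hn hD j one_ne_zero (a := 1) (b := a)
    (by linear_combination h) hv h2 hu (hv _) h4
  have h7 : e ∈ L := by
    rw [he, one_smul, Int.cast_smul_eq_zsmul]
    exact add_mem (add_mem (h3 _) (h3 _)) (zsmul_mem (h3 _) _)
  have hG := hQ.cl hn
  refine between (stS L) (fun x hx => mem_stS fun y hy => ?_) (fun hle => ?_) hg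
    (mem_stS fun x hx => ?_) (not_mem_dec hu h5)
  · exact (AddSubgroup.closure_le (L.comap (toLin' (x : Matrix ι ι F)).toAddMonoidHom)).2
      (fun y hy => AddSubgroup.subset_closure ((le_stS 1 hx y).1 hy)) hy
  · have h8 := hG.irr.span_eq_top (T := L) (fun g hg v hv => (hle hg v).1 hv) (h3 (j 0))
      (hQ.ne_zero (h2 _) one_ne_zero)
    rcases h0 with h0 | ⟨i, w, hw, h0, h9⟩
    · obtain ⟨F₀, r, P, -, hr, hc, h9, -⟩ := hQ.hm.sub5_of_set (H := omegaGL Q) h8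
        (fun g hg v hv => (hle hg v).1 hv) h0 one_ne_zero fun u hu v hv => by
          obtain ⟨n, hn⟩ := h1 u hu v hv
          simp [hn]
      exact hG.not_le_subfield (ne_top_of_card_pow hr.two_le hc) P h9
    · have : L ≤ (hQ.hm.perp (Submodule.span F {w})).toAddSubgroup := by
        refine (AddSubgroup.closure_le _).2 fun x ⟨hx, l, hl⟩ y hy => ?_
        obtain ⟨s, rfl⟩ := Submodule.mem_span_singleton.1 hy
        by_cases hli : l = i
        · rw [hQ.hm.smul_right, h9 x (hli ▸ hl) hx, mul_zero]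
        · exact hD.orthogonal l i hli x hl _ ((D i).smul_mem s hw)
      exact hQ.hm.perp_ne_top (by simpa using h0) (top_le_iff.1 (h8 ▸ Submodule.span_le.2 this))
  · obtain ⟨m, hm⟩ := h1 x hx _ (h3 (j 0))
    obtain ⟨n, hn⟩ := h1 x hx e h7
    rw [h6, hm, hn, h2, one_smul, Int.cast_smul_eq_zsmul, Int.cast_smul_eq_zsmul]
    exact sub_mem (add_mem hx (zsmul_mem h7 _)) (zsmul_mem (add_mem (h3 _) h7) _)

theorem nm_four (hn : 5 ≤ Fintype.card ι) (h2 : Fintype.card F = 2)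
    (hD : IsNondegenerateMDecomposition (polar Q) 4 D) (ht : 4 ≤ t) (hp : ∀ i, IsPlusTypeOn Q (D i)) :
    ∃ K, decompositionStabilizer D ⊓ omegaGL Q < K ∧ K < omegaGL Q := by
  classical
  have h0 := two_eq_zero_of_card h2
  have h1 : (1 : F) + 1 = 0 := by linear_combination h0
  have hv : ∀ i, ∃ u ∈ D i, ∃ v ∈ D i, Q u = 1 ∧ Q v = 1 ∧ polar Q u v = 1 := fun i => by
    obtain ⟨φ, h3, h4, h5⟩ := hQ.model (hD.nondegenerate i) (m := 2) (hD.decomp.finrank_eq i) (hp i)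
    exact ⟨_, (h3 _).2 ⟨Sum.elim ![1, 0] ![1, 0], rfl⟩, _, (h3 _).2 ⟨Sum.elim ![1, 1] ![0, 1], rfl⟩,
      by simp [h4], by simp [h4], by simp [h5]⟩
  let j := Fin.castLEEmb ht
  have hj : j 0 ≠ j 1 := j.injective.ne (by decide)
  obtain ⟨u, hu, u', hu', h4, h5, h6⟩ := hv (j 0)
  obtain ⟨v, hv', v', hv'', h7, h8, h9⟩ := hv (j 1)
  have ho := hD.orthogonal _ _ hj
  have ho' := hD.orthogonal _ _ hj.symm
  have h6' := (hQ.hm.symm _ _).trans h6
  have h9' := (hQ.hm.symm _ _).trans h9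
  have ha := hQ.alt h0
  obtain ⟨g, hg, h10⟩ := hQ.eich hn (e := u + v) (z := u' + v')
    (by rw [add (Q := Q), h4, h7, ho u hu v hv', add_zero, h1])
    (by simp [hQ.hm.add_left, hQ.hm.add_right, h6', h9', ho u' hu' v hv', ho' v' hv'' u hu, h1])
  rw [add (Q := Q), h5, h8, ho u' hu' v' hv'', add_zero, h1, zero_smul, add_zero] at h10
  have hc : ∀ x : ι → F, x + x = 0 := fun x => by rw [← two_smul F, h0, zero_smul]
  have h11 : (g : Matrix ι ι F) *ᵥ u = v := by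
    simp [h10, hQ.hm.add_right, h6, ho u hu v' hv'', ho u hu v hv', ha, ← add_assoc, hc]
  have h12 : (g : Matrix ι ι F) *ᵥ u' = v' := by
    simp [h10, hQ.hm.add_right, h6', ho u' hu' v' hv'', ho u' hu' v hv', ha, neg_eq_of_add_eq_zero_left (hc v')]
  have h13 : (g : Matrix ι ι F) *ᵥ v = u := by
    simp [h10, hQ.hm.add_right, h9, ho' v hv' u' hu', ho' v hv' u hu, ha, add_comm u, ← add_assoc, hc]
  have h14 : (g : Matrix ι ι F) *ᵥ v' = u' := by
    simp [h10, hQ.hm.add_right, h9', ho' v' hv'' u' hu', ho' v' hv'' u hu, ha,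
      neg_eq_of_add_eq_zero_left (hc u')]
  have h15 : ∀ x, polar Q x u = 0 → polar Q x u' = 0 → polar Q x v = 0 → polar Q x v' = 0 →
      (g : Matrix ι ι F) *ᵥ x = x := fun x a b c d => by simp [h10, hQ.hm.add_right, a, b, c, d]
  obtain ⟨w, hw, h16, h17⟩ := hQ.hm.exists_perp_mem (W := D (j 0)) (s := {u, u'})
    (by rw [hD.decomp.finrank_eq]; exact Finset.card_le_two.trans_lt (by decide))
  obtain ⟨y, hy, h18⟩ := (hD.nondegenerate _ w hw h16).2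
  refine between (stS _) (le_stS 1) (hQ.not_le_stS hn hD ht one_ne_zero (a := 1) (b := 0) (by simpa using h1)
    fun j => let ⟨u, hu, _, _, h, _⟩ := hv j; ⟨u, hu, h⟩) hg (mem_stS fun x ⟨hx, l, hl⟩ =>
      ⟨(mem_isometryGroup_iff.1 (omegaGL_le hg) x).trans hx, ?_⟩)
    (not_mem_dec (add_mem hu hw) (not_mem_any hD.orthogonal hj hy hv'' ?_ ?_))
  · by_cases h19 : l = j 0
    · subst h19
      rcases hQ.space_four h2 (hD.nondegenerate _) (hD.decomp.finrank_eq _) (hp _) hu hu' hl h4 h5 hx h6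
        with h | h
      · obtain ⟨a, b, rfl⟩ := Submodule.mem_span_pair.1 h
        rw [mulVec_add, mulVec_smul, mulVec_smul, h11, h12]
        exact ⟨_, add_mem (Submodule.smul_mem _ _ hv') (Submodule.smul_mem _ _ hv'')⟩
      · rw [h15 x (hQ.hm.symm0 h.1) (hQ.hm.symm0 h.2) (ho x hl v hv') (ho x hl v' hv'')]
        exact ⟨_, hl⟩
    by_cases h20 : l = j 1
    · subst h20
      rcases hQ.space_four h2 (hD.nondegenerate _) (hD.decomp.finrank_eq _) (hp _) hv' hv'' hl h7 h8 hx h9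
        with h | h
      · obtain ⟨a, b, rfl⟩ := Submodule.mem_span_pair.1 h
        rw [mulVec_add, mulVec_smul, mulVec_smul, h13, h14]
        exact ⟨_, add_mem (Submodule.smul_mem _ _ hu) (Submodule.smul_mem _ _ hu')⟩
      · rw [h15 x (ho' x hl u hu) (ho' x hl u' hu') (hQ.hm.symm0 h.1) (hQ.hm.symm0 h.2)]
        exact ⟨_, hl⟩
    · rw [h15 x (hD.orthogonal _ _ h19 x hl u hu) (hD.orthogonal _ _ h19 x hl u' hu')
        (hD.orthogonal _ _ h20 x hl v hv') (hD.orthogonal _ _ h20 x hl v' hv'')]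
      exact ⟨_, hl⟩
  all_goals
    rw [mulVec_add, h11, h15 w (h17 u (by simp)) (h17 u' (by simp)) (ho w hw v hv') (ho w hw v' hv''),
      hQ.hm.add_left]
  · rwa [ho' v hv' y hy, zero_add]
  · rw [h9, ho w hw v' hv'', add_zero]; exact one_ne_zero

theorem nm_dec (hn : 13 ≤ Fintype.card ι) (hD : IsOrthogonalMDecomposition Q k D)
    (h : (k = 2 ∧ (Fintype.card F = 3 ∨ ((∀ i, IsPlusTypeOn Q (D i)) ∧
      (Fintype.card F = 2 ∨ Fintype.card F = 4 ∨ Fintype.card F = 5)))) ∨ (k = 3 ∧ Fintype.card F = 3) ∨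
      (k = 4 ∧ Fintype.card F = 2 ∧ ∀ i, IsPlusTypeOn Q (D i))) :
    ∃ K, decompositionStabilizer D ⊓ omegaGL Q < K ∧ K < omegaGL Q := by
  have h1 := IsMDecomposition.mul_eq hD.decomp.decomp
  have h2 := hD.decomp.nondegenerate
  have h3 := hD.decomp.decomp.finrank_eq
  have h0 := FiniteField.cast_card_eq_zero F
  have ht : 4 ≤ t := by rcases h with ⟨rfl, -⟩ | ⟨rfl, -⟩ | ⟨rfl, -⟩ <;> omega
  let i : Fin t := ⟨0, by omega⟩
  have hv : 2 ≤ k → ∀ c i, ∃ v ∈ D i, Q v = c := fun hk c i =>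
    let ⟨v, hv⟩ := Quad.exists_Q_eq (hQ.nd (h2 i)) (h3 i ▸ hk) c; ⟨v, v.2, hv⟩
  have key : k = 2 → Fintype.card F ≤ 3 → (∀ i, IsPlusTypeOn Q (D i)) → ∀ a : ℤ, 2 + (a : F) ^ 2 = 0 →
      (∀ c : F, ∃ n : ℤ, c = n) → ∃ K, decompositionStabilizer D ⊓ omegaGL Q < K ∧ K < omegaGL Q := by
    rintro rfl h4 h5 a ha h6
    obtain ⟨v, -, -, h7, u, hu, h8, h9⟩ := hQ.plane_three h4 (h2 i) (h3 i) (h5 i)
    refine hQ.nm_lattice (by omega) hD.decomp ht ha (hv le_rfl 1) (fun _ _ _ _ _ _ _ => h6 _)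
      (.inr ⟨i, u, hu, h8, fun w hw h => ?_⟩)
    obtain ⟨s, rfl⟩ := Submodule.mem_span_singleton.1 (h7 w hw h)
    rw [hQ.hm.smul_left, h9, mul_zero]
  rcases h with ⟨rfl, h | ⟨hp, h | h | h⟩⟩ | ⟨rfl, h⟩ | ⟨rfl, h, hp⟩
  · rw [h] at h0
    rcases hQ.type_even hD even_two with ⟨hp, -⟩ | ⟨hp, -⟩
    · refine key rfl h.le hp 1 (by push_cast at h0 ⊢; linear_combination h0) fun c => ?_
      by_cases hc : c = 0
      · exact ⟨0, by simp [hc]⟩
      · rcases eq_one_or_neg_one h hc with rfl | rfl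
        exacts [⟨1, by simp⟩, ⟨-1, by simp⟩]
    · obtain ⟨u, hu, h4⟩ := hv le_rfl 1 i
      obtain ⟨w, hw, h5, h6⟩ := hQ.hm.exists_perp_mem (W := D i) (s := {u}) (by simp [h3])
      have h7 := hQ.hm.symm0 (h6 u (by simp))
      have h8 := (hQ.aniso (h3 i)).1 (hp i)
      refine hQ.nm_frame (by omega) hD ht (two_ne_zero_of_three h) one_ne_zero (a := 1) (b := 1)
        (by push_cast at h0; linear_combination h0) (hQ.plane_minus h (h3 i) (hp i))
        ⟨u, hu, w, hw, h4, (eq_one_or_neg_one h fun h => h5 (h8 w hw h)).resolve_right fun h9 => ?_, h7⟩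
      have := h8 _ (add_mem hu hw) (by rw [add (Q := Q), h4, h9, h7]; ring)
      rw [← neg_eq_of_add_eq_zero_right this, ← neg_one_smul F u, hQ.smul, h4] at h9
      exact two_ne_zero_of_three h (by linear_combination h9)
  · exact key rfl (by omega) hp 0 (by simpa [h] using h0) fun c => by
      rcases eq_zero_or_one h c with rfl | rfl
      exacts [⟨0, by simp⟩, ⟨1, by simp⟩]
  · refine hQ.nm_lattice (by omega) hD.decomp ht (a := 0)
      (by simpa using two_eq_zero_of_not_odd (by rw [h]; decide)) (hv le_rfl 1) (fun j u hu v hv h4 h5 => ?_)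
      (.inl (card_prime_or.resolve_left (by rw [h]; decide)))
    rcases hQ.plane_four h (h2 j) (h3 j) (hp j) hu hv h4 h5 with h | h
    exacts [⟨2, by simp [h]⟩, ⟨-1, by simp [h]⟩]
  · rw [h] at h0
    obtain ⟨φ, h4, h5, h6⟩ := hQ.model (h2 i) (m := 1) (h3 i) (hp i)
    refine hQ.nm_frame (by omega) hD ht (two_ne_zero_of_odd (by rw [h]; decide)) one_ne_zero (a := 2) (b := 0)
      (by push_cast at h0; linear_combination h0) (hQ.plane_five h (h2 i) (h3 i) (hp i))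
      ⟨_, (h4 _).2 ⟨fun _ => 1, rfl⟩, _, (h4 _).2 ⟨Sum.elim ![2] ![3], rfl⟩, by simp [h5], ?_, ?_⟩ <;>
      simp [h5, h6] <;> push_cast at h0 <;> linear_combination h0
  · rw [h] at h0
    obtain ⟨c, hc, h4⟩ := hQ.space_three h (h2 i) (h3 i)
    obtain ⟨u, hu, h5⟩ := hv (by decide) c i
    have h6 := Form.quad_B_ne_zero (D := (qForm hQ).restrict (D i)) (two_ne_zero_of_three h)
      (a := ⟨u, hu⟩) (h5.trans_ne hc)
    obtain ⟨⟨w, hw⟩, h7⟩ := Quad.exists_Q_eq (Form.nondeg_perp_singleton (hQ.nd (h2 i)) h6)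
      (by have := Form.finrank_perp_span_singleton h6; rw [h3] at this; omega) c
    exact hQ.nm_frame (by omega) hD ht (two_ne_zero_of_three h) hc (a := 1) (b := 1)
      (by push_cast at h0; linear_combination h0) h4
      ⟨u, hu, w, w.2, h5, h7, hQ.hm.symm0 ((Form.mem_perp_span_singleton _).1 hw)⟩
  · exact hQ.nm_four (by omega) h hD.decomp ht hp

end Dec

end NQ

end Cfsg.Lib.Asch
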