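import Cfsg.Agent.Lib.Asch.NM

/-! Geometric subgroups that are not maximal: linear, symplectic and unitary decompositions,
tensor products. -/

set_option autoImplicit false

namespace Cfsg.Lib.Asch

open Matrix Cfsg.Geo Module Cfsg.Lib.Forms Subgroup
open QuadraticMap (polar)
open scoped MatrixGroups Kronecker commutatorElement

variable {ι κ μ : Type} [Fintype ι] [DecidableEq ι] [Fintype κ] [DecidableEq κ]
  [Fintype μ] [DecidableEq μ] {F : Type*} [Field F] {σ : F →+* F} {ε : F}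
  {f : (ι → F) → (ι → F) → F} {Q : (ι → F) → F}

/-- The rank one map `x ↦ f x u • w`. -/
def rk (f : (ι → F) → (ι → F) → F) (u w : ι → F) : Matrix ι ι F :=
  vecMulVec w fun j => f (Pi.single j 1) u

theorem IsSesq.dot (h : IsSesq σ f) (u x : ι → F) : (fun j => f (Pi.single j 1) u) ⬝ᵥ x = f x u := by
  conv_rhs => rw [pi_eq_sum_univ' x, h.sum_left]
  simp [dotProduct, h.smul_left, mul_comm]

theorem IsSesq.rk_mulVec (h : IsSesq σ f) (u w x : ι → F) : rk f u w *ᵥ x = f x u • w := by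
  rw [rk, vecMulVec_mulVec, h.dot, op_smul_eq_smul]

theorem IsSesq.exists_tv (h : IsSesq σ f) {u w : ι → F} (h0 : f w u = 0) :
    ∃ g ∈ specialLinear ι F, (g : Matrix ι ι F) = 1 + rk f u w :=
  ⟨_, toGL_mem ⟨1 + rk f u w, by rw [rk, Linear.det_one_add_vecMulVec, h.dot, h0, add_zero]⟩, rfl⟩

/-- `G` contains the Siegel elements. -/
def Sg (ε : F) (f : (ι → F) → (ι → F) → F) (G : Subgroup (GL ι F)) : Prop :=
  ∀ u w, f u u = 0 → f w w = 0 → f w u = 0 →
    ∃ g ∈ G, (g : Matrix ι ι F) = 1 + (rk f u w - ε • rk f w u)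

theorem Hm.sg [Nonempty ι] (h : Hm σ ε f) : Sg ε f (sIso f) := fun u w h1 h2 h3 => by
  have h4 := h.symm0 h3
  obtain ⟨a, ha, h5⟩ := h.exists_tv h3
  obtain ⟨b, hb, h6⟩ := h.exists_tv (u := w) (w := -ε • u) (by rw [h.smul_left, h4, mul_zero])
  have h7 : ((a * b : GL ι F) : Matrix ι ι F) = 1 + (rk f u w - ε • rk f w u) := mat_ext fun x => by
    simp [h5, h6, ← mulVec_mulVec, add_mulVec, sub_mulVec, smul_mulVec, h.rk_mulVec, mulVec_add, mulVec_neg,
      mulVec_smul, h1, smul_smul, mul_comm]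
    abel
  refine ⟨a * b, ⟨fun x y => ?_, mul_mem ha hb⟩, h7⟩
  change f (((a * b : GL ι F) : Matrix ι ι F) *ᵥ x) (((a * b : GL ι F) : Matrix ι ι F) *ᵥ y) = _
  simp only [h7, add_mulVec, sub_mulVec, smul_mulVec, one_mulVec, h.rk_mulVec, h.add_left, h.add_right,
    h.sub_left, h.sub_right, h.smul_left, h.smul_right, h1, h2, h3, h4, h.swap]
  linear_combination (-f x u * f w y) * h.norm_ε

theorem NQ.sg (hQ : NQ Q) (h2 : (2 : F) ≠ 0) (hn : 5 ≤ Fintype.card ι) : Sg 1 (polar Q) (omegaGL Q) :=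
  fun u w h1 h3 h4 => by
    obtain ⟨g, hg, h5⟩ := hQ.eich hn (hQ.eq_zero h2 h3) (hQ.hm.symm0 h4)
    exact ⟨g, hg, mat_ext fun x => by
      simp [h5, hQ.eq_zero h2 h1, add_mulVec, sub_mulVec, hQ.hm.rk_mulVec, add_sub_assoc]⟩

theorem Sg.mono {G G' : Subgroup (GL ι F)} (h : Sg ε f G) (hG : G ≤ G') : Sg ε f G' :=
  fun u w h1 h2 h3 => let ⟨g, hg, h4⟩ := h u w h1 h2 h3; ⟨g, hG hg, h4⟩

section Dec

variable {t k : ℕ} {D : Fin t → Submodule F (ι → F)}

omit [Fintype ι] [DecidableEq ι] in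
theorem Hm.nondeg_dec (h : Hm σ ε f) (hD : IsMDecomposition k D)
    (ho : ∀ i j, i ≠ j → AreOrthogonalFor f (D i) (D j)) : IsNondegenerateMDecomposition f k D := by
  refine ⟨hD, fun i => h.nondegOn_iff.2 (eq_bot_iff.2 fun w hw => h.nd' w fun u => ?_), ho⟩
  refine Submodule.iSup_induction D (motive := fun u => f w u = 0) (hD.iSup_eq_top ▸ Submodule.mem_top)
    (fun j u hu => ?_) (h.zero_right w) fun x y hx hy => by rw [h.add_right, hx, hy, add_zero]
  by_cases hj : i = j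
  · exact hw.2 u (hj ▸ hu)
  · exact ho i j hj w hw.1 u hu

theorem Hm.exists_not_dec (h : Hm σ ε f) (hD : IsNondegenerateMDecomposition f k D) (ht : 6 ≤ t)
    {c a : F} (hc : (2 + a * σ a) * c = 0) (hv : ∀ i, ∃ v ∈ D i, v ≠ 0 ∧ f v v = c) :
    ∃ g ∈ sIso f, g ∉ decompositionStabilizer D := by
  choose v hv h0 h1 using hv
  have : Nonempty ι := by
    by_contra hn
    exact h0 ⟨0, by omega⟩ (funext fun i => (hn ⟨i⟩).elim)
  let j := Fin.castLEEmb ht
  have ho : ∀ {i l : Fin 6}, i ≠ l → ∀ x ∈ D (j i), f x (v (j l)) = 0 := fun h x hx =>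
    hD.orthogonal _ _ (j.injective.ne h) x hx _ (hv _)
  have h2 : ∀ i l : Fin 6, f (v (j i)) (v (j l)) = if i = l then c else 0 := fun i l => by
    split_ifs with h
    · rw [h, h1]
    · exact ho h _ (hv _)
  obtain ⟨g, hg, h3⟩ := h.sg (v (j 0) + v (j 1) + a • v (j 2)) (v (j 3) + v (j 4) + a • v (j 5))
    (by simp [h.add_left, h.add_right, h.smul_left, h.smul_right, h2]; linear_combination hc)
    (by simp [h.add_left, h.add_right, h.smul_left, h.smul_right, h2]; linear_combination hc)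
    (by simp [h.add_left, h.add_right, h.smul_left, h.smul_right, h2])
  obtain ⟨x, hx, h4⟩ := (hD.nondegenerate _ _ (hv (j 0)) (h0 _)).1
  obtain ⟨y, hy, h5⟩ := (hD.nondegenerate _ _ (hv (j 3)) (h0 _)).2
  obtain ⟨z, hz, h6⟩ := (hD.nondegenerate _ _ (hv (j 4)) (h0 _)).2
  refine ⟨g, hg, not_mem_dec hx (not_mem_any hD.orthogonal (j.injective.ne (by decide : (3 : Fin 6) ≠ 4))
    hy hz ?_ ?_)⟩ <;>
    simp [h3, add_mulVec, sub_mulVec, smul_mulVec, h.rk_mulVec, h.add_left, h.add_right, h.smul_left,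
      h.smul_right, ho (i := 0) _ x hx, h.symm0 (ho (i := 3) _ y hy), h.symm0 (ho (i := 4) _ z hz), h4, h5, h6,
      hD.orthogonal _ _ (j.injective.ne (by decide : (0 : Fin 6) ≠ 3)) x hx y hy,
      hD.orthogonal _ _ (j.injective.ne (by decide : (0 : Fin 6) ≠ 4)) x hx z hz]

theorem Blk.nm {e : ι ≃ Fin t × κ} {P : GL ι F} (h : Blk D e P) (hD : IsMDecomposition k D) (ht : 6 ≤ t)
    (hσ : ∀ a, σ (σ a) = a) {A : Matrix κ κ F} (h1 : IsUnit A) (h2 : (A.map σ)ᵀ = ε • A)
    (h3 : ∀ g : Matrix κ κ F, IsUnit g → act σ g A = A) (b : κ) {a : F} (h4 : (2 + a * σ a) * A b b = 0) :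
    ∃ K, decompositionStabilizer D ⊓ specialLinear ι F < K ∧ K < specialLinear ι F := by
  have h5 : IsUnit (trG σ e P (bm 1 fun _ : Fin t => A)) := by rw [isUnit_trG, isUnit_bm]; exact fun _ => h1
  have hn : 3 ≤ Fintype.card ι := by
    have := IsMDecomposition.mul_eq hD
    have := hD.pos
    nlinarith
  have : Nonempty ι := Fintype.card_pos_iff.1 (by omega)
  have hm : Hm σ ε _ := hm_fG hσ h5 (by
    rw [dagger_trG hσ, bm_map, bm_transpose, ← trG_smul, ← bm_smul]; simp [h2])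
  obtain ⟨g, hg, h6⟩ := hm.exists_not_dec (hm.nondeg_dec hD fun i j hij u hu v hv => by
    obtain ⟨x, rfl⟩ := (vec e P).surjective u
    obtain ⟨y, rfl⟩ := (vec e P).surjective v
    rw [fG_vec]
    refine Finset.sum_eq_zero fun r _ => Finset.sum_eq_zero fun s _ => ?_
    by_cases hr : r.1 = i
    · by_cases hs : s.1 = j
      · simp [bm_apply, hr, hs, hij]
      · simp [(h j y).1 hv s hs]
    · simp [(h i x).1 hu r hr]) ht h4 fun i => ⟨_, h.single_mem i b, by simp, by
      rw [fG_vec, fG_single, bm_apply]; simp⟩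
  exact between _ (inf_le_left.trans (h.le_sim le_rfl (A := A) fun g _ π gs h1 _ =>
    ⟨1, fun j => by simp [h3 _ (h1 j)]⟩)) (sl_not_le_sim hn h5.ne_zero) hg.2 (isoG_le_sim hg.1) h6

theorem nm_sl_dec [Fintype F] (hn : 13 ≤ Fintype.card ι) (hD : IsMDecomposition k D)
    (h : (k = 1 ∧ Fintype.card F ≤ 4) ∨ (k = 2 ∧ Fintype.card F = 2)) :
    ∃ K, decompositionStabilizer D ⊓ specialLinear ι F < K ∧ K < specialLinear ι F := by
  have h1 := IsMDecomposition.mul_eq hD
  have h0 := FiniteField.cast_card_eq_zero F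
  obtain ⟨e, P, hb⟩ := IsMDecomposition.exists_blk' hD
  have hu : ∀ {k} {g : Matrix (Fin k) (Fin k) F}, IsUnit g → g.det ≠ 0 := fun h =>
    ((isUnit_iff_isUnit_det _).1 h).ne_zero
  rcases h with ⟨rfl, h⟩ | ⟨rfl, h⟩
  · have key : ∀ (σ : F →+* F) (a : F), (∀ a, σ (σ a) = a) → (∀ c : F, c ≠ 0 → c * σ c = 1) →
        2 + a * σ a = 0 → ∃ K, decompositionStabilizer D ⊓ specialLinear ι F < K ∧ K < specialLinear ι F :=
      fun σ a h2 h3 h4 => hb.nm hD (by omega) h2 (ε := 1) isUnit_one (by simp)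
        (fun g hg => by rw [act_one_of_unique, h3 _ (hu hg), one_smul]) 0 (a := a) (by simp [h4])
    have : 2 ≤ Fintype.card F := Fintype.one_lt_card
    obtain h | h | h : Fintype.card F = 2 ∨ Fintype.card F = 3 ∨ Fintype.card F = 4 := by omega
    · exact key (RingHom.id F) 0 (fun _ => rfl) (fun c hc => by simp [(eq_zero_or_one h c).resolve_left hc])
        (by simpa [h] using h0)
    · exact key (RingHom.id F) 1 (fun _ => rfl) (fun c hc => by simpa [sq] using pow_eq_one_of_card h hc)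
        (by rw [h] at h0; push_cast at h0; simp; linear_combination h0)
    · obtain ⟨σ, h3, h4, -⟩ := exists_invol (q := 2) h
      exact key σ 0 h4 (fun c hc => by rw [RingHom.coe_coe, h3, ← pow_succ', pow_eq_one_of_card h hc])
        (by simpa using two_eq_zero_of_not_odd (by rw [h]; decide))
  · exact hb.nm hD (by omega) (σ := RingHom.id F) (fun _ => rfl) (ε := -1) isUnit_J2 (by simp [J2_transpose])
      (fun g hg => by rw [act_J2, (eq_zero_or_one h _).resolve_left (hu hg), one_smul]) 0 (a := 0)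
      (by simp [J2])

theorem Hm.nm_sp [Fintype F] (hq : Fintype.card F = 2) (h : Hm (RingHom.id F) 1 f) (ha : ∀ v, f v v = 0)
    (hn : 5 ≤ Fintype.card ι) (hD : IsNondegenerateMDecomposition f 2 D) :
    ∃ K, decompositionStabilizer D ⊓ isoG f < K ∧ K < isoG f := by
  obtain ⟨Q, h1, h2, h3⟩ := h.quad8_of_dec hq ha (H := decompositionStabilizer D ⊓ isoG f)
    (isom_iff.2 inf_le_right) hD inf_le_left
  obtain rfl : polar Q = f := funext₂ h2
  refine exists_between_inf _ h3 (fun hc => noDec_omega h1 (NQ.cl h1 hn) _ _ D hD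
    ((le_inf omegaGL_le (omegaGL_le.trans isometryGroup_le)).trans hc)) fun hc => ?_
  obtain ⟨u, hu, hu'⟩ := Quad.exists_singular (qForm h1) (by simp; omega)
  have : Nonempty ι := Fintype.card_pos_iff.1 (by omega)
  obtain ⟨v, hv⟩ := (qForm_nondeg h1).quad_exists_Q_ne_zero
  obtain ⟨g, hg⟩ := Symp.exists_map ((h.br_sForm ha).nondeg h) hu (b := v)
    (by rintro rfl; exact hv (Form.Q_zero _))
  exact hv (by
    rw [← hg, ← fGL_mulVec]; exact (mem_isometryGroup_iff.1 (hc ((h.br_sForm ha).fGL_mem g)) u).trans hu')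

theorem Hm.nm_su (hq : IsConj σ 2) (h : Hm σ 1 f) (hG : Cl (sIso f))
    (hD : IsNondegenerateMDecomposition f 2 D) :
    ∃ K, decompositionStabilizer D ⊓ sIso f < K ∧ K < sIso f := by
  have := hq.finite
  choose b hb using fun i => Herm.exists_orthonormal
    ((h.br_uForm hq).nondeg_restrict (hD.nondegenerate i)) (hD.decomp.finrank_eq i)
  replace hb : ∀ i a a', f (b i a) (b i a') = if a = a' then 1 else 0 :=
    fun i a a' => (hb i a' a).trans (by simp [eq_comm])
  set T := {v | f v v = 1 ∧ ∃ i, v ∈ D i}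
  have h1 : ∀ v ∈ T, ∃ i a, ∃ s : F, s ≠ 0 ∧ v = s • b i a := fun v ⟨hv, i, hi⟩ => by
    have h6 : v = ∑ a', (b i).repr ⟨_, hi⟩ a' • (b i a' : ι → F) := by
      have := congrArg Subtype.val ((b i).sum_repr ⟨_, hi⟩)
      rw [Submodule.coe_sum] at this
      exact this.symm
    generalize (b i).repr ⟨_, hi⟩ = x at h6
    have h7 := hv
    rw [h6, h.sum_left] at h7
    simp only [h.sum_right, h.smul_left, h.smul_right, hb, mul_ite, mul_zero, Finset.sum_ite_eq,
      Finset.mem_univ, if_true, mul_one] at h7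
    obtain ⟨a, h8⟩ := norm_sum_two hq x h7
    rw [Finset.sum_eq_single a (fun k _ hk => by rw [h8 k hk, zero_smul]) (by simp)] at h6
    exact ⟨i, a, _, fun h0 => by simp [h6, h0, h.zero_left] at hv, h6⟩
  have h2 : ∀ i a j a', (i, a) ≠ (j, a') → f (b i a) (b j a') = 0 := fun i a j a' hne => by
    by_cases hij : i = j
    · subst hij; rw [hb, if_neg (by simpa using hne)]
    · exact hD.orthogonal i j hij _ (b i a).2 _ (b j a').2
  have ht := hD.decomp.two_le
  have h0 : (1 : F) + 1 = 0 := by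
    have := Fintype.ofFinite F
    have := two_eq_zero_of_not_odd (F := F) (by rw [← Nat.card_eq_fintype_card, hq.card]; decide)
    linear_combination this
  have hc : ∀ x : ι → F, x + x = 0 := fun x => by rw [← one_smul F x, ← add_smul, h0, zero_smul]
  let i : Fin t := ⟨0, by omega⟩
  let j : Fin t := ⟨1, by omega⟩
  have hij : i ≠ j := by simp [i, j]
  have h3 : f (b i 0 + b j 0) (b i 0 + b j 0) = 0 := by
    simp [h.add_left, h.add_right, hb, h2, hij, hij.symm, h0]
  obtain ⟨g, hg, h4⟩ := h.exists_tv h3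
  replace h4 : ∀ x, (g : Matrix ι ι F) *ᵥ x = x + f x (b i 0 + b j 0) • (b i 0 + b j 0) := fun x => by
    rw [h4, add_mulVec, one_mulVec, h.rk_mulVec]
  have h5 : g ∈ isoG f := fun x y => by
    change f ((g : Matrix ι ι F) *ᵥ x) ((g : Matrix ι ι F) *ᵥ y) = _
    generalize (b i 0 + b j 0 : ι → F) = e at h3 h4
    simp only [h4, h.add_left, h.add_right, h.smul_left, h.smul_right, h3, h.swap]
    linear_combination (f x e * f e y) * h0
  refine between (stS T) (fun x ⟨⟨π, hπ⟩, hx⟩ => mem_stS fun v ⟨hv, l, hl⟩ =>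
    ⟨(hx.1 v v).trans hv, π l, hπ l ▸ Submodule.mem_map_of_mem hl⟩) (fun hle => ?_) ⟨h5, hg⟩
    (mem_stS fun v hv => ⟨(h5 v v).trans hv.1, ?_⟩)
    (not_mem_dec (add_mem (b i 0).2 (b i 1).2) (not_mem_any hD.orthogonal hij (b i 1).2 (b j 0).2 ?_ ?_))
  · have h6 : (b i 0 : ι → F) ∈ T := ⟨by simp [hb], i, (b i 0).2⟩
    obtain ⟨E, h7, h8, -⟩ := h.exists_frame hG.two (H := sIso f) (T := T) (fun v hv => by simp [hv.1])
      (fun v hv w hw => by
        obtain ⟨l, a, s, hs, rfl⟩ := h1 v hv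
        obtain ⟨l', a', s', -, rfl⟩ := h1 w hw
        by_cases h9 : (l, a) = (l', a')
        · obtain ⟨rfl, rfl⟩ := Prod.mk.inj h9
          exact .inl (Submodule.mem_span_singleton.2 ⟨s' / s, by rw [smul_smul, div_mul_cancel₀ _ hs]⟩)
        · exact .inr (by rw [h.smul_left, h.smul_right, h2 _ _ _ _ h9, mul_zero, mul_zero]))
      (hG.irr.span_eq_top (fun g hg v hv => (hle hg v).1 hv) h6 fun h0 => by
        simpa [h0, h.zero_left] using h6.1)
      fun g hg v hv => ⟨_, (hle hg v).1 hv, Submodule.mem_span_singleton_self _⟩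
    exact h.noDec_su hq hG _ _ E h7 h8
  · obtain ⟨l, a, s, -, rfl⟩ := h1 v hv
    rw [mulVec_smul, h4]
    by_cases h6 : (l, a) = (i, 0)
    · obtain ⟨rfl, rfl⟩ := Prod.mk.inj h6
      exact ⟨j, Submodule.smul_mem _ _ (by simp [h.add_right, hb, h2, hij, ← add_assoc, hc])⟩
    by_cases h7 : (l, a) = (j, 0)
    · obtain ⟨rfl, rfl⟩ := Prod.mk.inj h7
      exact ⟨i, Submodule.smul_mem _ _ (by
        simp [h.add_right, hb, h2, hij.symm, add_comm (b i 0 : ι → F), ← add_assoc, hc])⟩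
    · exact ⟨l, Submodule.smul_mem _ _ (by simp [h.add_right, h2 _ _ _ _ h6, h2 _ _ _ _ h7])⟩
  all_goals simp [h4, h.add_left, h.add_right, hb, h2, hij, hij.symm]

end Dec

end Cfsg.Lib.Asch
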