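import Cfsg.Agent.Lib.Asch.NM2

/-! Tensor product stabilisers that are not maximal. -/

set_option autoImplicit false

namespace Cfsg.Lib.Asch

open Matrix Cfsg.Geo Module Cfsg.Lib.Forms Subgroup
open QuadraticMap (polar)
open scoped MatrixGroups Kronecker

variable {ι κ μ : Type} [Fintype ι] [DecidableEq ι] [Fintype κ] [DecidableEq κ]
  [Fintype μ] [DecidableEq μ] {F : Type*} [Field F] {σ : F →+* F} {ε ε₁ ε₂ c : F}
  {f : (ι → F) → (ι → F) → F} {Q : (ι → F) → F} {G T : Subgroup (GL ι F)} {e : ι ≃ κ × μ} {P : GL ι F}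
  {f₁ : (κ → F) → (κ → F) → F} {f₂ : (μ → F) → (μ → F) → F}

/-- The centraliser of a set of matrices. -/
def cenG (S : Set (Matrix ι ι F)) : Subgroup (GL ι F) where
  carrier := {g | ∀ x ∈ S, cj g x = x}
  mul_mem' ha hb x hx := by rw [cj_mul, hb x hx, ha x hx]
  one_mem' x _ := cj_one x
  inv_mem' {a} ha x hx := by rw [← ha x hx, cj_inv_cj, ha x hx]

theorem Cl.isSc_of_nz (h : Cl G) {S : Set (Matrix ι ι F)} (hS : Nz G S) {g : GL ι F} (hg : g ∈ G)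
    (h0 : g ∉ scalars ι F) (hc : g ∈ cenG S) {x : Matrix ι ι F} (hx : x ∈ S) : IsSc x := by
  rcases h.simple (G ⊓ cenG S) inf_le_left (fun a ha b hb => ⟨NormBy.self G a ha b hb.1, fun y hy => by
    rw [cj_mul, cj_mul, hb.2 _ (hS _ (inv_mem ha) y hy), cj_cj_inv]⟩) with h1 | h1
  · exact absurd (h1 ⟨hg, hc⟩) h0
  · exact isSc_of_alg_top h.top fun a ha => (cj_eq_iff.1 ((h1.ge ha).2 x hx)).symm

omit [Fintype κ] in
theorem not_kron {A M b : Matrix μ μ F} {N a : Matrix κ κ F} (hN : ¬ IsSc N) (h0 : M ≠ 0)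
    (hb : IsUnit b) (h : 1 ⊗ₖ A + N ⊗ₖ M = a ⊗ₖ b) : IsUnit M := by
  obtain ⟨φ, h1, h2⟩ := Submodule.exists_dual_map_eq_bot_of_notMem (p := Submodule.span F {1}) (x := N)
    (fun h => let ⟨c, hc⟩ := Submodule.mem_span_singleton.1 h; hN ⟨c, hc.symm⟩) inferInstance
  have h3 : φ 1 = 0 := (Submodule.eq_bot_iff _).1 h2 _ ⟨1, Submodule.mem_span_singleton_self _, rfl⟩
  have h4 : M = (φ a / φ N) • b := by
    ext k l
    have : A k l • 1 + M k l • N = b k l • a := by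
      ext i j; simpa [mul_comm] using congrFun (congrFun h (i, k)) (j, l)
    have := congrArg φ this
    simp only [map_add, map_smul, h3, smul_eq_mul] at this
    rw [Matrix.smul_apply, smul_eq_mul]; field_simp; linear_combination this
  rw [h4] at h0 ⊢
  exact hb.smul (Units.mk0 _ (left_ne_zero_of_smul h0))

theorem Cl.nm_kron (hG : Cl G) {C : Subalgebra F (Matrix κ κ F)} (hc : ∀ x ∈ C, ∀ y ∈ C, x * y = y * x)
    (hT : ∀ g ∈ T, ∃ (a : GL κ F) (b : GL μ F), (g : Matrix ι ι F) = tr e P (a.1 ⊗ₖ b.1) ∧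
      (g ∈ G → ∀ x ∈ C, cj a x ∈ C)) {g : GL ι F} (hg : g ∈ G) {N : Matrix κ κ F} (hN : N ∈ C)
    (h1 : ¬ IsSc N) {A M : Matrix μ μ F} (h0 : M ≠ 0) (h2 : ¬ IsUnit M)
    (h : (g : Matrix ι ι F) = tr e P (1 ⊗ₖ A + N ⊗ₖ M)) : ∃ K, T ⊓ G < K ∧ K < G := by
  have := hG.nonempty
  have : Nonempty (κ × μ) := e.nonempty_congr.1 this
  have : Nonempty κ := this.map Prod.fst
  have : Nonempty μ := ‹Nonempty (κ × μ)›.map Prod.snd
  let φ := (tr e P).toAlgHom.comp (kl κ μ F)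
  have h3 : g ∈ cenG (C.map φ : Set (Matrix ι ι F)) := by
    rintro _ ⟨x, hx, rfl⟩
    refine cj_eq_iff.2 ?_
    simp [φ, h, ← map_mul, -map_add, kl_apply, add_mul, mul_add, ← mul_kronecker_mul, hc x hx N hN]
  have h4 : ∀ (a : Matrix κ κ F) (b : Matrix μ μ F), IsUnit b → (g : Matrix ι ι F) ≠ tr e P (a ⊗ₖ b) :=
    fun a b hb h5 => h2 (not_kron h1 h0 hb ((tr e P).injective (h.symm.trans h5)))
  refine between (subalgebraNormalizer (C.map φ)) (Nz.le_normalizer ?_) (fun h5 => h1 (isSc_of_map φ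
    ((tr e P).injective.comp kl_injective) (hG.isSc_of_nz (nz_iff_le_normalizer.2 h5) hg (fun h6 => ?_) h3
      ⟨N, hN, rfl⟩))) hg (Nz.le_normalizer (H := cenG _) (fun a ha x hx => (ha x hx).symm ▸ hx) h3)
    fun h5 => let ⟨a, b, h6, _⟩ := hT g h5; h4 _ _ b.isUnit h6
  · rintro x ⟨hx, hx'⟩ _ ⟨y, hy, rfl⟩
    obtain ⟨a, b, h5, h6⟩ := hT x hx
    exact ⟨_, h6 hx' y hy, by simp [φ, kl_apply, cj_kron h5]⟩
  · obtain ⟨c, hc⟩ := mem_scalars_iff_isSc.1 h6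
    exact h4 (c • 1) 1 isUnit_one (by simp [hc, smul_kronecker])

/-- Pure tensors. -/
noncomputable def pv (e : ι ≃ κ × μ) (P : GL ι F) : (κ → F) →ₗ[F] (μ → F) →ₗ[F] (ι → F) :=
  (LinearMap.mk₂ F (fun x y (a : κ × μ) => x a.1 * y a.2) (fun _ _ _ => funext fun _ => add_mul _ _ _)
    (fun _ _ _ => funext fun _ => mul_assoc _ _ _) (fun _ _ _ => funext fun _ => mul_add _ _ _)
    fun _ _ _ => funext fun _ => mul_left_comm _ _ _).compr₂ (vec e P).toLinearMap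

theorem tr_pv (a : Matrix κ κ F) (b : Matrix μ μ F) (x : κ → F) (y : μ → F) :
    tr e P (a ⊗ₖ b) *ᵥ pv e P x y = pv e P (a *ᵥ x) (b *ᵥ y) := by
  refine (tr_vec e P _ _).trans (congrArg (vec e P) (funext fun i => ?_))
  simp [mulVec, dotProduct, Fintype.sum_prod_type, Finset.sum_mul_sum, mul_mul_mul_comm]

theorem mat_ext_pv {A B : Matrix ι ι F}
    (h : ∀ i y, A *ᵥ pv e P (Pi.single i 1) y = B *ᵥ pv e P (Pi.single i 1) y) : A = B := by
  refine toLin'.injective (((Pi.basisFun F (κ × μ)).map (vec e P)).ext fun ⟨i, j⟩ => ?_)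
  have : ((Pi.basisFun F (κ × μ)).map (vec e P)) (i, j) = pv e P (Pi.single i 1) (Pi.single j 1) :=
    congrArg (vec e P) (funext fun ⟨k, l⟩ => by by_cases k = i <;> simp [Pi.single_apply, *])
  rw [this]; exact h i _

/-- `f` is the tensor product of `f₁` and `f₂`, up to the factor `c`. -/
def TS (f : (ι → F) → (ι → F) → F) (f₁ : (κ → F) → (κ → F) → F) (f₂ : (μ → F) → (μ → F) → F)
    (e : ι ≃ κ × μ) (P : GL ι F) (c : F) : Prop :=
  ∀ x y x' y', f (pv e P x y) (pv e P x' y') = c * (f₁ x x' * f₂ y y')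

theorem ts_of {n₁ n₂ : ℕ} {e : ι ≃ Fin n₁ × Fin n₂} {f₁ f₂} (h₁ : IsSesq σ f₁) (h₂ : IsSesq σ f₂)
    (h : IsTensorFormStructure σ f f₁ f₂ e P) : ∃ c ≠ 0, TS f f₁ f₂ e P c :=
  let ⟨c, hc, h⟩ := h
  ⟨c, hc, fun x y x' y' => (h (fun a => x a.1 * y a.2) fun a => x' a.1 * y' a.2).trans (by
    rw [congrFun₂ h₁.eq_fG x x', congrFun₂ h₂.eq_fG y y']
    simp only [formOfGram, Fintype.sum_prod_type, Finset.sum_mul_sum, kroneckerMap_apply, map_mul]
    refine congrArg _ (Finset.sum_congr rfl fun _ _ => Finset.sum_congr rfl fun _ _ =>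
      Finset.sum_congr rfl fun _ _ => Finset.sum_congr rfl fun _ _ => by ring))⟩

omit [Fintype κ] [DecidableEq κ] [Fintype μ] [DecidableEq μ] in
theorem TS.swap (h : TS f f₁ f₂ e P c) : TS f f₂ f₁ (e.trans (Equiv.prodComm _ _)) P c := fun y x y' x' => by
  have : ∀ x y, pv (e.trans (Equiv.prodComm _ _)) P y x = pv e P x y := fun x y =>
    congrArg ((P : Matrix ι ι F) *ᵥ ·) (funext fun _ => mul_comm _ _)
  rw [this, this, h, mul_comm (f₁ _ _)]

theorem TS.sim (h : TS f f₁ f₂ e P c) (hc : c ≠ 0) {x x' y y'} (h₁ : f₁ x x' ≠ 0) (h₂ : f₂ y y' ≠ 0)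
    {g : GL ι F} (hg : g ∈ isoG f) {a : GL κ F} {b : Matrix μ μ F}
    (h3 : (g : Matrix ι ι F) = tr e P (a.1 ⊗ₖ b)) : a ∈ similarityGroup f₁ := by
  have h4 : ∀ u v, f₁ (a.1 *ᵥ u) (a.1 *ᵥ v) * f₂ (b *ᵥ y) (b *ᵥ y') = f₁ u v * f₂ y y' := fun u v =>
    mul_left_cancel₀ hc (by rw [← h, ← h, ← tr_pv, ← tr_pv, ← h3, mem_isoG.1 hg])
  have h5 : f₂ (b *ᵥ y) (b *ᵥ y') ≠ 0 := fun h0 => mul_ne_zero h₁ h₂ (by rw [← h4, h0, mul_zero])
  exact ⟨Units.mk0 _ (div_ne_zero h₂ h5), fun u v => by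
    rw [Units.val_mk0]; field_simp; linear_combination h4 u v⟩

theorem not_isUnit_of {M : Matrix μ μ F} {u : μ → F} (h0 : u ≠ 0) (h : M *ᵥ u = 0) : ¬ IsUnit M :=
  fun ⟨m, hm⟩ => h0 (by rw [← inv_mulVec_mulVec m u, hm, h, mulVec_zero])

omit [Fintype μ] [DecidableEq μ] in
theorem exists_pair {U : Submodule F (μ → F)} (hU : finrank F U = 2) :
    ∃ u ∈ U, ∃ w ∈ U, LinearIndependent F ![u, w] :=
  let ⟨v, hv⟩ := exists_linearIndependent_of_le_finrank hU.ge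
  ⟨_, (v 0).2, _, (v 1).2, (funext fun i => by fin_cases i <;> rfl : U.subtype ∘ v = ![(v 0).1, (v 1).1]) ▸
    hv.map' U.subtype (by simp)⟩

theorem Hm.sieg (h : Hm σ ε₂ f₂) {u w : μ → F} (hi : LinearIndependent F ![u, w]) (h1 : f₂ u u = 0)
    (h2 : f₂ u w = 0) (hc : c ≠ 0) : c • (rk f₂ u w - ε • rk f₂ w u) ≠ 0 ∧
      ¬ IsUnit (c • (rk f₂ u w - ε • rk f₂ w u)) := by
  have h0 : u ≠ 0 := hi.ne_zero 0
  obtain ⟨y, hy⟩ := h.exists_ne h0
  refine ⟨smul_ne_zero hc fun h3 => hy (LinearIndependent.pair_iff.1 hi (-(ε * f₂ y w)) _ ?_).2,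
    not_isUnit_of h0 (by simp [smul_mulVec, sub_mulVec, h.rk_mulVec, h1, h2])⟩
  have := congrArg (· *ᵥ y) h3
  simp only [sub_mulVec, smul_mulVec, h.rk_mulVec, zero_mulVec] at this
  rw [← this]; module

theorem TS.nm_frame (h : TS f f₁ f₂ e P c) (hc : c ≠ 0) (hf : IsSesq σ f) (h₁ : Hm σ ε₁ f₁)
    (h₂ : Hm σ ε₂ f₂) (hG : Cl G) (hI : G ≤ isoG f) (hS : Sg ε f G)
    (hT : ∀ g ∈ T, ∃ (a : GL κ F) (b : GL μ F), (g : Matrix ι ι F) = tr e P (a.1 ⊗ₖ b.1))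
    {t : ℕ} {D : Fin t → Submodule F (κ → F)} (hD : IsNondegenerateMDecomposition f₁ 1 D)
    (hD' : similarityGroup f₁ ≤ decompositionStabilizer D) {U : Submodule F (μ → F)}
    (hU : finrank F U = 2) (hU' : ∀ u ∈ U, ∀ w ∈ U, f₂ u w = 0) : ∃ K, T ⊓ G < K ∧ K < G := by
  obtain ⟨u, hu, w, hw, hi⟩ := exists_pair hU
  have ht := hD.decomp.two_le
  let i : Fin t := ⟨0, by omega⟩
  let j : Fin t := ⟨1, by omega⟩
  have hij : j ≠ i := by simp [i, j]
  obtain ⟨⟨v, hv⟩, h0, h3⟩ := finrank_eq_one_iff'.1 (hD.decomp.finrank_eq i)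
  replace h0 : v ≠ 0 := fun h => h0 (Subtype.ext h)
  obtain ⟨x, h4⟩ := h₁.exists_ne h0
  obtain ⟨y, h5⟩ := h₂.exists_ne (hi.ne_zero 0)
  obtain ⟨v', hv', h6⟩ := (Submodule.ne_bot_iff _).1 (IsMDecomposition.ne_bot hD.decomp j)
  obtain ⟨g, hg, h7⟩ := hS (pv e P v u) (pv e P v w) (by rw [h, hU' u hu u hu]; simp)
    (by rw [h, hU' w hw w hw]; simp) (by rw [h, hU' w hw u hu]; simp)
  obtain ⟨h8, h9⟩ := h₂.sieg (ε := ε) hi (hU' u hu u hu) (hU' u hu w hw) hc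
  refine hG.nm_kron (e := e) (P := P) (decAlg_comm hD.decomp.iSup_eq_top) (fun a ha => ?_) hg (N := rk f₁ v v) (fun l => ?_)
    (fun ⟨d, hd⟩ => ?_) (A := 1) h8 h9 (mat_ext_pv (e := e) (P := P) fun l z => ?_)
  · obtain ⟨a₁, a₂, h⟩ := hT a ha
    exact ⟨a₁, a₂, h, fun h' => nz_decAlg hD' _ (‹TS _ _ _ _ _ _›.sim hc h4 h5 (hI h') h)⟩
  · by_cases hl : l = i
    · refine ⟨f₁ v v, fun z hz => ?_⟩
      obtain ⟨s, rfl⟩ : ∃ s : F, s • v = z := (h3 ⟨z, hl ▸ hz⟩).imp fun _ h => congrArg Subtype.val h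
      rw [h₁.rk_mulVec, h₁.smul_left, smul_smul, mul_comm]
    · exact ⟨0, fun z hz => by rw [h₁.rk_mulVec, hD.orthogonal _ _ hl z hz v hv, zero_smul, zero_smul]⟩
  · have h := fun z => (h₁.rk_mulVec v v z).symm.trans (congrArg (· *ᵥ z) hd)
    have h' := h v'
    simp only [hD.orthogonal _ _ hij v' hv' v hv, smul_mulVec, one_mulVec, zero_smul] at h h'
    exact h0 (by simpa [h4, (smul_eq_zero.1 h'.symm).resolve_right h6] using h x)
  · simp only [h7, map_add, add_mulVec, sub_mulVec, smul_mulVec, tr_pv, one_mulVec, hf.rk_mulVec,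
      h₁.rk_mulVec, h₂.rk_mulVec, h _ _, map_smul, map_sub, LinearMap.smul_apply]
    module

theorem nz_W2 [Fintype F] (h2 : Fintype.card F = 2) (a : GL (Fin 2) F) :
    ∀ x ∈ quadAlg _ W2_mul_self, cj a x ∈ quadAlg _ (W2_mul_self (F := F)) :=
  nz_quadAlg (H := ⊤) W2_mul_self (fun g _ => by
    rcases eq_W2_or h2 (z := cj g (W2 F)) (by simpa using congrArg (cj g) W2_mul_self) with h | h <;> rw [h]
    exacts [self_mem_quadAlg _, add_mem (one_mem _) (self_mem_quadAlg _)]) a trivial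

theorem not_isSc_W2 : ¬ IsSc (W2 F) := fun ⟨_, h⟩ => by simpa [W2] using congrFun₂ h 0 1

theorem nm_sl_tensor [Fintype F] (h2 : Fintype.card F = 2) {n : ℕ} (hn : 2 ≤ n) (e : ι ≃ Fin 2 × Fin n)
    (P : GL ι F) : ∃ K, tensorProductSubgroup 2 n e P ⊓ specialLinear ι F < K ∧ K < specialLinear ι F := by
  let i : Fin n := ⟨0, by omega⟩
  let j : Fin n := ⟨1, by omega⟩
  have hij : i ≠ j := by simp [i, j]
  set X := tr e P (W2 F ⊗ₖ single i j 1) with hX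
  have h : X * X = 0 := by rw [hX, ← map_mul, ← mul_kronecker_mul, single_mul_single', if_neg hij.symm]; simp
  refine (cl_sl (by rw [Fintype.card_congr e]; simp; omega)).nm_kron (e := e) (P := P) (quadAlg_comm _)
    (fun g hg => let ⟨a, b, h⟩ := (mem_tensorProductSubgroup_iff ..).1 hg; ⟨a, b, h, fun _ => nz_W2 h2 a⟩)
    (g := ⟨1 + X, 1 - X, by simp [add_mul, mul_sub, h], by simp [sub_mul, mul_add, h]⟩)
    (mem_sl.2 ((eq_zero_or_one h2 _).resolve_left ((isUnit_iff_isUnit_det _).1 (Units.isUnit _)).ne_zero))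
    (self_mem_quadAlg _) not_isSc_W2 (A := 1) (M := single i j 1) (fun h => by simpa using congrFun₂ h i j)
    (not_isUnit_of (u := Pi.single i 1) (by simp) (by ext; simp [hij.symm])) (by simp [hX])

theorem NQ.nm_tensor [Fintype F] (hQ : NQ Q) (h2 : Fintype.card F = 2) {n : ℕ} (hn : 3 ≤ n)
    {e : ι ≃ Fin 2 × Fin n} {f₁ f₂} (h₁ : IsSymplecticForm f₁) (h₂ : IsSymplecticForm f₂)
    (hT : IsTensorFormStructure id (polar Q) f₁ f₂ e P) (h0 : ∀ x y, Q (pv e P x y) = 0) :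
    ∃ K, tensorProductSubgroup 2 n e P ⊓ omegaGL Q < K ∧ K < omegaGL Q := by
  have hn' : 5 ≤ Fintype.card ι := by rw [Fintype.card_congr e]; simp; omega
  have h₃ := IsSymplecticForm.hm h₁
  have h₄ := IsSymplecticForm.hm h₂
  obtain ⟨c, hc, h⟩ := ts_of h₃.toIsSesq h₄.toIsSesq hT
  obtain rfl := (eq_zero_or_one h2 c).resolve_left hc
  have hev : Even n := by simpa using IsSymplecticForm.even h₂
  obtain ⟨U, hU, hU'⟩ := Symp.hasTS ((h₄.br_sForm h₂.alternating).nondeg h₄) (m := 2)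
    (by obtain ⟨k, rfl⟩ := hev; simp; omega)
  obtain ⟨u, hu, w, hw, hi⟩ := exists_pair hU
  have h5 : ∀ u ∈ U, ∀ w ∈ U, f₂ u w = 0 := fun u hu w hw => hU'.B_eq w hw u hu
  have h6 := two_eq_zero_of_card h2
  have h7 : ∀ i j : Fin 2, f₁ (Pi.single i 1) (Pi.single j 1) = if i = j then 0 else 1 := by
    have h8 : gramMatrix f₁ 0 1 = 1 := (eq_zero_or_one h2 _).resolve_left fun h8 => h₃.unit.ne_zero (by
      rw [eq_smul_J2 (A := gramMatrix f₁) (by simpa using h₃.gram_dagger) fun _ => h₁.alternating _, h8, zero_smul])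
    have h9 := h₃.swap (Pi.single 0 1) (Pi.single 1 1)
    replace h8 : f₁ (Pi.single 0 1) (Pi.single 1 1) = 1 := h8
    intro i j; fin_cases i <;> fin_cases j
    exacts [h₁.alternating _, h8, by simp at h9 ⊢; linear_combination h9 - h8 - h6, h₁.alternating _]
  have h8 : ∀ x y x' y', y ∈ U → y' ∈ U → Q (pv e P x y + pv e P x' y') = 0 := fun x y x' y' hy hy' => by
    have := h x y x' y'
    rwa [polar, h0, h0, h5 y hy y' hy', mul_zero, mul_zero, sub_zero, sub_zero] at this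
  obtain ⟨g, hg, h9⟩ := hQ.eich hn' (h8 (Pi.single 0 1) u (Pi.single 1 1) w hu hw)
    (z := pv e P (Pi.single 1 1) u + pv e P (Pi.single 0 1 + Pi.single 1 1) w)
    (by simp only [hQ.hm.add_left, hQ.hm.add_right, h _ _, h5, hu, hw]; simp)
  obtain ⟨h10, h11⟩ := h₄.sieg (ε := -1) hi (h5 u hu u hu) (h5 u hu w hw) one_ne_zero
  refine (hQ.cl hn').nm_kron (e := e) (P := P) (quadAlg_comm _)
    (fun g hg => let ⟨a, b, h⟩ := (mem_tensorProductSubgroup_iff ..).1 hg; ⟨a, b, h, fun _ => nz_W2 h2 a⟩)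
    hg (self_mem_quadAlg _) not_isSc_W2 (A := 1 + rk f₂ u u + rk f₂ w u + rk f₂ w w) h10 h11
    (mat_ext_pv (e := e) (P := P) fun l z => ?_)
  have h12 : W2 F *ᵥ Pi.single 0 1 = Pi.single 1 1 := by ext i; fin_cases i <;> simp [W2]
  have h13 : W2 F *ᵥ Pi.single 1 1 = Pi.single 0 1 + Pi.single 1 1 := by ext i; fin_cases i <;> simp [W2]
  rw [h9, h8 _ _ _ _ hu hw]
  fin_cases l <;>
  · simp only [map_add, add_mulVec, sub_mulVec, smul_mulVec, tr_pv, one_mulVec, hQ.hm.add_right,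
      h₄.rk_mulVec, h _ _, map_smul, map_sub, LinearMap.add_apply, h7, h12, h13, Fin.zero_eta, Fin.mk_one]
    simp
    match_scalars <;> grind

theorem NQ.nm_tensor_three [Fintype F] (hQ : NQ Q) (h3 : Fintype.card F = 3) {n : ℕ} (hn : 5 ≤ n)
    {e : ι ≃ Fin 3 × Fin n} {f₁ f₂} (h₁ : IsSymmetricForm f₁) (h₂ : IsSymmetricForm f₂)
    (hT : IsTensorFormStructure id (polar Q) f₁ f₂ e P) :
    ∃ K, tensorProductSubgroup 3 n e P ⊓ omegaGL Q < K ∧ K < omegaGL Q := by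
  have hn' : 5 ≤ Fintype.card ι := by rw [Fintype.card_congr e]; simp; omega
  have h2 := two_ne_zero_of_three h3
  have h₃ := IsSymmetricForm.hm h₁
  obtain ⟨c, hc, h⟩ := ts_of h₃.toIsSesq (IsSymmetricForm.hm h₂).toIsSesq hT
  obtain ⟨D, h4, h5⟩ := h₃.frame_three h3
  obtain ⟨U, hU, hU'⟩ := Quad.hasTS_pred (qForm_nondeg (IsSymmetricForm.quad h2 h₂)) (m := 2) (by simpa)
  exact h.nm_frame hc hQ.hm.toIsSesq h₃ (IsSymmetricForm.hm h₂) (hQ.cl hn')
    (omegaGL_le.trans isometryGroup_le) (hQ.sg h2 hn') (fun g => (mem_tensorProductSubgroup_iff ..).1) h4 h5 hU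
    fun u hu w hw => mul_left_cancel₀ h2 ((congrFun₂ (IsSymmetricForm.polar h₂) u w).symm.trans
      ((br_qForm _ w u).symm.trans ((hU'.B_eq w hw u hu).trans (mul_zero _).symm)))

omit [Fintype ι] [DecidableEq ι] in
theorem IsUnitaryFormPow.hm {q : ℕ} (hq : IsConj σ q) (h : IsUnitaryFormPow q f) : Hm σ 1 f :=
  hm_of ⟨h.add_left, h.smul_left, fun u v w => by simp only [h.herm u, ← hq.apply, h.add_left, map_add],
    fun c u v => by simp only [h.herm u, ← hq.apply, h.smul_left, map_mul]⟩ hq.σσ h.nondegenerate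
    fun u v => by rw [h.herm u, hq.apply, one_mul]

end Cfsg.Lib.Asch
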