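import Cfsg.Agent.Lib.Asch.Alg

/-! Subalgebras of a matrix algebra normalised by an irreducible linear group. -/

set_option autoImplicit false

namespace Cfsg.Lib.Asch

open Matrix Cfsg.Geo
open scoped MatrixGroups Kronecker

variable {ι κ μ : Type} [Fintype ι] [DecidableEq ι] [Fintype κ] [DecidableEq κ]
  [Fintype μ] [DecidableEq μ] {F : Type*} [Field F]

/-- `W` is invariant under `H`. -/
def Inv (H : Subgroup (GL ι F)) (W : Submodule F (ι → F)) : Prop :=
  ∀ h ∈ H, ∀ w ∈ W, (h : Matrix ι ι F) *ᵥ w ∈ W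

/-- `H` is irreducible. -/
def Irr (H : Subgroup (GL ι F)) : Prop := ∀ W : Submodule F (ι → F), Inv H W → W = ⊥ ∨ W = ⊤

/-- `H` normalises the set of matrices `A`. -/
def Nz (H : Subgroup (GL ι F)) (A : Set (Matrix ι ι F)) : Prop := ∀ h ∈ H, ∀ x ∈ A, cj h x ∈ A

/-- `H` normalises the subgroup `N`. -/
def NormBy {G : Type*} [Group G] (H N : Subgroup G) : Prop := ∀ h ∈ H, ∀ x ∈ N, h * x * h⁻¹ ∈ N

theorem NormBy.self {G : Type*} [Group G] (H : Subgroup G) : NormBy H H :=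
  fun _ hh _ hx => H.mul_mem (H.mul_mem hh hx) (H.inv_mem hh)

theorem NormBy.mono {G : Type*} [Group G] {H K N : Subgroup G} (h : NormBy H N) (hK : K ≤ H) :
    NormBy K N := fun g hg => h g (hK hg)

theorem NormBy.le_normalizer {G : Type*} [Group G] {H N : Subgroup G} (h : NormBy H N) :
    H ≤ Subgroup.normalizer (N : Set G) := by
  intro g hg
  rw [Subgroup.mem_normalizer_iff]
  refine fun x => ⟨h g hg x, fun hx => ?_⟩
  simpa [mul_assoc] using h g⁻¹ (H.inv_mem hg) _ hx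

theorem Nz.mono {H K : Subgroup (GL ι F)} {A : Set (Matrix ι ι F)} (h : Nz H A) (hK : K ≤ H) :
    Nz K A := fun g hg => h g (hK hg)

theorem Irr.mono {H K : Subgroup (GL ι F)} (h : Irr H) (hK : H ≤ K) : Irr K :=
  fun W hW => h W fun g hg => hW g (hK hg)

theorem Inv.mono {H K : Subgroup (GL ι F)} {W : Submodule F (ι → F)} (h : Inv H W) (hK : K ≤ H) :
    Inv K W := fun g hg => h g (hK hg)

theorem mem_subspaceStabilizer {W : Submodule F (ι → F)} {g : GL ι F} :
    g ∈ subspaceStabilizer W ↔ ∀ v, v ∈ W ↔ (g : Matrix ι ι F) *ᵥ v ∈ W := Iff.rfl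

theorem Inv.le_stab {H : Subgroup (GL ι F)} {W : Submodule F (ι → F)} (h : Inv H W) :
    H ≤ subspaceStabilizer W := fun g hg v =>
  ⟨h g hg v, fun hv => by simpa [inv_mulVec_mulVec] using h g⁻¹ (H.inv_mem hg) _ hv⟩

theorem inv_iff_le_stab {H : Subgroup (GL ι F)} {W : Submodule F (ι → F)} :
    Inv H W ↔ H ≤ subspaceStabilizer W :=
  ⟨Inv.le_stab, fun h g hg v hv => (h hg v).1 hv⟩

theorem Inv.map_eq {H : Subgroup (GL ι F)} {W : Submodule F (ι → F)} (h : Inv H W) {g : GL ι F}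
    (hg : g ∈ H) : W.map (toLin' (g : Matrix ι ι F)) = W := by
  apply le_antisymm
  · rintro _ ⟨w, hw, rfl⟩; exact h g hg w hw
  · intro w hw
    exact ⟨_, h g⁻¹ (H.inv_mem hg) w hw, by simp [toLin'_apply, mulVec_inv_mulVec]⟩

theorem Nz.le_normalizer {H : Subgroup (GL ι F)} {A : Subalgebra F (Matrix ι ι F)}
    (h : Nz H (A : Set (Matrix ι ι F))) : H ≤ subalgebraNormalizer A := fun g hg k =>
  ⟨h g hg k, fun hk => by simpa using h g⁻¹ (H.inv_mem hg) (cj g k) hk⟩

theorem nz_iff_le_normalizer {H : Subgroup (GL ι F)} {A : Subalgebra F (Matrix ι ι F)} :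
    Nz H (A : Set (Matrix ι ι F)) ↔ H ≤ subalgebraNormalizer A :=
  ⟨Nz.le_normalizer, fun h g hg k hk => (h hg k).1 hk⟩

theorem irr_iff {H : Subgroup (GL ι F)} : Irr H ↔ ActsIrreducibly (matrixSet H) := by
  refine forall_congr' fun W => imp_congr_left ⟨?_, ?_⟩
  · rintro h _ ⟨g, hg, rfl⟩ _ ⟨w, hw, rfl⟩
    exact h g hg w hw
  · intro h g hg w hw
    exact h _ ⟨g, hg, rfl⟩ ⟨w, hw, rfl⟩

section alg

variable (k : Type*) [Field k] [Algebra k F]

/-- The `k`-algebra spanned by a linear group. -/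
def alg (N : Subgroup (GL ι F)) : Subalgebra k (Matrix ι ι F) := Algebra.adjoin k (matrixSet N)

variable {k}

theorem coe_mem_alg {N : Subgroup (GL ι F)} {g : GL ι F} (hg : g ∈ N) :
    (g : Matrix ι ι F) ∈ alg k N := Algebra.subset_adjoin ⟨g, hg, rfl⟩

theorem mem_alg_iff {N : Subgroup (GL ι F)} {x : Matrix ι ι F} :
    x ∈ alg k N ↔ x ∈ Submodule.span k (matrixSet N) := by
  have : matrixSet N = ((N.toSubmonoid.map (Units.coeHom _) : Submonoid (Matrix ι ι F)) : Set _) :=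
    rfl
  rw [alg, ← Subalgebra.mem_toSubmodule, Algebra.adjoin_eq_span, this, Submonoid.closure_eq]

theorem alg_induction {N : Subgroup (GL ι F)} {p : Matrix ι ι F → Prop}
    (mem : ∀ g ∈ N, p (g : Matrix ι ι F)) (add : ∀ x y, p x → p y → p (x + y))
    (smul : ∀ (c : k) x, p x → p (c • x)) {x : Matrix ι ι F} (hx : x ∈ alg k N) : p x := by
  rw [mem_alg_iff] at hx
  induction hx using Submodule.span_induction with
  | mem x hx => obtain ⟨g, hg, rfl⟩ := hx; exact mem g hg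
  | zero => simpa using smul 0 _ (mem 1 N.one_mem)
  | add x y _ _ hx hy => exact add x y hx hy
  | smul c x _ hx => exact smul c x hx

theorem alg_le {N : Subgroup (GL ι F)} {A : Subalgebra k (Matrix ι ι F)} :
    alg k N ≤ A ↔ ∀ g ∈ N, (g : Matrix ι ι F) ∈ A := by
  rw [alg, Algebra.adjoin_le_iff]
  exact ⟨fun h g hg => h ⟨g, hg, rfl⟩, by rintro h _ ⟨g, hg, rfl⟩; exact h g hg⟩

theorem alg_mono {N N' : Subgroup (GL ι F)} (h : N ≤ N') : alg k N ≤ alg k N' :=
  alg_le.2 fun _ hg => coe_mem_alg (h hg)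

theorem cj_smul_tower (g : GL ι F) (c : k) (x : Matrix ι ι F) : cj g (c • x) = c • cj g x := by
  simp [cj_apply]

theorem NormBy.nz {H N : Subgroup (GL ι F)} (h : NormBy H N) :
    Nz H (alg k N : Set (Matrix ι ι F)) := by
  intro g hg x hx
  refine alg_induction (p := fun x => cj g x ∈ alg k N) (fun n hn => ?_) (fun x y hx hy => ?_)
    (fun c x hx => ?_) hx
  · rw [cj_coe]; exact coe_mem_alg (h g hg n hn)
  · rw [map_add]; exact add_mem hx hy
  · rw [cj_smul_tower]; exact Subalgebra.smul_mem _ hx c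

theorem comm_alg {N : Subgroup (GL ι F)} {z : Matrix ι ι F}
    (h : ∀ g ∈ N, z * (g : Matrix ι ι F) = g * z) {x : Matrix ι ι F} (hx : x ∈ alg k N) :
    z * x = x * z :=
  alg_induction (p := fun x => z * x = x * z) h
    (fun x y hx hy => by rw [mul_add, add_mul, hx, hy])
    (fun c x hx => by rw [mul_smul_comm, smul_mul_assoc, hx]) hx

theorem alg_comm_alg {N N' : Subgroup (GL ι F)} (h : ∀ g ∈ N, ∀ g' ∈ N', g * g' = g' * g)
    {x y : Matrix ι ι F} (hx : x ∈ alg k N) (hy : y ∈ alg k N') : x * y = y * x :=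
  comm_alg (fun g' hg' => (comm_alg (fun g hg => by
    rw [← Units.val_mul, ← Units.val_mul, h g hg g' hg']) hx).symm) hy

end alg

theorem isSc_of_alg_top {N : Subgroup (GL ι F)} (hN : alg F N = ⊤) {z : Matrix ι ι F}
    (h : ∀ g ∈ N, z * (g : Matrix ι ι F) = g * z) : IsSc z :=
  isSc_of_comm fun y => comm_alg (k := F) h (hN ▸ Algebra.mem_top)

theorem mem_scalars_of_alg_top {N : Subgroup (GL ι F)} (hN : alg F N = ⊤) {z : GL ι F}
    (h : ∀ g ∈ N, z * g = g * z) : z ∈ scalars ι F :=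
  mem_scalars_iff_isSc.2 (isSc_of_alg_top hN fun g hg => by
    rw [← Units.val_mul, ← Units.val_mul, h g hg])

theorem Inv.alg {N : Subgroup (GL ι F)} {W : Submodule F (ι → F)} (h : Inv N W)
    {x : Matrix ι ι F} (hx : x ∈ alg F N) : ∀ w ∈ W, x *ᵥ w ∈ W :=
  alg_induction (p := fun x => ∀ w ∈ W, x *ᵥ w ∈ W) h
    (fun x y hx hy w hw => by rw [add_mulVec]; exact add_mem (hx w hw) (hy w hw))
    (fun c x hx w hw => by rw [smul_mulVec]; exact W.smul_mem c (hx w hw)) hx

theorem exists_mulVec_eq {v : ι → F} (hv : v ≠ 0) (w : ι → F) :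
    ∃ x : Matrix ι ι F, x *ᵥ v = w := by
  obtain ⟨i, hi⟩ := Function.ne_iff.1 hv
  refine ⟨vecMulVec w (Pi.single i (v i)⁻¹), ?_⟩
  have hi' : v i ≠ 0 := hi
  ext j
  simp [mulVec, dotProduct, vecMulVec_apply, Pi.single_apply, hi']

theorem irr_of_alg_top {N : Subgroup (GL ι F)} (hN : alg F N = ⊤) : Irr N := by
  intro W hW
  by_cases h : W = ⊥
  · exact Or.inl h
  · obtain ⟨v, hv, hv0⟩ := (Submodule.ne_bot_iff W).1 h
    refine Or.inr (eq_top_iff.2 fun w _ => ?_)
    obtain ⟨x, rfl⟩ := exists_mulVec_eq hv0 w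
    exact hW.alg (hN ▸ Algebra.mem_top) v hv

theorem absIrr_of_alg_top {N : Subgroup (GL ι F)} (hN : alg F N = ⊤) :
    ActsAbsolutelyIrreducibly (matrixSet N) :=
  ⟨irr_iff.1 (irr_of_alg_top hN), fun _ h => isSc_of_alg_top hN fun g hg => h _ ⟨g, hg, rfl⟩⟩

theorem not_comm_top (h2 : 2 ≤ Fintype.card ι) : ¬ ∀ x y : Matrix ι ι F, x * y = y * x := by
  intro h
  obtain ⟨a, b, hab⟩ := Fintype.exists_pair_of_one_lt_card h2
  have := congrFun (congrFun (h (single a b 1) (single b a 1)) a) a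
  rw [single_mul_single', single_mul_single', if_pos rfl, if_pos rfl] at this
  simp [hab, Ne.symm hab] at this

theorem not_alg_top_of_comm (h2 : 2 ≤ Fintype.card ι) {N : Subgroup (GL ι F)}
    (h : ∀ g ∈ N, ∀ g' ∈ N, g * g' = g' * g) : alg F N ≠ ⊤ := fun hN =>
  not_comm_top h2 fun _ _ => alg_comm_alg (k := F) h (hN ▸ Algebra.mem_top) (hN ▸ Algebra.mem_top)

theorem not_irr_of_le_scalars (h2 : 2 ≤ Fintype.card ι) {H : Subgroup (GL ι F)}
    (h : H ≤ scalars ι F) : ¬ Irr H := by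
  intro hi
  obtain ⟨a, b, hab⟩ := Fintype.exists_pair_of_one_lt_card h2
  rcases hi (F ∙ Pi.single a 1) (fun g hg w hw => by
    obtain ⟨c, hc⟩ := mem_scalars_iff_isSc.1 (h hg)
    rw [hc, smul_mulVec, one_mulVec]
    exact Submodule.smul_mem _ _ hw) with h | h
  · rw [Submodule.span_singleton_eq_bot] at h
    simpa using congrFun h a
  · have : Pi.single b (1 : F) ∈ F ∙ (Pi.single a 1 : ι → F) := h ▸ Submodule.mem_top
    obtain ⟨c, hc⟩ := Submodule.mem_span_singleton.1 this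
    simpa [Ne.symm hab] using congrFun hc b

/-- Conjugation restricted to a normalised subalgebra. -/
def Nz.equiv {H : Subgroup (GL ι F)} {A : Subalgebra F (Matrix ι ι F)}
    (h : Nz H (A : Set (Matrix ι ι F))) {g : GL ι F} (hg : g ∈ H) : A ≃ₐ[F] A where
  toFun x := ⟨cj g x, h g hg _ x.2⟩
  invFun x := ⟨cj g⁻¹ x, h g⁻¹ (H.inv_mem hg) _ x.2⟩
  left_inv x := Subtype.ext (cj_inv_cj _ _)
  right_inv x := Subtype.ext (cj_cj_inv _ _)
  map_mul' x y := Subtype.ext (map_mul (cj g) _ _)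
  map_add' x y := Subtype.ext (map_add (cj g) _ _)
  commutes' c := Subtype.ext ((cj g).commutes c)

/-- A subalgebra normalised by an irreducible group is semisimple. -/
theorem Irr.isSemisimpleRing [Finite F] {H : Subgroup (GL ι F)} (hH : Irr H)
    {A : Subalgebra F (Matrix ι ι F)} (h : Nz H (A : Set (Matrix ι ι F))) : IsSemisimpleRing A := by
  rw [IsArtinianRing.isSemisimpleRing_iff_jacobson]
  rcases subsingleton_or_nontrivial (ι → F) with hV | hV
  · have : Subsingleton A := ⟨fun x y => Subtype.ext (mat_ext fun _ => Subsingleton.elim _ _)⟩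
    exact Subsingleton.elim _ _
  let W : Submodule F (ι → F) :=
    Submodule.span F {w | ∃ x ∈ Ring.jacobson A, ∃ v, (x : Matrix ι ι F) *ᵥ v = w}
  have hW : Inv H W := by
    intro g hg w hw
    refine Submodule.span_induction (p := fun w _ => (g : Matrix ι ι F) *ᵥ w ∈ W) ?_ ?_ ?_ ?_ hw
    · rintro _ ⟨x, hx, v, rfl⟩
      rw [← cj_mulVec]
      have : RingHomSurjective (h.equiv hg).toRingEquiv.toRingHom := ⟨(h.equiv hg).surjective⟩
      exact Submodule.subset_span ⟨h.equiv hg x,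
        Ring.map_jacobson_le (h.equiv hg).toRingEquiv.toRingHom ⟨x, hx, rfl⟩, _, rfl⟩
    · simp
    · intro x y _ _ hx hy; rw [mulVec_add]; exact add_mem hx hy
    · intro c x _ hx; rw [mulVec_smul]; exact W.smul_mem c hx
  rcases hH W hW with h0 | h0
  · rw [eq_bot_iff]
    intro x hx
    rw [Submodule.mem_bot]
    refine Subtype.ext (mat_ext fun v => ?_)
    have : (x : Matrix ι ι F) *ᵥ v ∈ W := Submodule.subset_span ⟨x, hx, v, rfl⟩
    rw [h0] at this
    simpa using this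
  · exfalso
    letI : Module A (ι → F) := Module.compHom (ι → F)
      ((toLinAlgEquiv' : Matrix ι ι F ≃ₐ[F] _).toAlgHom.comp A.val).toRingHom
    have hs : ∀ (x : A) (v : ι → F), x • v = (x : Matrix ι ι F) *ᵥ v := fun x v => rfl
    have : Finite (Submodule A (ι → F)) := Finite.of_injective _ SetLike.coe_injective
    have hlt := Module.jacobson_lt_top A (ι → F)
    refine hlt.ne (eq_top_iff.2 fun w _ => ?_)
    have hw : w ∈ W := h0 ▸ Submodule.mem_top
    refine Submodule.span_induction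
      (p := fun w _ => w ∈ Module.jacobson A (ι → F)) ?_ ?_ ?_ ?_ hw
    · rintro _ ⟨x, hx, v, rfl⟩
      exact Module.le_comap_jacobson (LinearMap.toSpanSingleton A (ι → F) v) hx
    · exact zero_mem _
    · intro x y _ _ hx hy; exact add_mem hx hy
    · intro c x _ hx
      have : c • x = (algebraMap F A c) • x := by
        rw [hs]; simp [Algebra.algebraMap_eq_smul_one, smul_mulVec]
      rw [this]; exact Submodule.smul_mem _ _ hx

/-- A normalised subalgebra with scalar centre is a matrix algebra. -/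
theorem Irr.exists_algHom [Finite F] [Nonempty ι] {H : Subgroup (GL ι F)} (hH : Irr H)
    {A : Subalgebra F (Matrix ι ι F)} (h : Nz H (A : Set (Matrix ι ι F)))
    (hc : ∀ x ∈ A, (∀ y ∈ A, x * y = y * x) → IsSc x) :
    ∃ (m : ℕ) (_ : NeZero m) (φ : Matrix (Fin m) (Fin m) F →ₐ[F] Matrix ι ι F), φ.range = A := by
  have := hH.isSemisimpleRing h
  obtain ⟨m, hm, ⟨e⟩⟩ := exists_algEquiv_matrix (k := F) (A := A) (fun x hx => by
    obtain ⟨c, hc⟩ := hc x x.2 fun y hy => congrArg Subtype.val (hx ⟨y, hy⟩)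
    exact ⟨c, Subtype.ext (by simp [hc, Algebra.algebraMap_eq_smul_one])⟩)
  refine ⟨m, hm, A.val.comp e.toAlgHom, ?_⟩
  ext x
  constructor
  · rintro ⟨y, rfl⟩; exact (e y).2
  · intro hx; exact ⟨e.symm ⟨x, hx⟩, by simp⟩

theorem isSc_of_subsingleton [Subsingleton κ] (x : Matrix κ κ F) : IsSc x :=
  isSc_of_comm fun y => by
    ext i j
    obtain rfl := Subsingleton.elim i j
    simp [mul_apply, Fintype.sum_subsingleton _ i, mul_comm]

theorem IsSc.map {x : Matrix κ κ F} (h : IsSc x) (φ : Matrix κ κ F →ₐ[F] Matrix ι ι F) :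
    IsSc (φ x) := by
  obtain ⟨c, rfl⟩ := h
  exact ⟨c, by simp⟩

theorem kl_surjective [Unique μ] : Function.Surjective (kl κ μ F) := by
  intro z
  refine ⟨Matrix.of fun a b => z (a, default) (b, default), ?_⟩
  ext ⟨a, j⟩ ⟨b, k⟩
  obtain rfl := Subsingleton.elim j default
  obtain rfl := Subsingleton.elim k default
  simp [kl_apply]

/-- Trichotomy for a normalised subalgebra with scalar centre. -/
theorem Irr.trichotomy [Finite F] [Nonempty ι] {H : Subgroup (GL ι F)} (hH : Irr H)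
    {A : Subalgebra F (Matrix ι ι F)} (h : Nz H (A : Set (Matrix ι ι F)))
    (hc : ∀ x ∈ A, (∀ y ∈ A, x * y = y * x) → IsSc x) :
    (∀ x ∈ A, IsSc x) ∨ A = ⊤ ∨ ∃ (n₁ n₂ : ℕ) (e : ι ≃ Fin n₁ × Fin n₂) (P : GL ι F),
      2 ≤ n₁ ∧ 2 ≤ n₂ ∧ ∀ x, x ∈ A ↔ ∃ y, x = tr e P (kl _ _ F y) := by
  obtain ⟨m, hm, φ, rfl⟩ := hH.exists_algHom h hc
  obtain ⟨l, e, P, hφ⟩ := exists_tr_of_algHom φ
  by_cases h1 : m = 1
  · subst h1
    left
    rintro _ ⟨y, rfl⟩
    exact (isSc_of_subsingleton y).map φ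
  right
  by_cases h2 : l = 1
  · subst h2
    left
    rw [eq_top_iff]
    intro x _
    obtain ⟨y, hy⟩ := kl_surjective (κ := Fin m) (μ := Fin 1) ((tr e P).symm x)
    exact ⟨y, by rw [AlgHom.toRingHom_eq_coe, RingHom.coe_coe, hφ, ← kl_apply, hy]; simp⟩
  right
  have h0 : l ≠ 0 := by
    rintro rfl
    exact (e (Classical.arbitrary ι)).2.elim0
  have := hm.out
  refine ⟨m, l, e, P, by omega, by omega, fun x => ⟨?_, ?_⟩⟩
  · rintro ⟨y, rfl⟩; exact ⟨y, hφ y⟩
  · rintro ⟨y, rfl⟩; exact ⟨y, hφ y⟩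

/-- Burnside's theorem over a finite field. -/
theorem alg_top_of_absIrr [Finite F] {N : Subgroup (GL ι F)}
    (h : ActsAbsolutelyIrreducibly (matrixSet N)) : alg F N = ⊤ := by
  rcases isEmpty_or_nonempty ι with hι | hι
  · exact Subsingleton.elim _ _
  have hc : ∀ z : Matrix ι ι F, (∀ y ∈ alg F N, z * y = y * z) → IsSc z := fun z hz =>
    h.2 z (by rintro _ ⟨g, hg, rfl⟩; exact hz _ (coe_mem_alg hg))
  rcases (irr_iff.2 h.1).trichotomy (NormBy.self N).nz (fun x _ => hc x) with h1 | h1 |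
    ⟨n₁, n₂, e, P, h1, h2, hA⟩
  · rw [eq_top_iff]
    intro x _
    obtain ⟨c, rfl⟩ := hc x fun y hy => ((h1 y hy).comm x).symm
    exact Subalgebra.smul_mem _ (one_mem _) c
  · exact h1
  · exfalso
    refine not_comm_top (ι := Fin n₂) (F := F) (by simpa using h2) fun x y => ?_
    have : NeZero n₁ := ⟨by omega⟩
    have : NeZero n₂ := ⟨by omega⟩
    have := hc (tr e P (kr _ _ F x)) fun y hy => by
      obtain ⟨y, rfl⟩ := (hA y).1 hy
      rw [← map_mul, ← map_mul, kl_mul_kr, kr_mul_kl]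
    apply kr_injective (κ := Fin n₁)
    apply (tr e P).injective
    simp only [map_mul]
    exact this.comm _

end Cfsg.Lib.Asch
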