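import Cfsg.Agent.Lib.Asch.OT2

/-! The subgroup structure of the orthogonal groups. -/

set_option autoImplicit false

namespace Cfsg.Lib.Asch

open Matrix Cfsg.Geo Module Cfsg.Lib.Forms Subgroup
open QuadraticMap (polar)
open scoped MatrixGroups Kronecker commutatorElement

variable {ι κ μ : Type} [Fintype ι] [DecidableEq ι] [Fintype κ] [DecidableEq κ]
  [Fintype μ] [DecidableEq μ] {F : Type*} [Field F] {σ : F →+* F} {ε : F}
  {f : (ι → F) → (ι → F) → F} {Q : (ι → F) → F}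

theorem NQ.plus_iff_det [Fintype F] (hQ : NQ Q) (h2 : (2 : F) ≠ 0) {m : ℕ}
    (hn : Fintype.card ι = 2 * (2 * m)) (e : ι ≃ κ) (P : GL ι F) :
    Plus Q ↔ IsSquare (gramMatrix (pull (polar Q) e P)).det := by
  rw [hQ.plus_top hn, Form.hasTS_iff_disc (qForm_nondeg hQ) h2 (by simpa using hn), pow_mul,
    Int.units_sq, one_pow, ← Form.isSquare_det_gram_iff _ h2 (by simp [hn])
      ((Pi.basisFun F κ).map (vec e P)), ← det_transpose]
  exact iff_of_eq (congrArg (IsSquare <| det ·) (by ext; simp [Form.gram, gramMatrix, pull]; rfl))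

theorem Tens.plus_iff [Fintype F] (h2 : (2 : F) ≠ 0) {G H : Subgroup (GL ι F)} {e : ι ≃ Fin 3 × Fin 4}
    {P : GL ι F} {A₁ : Matrix (Fin 3) (Fin 3) F} {A₂ : Matrix (Fin 4) (Fin 4) F}
    (hT : Tens (RingHom.id F) 1 (polar Q) G H e P A₁ A₂ 1 1) (hQ : NQ Q) :
    Plus Q ↔ IsPlusTypeOn (fun v => formOfGram (RingHom.id F) A₂ v v) ⊤ := by
  have h1 := ((isUnit_iff_isUnit_det _).1 hT.hm₁.unit').ne_zero
  have h3 := ((isUnit_iff_isUnit_det _).1 hT.hm₂.unit').ne_zero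
  have key : ∀ a : F, a ≠ 0 → (IsSquare (a * a * A₂.det) ↔ IsSquare A₂.det) := fun a ha =>
    ⟨fun ⟨b, hb⟩ => ⟨b / a, by field_simp; linear_combination hb⟩, (IsSquare.mul_self a).mul⟩
  refine (hQ.plus_iff_det h2 (m := 3) (by simpa using hT.card_eq.symm) e P).trans (.trans ?_
    (NQ.plus_iff_det (IsSymmetricForm.quad h2 hT.hm₂.symmetric) h2 (m := 1) rfl (.refl _) 1).symm)
  rw [hT.gram, det_kronecker, show gramMatrix (pull _ (.refl _) 1) = (2 : F) • A₂ by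
    ext; rw [gramMatrix, pull, IsSymmetricForm.polar hT.hm₂.symmetric]
    simp only [vec_apply, Units.val_one, one_mulVec, Equiv.coe_refl, Function.comp_id, fG_single]
    rfl, det_smul,
    show _ * _ = (A₁.det ^ 2 * A₂.det) * (A₁.det ^ 2 * A₂.det) * A₂.det by simp; ring,
    key _ (by simp [h1, h3]), show _ * A₂.det = (4 : F) * 4 * A₂.det by simp; norm_num, key]
  rw [show (4 : F) = 2 * 2 by norm_num]
  exact mul_ne_zero h2 h2

theorem finrank_eq_two_mul (ψ : Matrix (Fin 2) (Fin 2) F →ₐ[F] Matrix ι ι F) {W : Submodule F (ι → F)}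
    (hW : ∀ a, ∀ w ∈ W, ψ a *ᵥ w ∈ W) : finrank F W = 2 * finrank F ↥(rg (ψ (single 0 0 1)) ⊓ W) := by
  have h1 : ∀ i j k w, ψ (single i j 1) *ᵥ ψ (single j k 1) *ᵥ w = ψ (single i k 1) *ᵥ w :=
    fun i j k w => by rw [mulVec_mulVec, ← map_mul, single_mul_single_same, mul_one]
  have h2 : ∀ i j, finrank F ↥(rg (ψ (single i i 1)) ⊓ W) ≤ finrank F ↥(rg (ψ (single j j 1)) ⊓ W) :=
    fun i j => LinearMap.finrank_le_finrank_of_injective (f := (toLin' (ψ (single j i 1))).restrict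
      fun w hw => ⟨⟨ψ (single j i 1) *ᵥ w, h1 j j i w⟩, hW _ w hw.2⟩) (by
        rintro ⟨_, ⟨u, rfl⟩, hu⟩ ⟨_, ⟨v, rfl⟩, hv⟩ h
        have h3 : ψ (single j i 1) *ᵥ ψ (single i i 1) *ᵥ u = ψ (single j i 1) *ᵥ ψ (single i i 1) *ᵥ v :=
          congrArg Subtype.val h
        rw [h1, h1] at h3
        exact Subtype.ext ((h1 i j i u).symm.trans ((congrArg _ h3).trans (h1 i j i v))))
  have h3 := finrank_sup_of_disjoint (W := rg (ψ (single 0 0 1)) ⊓ W) (W' := rg (ψ (single 1 1 1)) ⊓ W)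
    (Submodule.disjoint_def.2 (by
      rintro _ ⟨⟨u, rfl⟩, -⟩ ⟨⟨v, hv⟩, -⟩
      rw [toLin'_apply, ← h1 0 0 0, ← toLin'_apply _ u, ← hv, toLin'_apply, mulVec_mulVec, ← map_mul,
        single_mul_single_of_ne _ _ _ _ (by decide), map_zero, zero_mulVec]))
  rw [le_antisymm (sup_le inf_le_right inf_le_right) fun w hw => by
    have : single 0 0 1 + single 1 1 1 = (1 : Matrix (Fin 2) (Fin 2) F) := by
      ext i j; fin_cases i <;> fin_cases j <;> simp
    rw [← one_mulVec w, ← map_one ψ, ← this, map_add, add_mulVec]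
    exact Submodule.add_mem_sup ⟨mulVec_mem_rg _ _, hW _ w hw⟩ ⟨mulVec_mem_rg _ _, hW _ w hw⟩] at h3
  have := h2 0 1
  have := h2 1 0
  omega

/-- The alternatives for a subgroup of an orthogonal group. -/
inductive OCase [Fintype F] (Q : (ι → F) → F) (H : Subgroup (GL ι F)) : Prop
  | ts (W : Submodule F (ι → F)) (h0 : W ≠ ⊥) (h1 : IsTotallySingularQuad Q W)
      (h2 : Plus Q → 2 * (finrank F W + 1) ≠ Fintype.card ι)
      (h : Over (omegaGL Q) H (subspaceStabilizer W))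
  | nd (W : Submodule F (ι → F)) (h0 : W ≠ ⊥) (ht : W ≠ ⊤) (h1 : IsNondegenerateOn (polar Q) W)
      (h2 : Even (Fintype.card ι) → 2 * finrank F W ≤ Fintype.card ι)
      (h3 : 2 * finrank F W = Fintype.card ι → Even (finrank F W) ∧ ¬ Plus Q)
      (h4 : finrank F W = 2 → IsPlusTypeOn Q W → 4 ≤ Fintype.card F)
      (h5 : Odd (finrank F W) → Odd (Fintype.card F) ∧ Even (Fintype.card ι))
      (h : Over (omegaGL Q) H (subspaceStabilizer W))
  | half (k : ℕ) (hn : 2 * k = Fintype.card ι) (hk : Odd k) (ho : Odd (Fintype.card F))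
      (hp : Plus Q ↔ Fintype.card F % 4 = 3) (D : Fin 2 → Submodule F (ι → F))
      (hD : IsNondegenerateMDecomposition (polar Q) k D) (h1 : ¬ AreIsometricFor Q (D 0) (D 1))
      (h : Over (omegaGL Q) H (decompositionStabilizer D))
  | pt (he : ¬ Odd (Fintype.card F)) (v : ι → F) (h0 : Q v ≠ 0)
      (h : Over (omegaGL Q) H (subspaceStabilizer (Submodule.span F {v})))
  | dec (t k : ℕ) (ht : 2 ≤ t) (hn : t * k = Fintype.card ι) (D : Fin t → Submodule F (ι → F))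
      (hD : IsOrthogonalMDecomposition Q k D) (ho : Odd k → Odd (Fintype.card F))
      (h1 : k = 1 → (Fintype.card F).Prime) (h2 : k = 2 → Fintype.card F ≠ 3)
      (h2' : k = 2 → (∀ i, IsPlusTypeOn Q (D i)) → 7 ≤ Fintype.card F)
      (h3 : k = 3 → 5 ≤ Fintype.card F)
      (h4 : k = 4 → 3 ≤ t → (∀ i, IsPlusTypeOn Q (D i)) → 3 ≤ Fintype.card F)
      (h : Over (omegaGL Q) H (decompositionStabilizer D))
  | pair (k : ℕ) (hn : 2 * k = Fintype.card ι) (hk : Even k) (hp : Plus Q)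
      (D : Fin 2 → Submodule F (ι → F)) (hD : IsMDecomposition k D)
      (h1 : ∀ i, IsTotallySingularQuad Q (D i)) (h : Over (omegaGL Q) H (decompositionStabilizer D))
  | fld (r : ℕ) (hr : r.Prime) (hn : r ∣ Fintype.card ι) (h1 : r ≠ Fintype.card ι)
      (h2 : 2 * r ≠ Fintype.card ι) (h3 : ¬ Odd (Fintype.card F) → 2 * r ∣ Fintype.card ι)
      (K : Subalgebra F (Matrix ι ι F)) (hK : IsFieldSubalgebra r K) (h4 : IsSelfAdjointFor (polar Q) K)
      (h : Over (omegaGL Q) H (subalgebraNormalizer K))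
  | fldu (he : Even (Fintype.card ι)) (hp : Plus Q → 4 ∣ Fintype.card ι)
      (K : Subalgebra F (Matrix ι ι F)) (hK : IsFieldSubalgebra 2 K)
      (h1 : IsAdjointClosedFor (polar Q) K) (h2 : ¬ IsSelfAdjointFor (polar Q) K)
      (h3 : ∀ k ∈ K, ∃ c, ∀ v, Q (k *ᵥ v) = c * Q v) (h : Over (omegaGL Q) H (subalgebraNormalizer K))
  | tenso (n₁ n₂ : ℕ) (hn : n₁ * n₂ = Fintype.card ι) (ho : Odd (Fintype.card F)) (h3 : 3 ≤ n₁)
      (hle : n₁ ≤ n₂) (he : n₁ = n₂ → Even n₁) (h5 : n₁ = 3 → 5 ≤ Fintype.card F)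
      (e : ι ≃ Fin n₁ × Fin n₂) (P : GL ι F) (f₁ : (Fin n₁ → F) → (Fin n₁ → F) → F)
      (f₂ : (Fin n₂ → F) → (Fin n₂ → F) → F) (h1 : IsSymmetricForm f₁) (h2 : IsSymmetricForm f₂)
      (hm : n₁ = 3 → n₂ = 4 → ¬ IsPlusTypeOn (fun v => f₂ v v) ⊤ ∧ ¬ Plus Q)
      (hs : IsTensorFormStructure id (polar Q) f₁ f₂ e P)
      (h : Over (omegaGL Q) H (tensorProductSubgroup n₁ n₂ e P))
  | tenss (n₁ n₂ : ℕ) (hn : n₁ * n₂ = Fintype.card ι) (he₁ : Even n₁) (he₂ : Even n₂) (h3 : 2 ≤ n₁)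
      (hle : n₁ ≤ n₂) (hp : n₁ = 2 → 3 ≤ Fintype.card F ∧ Plus Q)
      (e : ι ≃ Fin n₁ × Fin n₂) (P : GL ι F) (f₁ : (Fin n₁ → F) → (Fin n₁ → F) → F)
      (f₂ : (Fin n₂ → F) → (Fin n₂ → F) → F) (h1 : IsSymplecticForm f₁) (h2 : IsSymplecticForm f₂)
      (hs : IsTensorFormStructure id (polar Q) f₁ f₂ e P)
      (h0 : ∀ (x₁ : Fin n₁ → F) (x₂ : Fin n₂ → F),
        Q ((P : Matrix ι ι F) *ᵥ ((fun a : Fin n₁ × Fin n₂ => x₁ a.1 * x₂ a.2) ∘ e)) = 0)
      (h : Over (omegaGL Q) H (tensorProductSubgroup n₁ n₂ e P))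
  | sub (F₀ : Subfield F) (r : ℕ) (P : GL ι F) (ζ : F) (hr : r.Prime)
      (hc : Fintype.card F = Nat.card F₀ ^ r) (h0 : ζ ≠ 0)
      (h1 : IsQuadFormRationalStructure (fun v => ζ * Q v) F₀ P)
      (hp : Even (Fintype.card ι) → ¬ Plus Q → Odd r) (h : Over (omegaGL Q) H (subfieldSubgroup F₀ P))
  | extra (k : ℕ) (hn : Fintype.card ι = 2 ^ k) (hp : Plus Q)
  | pow (k t : ℕ) (hn : k ^ t = Fintype.card ι) (hk : 3 ≤ k) (hk' : Odd k) (ht : 2 ≤ t)
      (ho : Odd (Fintype.card F)) (h5 : ¬ (Fintype.card F = 3 ∧ k = 3)) (e : ι ≃ (Fin t → Fin k))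
      (P : GL ι F) (f₁ : (Fin k → F) → (Fin k → F) → F) (h1 : IsSymmetricForm f₁)
      (hs : IsTensorPowerFormStructure id (polar Q) f₁ e P)
      (h : Over (omegaGL Q) H (tensorWreathSubgroup k t e P))
  | powe (k t : ℕ) (hn : k ^ t = Fintype.card ι) (hk : Even k) (ht : 2 ≤ t) (hp : k = 2 → Plus Q)
  | res (h : InOrthogonalResidualClass H)

/-- The standing hypotheses. -/
structure OCtx (Q : (ι → F) → F) (H₀ H : Subgroup (GL ι F)) : Prop
    extends Ctx (RingHom.id F) 1 (polar Q) (omegaGL Q) H where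
  nq : NQ Q
  seven : 7 ≤ Fintype.card ι
  le : H₀ ≤ H
  ge : H ≤ H₀ ⊔ scalars ι F
  om : H₀ ≤ omegaGL Q
  isom : H ≤ isometryGroup F Q

namespace OCtx

variable [Fintype F] {H₀ H : Subgroup (GL ι F)} (h : OCtx Q H₀ H)
include h

theorem sub (hI : Irr H) (hs : Sub5 (polar Q) H) : OCase Q H₀ := by
  obtain ⟨F₀, r, P, ζ, h1, h2, h3, h4, h5⟩ := hs
  have := h.seven
  have h6 := h.nq.rational (by omega) hI h.isom h3 h4 h5
  exact .sub F₀ r P ζ h1 h2 h4 h6 (fun he hp => h1.odd_of_ne_two (by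
    rintro rfl; exact hp (h.nq.plus_of_sub he (by omega) h2 h4 h6)))
    ⟨h.le.trans h3, h.cl.not_le_subfield (ne_top_of_card_pow h1.two_le h2) P⟩

theorem frame (hI : Irr H) {t : ℕ} {D : Fin t → Submodule F (ι → F)}
    (hD : IsOrthogonalMDecomposition Q 1 D) (hH : H ≤ decompositionStabilizer D) : OCase Q H₀ := by
  rcases card_prime_or (F := F) with h1 | h1
  swap
  · exact h.sub hI (h.nq.sub5_frame hI h.isom hH hD h1)
  have h2 := hD.decomp.decomp.two_le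
  exact .dec t 1 h2 (IsMDecomposition.mul_eq hD.decomp.decomp) D hD (fun _ => h.nq.odd_card
    (hD.decomp.nondegenerate ⟨0, by omega⟩) (by simp [hD.decomp.decomp.finrank_eq])) (fun _ => h1)
    (by simp) (by simp) (by simp) (by simp) ⟨h.le.trans hH, h.nd t 1 D hD.decomp⟩

theorem frame' (hI : Irr H) {t k : ℕ} {D : Fin t → Submodule F (ι → F)}
    (hD : IsOrthogonalMDecomposition Q k D) (hH : H ≤ decompositionStabilizer D) (hk : 2 ≤ k)
    (ho : Odd (Fintype.card F)) (i : Fin t) {c : F} (hc : c ≠ 0)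
    (hp : ∀ u ∈ D i, ∀ v ∈ D i, Q u = c → Q v = c → v ∈ Submodule.span F {u} ∨ polar Q u v = 0) :
    OCase Q H₀ :=
  let ⟨v, hv⟩ := Quad.exists_Q_eq (h.nq.nd (hD.decomp.nondegenerate i))
    (hD.decomp.decomp.finrank_eq i ▸ hk) c
  let ⟨_, h1, h2⟩ := h.nq.frame hI h.isom hH hD (two_ne_zero_of_odd ho) hc ⟨v, v.2, hv⟩ hp
  h.frame hI h1 h2

theorem planes (hI : Irr H) {t : ℕ} {D : Fin t → Submodule F (ι → F)}
    (hD : IsOrthogonalMDecomposition Q 2 D) (hH : H ≤ decompositionStabilizer D) : OCase Q H₀ := by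
  have h2 := hD.decomp.decomp.two_le
  let i : Fin t := ⟨0, by omega⟩
  have h3 := hD.decomp.nondegenerate
  have h4 := hD.decomp.decomp.finrank_eq
  have key : Fintype.card F ≠ 3 → ((∀ i, IsPlusTypeOn Q (D i)) → 7 ≤ Fintype.card F) → OCase Q H₀ :=
    fun h5 h6 => .dec t 2 h2 (IsMDecomposition.mul_eq hD.decomp.decomp) D hD (absurd · (by decide)) (by simp)
      (fun _ => h5) (fun _ => h6) (by simp) (by simp) ⟨h.le.trans hH, h.nd t 2 D hD.decomp⟩
  rcases h.nq.type_even hD even_two with ⟨h5, -⟩ | ⟨h5, -⟩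
  swap
  · by_cases h6 : Fintype.card F = 3
    · exact h.frame' hI hD hH le_rfl (by rw [h6]; decide) i one_ne_zero
        (h.nq.plane_minus h6 (h4 i) (h5 i))
    · exact key h6 fun h7 => absurd (h7 i) (h5 i)
  have h6 := h.nq.not_plus_planes hI h.isom hH hD.decomp h5
  have h7 : Fintype.card F ≠ 6 := fun h7 => absurd (h7 ▸ FiniteField.isPrimePow_card F) (by decide)
  obtain h8 | h8 | h8 : Fintype.card F = 4 ∨ Fintype.card F = 5 ∨ 7 ≤ Fintype.card F := by omega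
  · obtain ⟨v, hv⟩ := Quad.exists_Q_eq (h.nq.nd (h3 i)) (h4 i).ge 1
    refine h.sub hI (h.nq.sub5_dec hI h.isom hH hD.decomp (card_prime_or.resolve_left (by rw [h8]; decide))
      one_ne_zero ⟨v, v.2, hv⟩ fun j u hu v hv h9 h10 => ?_)
    rcases h.nq.plane_four h8 (h3 j) (h4 j) (h5 j) hu hv h9 h10 with h | h <;> simp [h]
  · exact h.frame' hI hD hH le_rfl (by rw [h8]; decide) i one_ne_zero
      (h.nq.plane_five h8 (h3 i) (h4 i) (h5 i))
  · exact key (by omega) fun _ => h8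

theorem dec {t k : ℕ} (hI : 3 ≤ t → Irr H) {D : Fin t → Submodule F (ι → F)}
    (hD : IsOrthogonalMDecomposition Q k D) (hH : H ≤ decompositionStabilizer D) : OCase Q H₀ := by
  have h2 := hD.decomp.decomp.two_le
  have h3 := IsMDecomposition.mul_eq hD.decomp.decomp
  have h7 := h.seven
  let i : Fin t := ⟨0, by omega⟩
  have ho : Odd k → Odd (Fintype.card F) := fun hk =>
    h.nq.odd_card (hD.decomp.nondegenerate i) (hD.decomp.decomp.finrank_eq i ▸ hk)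
  by_cases h4 : k = 1
  · subst h4; exact h.frame (hI (by omega)) hD hH
  by_cases h5 : k = 2
  · subst h5; exact h.planes (hI (by omega)) hD hH
  by_cases h6 : k = 3 ∧ Fintype.card F = 3
  · obtain ⟨rfl, h6⟩ := h6
    obtain ⟨c, hc, h8⟩ := h.nq.space_three h6 (hD.decomp.nondegenerate i) (hD.decomp.decomp.finrank_eq i)
    exact h.frame' (hI (by omega)) hD hH (by decide) (ho (by decide)) i hc h8
  by_cases h8 : k = 4 ∧ 3 ≤ t ∧ (∀ i, IsPlusTypeOn Q (D i)) ∧ Fintype.card F = 2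
  · obtain ⟨rfl, h8, h9, h10⟩ := h8
    obtain ⟨s, E, h11, h12, -⟩ := h.nq.minus_planes (hI h8) h.isom hH h10 hD.decomp h9
    exact h.planes (hI h8) h11 h12
  have : 2 ≤ Fintype.card F := Fintype.one_lt_card
  exact .dec t k h2 h3 D hD ho (absurd · h4) (absurd · h5) (absurd · h5) (by
    rintro rfl; have := odd_cases (ho (by decide)); omega)
    (fun h9 h10 h11 => by_contra fun h12 => h8 ⟨h9, h10, h11, by omega⟩)
    ⟨h.le.trans hH, h.nd t k D hD.decomp⟩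

theorem dec' (hI : Irr H) {t k : ℕ} {D : Fin t → Submodule F (ι → F)} (hD : Dec (polar Q) H k D) :
    OCase Q H₀ :=
  h.dec (fun _ => hI) ⟨hD.nd, fun i j =>
    let ⟨g, hg, h1⟩ := hD.trans i j
    h.nq.iso_iff.2 (Form.iso_of_map (g := ⟨glEquiv ι F g, quad_isIsometry (map_add _)
      (mem_isometryGroup_iff.1 (h.isom hg))⟩) h1)⟩ hD.le

theorem nondeg {W : Submodule F (ι → F)} (h0 : W ≠ ⊥) (h1 : IsNondegenerateOn (polar Q) W)
    (h2 : 2 * finrank F W ≤ Fintype.card ι) (h3 : 2 * finrank F W = Fintype.card ι →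
      Even (finrank F W) ∧ ¬ Plus Q) (h4 : finrank F W = 2 → IsPlusTypeOn Q W → 4 ≤ Fintype.card F)
    (hI : Inv H W) : OCase Q H₀ := by
  have h7 := h.seven
  have ht : W ≠ ⊤ := by rintro rfl; simp at h2; omega
  by_cases h5 : Odd (finrank F W) → Even (Fintype.card ι)
  · exact .nd W h0 ht h1 (fun _ => h2) h3 h4 (fun h6 => ⟨h.nq.odd_card h1 h6, h5 h6⟩)
      ⟨h.le.trans hI.le_stab, h.cl.not_le_stab h0 ht⟩
  have h6 := h.hm.finrank_perp W
  simp only [Classical.not_imp, Nat.odd_iff, Nat.even_iff] at h5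
  exact .nd _ (h.hm.perp_ne_bot ht) (h.hm.perp_ne_top h0) (h.hm.nondegOn_perp h1)
    (fun h => absurd (Nat.even_iff.1 h) h5.2) (by omega) (by omega) (by rw [Nat.odd_iff]; omega)
    ⟨h.le.trans (h.hm.inv_perp h.sim hI).le_stab,
      h.cl.not_le_stab (h.hm.perp_ne_bot ht) (h.hm.perp_ne_top h0)⟩

theorem pt {v : ι → F} (h0 : Q v ≠ 0) (hI : Inv H (Submodule.span F {v})) : OCase Q H₀ := by
  have h7 := h.seven
  have h1 := h.nq.ne_zero rfl h0
  have h2 := finrank_span_singleton (K := F) h1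
  have h3 := (Submodule.span_singleton_eq_bot (R := F)).not.2 h1
  by_cases ho : Odd (Fintype.card F)
  · refine h.nondeg h3 (h.hm.nondegOn_iff.2 (eq_bot_iff.2 fun w ⟨hw, hw'⟩ => ?_)) (by omega) (by omega)
      (by omega) hI
    obtain ⟨c, rfl⟩ := Submodule.mem_span_singleton.1 hw
    have := hw' v (Submodule.mem_span_singleton_self v)
    simp_all [h.hm.smul_left, h.nq.self, two_ne_zero_of_odd ho]
  · exact .pt ho v h0 ⟨h.le.trans hI.le_stab, h.cl.not_le_stab h3 fun h => by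
      rw [h, finrank_top, finrank_fintype_fun_eq_card] at h2; omega⟩

theorem red (hI : ¬ Irr H) : OCase Q H₀ := by
  have h7 := h.seven
  rcases h.nq.reducible h.isom hI with ⟨W, h0, h1, h2⟩ | ⟨W, h0, h1, h2, h3⟩ | ⟨-, v, h0, h1⟩
  · by_cases h3 : Plus Q ∧ 2 * (finrank F W + 1) = Fintype.card ι
    · obtain ⟨U, h4, h5, h6⟩ := h.nq.exists_max (by omega) h3.1 h.om h1 (h2.mono h.le) h3.2
      have h8 : U ≠ ⊥ := by rintro rfl; simp at h5; omega
      exact .ts U h8 h4 (by omega) ⟨h6.le_stab, h.cl.not_le_stab h8 (h.hm.ne_top_of_ts (NQ.ts h4) h8)⟩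
    · exact .ts W h0 h1 (by tauto)
        ⟨h.le.trans h2.le_stab, h.cl.not_le_stab h0 (h.hm.ne_top_of_ts (NQ.ts h1) h0)⟩
  swap
  · exact h.pt h0 h1
  by_cases h4 : finrank F W = 2 ∧ IsPlusTypeOn Q W ∧ Fintype.card F ≤ 3
  · obtain ⟨v, hv, h5, h6, -⟩ := h.nq.plane_three h4.2.2 h1 h4.1 h4.2.1
    refine h.pt (v := v) (h5 ▸ one_ne_zero) fun g hg w hw => ?_
    obtain ⟨c, rfl⟩ := Submodule.mem_span_singleton.1 hw
    rw [mulVec_smul]
    exact Submodule.smul_mem _ _ (h6 _ (h3 g hg v hv) ((mem_isometryGroup_iff.1 (h.isom hg) v).trans h5))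
  have h4 : finrank F W = 2 → IsPlusTypeOn Q W → 4 ≤ Fintype.card F := fun h5 h6 =>
    by_contra fun h8 => h4 ⟨h5, h6, by omega⟩
  by_cases h5 : 2 * finrank F W = Fintype.card ι
  swap
  · exact h.nondeg h0 h1 h2 (absurd · h5) h4 h3
  have h6 := h.hm.halves h0 h1 h5
  have h8 : H ≤ decompositionStabilizer ![W, h.hm.perp W] := le_dec_of_inv fun i => by
    fin_cases i
    exacts [h3, h.hm.inv_perp h.sim h3]
  by_cases h9 : AreIsometricFor Q W (h.hm.perp W)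
  · refine h.dec (by omega) ⟨h6, fun i j => h.nq.iso_iff.2 ?_⟩ h8
    have := h.nq.iso_iff.1 h9
    fin_cases i <;> fin_cases j
    exacts [.refl _, this, this.symm, .refl _]
  rcases h.nq.type_half h6 h9 with h10 | ⟨h10, h11, h12⟩
  · exact h.nondeg h0 h1 h2 (fun _ => h10) h4 h3
  · exact .half _ h5 h10 h11 h12 _ h6 h9 ⟨h.le.trans h8, h.cl.not_le_dec_two h6.decomp⟩

theorem pair (hI : Irr H) {e : Fin 2 → Matrix ι ι F} (he : IdemSys H e)
    (h1 : adj (RingHom.id F) (polar Q) (e 0) = e 1) : OCase Q H₀ := by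
  have h7 := h.seven
  have h2a : e 0 + e 1 = 1 := by simpa using he.sum
  have h2 : ∀ i, e i + adj (RingHom.id F) (polar Q) (e i) = 1 := Fin.forall_fin_two.2
    ⟨h1 ▸ h2a, by rw [← h1, h.hm.adj_adj, h1, add_comm, h2a]⟩
  have h3 : ∀ i, IsTotallySingularQuad Q (rg (e i)) := fun i => h.nq.plus_of_theta (he.idem i) (h2 i)
    (.inr (h.nq.eq_theta (by omega) hI h.isom (h2 i) fun g hg => .inl (by
      obtain ⟨j, hj⟩ := he.perm g hg i
      rw [hj, he.comm])))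
  obtain ⟨k, hk⟩ := he.isMDecomposition le_rfl
  have h4 := IsMDecomposition.mul_eq hk
  refine .pair k h4 ?_ (h.nq.plus_of_idem (he.idem 0) (h2 0) (h3 0)).1 _ hk h3
    ⟨h.le.trans he.le_stab, h.cl.not_le_dec_two hk⟩
  obtain ⟨g₀, hg₀, h5⟩ := he.trans 0 1
  obtain ⟨g, hg, z, hz, rfl⟩ := (mem_sup_center scalars_le_center).1 (h.ge hg₀)
  have := h.nq.omega_even (by omega) (h3 0) (by rw [hk.finrank_eq 0, h4]) (h.om hg)
  rw [cj_mul, cj_of_mem_scalars hz] at h5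
  rwa [map_rg, h5, disjoint_iff.1 (hk.indep.pairwiseDisjoint (zero_ne_one' (Fin 2))), finrank_bot,
    hk.finrank_eq 0] at this

theorem fld (hI : Irr H) {r : ℕ} {K : Subalgebra F (Matrix ι ι F)}
    (hK : Fld (RingHom.id F) (polar Q) H r K)
    (hr : IsSelfAdjointFor (polar Q) K → 2 * r ≠ Fintype.card ι) : OCase Q H₀ := by
  have := h.nonempty
  have h7 := h.seven
  have hK' : Over (omegaGL Q) H₀ (subalgebraNormalizer K) :=
    ⟨h.le.trans hK.nz.le_normalizer, h.cl.not_le_field hK.prime.two_le hK.field⟩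
  have h0 : r ∣ Fintype.card ι := by
    simpa using IsFieldSubalgebra.dvd_finrank hK.field (W := ⊤) fun _ _ _ _ => trivial
  by_cases h1 : IsSelfAdjointFor (polar Q) K
  · refine .fld r hK.prime h0 (hK.ne_card h.hm h.iso h1) (hr h1) (fun ho => h.hm.two_mul_dvd hK.field hK.ac
      fun k hk v => ?_) K hK.field h1 hK'
    obtain ⟨l, hl, rfl⟩ := IsFieldSubalgebra.exists_sq (two_eq_zero_of_not_odd ho) hK.field hk
    rw [← mulVec_mulVec, h1 l hl, h.nq.alt (two_eq_zero_of_not_odd ho)]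
  obtain ⟨rfl, h2, θ, h3, h4⟩ := h.hm.field_not_self hK.prime hK.field hK.ac h1
  have h5 := h.nq.eq_theta (by omega) hI h.isom h4 fun g hg => .inl
    (hK.field.comm _ h3 _ (hK.nz g hg θ h3))
  have h6 : ∀ k ∈ K, ∃ c, ∀ v, Q (k *ᵥ v) = c * Q v := fun k hk =>
    (h2 _ (mul_mem (hK.ac k hk) hk) (by rw [h.hm.adj_mul, h.hm.adj_adj])).imp fun c hc v => by
      rw [h5, h5, mulVec_mulVec, hK.field.comm _ h3 k hk, ← mulVec_mulVec, h.hm.adj_spec, mulVec_mulVec, hc,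
        smul_mulVec, one_mulVec, h.hm.smul_right, RingHom.id_apply]
  exact .fldu (even_iff_two_dvd.2 h0) (h.nq.four_dvd hK.field h6) K hK.field
    (h.hm.isAdjointClosedFor.2 hK.ac) h1 h6 hK'

theorem comm (hI : Irr H) (hc : CommCase (RingHom.id F) (polar Q) H) : OCase Q H₀ := by
  have := h.nonempty
  have h7 := h.seven
  rcases hc with ⟨t, k, D, hD⟩ | ⟨e, he, h1⟩ | ⟨r, K, hK⟩
  · exact h.dec' hI hD
  · exact h.pair hI he h1
  by_cases h1 : IsSelfAdjointFor (polar Q) K ∧ 2 * r = Fintype.card ι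
  swap
  · exact h.fld hI hK (by tauto)
  obtain ⟨y, s, t, hy, h2, h3, h4⟩ := h.nq.descend hK.field h1.1 h1.2
    (hK.prime.odd_of_ne_two (by omega)) h.isom hK.nz
  rcases h.hm.comm_two (by omega) hI h.sim hy h2 h3 h4 with ⟨t, k, D, hD⟩ | ⟨e, he, h1⟩ | ⟨K, hK⟩
  · exact h.dec' hI hD
  · exact h.pair hI he h1
  · exact h.fld hI hK (by omega)

theorem tenss {n₁ n₂ : ℕ} {e : ι ≃ Fin n₁ × Fin n₂} {P : GL ι F} {A₁ : Matrix (Fin n₁) (Fin n₁) F}
    {A₂ : Matrix (Fin n₂) (Fin n₂) F} {ε₁ ε₂ : F}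
    (hT : Tens (RingHom.id F) 1 (polar Q) (omegaGL Q) H e P A₁ A₂ ε₁ ε₂) (hle : n₁ ≤ n₂)
    (h1 : ∀ v, formOfGram (RingHom.id F) A₁ v v = 0) (h2 : ∀ v, formOfGram (RingHom.id F) A₂ v v = 0) :
    OCase Q H₀ := by
  have h3 : 2 ≤ n₁ := by simpa using hT.two₁
  by_cases h4 : n₁ = 2 ∧ Fintype.card F = 2
  · obtain ⟨rfl, h4⟩ := h4
    exact h.comm hT.irr (hT.swap.comm_of_W2 h4 h.hm h.iso fun _ => rfl)
  have : 2 ≤ Fintype.card F := Fintype.one_lt_card
  have h5 := hT.hm₁.symplectic h1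
  have h6 := hT.hm₂.symplectic h2
  exact .tenss n₁ n₂ (by simpa using hT.card_eq) (by simpa using IsSymplecticForm.even h5)
    (by simpa using IsSymplecticForm.even h6) h3 hle
    (by rintro rfl; exact ⟨by omega, hT.plus_two h.nq h.isom h1 h2⟩) e P _ _ h5 h6
    (h.hm.tensor_struct hT.gram) (hT.pure_sing h.nq h.isom h2 h1)
    ⟨h.le.trans (hT.nz.le_tensor h3 (by omega)), fun hc => hT.not_nz (nzL_of_le_tensor hc)⟩

theorem tens34 (h2 : (2 : F) ≠ 0) {e : ι ≃ Fin 3 × Fin 4} {P : GL ι F} {A₁ : Matrix (Fin 3) (Fin 3) F}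
    {A₂ : Matrix (Fin 4) (Fin 4) F} (hT : Tens (RingHom.id F) 1 (polar Q) (omegaGL Q) H e P A₁ A₂ 1 1)
    (hp : IsPlusTypeOn (fun v => formOfGram (RingHom.id F) A₂ v v) ⊤) : OCase Q H₀ := by
  have := hT.ne
  have hn : Fintype.card ι = 12 := by simpa using hT.card_eq.symm
  obtain ⟨e', P', h1⟩ := hT.hm₂.exists_jj h2 hp
  let χ := (tr e' P').toAlgHom.comp (kl _ _ F)
  let φ := ((tr e P).toAlgHom.comp (kr _ _ F)).comp χ
  have h3 : ∀ a, adj _ (formOfGram (RingHom.id F) A₂) (χ a) = χ (adjugate a) := fun a =>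
    (hT.hm₂.adj_jj h1 a 1).trans (by rw [adjugate_one]; rfl)
  have h4 : ∀ a, adj (RingHom.id F) (polar Q) (φ a) = φ (adjugate a) := fun a =>
    (hT.adj_kr h.hm _).trans (congrArg (tr e P <| 1 ⊗ₖ ·) (h3 a))
  have h5 : φ (single 0 0 1) * φ (single 0 0 1) = φ (single 0 0 1) := by
    rw [← map_mul, single_mul_single_same, mul_one]
  have h6 : φ (single 0 0 1) + adj (RingHom.id F) (polar Q) (φ (single 0 0 1)) = 1 := by
    rw [h4, ← map_add, e00_spec, map_one]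
  have h7 := h.nq.plus_of_theta h5 h6 (.inl h2)
  have h8 := (h.nq.plus_of_idem h5 h6 h7).2
  obtain ⟨l, e₂, P₂, h9⟩ := exists_tr_of_algHom φ
  obtain rfl : l = 6 := by have := Fintype.card_congr e₂; simp at this; omega
  obtain ⟨B₁, B₂, ε₁, ε₂, h10, h11, h12, h13⟩ := (h.hm.pull e₂ P₂).exists_kron fun y =>
    ⟨adjugate y, (tr e₂ P₂).injective (by
      rw [← h.hm.adj_tr]
      change adj _ _ (tr e₂ P₂ (y ⊗ₖ 1)) = tr e₂ P₂ (adjugate y ⊗ₖ 1)
      rw [← h9, ← h9, h4])⟩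
  have h14 : ∀ y, adj _ (formOfGram (RingHom.id F) B₁) y = adjugate y := fun y =>
    kl_injective (μ := Fin 6) ((tr e₂ P₂).injective (by
      have := h.hm.adj_kron h10 h11 h13 y 1
      rw [h11.adj_one, ← h9, h4, h9] at this
      exact this.symm))
  obtain rfl : ε₁ = -1 := h10.eps_or.resolve_left (by
    rintro rfl
    obtain ⟨y, -, -, -, -, hy⟩ := h10.exists_skew_two h2
    obtain ⟨a, ha⟩ := hy (single 0 1 1) (by rw [h14]; ext i j; fin_cases i <;> fin_cases j <;> simp [adjugate_fin_two])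
    obtain ⟨b, hb⟩ := hy (single 1 0 1) (by rw [h14]; ext i j; fin_cases i <;> fin_cases j <;> simp [adjugate_fin_two])
    have h15 := congrFun₂ ha 0 1
    have h16 := congrFun₂ ha 1 0
    have h17 := congrFun₂ hb 1 0
    simp at h15 h16 h17
    rcases h16 with h | h <;> simp [h] at h15 h17)
  obtain rfl : ε₂ = -1 := by linear_combination -h12
  let x := Units.map φ.toMonoidHom (tv (show (0 : Fin 2) ≠ 1 by decide) (1 : F))
  refine h.tenss ⟨hT.irr, hT.top, by simp, by simp, fun g₀ hg₀ y => ?_, h.cl.not_nzL (by simp) (x := x)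
    (h.nq.wit h2 (isoG_le_sim (h.hm.mem_isoG_of_adj ((congrArg (· * _) (h4 _)).trans
      ((map_mul φ _ _).symm.trans (by rw [adjugate_mul, mem_sl.1 (tv_mem _ _), one_smul, map_one])))))
      fun hs => not_isSc_tv _ (isSc_of_map φ φ.toRingHom.injective (mem_scalars_iff_isSc.1 hs)))
    (h9 _), h10, h11, h12, h13⟩ (by decide) (h10.alt h2) (h11.alt h2)
  obtain ⟨g, hg, z, hz, rfl⟩ := (mem_sup_center scalars_le_center).1 (h.ge hg₀)
  simp only [cj_mul, cj_of_mem_scalars hz, kl_apply, ← h9]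
  obtain ⟨a, b, hb, hab⟩ := hT.exists_kron (h.le hg)
  have h15 : ∀ y, cj g (φ y) = tr e P (1 ⊗ₖ cj b (χ y)) := fun y => (cj_kron hab _ _).trans (by
    rw [map_one]; rfl)
  rcases range_side h2 hT.hm₂ h1 ((cj b).toAlgHom.comp χ) (fun a =>
    (hT.hm₂.adj_cj (hT.facR_sim h.hm h.iso hb) _).trans (congrArg _ (h3 a))) with h16 | h16
  · exact (h16 y).imp fun y' hy => (h15 y).trans (congrArg (tr e P <| 1 ⊗ₖ ·) hy)
  obtain ⟨y', hy⟩ := h16 (single 0 0 1)
  have h17 := h.nq.omega_even (by omega) h7 h8 (h.om hg)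
  have h18 := finrank_eq_two_mul φ (W := (rg (φ (single 0 0 1))).map (toLin' g.1)) fun a w hw => by
    rw [map_rg, h15, show cj b (χ _) = _ from hy] at hw ⊢
    obtain ⟨v, rfl⟩ := hw
    refine ⟨φ a *ᵥ v, ?_⟩
    have h19 : φ a = tr e P (1 ⊗ₖ tr e' P' (a ⊗ₖ 1)) := rfl
    simp only [h19, toLin'_apply, mulVec_mulVec, ← map_mul, ← mul_kronecker_mul, mul_one, one_mul]
  rw [finrank_map_gl] at h18
  rw [Nat.even_iff] at h17
  omega

theorem tenso (ho : Odd (Fintype.card F)) {n₁ n₂ : ℕ} {e : ι ≃ Fin n₁ × Fin n₂} {P : GL ι F}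
    {A₁ : Matrix (Fin n₁) (Fin n₁) F} {A₂ : Matrix (Fin n₂) (Fin n₂) F}
    (hT : Tens (RingHom.id F) 1 (polar Q) (omegaGL Q) H e P A₁ A₂ 1 1) (hle : n₁ ≤ n₂) : OCase Q H₀ := by
  have h2 := two_ne_zero_of_odd ho
  obtain rfl | h3 : 2 = n₁ ∨ 3 ≤ n₁ := by have := hT.two₁; simp at this; omega
  · exact h.comm hT.irr (hT.swap.comm_of_o2 h2 h.hm h.iso)
  by_cases h5 : n₁ = 3 ∧ Fintype.card F = 3
  · obtain ⟨rfl, h5⟩ := h5
    obtain ⟨D, h6, h7⟩ := hT.hm₁.frame_three h5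
    exact h.comm hT.irr (hT.swap.comm_of_dec h.hm h.iso h6 ((hT.swap.facR_sim h.hm h.iso).trans h7))
  by_cases h6 : n₁ = 3 ∧ n₂ = 4 ∧ IsPlusTypeOn (fun v => formOfGram (RingHom.id F) A₂ v v) ⊤
  · obtain ⟨rfl, rfl, h6⟩ := h6
    exact h.tens34 h2 hT h6
  by_cases h7 : n₁ = n₂ ∧ Odd n₁
  swap
  · exact .tenso n₁ n₂ (by simpa using hT.card_eq) ho h3 hle
      (fun h8 => Nat.not_odd_iff_even.1 fun h9 => h7 ⟨h8, h9⟩) (by have := odd_cases ho; omega) e P _ _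
      hT.hm₁.symmetric hT.hm₂.symmetric (by
        rintro rfl rfl
        rw [hT.plus_iff h2 h.nq]
        tauto) (h.hm.tensor_struct hT.gram)
      ⟨h.le.trans (hT.nz.le_tensor (by omega) (by omega)), fun hc => hT.not_nz (nzL_of_le_tensor hc)⟩
  obtain ⟨rfl, h7⟩ := h7
  obtain ⟨e₁, P₁, h8⟩ := hT.hm₁.exists_std_odd h2 (Fintype.card_fin _) h7
  obtain ⟨e₂, P₂, h9⟩ := hT.hm₂.exists_std_odd h2 (Fintype.card_fin _) h7
  obtain ⟨e', P', A, ε₁, c, h10, h11, h12, h13, -, h14⟩ := hT.exists_pow h.hm (k := n₁) (by omega)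
    (e₁ := e₁) (P₁ := P₁) (e₂ := e₂) (P₂ := P₂) fun x => by rw [h8, h9]
  have : NeZero n₁ := ⟨by omega⟩
  obtain rfl : ε₁ = 1 := h12.eps_or.resolve_right (by
    rintro rfl
    exact Nat.not_even_iff_odd.2 h7 (by simpa using IsSymplecticForm.even (h12.symplectic (h12.alt h2))))
  obtain ⟨a, h15, h16⟩ := hT.exists_wit h.hm h.iso
  exact .pow n₁ 2 (by simpa using (Fintype.card_congr e').symm) h3 h7 le_rfl ho (by tauto) e' P' _
    h12.symmetric (h.hm.power_struct h13 h14) ⟨h.le.trans h11, h.cl.not_le_wreath (by omega) le_rfl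
      (h.nq.wit h2 h15 h16) (a := (tr e₁ P₁).symm a) (by rw [← h10, AlgEquiv.apply_symm_apply]; rfl)⟩

theorem tens {n₁ n₂ : ℕ} {e : ι ≃ Fin n₁ × Fin n₂} {P : GL ι F} {A₁ : Matrix (Fin n₁) (Fin n₁) F}
    {A₂ : Matrix (Fin n₂) (Fin n₂) F} {ε₁ ε₂ : F}
    (hT : Tens (RingHom.id F) 1 (polar Q) (omegaGL Q) H e P A₁ A₂ ε₁ ε₂) (hle : n₁ ≤ n₂) :
    OCase Q H₀ := by
  by_cases ho : Odd (Fintype.card F)
  · have h2 := two_ne_zero_of_odd ho
    rcases hT.symm_eps with ⟨rfl, rfl⟩ | ⟨rfl, rfl⟩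
    · exact h.tenso ho hT hle
    · exact h.tenss hT hle (hT.hm₁.alt h2) (hT.hm₂.alt h2)
  · have h2 := two_eq_zero_of_not_odd ho
    exact h.tenss hT hle (hT.swap.alt_two h2 h.hm h.iso) (hT.alt_two h2 h.hm h.iso)

theorem oCase : OCase Q H₀ := by
  have := h.nonempty
  have h7 := h.seven
  rcases h.fcase h.le h.ge with hI | ⟨hI, hc⟩ | ⟨n₁, n₂, e, P, A₁, A₂, ε₁, ε₂, hT⟩ | ⟨hI, hs⟩ |
    ⟨-, R, r, k, hR⟩ | ⟨t, k, e, P, A, ε₁, c, hP⟩ | ⟨L, hL⟩
  · exact h.red hI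
  · exact h.comm hI hc
  · exact (le_total n₁ n₂).elim (h.tens hT) (h.tens hT.swap)
  · exact h.sub hI hs
  · obtain ⟨rfl, -⟩ := hR.eq_two h.hm (h.iso.mono hR.le)
    exact .extra k hR.card_ι (hR.plus h.nq (by omega) (h.iso.mono hR.le))
  · have hn : k ^ t = Fintype.card ι := by simpa using (Fintype.card_congr e).symm
    have hk := hP.two_k
    rcases Nat.even_or_odd k with h1 | h1
    · exact .powe k t hn h1 hP.two_t (by rintro rfl; exact hP.plus_two h.nq (by omega) h.isom)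
    have ho : Odd (Fintype.card F) := h.nq.odd_card (W := ⊤) (h.hm.nondegOn_iff.2 (by
      rw [top_inf_eq, ← Submodule.finrank_eq_zero]; simpa using h.hm.finrank_perp ⊤))
      (by simpa [← hn] using h1.pow)
    have : NeZero k := ⟨by omega⟩
    obtain rfl : ε₁ = 1 := hP.hm₁.eps_or.resolve_right (by
      rintro rfl
      exact Nat.not_even_iff_odd.2 h1 (by simpa using IsSymplecticForm.even (hP.hm₁.symplectic
        (hP.hm₁.alt (two_ne_zero_of_odd ho)))))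
    exact .pow k t hn (by obtain ⟨l, rfl⟩ := h1; omega) h1 hP.two_t ho
      (by rintro ⟨h3, rfl⟩; exact hP.ne_three h3) e P _ hP.hm₁.symmetric
      (h.hm.power_struct hP.ne hP.gram) ⟨h.le.trans hP.le, hP.not_le⟩
  · exact .res ⟨L, hL.core, fun ⟨τ, f', h2, h3⟩ => h2.ne_refl (RingEquiv.toRingHom_injective
      (hL.form _ _ _ (IsUnitaryForm.hm h2) (isom_iff_fixesForm.2 h3)))⟩

end OCtx

theorem oCase [Fintype F] (hQ : NQ Q) (hn : 7 ≤ Fintype.card ι) {H : Subgroup (GL ι F)}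
    (hH : H ≤ omegaGL Q) : OCase Q H := by
  have hG : Cl (omegaGL Q) := cl_omega (qForm_nondeg hQ) (by omega)
  have := hG.nonempty
  refine OCtx.oCase ⟨ctx_sup hQ.hm hG (isom_iff.2 (omegaGL_le.trans isometryGroup_le)) (noDec_omega hQ hG)
    hH, hQ, hn, le_sup_left, sup_le_sup_left inf_le_left H, hH, sup_le (hH.trans omegaGL_le) ?_⟩
  rintro _ ⟨⟨c, rfl⟩, hc⟩
  refine mem_isometryGroup_iff.2 fun v => ?_
  change Q ((sc ι c).1 *ᵥ v) = _
  rw [coe_sc, smul_mulVec, one_mulVec, hQ.smul, sq, show (c : F) * c = 1 from hQ.hm.norm_of_sc_mem hc, one_mul]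

theorem nq_odd (h2 : (2 : F) ≠ 0) (m : ℕ) : NQ (quadFormOdd m F) := by
  have h : ∀ u v, polar (quadFormOdd m F) u v = (fOdd F m).B u v := polar_toQuad (fOdd F m)
  refine ⟨quad_Q_smul (fOdd F m), ⟨?_, ?_, ?_, ?_⟩, fun v hv => ?_⟩ <;> simp only [h]
  iterate 4 simp
  obtain ⟨w, hw⟩ := not_forall.1 fun h => hv (fOdd_nondeg h2 m v h)
  exact ⟨⟨w, by rwa [← h, QuadraticMap.polar_comm, h]⟩, w, hw⟩

theorem gram_odd_mem (m : ℕ) (F₀ : Subfield F) (i j) : gramMatrix (polar (quadFormOdd m F)) i j ∈ F₀ := by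
  have h : ∀ v : Unit ⊕ Fin m ⊕ Fin m → F, (∀ i, v i ∈ F₀) → quadFormOdd m F v ∈ F₀ := fun v hv =>
    add_mem (pow_mem (hv _) _) (sum_mem fun _ _ => mul_mem (hv _) (hv _))
  have h1 : ∀ i j : Unit ⊕ Fin m ⊕ Fin m, (Pi.single i 1 : _ → F) j ∈ F₀ := fun i j => by
    rw [Pi.single_apply]; split_ifs; exacts [one_mem _, zero_mem _]
  exact sub_mem (sub_mem (h _ fun k => add_mem (h1 i k) (h1 j k)) (h _ (h1 i))) (h _ (h1 j))

end Cfsg.Lib.Asch
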