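import Cfsg.Agent.Lib.Asch.OT

/-! Extension fields for the orthogonal groups. -/

set_option autoImplicit false

namespace Cfsg.Lib.Asch

open Matrix Cfsg.Geo Module Cfsg.Lib.Forms Subgroup
open QuadraticMap (polar)
open scoped MatrixGroups Kronecker commutatorElement

variable {ι : Type} [Fintype ι] [DecidableEq ι] {F : Type*} [Field F] {σ : F →+* F} {ε : F}
  {f : (ι → F) → (ι → F) → F} {Q : (ι → F) → F}

section Abstract

variable {K : Type*} [Field K] [Algebra F K]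

theorem exists_not_comm (ρ : K →ₐ[F] Matrix ι ι F) (h0 : 0 < finrank F K)
    (h : finrank F K * 2 = Fintype.card ι) :
    ∃ x y, (∀ k, x * ρ k = ρ k * x) ∧ (∀ k, y * ρ k = ρ k * y) ∧ x * y ≠ y * x := by
  let _ : Module K (ι → F) := Module.compHom _ (toLinAlgEquiv'.toAlgHom.comp ρ).toRingHom
  have h1 : ∀ (k : K) (v : ι → F), k • v = ρ k *ᵥ v := fun _ _ => rfl
  have : IsScalarTower F K (ι → F) := ⟨fun c k v => by rw [h1, h1, map_smul, smul_mulVec]⟩
  have := Module.Finite.of_restrictScalars_finite F K (ι → F)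
  let b := finBasisOfFinrankEq K (ι → F) (n := 2) (Nat.eq_of_mul_eq_mul_left h0 (by
    rw [finrank_mul_finrank, h, finrank_fintype_fun_eq_card]))
  have key : ∀ x : (ι → F) →ₗ[K] ι → F, ∃ X : Matrix ι ι F, (∀ v, X *ᵥ v = x v) ∧
      ∀ k, X * ρ k = ρ k * X := fun x =>
    have h2 := LinearMap.toMatrix'_mulVec (x.restrictScalars F)
    ⟨_, h2, fun k => mat_ext fun v => by
      rw [← mulVec_mulVec, ← mulVec_mulVec, h2, h2, ← h1, ← h1]; exact map_smul x k v⟩
  obtain ⟨X, h2, h3⟩ := key (b.constr K ![b 1, 0])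
  obtain ⟨Y, h4, h5⟩ := key (b.constr K ![0, b 0])
  refine ⟨X, Y, h3, h5, fun h6 => b.ne_zero 1 ?_⟩
  simpa [← mulVec_mulVec, h2, h4] using congrArg (· *ᵥ b 1) h6

variable [Finite K]

theorem exists_mul_sq (ho : Odd (finrank F K)) {d : K} (hd : d ≠ 0) :
    ∃ k, k ≠ 0 ∧ ∃ c, k * k * d = algebraMap F K c := by
  obtain ⟨a, ha⟩ := ho
  obtain ⟨j, hj⟩ : Odd (∑ i ∈ Finset.range (2 * a + 1), Nat.card F ^ i) := by
    clear ha
    induction a with
    | zero => simp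
    | succ a ih =>
      rw [mul_add, mul_one, add_right_comm, Finset.sum_range_succ, Finset.sum_range_succ, add_assoc,
        pow_succ _ (2 * a + 1), ← mul_one_add, pow_succ, mul_assoc, add_comm 1]
      exact ih.add_even ((Nat.even_mul_succ_self _).mul_left _)
  exact ⟨d ^ j, pow_ne_zero _ hd, _, by
    rw [FiniteField.algebraMap_norm_eq_pow_sum, ha, hj]; ring⟩

theorem exists_add_sq (h2 : (2 : F) = 0) (ho : Odd (finrank F K)) (d : K) :
    ∃ k c, k * k + k + d = algebraMap F K c := by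
  have h3 : (2 : K) = 0 := by rw [← map_ofNat (algebraMap F K), h2, map_zero]
  have := Finite.of_injective _ (algebraMap F K).injective
  have := Fintype.ofFinite F
  have : CharP F 2 := (CharP.charP_iff_prime_eq_zero Nat.prime_two).2 (by exact_mod_cast h2)
  obtain ⟨e, -, he⟩ := FiniteField.card F 2
  have h4 : ∀ j, ∃ k, k * k + k + d = d ^ 2 ^ j := fun j => by
    induction j with
    | zero => exact ⟨0, by simp⟩
    | succ j ih =>
      obtain ⟨k, hk⟩ := ih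
      exact ⟨k + d ^ 2 ^ j, by rw [pow_succ, pow_mul]; linear_combination hk + (k + 1) * d ^ 2 ^ j * h3⟩
  have h5 : ∀ n, ∃ k, k * k + k + n * d = ∑ i ∈ Finset.range n, d ^ Nat.card F ^ i := fun n => by
    induction n with
    | zero => exact ⟨0, by simp⟩
    | succ n ih =>
      obtain ⟨k, hk⟩ := ih
      obtain ⟨l, hl⟩ := h4 (e * n)
      exact ⟨k + l, by
        rw [Finset.sum_range_succ, ← hk, Nat.card_eq_fintype_card, he, ← pow_mul, ← hl]
        push_cast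
        linear_combination k * l * h3⟩
  obtain ⟨k, hk⟩ := h5 (finrank F K)
  obtain ⟨a, ha⟩ := ho
  exact ⟨k, _, by
    rw [FiniteField.algebraMap_trace_eq_sum_pow, ← hk, ha]
    push_cast
    linear_combination -a * d * h3⟩

end Abstract

variable {r : ℕ} {K : Subalgebra F (Matrix ι ι F)}

theorem IsFieldSubalgebra.isUnit (hK : IsFieldSubalgebra r K) {k : Matrix ι ι F} (hk : k ∈ K)
    (h0 : k ≠ 0) : IsUnit k :=
  let ⟨_, _, h⟩ := hK.inv k hk h0
  .of_mul_eq_one _ h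

theorem IsFieldSubalgebra.eq_zero (hK : IsFieldSubalgebra r K) {k x : Matrix ι ι F} (hk : k ∈ K)
    (h : k * x = 0) : k = 0 ∨ x = 0 :=
  or_iff_not_imp_left.2 fun h0 => (IsFieldSubalgebra.isUnit hK hk h0).mul_right_eq_zero.1 h

theorem Fld.ne_card [Nonempty ι] {H : Subgroup (GL ι F)} (hK : Fld σ f H r K) (h : Hm σ ε f)
    (hI : Isom f H) (hs : IsSelfAdjointFor f K) : r ≠ Fintype.card ι := fun hr => by
  obtain ⟨x, h1, h2, h3⟩ := hK.wit hr
  have h4 := IsFieldSubalgebra.mem_of_comm (hr ▸ hK.field) h3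
  have h5 := (h.isSelfAdjointFor.1 hs _ h4).symm.trans (h.adj_of_iso (isom_iff.1 hI h1))
  refine h2 (mem_scalars_iff_isSc.2 ?_)
  rcases IsFieldSubalgebra.eq_zero hK.field (sub_mem h4 (one_mem _)) (x := x + 1) (by
    rw [sub_mul, mul_add, mul_one, one_mul, congrArg (x.1 * ·) h5, Units.mul_inv, add_comm, sub_self])
    with h6 | h6
  · exact ⟨1, by rw [sub_eq_zero.1 h6, one_smul]⟩
  · exact ⟨-1, by rw [eq_neg_of_add_eq_zero_left h6, neg_smul, one_smul]⟩

theorem IsFieldSubalgebra.mem_of_two (hK : IsFieldSubalgebra 2 K) {a b : Matrix ι ι F} (ha : a ∈ K)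
    (hb : b ∈ K) (hab : LinearIndependent F ![a, b]) {U : Submodule F (ι → F)} {u u' : ι → F}
    (hu : u ∈ U) (hu' : u' ∈ U) (h : a *ᵥ u = b *ᵥ u') {k : Matrix ι ι F} (hk : k ∈ K) : k *ᵥ u ∈ U := by
  have h1 : Submodule.span F {a, b} = K.toSubmodule := Submodule.eq_of_le_of_finrank_eq
    (Submodule.span_le.2 (Set.pair_subset ha hb)) (by
      rw [← range_cons_cons_empty a b ![], finrank_span_eq_card hab]; exact hK.finrank_eq.symm)
  obtain ⟨s, t, h2⟩ := Submodule.mem_span_pair.1 (h1.ge (K.mul_mem hb hk))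
  rw [(mulVec_injective_iff_isUnit.2 (IsFieldSubalgebra.isUnit hK hb (hab.ne_zero 1))
    (by rw [mulVec_mulVec, ← h2]; simp [add_mulVec, mulVec_add, smul_mulVec, mulVec_smul, h]) :
      k *ᵥ u = s • u' + t • u)]
  exact add_mem (U.smul_mem _ hu') (U.smul_mem _ hu)

theorem IsFieldSubalgebra.dvd_inf [Nonempty ι] (hK : IsFieldSubalgebra 2 K) {a b : Matrix ι ι F}
    (ha : a ∈ K) (hb : b ∈ K) (hab : LinearIndependent F ![a, b]) (U : Submodule F (ι → F)) :
    2 ∣ finrank F ↥(U.map (toLin' a) ⊓ U.map (toLin' b)) :=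
  IsFieldSubalgebra.dvd_finrank hK fun k hk _ ⟨⟨u, hu, h1⟩, u', hu', h2⟩ =>
    ⟨⟨_, IsFieldSubalgebra.mem_of_two hK ha hb hab hu hu' (h1.trans h2.symm) hk, by
      rw [← h1, toLin'_apply, toLin'_apply, mulVec_mulVec, mulVec_mulVec, hK.comm a ha k hk]⟩,
    _, IsFieldSubalgebra.mem_of_two hK hb ha (LinearIndependent.pair_symm_iff.1 hab) hu' hu
      (h2.trans h1.symm) hk, by
      rw [← h2, toLin'_apply, toLin'_apply, mulVec_mulVec, mulVec_mulVec, hK.comm b hb k hk]⟩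

theorem NQ.four_dvd [Nonempty ι] (hQ : NQ Q) (hK : IsFieldSubalgebra 2 K)
    (h : ∀ k ∈ K, ∃ c, ∀ v, Q (k *ᵥ v) = c * Q v) (hp : Plus Q) : 4 ∣ Fintype.card ι := by
  obtain ⟨U, -, h1, h2⟩ := hp
  obtain ⟨y, hy, h3⟩ : ∃ y ∈ K, ¬ IsSc y := by
    by_contra hc
    push Not at hc
    have := Submodule.finrank_mono (show K.toSubmodule ≤ Submodule.span F {1} from fun x hx =>
      let ⟨c, h⟩ := hc x hx; Submodule.mem_span_singleton.2 ⟨c, h.symm⟩)
    rw [finrank_span_singleton one_ne_zero, Subalgebra.finrank_toSubmodule, hK.finrank_eq] at this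
    omega
  have h4 := LinearIndependent.pair_iff.1 ((LinearIndependent.pair_iff' (K := F) one_ne_zero).2
    fun c hc => h3 ⟨c, hc.symm⟩)
  have h5 : LinearIndependent F ![y, y + 1] := LinearIndependent.pair_iff.2 fun s t h => by
    obtain ⟨rfl, h6⟩ := h4 t (s + t) (by rw [← h]; module)
    simpa using h6
  have h6 : LinearIndependent F ![1, y + 1] := LinearIndependent.pair_iff.2 fun s t h => by
    obtain ⟨h6, rfl⟩ := h4 (s + t) t (by rw [← h]; module)
    simpa using h6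
  have key : ∀ k ∈ K, k ≠ 0 → (qForm hQ).IsTS (U.map (toLin' k)) ∧
      finrank F (U.map (toLin' k)) = finrank F U := fun k hk h0 =>
    ⟨Form.isTS_quad (by
      rintro _ ⟨u, hu, rfl⟩
      obtain ⟨c, hc⟩ := h k hk
      exact (hc u).trans (mul_eq_zero_of_right _ (h1 u hu))),
      finrank_map_gl (IsFieldSubalgebra.isUnit hK hk h0).unit U⟩
  have hy' := add_mem hy (one_mem K)
  have k1 := key 1 (one_mem _) one_ne_zero
  have k2 := key y hy (h5.ne_zero 0)
  have k3 := key _ hy' (h5.ne_zero 1)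
  have := (qForm_nondeg hQ).even_three_TS (by simpa using h2.symm) k1.1 k2.1 k3.1 k1.2 k2.2 k3.2
  have d1 := IsFieldSubalgebra.dvd_inf hK (one_mem _) hy (LinearIndependent.pair_iff.2 h4) U
  have d2 := IsFieldSubalgebra.dvd_inf hK hy hy' h5 U
  have d3 := IsFieldSubalgebra.dvd_inf hK (one_mem _) hy' h6 U
  rw [finrank_top, finrank_fintype_fun_eq_card] at h2
  rw [Nat.even_iff] at this
  omega

theorem NQ.theta_of (hQ : NQ Q) {θ : Matrix ι ι F} (h : ∀ v, polar Q (θ *ᵥ v) v = Q v) :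
    θ + adj (RingHom.id F) (polar Q) θ = 1 := by
  rw [hQ.hm.adj_eq (y := 1 - θ) fun u v => ?_, add_sub_cancel]
  have := h (u + v)
  rw [mulVec_add, hQ.hm.add_left, hQ.hm.add_right, hQ.hm.add_right, h, h, NQ.add (Q := Q)] at this
  rw [sub_mulVec, hQ.hm.sub_right, one_mulVec, hQ.hm.symm u (θ *ᵥ v)]
  linear_combination this

theorem NQ.exists_theta (hQ : NQ Q) : ∃ θ : Matrix ι ι F, ∀ v, polar Q (θ *ᵥ v) v = Q v := by
  let _ := LinearOrder.lift' (Fintype.equivFin ι) (Fintype.equivFin ι).injective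
  let B := (toQuad (qForm hQ)).toBilin (Pi.basisFun F ι)
  have hB : IsSesq (RingHom.id F) fun u v => B u v := ⟨by simp, by simp, by simp, by simp⟩
  refine ⟨(gramMatrix (fun u v => B u v) * (gramMatrix (polar Q))⁻¹)ᵀ, fun v => ?_⟩
  refine (congrFun₂ hQ.hm.eq_fG _ _).trans ?_
  rw [fG_mulVec_left, transpose_transpose,
    nonsing_inv_mul_cancel_right _ _ ((isUnit_iff_isUnit_det _).1 hQ.hm.unit), ← hB.eq_fG]
  exact DFunLike.congr_fun ((toQuad (qForm hQ)).toQuadraticMap_toBilin (Pi.basisFun F ι)) v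

/-! ### Fields of half the dimension -/

/-- Matrices commuting with `K` that define alternating forms over `K`. -/
structure Alt (f : (ι → F) → (ι → F) → F) (K : Subalgebra F (Matrix ι ι F)) (s : Matrix ι ι F) :
    Prop where
  comm : ∀ k ∈ K, s * k = k * s
  alt : ∀ k ∈ K, ∀ v, f (s *ᵥ v) (k *ᵥ v) = 0

/-- The line over `K` through a vector. -/
def kl1 (K : Subalgebra F (Matrix ι ι F)) (u : ι → F) : Submodule F (ι → F) :=
  K.toSubmodule.map ((mulVecBilin F F).flip u)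

theorem mem_kl1 {u w : ι → F} : w ∈ kl1 K u ↔ ∃ k ∈ K, k *ᵥ u = w := Iff.rfl

theorem kl1_inv (u : ι → F) : ∀ k ∈ K, ∀ w ∈ kl1 K u, k *ᵥ w ∈ kl1 K u := by
  rintro k hk _ ⟨l, hl, rfl⟩
  exact ⟨_, K.mul_mem hk hl, (mulVec_mulVec _ _ _).symm⟩

theorem self_mem_kl1 (u : ι → F) : u ∈ kl1 K u := ⟨1, one_mem K, one_mulVec u⟩

section

variable [Nonempty ι] (h : Hm (RingHom.id F) 1 f) (hK : IsFieldSubalgebra r K)
  (hs : IsSelfAdjointFor f K) (hn : 2 * r = Fintype.card ι) {s s' : Matrix ι ι F}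

include hK hn in
theorem eq_of_inv {W W' : Submodule F (ι → F)} (h1 : ∀ k ∈ K, ∀ w ∈ W, k *ᵥ w ∈ W)
    (h2 : ∀ k ∈ K, ∀ w ∈ W', k *ᵥ w ∈ W') (hle : W ≤ W') (h0 : W ≠ ⊥) (ht : W' ≠ ⊤) : W = W' := by
  obtain ⟨a, ha⟩ := IsFieldSubalgebra.dvd_finrank hK h1
  obtain ⟨b, hb⟩ := IsFieldSubalgebra.dvd_finrank hK h2
  have h3 := Submodule.finrank_lt ht
  have h4 := Submodule.finrank_eq_zero.not.2 h0
  rw [finrank_fintype_fun_eq_card, ← hn, hb, mul_comm 2] at h3
  have := lt_of_mul_lt_mul_left' h3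
  refine Submodule.eq_of_le_of_finrank_le hle ?_
  rw [ha, hb]
  exact Nat.mul_le_mul_left _ (by rcases a with _ | a <;> simp_all; omega)

include h hK hs

omit [Nonempty ι] hK hs in
theorem Alt.skew (a : Alt f K s) {k : Matrix ι ι F} (hk : k ∈ K) (u v : ι → F) :
    f (s *ᵥ u) (k *ᵥ v) = -f (s *ᵥ v) (k *ᵥ u) := by
  have := a.alt k hk (u + v)
  simp only [mulVec_add, h.add_left, h.add_right, a.alt k hk] at this
  linear_combination this

omit [Nonempty ι] hK hs in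
theorem Alt.adj (a : Alt f K s) : adj (RingHom.id F) f s = -s := h.adj_eq fun u v => by
  simpa [neg_mulVec, h.neg_right, h.symm u] using a.skew h (one_mem _) u v

omit [Nonempty ι] h in
theorem Alt.mul (a : Alt f K s) {k : Matrix ι ι F} (hk : k ∈ K) : Alt f K (k * s) :=
  ⟨fun l hl => by rw [mul_assoc, a.comm l hl, ← mul_assoc, hK.comm k hk l hl, mul_assoc],
    fun l hl v => by rw [← mulVec_mulVec, hs k hk, mulVec_mulVec, a.alt _ (mul_mem hk hl)]⟩

omit [Nonempty ι] hK hs in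
theorem Alt.sub (a : Alt f K s) (b : Alt f K s') : Alt f K (s - s') :=
  ⟨fun l hl => by rw [sub_mul, mul_sub, a.comm l hl, b.comm l hl],
    fun l hl v => by rw [sub_mulVec, h.sub_left, a.alt l hl, b.alt l hl, sub_zero]⟩

omit [Nonempty ι] h hK hs in
theorem Nz.comm_cj {H : Subgroup (GL ι F)} (hN : Nz H (K : Set (Matrix ι ι F))) {g : GL ι F} (hg : g ∈ H)
    (h : ∀ k ∈ K, s * k = k * s) : ∀ k ∈ K, cj g s * k = k * cj g s := fun k hk => by
  rw [← cj_cj_inv g k, ← map_mul, ← map_mul, h _ (hN _ (inv_mem hg) k hk)]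

omit [Nonempty ι] h hK hs in
theorem Alt.cj (a : Alt f K s) {H : Subgroup (GL ι F)} (hI : Isom f H)
    (hN : Nz H (K : Set (Matrix ι ι F))) {g : GL ι F} (hg : g ∈ H) : Alt f K (cj g s) :=
  ⟨hN.comm_cj hg a.comm, fun k hk v => by
    rw [← cj_cj_inv g k, ← mulVec_inv_mulVec g v, cj_mulVec, cj_mulVec, hI g hg,
      a.alt _ (hN _ (inv_mem hg) k hk)]⟩

include hn

omit hs in
theorem Alt.eq_zero (a : Alt f K s) {u : ι → F} (hu : u ≠ 0) (h0 : s *ᵥ u = 0) : s = 0 :=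
  mat_ext fun v => by
    rw [zero_mulVec]
    by_cases ht : kl1 K u ⊔ kl1 K v = ⊤
    · refine h.nd' _ fun w => ?_
      obtain ⟨_, h1, _, h2, rfl⟩ := Submodule.mem_sup.1 (ht.ge trivial : w ∈ _)
      obtain ⟨k, hk, rfl⟩ := mem_kl1.1 h1
      obtain ⟨l, hl, rfl⟩ := mem_kl1.1 h2
      rw [h.add_right, a.skew h hk v u, h0, h.zero_left, a.alt l hl, neg_zero, add_zero]
    obtain ⟨k, hk, rfl⟩ := mem_kl1.1 ((eq_of_inv hK hn (kl1_inv u) (fun k hk w hw => by
      obtain ⟨a, ha, b, hb, rfl⟩ := Submodule.mem_sup.1 hw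
      rw [mulVec_add]
      exact Submodule.add_mem_sup (kl1_inv u k hk a ha) (kl1_inv v k hk b hb)) le_sup_left
      (fun h => hu (h.le (self_mem_kl1 u))) ht).ge (Submodule.mem_sup_right (self_mem_kl1 v)))
    rw [mulVec_mulVec, a.comm k hk, ← mulVec_mulVec, h0, mulVec_zero]

theorem Alt.exists_eq (a : Alt f K s) (b : Alt f K s') (h0 : s ≠ 0) : ∃ k ∈ K, s' = k * s := by
  obtain ⟨u, hu⟩ := exists_ne (0 : ι → F)
  have h1 : ∀ {s}, Alt f K s → s *ᵥ u ∈ h.perp (kl1 K u) := fun a => by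
    rintro _ ⟨k, hk, rfl⟩; exact a.alt k hk u
  obtain ⟨k, hk, h2⟩ := mem_kl1.1 ((eq_of_inv hK hn (W' := h.perp (kl1 K u)) (kl1_inv (s *ᵥ u))
    (fun k hk w hw x hx => (hs k hk w x).trans (hw _ (kl1_inv u k hk x hx)))
    (fun _ hw => by
      obtain ⟨k, hk, rfl⟩ := mem_kl1.1 hw
      exact mulVec_mulVec u k s ▸ h1 (a.mul hK hs hk))
    (fun h2 => h0 (a.eq_zero h hK hn hu (h2.le (self_mem_kl1 _))))
    (h.perp_ne_top fun h => hu (h.le (self_mem_kl1 u)))).ge (h1 b))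
  exact ⟨k, hk, sub_eq_zero.1 ((b.sub h (a.mul hK hs hk)).eq_zero h hK hn hu (by
    rw [sub_mulVec, ← h2, mulVec_mulVec, sub_self]))⟩

omit hn h in
theorem Alt.of_two [Finite F] (h2 : (2 : F) = 0) (h1 : ∀ k ∈ K, s * k = k * s)
    (h0 : ∀ v, f (s *ᵥ v) v = 0) : Alt f K s :=
  ⟨h1, fun k hk v => by
    obtain ⟨l, hl, rfl⟩ := IsFieldSubalgebra.exists_sq h2 hK hk
    rw [← mulVec_mulVec, ← hs l hl, mulVec_mulVec, ← h1 l hl, ← mulVec_mulVec, h0]⟩

end

theorem NQ.exists_theta_comm [Finite F] (hQ : NQ Q) (h2 : (2 : F) = 0) (hK : IsFieldSubalgebra r K)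
    (hs : IsSelfAdjointFor (polar Q) K) :
    ∃ θ, (∀ k ∈ K, θ * k = k * θ) ∧ ∀ v, polar Q (θ *ᵥ v) v = Q v := by
  obtain ⟨θ, hθ⟩ := hQ.exists_theta
  have := Fintype.ofFinite (unitsOf K)
  classical
  refine ⟨∑ g : unitsOf K, cj g θ, fun k hk => ?_, fun v => ?_⟩
  · by_cases h0 : k = 0
    · simp [h0]
    let u : unitsOf K := ⟨(IsFieldSubalgebra.isUnit hK hk h0).unit, mem_unitsOf.2 hk⟩
    refine (cj_eq_iff (g := u.1)).1 ?_ |>.symm
    rw [map_sum]
    exact Fintype.sum_equiv (Equiv.mulLeft u) _ _ fun g => (cj_mul _ _ _).symm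
  rw [sum_mulVec, hQ.hm.sum_left, ← Finset.add_sum_erase _ _ (Finset.mem_univ 1),
    Finset.sum_involution (fun g _ => g⁻¹) (fun g _ => ?_) (fun g hg _ h => ?_) (by simp) (by simp)]
  · simp [cj_one, hθ]
  · have h3 := hs _ (mem_unitsOf.1 g.2)
    have h4 := hs _ (mem_unitsOf.1 g⁻¹.2)
    rw [cj_apply, cj_apply, ← mulVec_mulVec, ← mulVec_mulVec, ← mulVec_mulVec, ← mulVec_mulVec, h3, h4,
      hQ.hm.adj_spec, hQ.hm.symm (θ *ᵥ _), coe_inv, inv_inv, ← hQ.hm.add_right, ← add_mulVec, add_comm,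
      hQ.theta_of hθ, one_mulVec, ← h3, mulVec_inv_mulVec, hQ.alt h2]
  · have h3 : g.1.1 * g.1.1 = 1 := congrArg (·.1.1) (show g * g = 1 by
      conv_lhs => enter [2]; rw [← h]
      exact mul_inv_cancel g)
    have h4 := IsFieldSubalgebra.eq_zero hK (sub_mem (mem_unitsOf.1 g.2) (one_mem _)) (x := g.1.1 - 1) (by
      have : (g.1.1 - 1) * (g.1.1 - 1) = g.1.1 * g.1.1 - 1 - (2 : F) • (g.1.1 - 1) := by
        rw [two_smul]; noncomm_ring
      rw [this, h3, h2, zero_smul, sub_self, sub_zero])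
    exact Finset.ne_of_mem_erase hg (Subtype.ext (Units.ext (sub_eq_zero.1 (or_self_iff.1 h4))))

theorem NQ.descend [Finite F] [Nonempty ι] (hQ : NQ Q) (hK : IsFieldSubalgebra r K)
    (hs : IsSelfAdjointFor (polar Q) K) (hn : 2 * r = Fintype.card ι) (ho : Odd r)
    {H : Subgroup (GL ι F)} (hH : H ≤ isometryGroup F Q) (hN : Nz H (K : Set (Matrix ι ι F))) :
    ∃ (y : Matrix ι ι F) (s t : F) (hy : y * y = s • y + t • 1), ¬ IsSc y ∧
      adj (RingHom.id F) (polar Q) y ∈ quadAlg y hy ∧ ∀ g ∈ H, cj g y ∈ quadAlg y hy := by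
  have h := hQ.hm
  have hI := isom_iff.2 (hH.trans isometryGroup_le)
  let _ := (IsFieldSubalgebra.isField hK).toField
  have hr : Odd (finrank F K) := hK.finrank_eq ▸ ho
  have key : ∀ k ∈ K, ∀ a b : F, (k - a • 1) * (k - b • 1) = 0 → IsSc k := fun k hk a b h0 =>
    (IsFieldSubalgebra.eq_zero hK (sub_mem hk (K.smul_mem (one_mem _) a)) h0).elim
      (fun h => ⟨a, sub_eq_zero.1 h⟩) fun h => ⟨b, sub_eq_zero.1 h⟩
  by_cases h2 : (2 : F) = 0
  · obtain ⟨θ, h3, h4⟩ := hQ.exists_theta_comm h2 hK hs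
    have h1 : Alt (polar Q) K 1 := .of_two hK hs h2 (by simp) (by simpa using hQ.alt h2)
    have h5 := eq_sub_of_add_eq' (hQ.theta_of h4)
    have h22 : ∀ x : Matrix ι ι F, x + x = 0 := fun x => by rw [← two_smul F, h2, zero_smul]
    obtain ⟨d, hd, h6⟩ := h1.exists_eq h hK hs hn (.of_two hK hs h2 (s := θ * (1 - θ)) (fun k hk => by
      simp only [mul_assoc, sub_mul, mul_sub, mul_one, h3 k hk, ← mul_assoc θ k])
      fun v => by rw [← mulVec_mulVec, h.adj_spec, h5, hQ.alt h2]) one_ne_zero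
    obtain ⟨⟨k, hk⟩, c, h7⟩ := exists_add_sq h2 hr (⟨d, hd⟩ : K)
    have h7 : k * k + k + d = c • 1 := (congrArg Subtype.val h7).trans (Algebra.algebraMap_eq_smul_one c)
    have h8 : ∀ v, polar Q ((θ + k) *ᵥ v) v = Q v := fun v => by
      simpa [add_mulVec, h.add_left, h4, h.symm v] using h1.alt k hk v
    have h9 : (θ + k) * (θ + k) = (1 : F) • (θ + k) + c • 1 := by
      rw [← h7, ← mul_one d, ← h6, ← sub_eq_zero, ← h22 (θ * θ - θ + k * θ - k), add_mul, mul_add, mul_add,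
        h3 k hk, mul_sub, mul_one, one_smul]
      abel
    have h10 : ∀ l ∈ K, (θ + k) * l = l * (θ + k) := fun l hl => by
      rw [add_mul, mul_add, h3 l hl, hK.comm k hk l hl]
    generalize θ + k = y at h8 h9 h10
    have h11 := hQ.theta_of h8
    refine ⟨y, 1, c, h9, ?_, ⟨1, -1, by rw [eq_sub_of_add_eq' h11]; module⟩, fun g hg => ?_⟩
    · rintro ⟨a, rfl⟩
      rw [h.adj_smul, h.adj_one, RingHom.id_apply, h22] at h11
      exact zero_ne_one h11
    obtain ⟨l, hl, h12⟩ := h1.exists_eq h hK hs hn (.of_two hK hs h2 (s := cj g y - y) (fun l hl => by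
      rw [sub_mul, mul_sub, h10 l hl, hN.comm_cj hg h10 l hl]) fun v => by
        rw [sub_mulVec, h.sub_left, h8, ← mulVec_inv_mulVec g v, cj_mulVec, hI g hg, h8,
          mem_isometryGroup_iff.1 (hH hg), sub_self]) one_ne_zero
    rw [mul_one, sub_eq_iff_eq_add] at h12
    have h13 := congrArg (cj g) h9
    rw [map_mul, map_add, map_smul, map_smul, map_one, h12, add_mul, mul_add, mul_add, h9, h10 l hl] at h13
    obtain ⟨a, rfl⟩ := key l hl 0 1 (by
      rw [zero_smul, sub_zero, mul_sub, one_smul, mul_one, sub_eq_zero, ← add_zero (l * l), ← h22 (l * y)]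
      exact add_right_cancel (b := y + c • 1) (by simpa only [one_smul, add_assoc] using h13))
    exact ⟨a, 1, by rw [h12, one_smul]⟩
  obtain ⟨x, y, hx, hy, hxy⟩ := exists_not_comm K.val (hr.pos) (by rw [hK.finrank_eq, mul_comm, hn])
  have h3 : ∀ s, (∀ k ∈ K, s * k = k * s) → adj (RingHom.id F) (polar Q) s = -s → Alt (polar Q) K s :=
    fun s h3 h4 => ⟨h3, fun k hk v => mul_left_cancel₀ h2 (by
      have := h.adj_spec s v (k *ᵥ v)
      rw [h4, neg_mulVec, h.neg_right, mulVec_mulVec, h3 k hk, ← mulVec_mulVec, ← hs k hk v,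
        h.symm (k *ᵥ v)] at this
      linear_combination this)⟩
  obtain ⟨s, h4, h0⟩ : ∃ s, Alt (polar Q) K s ∧ s ≠ 0 := by
    by_contra hc
    push Not at hc
    have : ∀ x, (∀ k ∈ K, x * k = k * x) → adj (RingHom.id F) (polar Q) x = x := fun x hx =>
      (sub_eq_zero.1 (hc _ (h3 _ (fun k hk => by
        have := congrArg (adj (RingHom.id F) (polar Q)) (hx k hk)
        rw [h.adj_mul, h.adj_mul, h.isSelfAdjointFor.1 hs k hk] at this
        rw [sub_mul, mul_sub, this, hx k hk]) (by rw [h.adj_sub, h.adj_adj, neg_sub])))).symm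
    have hx : ∀ k ∈ K, x * k = k * x := fun k hk => hx ⟨k, hk⟩
    have hy : ∀ k ∈ K, y * k = k * y := fun k hk => hy ⟨k, hk⟩
    refine hxy ?_
    rw [← this (x * y) fun k hk => by rw [mul_assoc, hy k hk, ← mul_assoc, hx k hk, mul_assoc], h.adj_mul,
      this x hx, this y hy]
  obtain ⟨d, hd, h5⟩ := h4.exists_eq h hK hs hn (h3 (s * s * s) (fun k hk => by
    simp only [mul_assoc, h4.comm k hk, ← mul_assoc s k]) (by
      simp only [h.adj_mul, h4.adj h, neg_mul, mul_neg, neg_neg, mul_assoc])) h0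
  have h6 : ∀ {s}, Alt (polar Q) K s → s ≠ 0 → IsUnit s := fun a h0 =>
    mulVec_injective_iff_isUnit.1 ((injective_iff_map_eq_zero (mulVecLin _)).2 fun u hu =>
      by_contra fun h1 => h0 (a.eq_zero h hK hn h1 hu))
  have h7 := (h6 h4 h0).mul_right_cancel h5
  obtain ⟨⟨k, hk⟩, h8, c, h9⟩ := exists_mul_sq hr (d := (⟨d, hd⟩ : K)) fun h8 =>
    ((h6 h4 h0).mul (h6 h4 h0)).ne_zero (h7.trans (congrArg Subtype.val h8))
  have h9 : k * k * d = c • 1 := (congrArg Subtype.val h9).trans (Algebra.algebraMap_eq_smul_one c)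
  have h10 := h4.mul hK hs hk
  have h11 : k * s ≠ 0 := fun h => (IsFieldSubalgebra.eq_zero hK hk h).elim
    (fun h => h8 (Subtype.ext h)) h0
  have h12 : k * s * (k * s) = (0 : F) • (k * s) + c • 1 := by
    rw [zero_smul, zero_add, ← h9, ← h7, mul_assoc, ← mul_assoc s, h4.comm k hk]
    simp only [mul_assoc]
  generalize k * s = y at h10 h11 h12
  refine ⟨y, 0, c, h12, h.not_isSc_of_skew h2 (h10.adj h) h11,
    h10.adj h ▸ neg_mem (self_mem_quadAlg _), fun g hg => ?_⟩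
  obtain ⟨l, hl, h13⟩ := h10.exists_eq h hK hs hn (h10.cj hI hN hg) h11
  have h14 := congrArg (cj g) h12
  rw [zero_smul, zero_add] at h12
  rw [zero_smul, zero_add, map_mul, map_smul, map_one, h13, ← h12, mul_assoc, ← mul_assoc y, h10.comm l hl,
    mul_assoc, ← mul_assoc, ← sub_eq_zero, ← sub_one_mul] at h14
  obtain ⟨a, rfl⟩ := key l hl 1 (-1) (by
    rw [← ((h6 h10 h11).mul (h6 h10 h11)).mul_left_eq_zero.1 h14, neg_smul, one_smul]; noncomm_ring)
  exact ⟨0, a, by rw [h13]; simp⟩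

theorem Hm.comm_two [Fintype F] (h : Hm σ ε f) (hn : 3 ≤ Fintype.card ι) {H : Subgroup (GL ι F)}
    (hI : Irr H) (hH : H ≤ similarityGroup f) {y : Matrix ι ι F} {s t : F} (hy : y * y = s • y + t • 1)
    (hs : ¬ IsSc y) (ha : adj σ f y ∈ quadAlg y hy) (hN : ∀ g ∈ H, cj g y ∈ quadAlg y hy) :
    (∃ (t m : ℕ) (D : Fin t → Submodule F (ι → F)), Dec f H m D) ∨
      (∃ e : Fin 2 → Matrix ι ι F, IdemSys H e ∧ adj σ f (e 0) = e 1) ∨ ∃ K, Fld σ f H 2 K := by
  have : Nonempty ι := Fintype.card_pos_iff.1 (by omega)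
  rcases h.comm_case hI hH (nz_quadAlg hy hN) (quadAlg_comm hy) (ac_quadAlg h hy ha)
    ⟨y, self_mem_quadAlg hy, hs⟩ with ⟨t, e, ht, he, hm, ha⟩ | ⟨e, he, -, ha⟩ | ⟨r, K, hr, hK, hN, hle, ha⟩
  · obtain ⟨m, hm'⟩ := he.nondeg h ht ha
    exact .inl ⟨t, m, _, hm', he.le_stab, he.trans_rg⟩
  · exact .inr (.inl ⟨e, he, ha⟩)
  obtain rfl : r = 2 := le_antisymm (by
    have := Submodule.finrank_mono (show K.toSubmodule ≤ Submodule.span F {1, y} from fun x hx =>
      let ⟨a, b, h⟩ := hle hx; Submodule.mem_span_pair.2 ⟨a, b, h.symm⟩)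
    rw [Subalgebra.finrank_toSubmodule, hK.finrank_eq] at this
    exact this.trans (finrank_span_pair_le _ _)) hr.two_le
  exact .inr (.inr ⟨K, hr, hK, hN, ha, by omega⟩)

end Cfsg.Lib.Asch
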