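import Cfsg.Agent.Lib.Asch.SUT2

/-! The subgroup structure of the special unitary groups. -/

set_option autoImplicit false

namespace Cfsg.Lib.Asch

open Matrix Cfsg.Geo Module Cfsg.Lib.Forms Subgroup
open scoped MatrixGroups Kronecker commutatorElement

variable {ι κ μ : Type} [Fintype ι] [DecidableEq ι] [Fintype κ] [DecidableEq κ]
  [Fintype μ] [DecidableEq μ] {F : Type*} [Field F] {σ : F →+* F} {ε : F}
  {f : (ι → F) → (ι → F) → F}

/-- The isometries of determinant one. -/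
abbrev sIso (f : (ι → F) → (ι → F) → F) : Subgroup (GL ι F) := isoG f ⊓ specialLinear ι F

/-- The alternatives for a subgroup of a special unitary group. -/
inductive SUCase [Fintype F] (q : ℕ) (f : (ι → F) → (ι → F) → F) (H : Subgroup (GL ι F)) : Prop
  | ts (W : Submodule F (ι → F)) (h0 : W ≠ ⊥) (h1 : IsTotallySingularFor f W)
      (h : Over (sIso f) H (subspaceStabilizer W))
  | nd (W : Submodule F (ι → F)) (h0 : W ≠ ⊥) (h1 : IsNondegenerateOn f W)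
      (h2 : 2 * finrank F W < Fintype.card ι) (h : Over (sIso f) H (subspaceStabilizer W))
  | dec (t k : ℕ) (ht : 2 ≤ t) (hn : t * k = Fintype.card ι) (h1 : k = 1 → t = 4 → q ≠ 3)
      (h2 : k = 2 → 3 ≤ q) (D : Fin t → Submodule F (ι → F))
      (hD : IsNondegenerateMDecomposition f k D) (h : Over (sIso f) H (decompositionStabilizer D))
  | pair (k : ℕ) (hn : 2 * k = Fintype.card ι) (h4 : k = 2 → 4 ≤ q) (D : Fin 2 → Submodule F (ι → F))
      (hD : IsMDecomposition k D) (h1 : ∀ i, IsTotallySingularFor f (D i))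
      (h : Over (sIso f) H (decompositionStabilizer D))
  | fld (r : ℕ) (hr : r.Prime) (ho : Odd r) (hn : r ∣ Fintype.card ι) (K : Subalgebra F (Matrix ι ι F))
      (hK : IsFieldSubalgebra r K) (h1 : IsAdjointClosedFor f K)
      (h : Over (sIso f) H (subalgebraNormalizer K))
  | tens (n₁ n₂ : ℕ) (hn : n₁ * n₂ = Fintype.card ι) (h1 : 2 ≤ n₁) (h2 : n₁ < n₂) (h3 : n₁ = 2 → 3 ≤ q)
      (e : ι ≃ Fin n₁ × Fin n₂) (P : GL ι F) (f₁ : (Fin n₁ → F) → (Fin n₁ → F) → F)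
      (f₂ : (Fin n₂ → F) → (Fin n₂ → F) → F) (h4 : IsUnitaryFormPow q f₁) (h5 : IsUnitaryFormPow q f₂)
      (hs : IsTensorFormStructure (fun x => x ^ q) f f₁ f₂ e P)
      (h : Over (sIso f) H (tensorProductSubgroup n₁ n₂ e P))
  | sub (F₀ : Subfield F) (r : ℕ) (P : GL ι F) (hr : r.Prime) (ho : Odd r)
      (hc : Fintype.card F = Nat.card F₀ ^ r) (h1 : IsFormRationalStructure f F₀ 1 P)
      (h : Over (sIso f) H (subfieldSubgroup F₀ P))
  | orth (ho : Odd q) (F₀ : Subfield F) (P : GL ι F) (hc : Fintype.card F = Nat.card F₀ ^ 2)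
      (h1 : IsFormRationalStructure f F₀ 1 P) (h : Over (sIso f) H (subfieldSubgroup F₀ P))
  | symp (he : Even (Fintype.card ι)) (F₀ : Subfield F) (P : GL ι F) (ζ : F)
      (hc : Fintype.card F = Nat.card F₀ ^ 2) (h0 : ζ ≠ 0) (h1 : ζ + ζ ^ q = 0)
      (h2 : IsFormRationalStructure f F₀ ζ P)
      (h3 : ∀ u : ι → F, (∀ i, u i ∈ F₀) →
        f ((P : Matrix ι ι F) *ᵥ u) ((P : Matrix ι ι F) *ᵥ u) = 0)
      (h : Over (sIso f) H (subfieldSubgroup F₀ P))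
  | extra (r k p e : ℕ) (hn : Fintype.card ι = r ^ k) (R : Subgroup (GL ι F))
      (h1 : IsSymplecticTypeGroup r R) (h2 : ActsAbsolutelyIrreducibly (matrixSet R))
      (h3 : R ≤ isoG f) (h4 : r ≠ p) (h5 : IsMinimalFieldFor (Nat.card (center R)) p e F)
      (h6 : (Odd r ∧ Nat.card (center R) = r ∧ 1 ≤ k ∧ Nat.card R = r ^ (1 + 2 * k)) ∨
        (r = 2 ∧ e = 2 ∧ Nat.card (center R) = 4 ∧ Nat.card R = 2 ^ (2 + 2 * k)))
      (h : Over (sIso f) H (subgroupNormalizer R))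
  | pow (k t : ℕ) (hn : k ^ t = Fintype.card ι) (hk : 3 ≤ k) (ht : 2 ≤ t) (h5 : ¬ (q = 2 ∧ k = 3))
      (e : ι ≃ (Fin t → Fin k)) (P : GL ι F) (f₁ : (Fin k → F) → (Fin k → F) → F)
      (h1 : IsUnitaryFormPow q f₁) (hs : IsTensorPowerFormStructure (fun x => x ^ q) f f₁ e P)
      (h : Over (sIso f) H (tensorWreathSubgroup k t e P))
  | res (h : InUnitaryResidualClass H)

theorem normBy_sIso : NormBy (similarityGroup f) (sIso f) := fun g hg x hx =>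
  ⟨normBy_sim g hg x hx.1, (MonoidHom.normal_ker _).conj_mem x hx.2 g⟩

theorem Hm.mem_isoG_of_act (h : Hm σ ε f) {e : ι ≃ κ} {P g : GL ι F} {a : Matrix κ κ F}
    (hg : (g : Matrix ι ι F) = tr e P a)
    (ha : act σ a (gramMatrix (Asch.pull f e P)) = gramMatrix (Asch.pull f e P)) : g ∈ isoG f :=
  mem_isoG.2 fun u v => by
    obtain ⟨u, rfl⟩ := (vec e P).surjective u
    obtain ⟨v, rfl⟩ := (vec e P).surjective v
    rw [← pull_mulVec (f := f) hg, (h.pull e P).eq_fG, ← fG_act, ha, ← (h.pull e P).eq_fG]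
    rfl

theorem Hm.exists_onb_blk {q : ℕ} (hq : IsConj σ q) (h : Hm σ 1 f) {t m : ℕ}
    {D : Fin t → Submodule F (ι → F)} (hD : IsNondegenerateMDecomposition f m D) :
    ∃ (e : ι ≃ Fin t × Fin m) (P : GL ι F), Blk D e P ∧ gramMatrix (Asch.pull f e P) = 1 := by
  choose b hb using fun i => Herm.exists_orthonormal
    ((h.br_uForm hq).nondeg_restrict (hD.nondegenerate i)) (hD.decomp.finrank_eq i)
  obtain ⟨e, P, h1, h2⟩ := IsMDecomposition.exists_blk hD.decomp b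
  refine ⟨e, P, h1, ?_⟩
  rw [h1.gram hD.orthogonal, ← bm_one]
  congr 1
  funext j
  ext a a'
  rw [of_apply, h2, h2]
  exact (hb j a' a).trans (by simp [one_apply, eq_comm])

theorem act_mon_eq_one {π : Equiv.Perm μ} {d : μ → F} :
    act σ (mon π d) 1 = 1 ↔ ∀ j, d j * σ (d j) = 1 := by
  rw [act_mon]
  refine ⟨fun h j => ?_, fun h => by simp [h, mon_const]⟩
  simpa [mon, bm_apply] using congrFun (congrFun h (j, 0)) (j, 0)

section

variable [Fintype F] {q : ℕ} (hq : IsConj σ q) {H₀ H : Subgroup (GL ι F)} (h : Ctx σ 1 f (sIso f) H)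
  (hG : H₀ ≤ sIso f) (hI : Irr H₀) (h0 : H₀ ≤ H)
include hq h hG hI

theorem Ctx.su_sub (hs : Sub5 f H₀) : SUCase q f H₀ := by
  rcases hs.unitary hq h.hm h.cl.two hI (isom_iff.2 (hG.trans inf_le_left)) with
    ⟨F₀, r, P, h1, h2, h3, h4, h5⟩ | ⟨h1, F₀, P, h2, h3, h4⟩ | ⟨h1, F₀, P, ζ, h2, h3, h4, h5, h6, h7⟩
  · exact .sub F₀ r P h1 h2 h3 h4 ⟨h5, h.cl.not_le_subfield (ne_top_of_card_pow h1.two_le h3) P⟩
  · exact .orth h1 F₀ P h2 h3 ⟨h4, h.cl.not_le_subfield (ne_top_of_card_pow le_rfl h2) P⟩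
  · exact .symp h1 F₀ P ζ h2 h3 h4 h5 h6 ⟨h7, h.cl.not_le_subfield (ne_top_of_card_pow le_rfl h2) P⟩

theorem Ctx.su_extra {H' R : Subgroup (GL ι F)} {r k : ℕ} (hR : Extra H' R r k) (h0 : H₀ ≤ H')
    (h1 : Isom f R) : SUCase q f H₀ := by
  rcases minimal_or_subfield hR.card_center_dvd with ⟨F₀, h2, h3⟩ | ⟨p, e, he, hm⟩
  · exact h.su_sub hq hG hI (hR.sub5' h.hm h1 (hR.norm.mono h0) h2 fun c hc =>
      h3 _ (hR.pow_card_center hc))
  have := hm.2.1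
  refine .extra r k p e hR.card_ι R hR.symp (absIrr_of_alg_top hR.top) (isom_iff.1 h1) hR.ne_char hm ?_
    ⟨h0.trans hR.le_normalizer, h.cl.not_le_normalizer hR.prime hR.symp.pGroup
      (irr_of_alg_top hR.top) (normBy_sIso.mono h1.le_sim)⟩
  rcases hR.prime.eq_two_or_odd' with hr | hr
  swap
  · exact Or.inl ⟨hr, hR.card_center_odd hr, hR.pos, hR.card_odd hr⟩
  have h2 : e ≠ 1 := by
    rintro rfl
    have h2 := hm.1
    rw [← pow_one p, ← hm.2.2.1, ← Nat.card_eq_fintype_card, hq.card] at h2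
    exact Nat.Prime.not_prime_pow le_rfl h2
  have h3 := hR.degree_le_two hr hm
  have h4 : Nat.card (center R) = 4 := (hR.card_center_two hr).resolve_left fun h4 =>
    hm.2.2.2.2 1 one_pos (by omega) (by
      obtain ⟨a, rfl⟩ := hm.1.eq_two_or_odd'.resolve_left fun h => hR.ne_char (hr.trans h.symm)
      simp [h4])
  exact Or.inr ⟨hr, by omega, h4, hR.card_of_four hr h4⟩

omit hI in
theorem Ctx.su_dec {t k : ℕ} (hI : t = 4 → Irr H₀) {D : Fin t → Submodule F (ι → F)}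
    (hD : IsNondegenerateMDecomposition f k D) (hH : H₀ ≤ decompositionStabilizer D) :
    SUCase q f H₀ := by
  have h1 := IsMDecomposition.mul_eq hD.decomp
  by_cases h2 : k = 2 ∧ q = 2
  · obtain ⟨rfl, rfl⟩ := h2
    obtain ⟨E, h3, h4⟩ := h.hm.refine_two hq (isom_iff.2 (hG.trans inf_le_left)) hD hH
    exact .dec _ 1 h3.decomp.two_le (mul_one _) (by simp) (by simp) E h3 ⟨h4, h.nd _ _ E h3⟩
  by_cases h3 : k = 1 ∧ t = 4 ∧ q = 3
  swap
  · exact .dec t k hD.decomp.two_le h1 (by tauto) (by have := hq.two_le; omega) D hD ⟨hH, h.nd _ _ D hD⟩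
  obtain ⟨rfl, rfl, rfl⟩ := h3
  obtain ⟨e, P, h3, h4⟩ := h.hm.exists_onb_blk hq hD
  obtain ⟨R, m, h5, h6, h7⟩ := exists_extra_mon (two_ne_zero_of_odd (by
    rw [← Nat.card_eq_fintype_card, hq.card]; decide)) (e := e) (P := P) (H := H₀) fun g hg => by
      obtain ⟨π, d, -, h5⟩ := h3.exists_mon (hH hg)
      have := h.hm.act_pull (hG hg).1 h5
      rw [h4, act_mon_eq_one] at this
      exact ⟨by rw [mem_sl.1 (hG hg).2, one_pow], π, d, fun j => by rw [← this j, hq.norm_eq], h5⟩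
  exact h.su_extra hq hG (hI rfl) h5 h6 (isom_iff.2 (h7 _ fun g π d h8 h9 => h.hm.mem_isoG_of_act h9 (by
    rw [h4, act_mon_eq_one]; simpa only [hq.norm_eq] using h8)))

theorem Ctx.su_comm {H' : Subgroup (GL ι F)} (h0 : H₀ ≤ H') (hc : CommCase σ f H') : SUCase q f H₀ := by
  have := h.nonempty
  rcases hc with ⟨t, k, D, hD⟩ | ⟨e, he, h1⟩ | ⟨r, K, hK⟩
  · exact h.su_dec hq hG (fun _ => hI) hD.nd (h0.trans hD.le)
  · obtain ⟨k, hk⟩ := he.isMDecomposition le_rfl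
    by_cases h2 : k = 2 ∧ q ≤ 3
    · obtain ⟨rfl, h2⟩ := h2
      exact h.su_sub hq hG hI (h.hm.sub5_pair hq h2 hI hG hk (he.ts_pair h.hm h1) (h0.trans he.le_stab))
    exact .pair k (IsMDecomposition.mul_eq hk) (by omega) _ hk (he.ts_pair h.hm h1)
      ⟨h0.trans he.le_stab, h.cl.not_le_dec_two hk⟩
  · exact .fld r hK.prime (hK.prime.eq_two_or_odd'.resolve_left (by
      rintro rfl; exact h.hm.field_ne_two hq.exists_not_fixed hK.field hK.ac))
      (IsFieldSubalgebra.dvd_card hK.field) K hK.field (h.hm.isAdjointClosedFor.2 hK.ac)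
      ⟨h0.trans hK.nz.le_normalizer, h.cl.not_le_field hK.prime.two_le hK.field⟩

omit hq h hG hI in
theorem Sub5.mono (hs : Sub5 f H) (h0 : H₀ ≤ H) : Sub5 f H₀ :=
  let ⟨F₀, r, P, ζ, h1, h2, h3, h4⟩ := hs
  ⟨F₀, r, P, ζ, h1, h2, h0.trans h3, h4⟩

include h0

theorem Ctx.su_tens {n₁ n₂ : ℕ} (hle : n₁ ≤ n₂) {e : ι ≃ Fin n₁ × Fin n₂} {P : GL ι F}
    {A₁ : Matrix (Fin n₁) (Fin n₁) F} {A₂ : Matrix (Fin n₂) (Fin n₂) F}
    (hT : Tens σ 1 f (sIso f) H e P A₁ A₂ 1 1) : SUCase q f H₀ := by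
  have h1 : 2 ≤ n₁ := by simpa using hT.two₁
  have := hT.ne; have := hT.ne₁; have := hT.ne₂
  by_cases h2 : n₁ = 2 ∧ n₂ = 2
  · obtain ⟨rfl, rfl⟩ := h2
    exact h.su_sub hq hG hI ((hT.sub5_two hq.ne_id h.hm h.iso).mono h0)
  by_cases h3 : n₁ = 2 ∧ q = 2
  · obtain ⟨rfl, rfl⟩ := h3
    obtain ⟨D, h3, h4⟩ := hT.hm₁.frame_two hq
    exact h.su_comm hq hG hI h0 (hT.swap.comm_of_dec h.hm h.iso h3
      ((hT.swap.facR_sim h.hm h.iso).trans h4))
  rcases hle.eq_or_lt with rfl | hlt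
  swap
  · exact .tens n₁ n₂ (by simpa using hT.card_eq) h1 hlt (by have := hq.two_le; omega) e P _ _
      (hT.hm₁.unitaryPow hq.apply) (hT.hm₂.unitaryPow hq.apply)
      ((funext hq.apply : ⇑σ = _) ▸ h.hm.tensor_struct hT.gram)
      ⟨h0.trans (hT.nz.le_tensor h1 (by omega)), fun hc => hT.not_nz (nzL_of_le_tensor hc)⟩
  by_cases h4 : q = 2 ∧ n₁ = 3
  · obtain ⟨rfl, rfl⟩ := h4
    have key : ∀ {e : ι ≃ Fin 3 × Fin 3} {A₁ A₂}, Tens σ 1 f (sIso f) H e P A₁ A₂ 1 1 →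
        Isom (formOfGram σ A₂) (facR H e P) ∧
          (CommCase σ f H ∨ ∃ R, Extra (facR H e P) R 3 1) := fun hT => by
      have h4 := (hT.facR_sim h.hm h.iso).trans (hT.hm₂.sim_le_isoG hq)
      have := hT.hm₂.isSolvable_three hq (by simp)
      exact ⟨isom_iff.2 h4, hT.extra_of_solvable h.hm h.iso Nat.prime_three
        (Group.isSolvable_of_isSolvable_injective (inclusion_injective h4)) (isom_iff.2 h4)⟩
    obtain ⟨h4, h5 | ⟨R₂, h5⟩⟩ := key hT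
    · exact h.su_comm hq hG hI h0 h5
    obtain ⟨h6, h7 | ⟨R₁, h7⟩⟩ := key hT.swap
    · exact h.su_comm hq hG hI h0 h7
    obtain ⟨H', h8, h9, h10 | ⟨R, m, h10⟩⟩ :=
      hT.extra_or_comm h.hm h.iso h7 h5 (h6.mono h7.le) (h4.mono h5.le)
    · exact h.su_comm hq hG hI (h0.trans h8) h10
    · exact h.su_extra hq hG hI h10 (h0.trans h8) (h9.mono h10.le)
  obtain ⟨e₁, P₁, h5⟩ := hT.hm₁.exists_std hq (Fintype.card_fin _)
  obtain ⟨e₂, P₂, h6⟩ := hT.hm₂.exists_std hq (Fintype.card_fin _)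
  obtain ⟨e', P', A, ε₁, c, h7, h8, h9, h10, -, h11⟩ := hT.exists_pow h.hm h1 (e₁ := e₁) (P₁ := P₁)
    (e₂ := e₂) (P₂ := P₂) fun x => by rw [h5, h6]
  obtain ⟨f₁, h12, h13⟩ := power_struct_unitary hq h.hm h1 h9 h10 h11
  obtain ⟨a, h14, h15⟩ := hT.exists_wit h.hm h.iso
  exact .pow n₁ 2 (by simpa using (Fintype.card_congr e').symm) (by omega) le_rfl h4 e' P' f₁ h12 h13
    ⟨h0.trans h8, h.cl.not_le_wreath h1 le_rfl ⟨h15, normBy_sIso _ h14⟩ (a := (tr e₁ P₁).symm a)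
      (by rw [← h7, AlgEquiv.apply_symm_apply]; rfl)⟩

omit hI in
theorem Ctx.suCase (h1 : H ≤ H₀ ⊔ scalars ι F) : SUCase q f H₀ := by
  have := h.nonempty
  rcases h.fcase h0 h1 with hI | ⟨hI, hc⟩ | ⟨n₁, n₂, e, P, A₁, A₂, ε₁, ε₂, hT⟩ | ⟨hI, hs⟩ |
    ⟨hI, R, r, k, hR⟩ | ⟨t, k, e, P, A, ε₁, c, hP⟩ | ⟨L, hL⟩
  · rcases h.hm.reducible h.sim hI with ⟨W, h2, h3, h4⟩ | ⟨W, h2, h3, h4, h5⟩
    · exact .ts W h2 h3 ⟨h0.trans h4.le_stab, h.cl.not_le_stab h2 (h.hm.ne_top_of_ts h3 h2)⟩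
    rcases h4.eq_or_lt with h4 | h4
    swap
    · exact .nd W h2 h3 h4 ⟨h0.trans h5.le_stab, h.cl.not_le_stab h2 (by rintro rfl; simp at h4; omega)⟩
    exact h.su_dec hq hG (by simp) (h.hm.halves h2 h3 h4) (h0.trans (le_dec_of_inv fun i => by
      fin_cases i
      exacts [h5, h.hm.inv_perp h.sim h5]))
  · exact h.su_comm hq hG (hI.of_le_sup h1) h0 hc
  · obtain ⟨A₁, A₂, hT⟩ := hT.norm_eps hq
    rcases le_total n₁ n₂ with h2 | h2
    · exact h.su_tens hq hG (hT.irr.of_le_sup h1) h0 h2 hT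
    · exact h.su_tens hq hG (hT.irr.of_le_sup h1) h0 h2 hT.swap
  · exact h.su_sub hq hG (hI.of_le_sup h1) (hs.mono h0)
  · exact h.su_extra hq hG (hI.of_le_sup h1) hR h0 (h.iso.mono hR.le)
  · rcases hP.two_k.eq_or_lt with rfl | hk
    · exact h.su_sub hq hG (hP.irr.of_le_sup h1) ((hP.sub5_two hq.ne_id h.hm h.iso).mono h0)
    obtain ⟨f₁, h2, h3⟩ := power_struct_unitary hq h.hm hP.two_k hP.hm₁ hP.ne hP.gram
    refine .pow k t (by simpa using (Fintype.card_congr e).symm) hk hP.two_t ?_ e P f₁ h2 h3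
      ⟨h0.trans hP.le, hP.not_le⟩
    rintro ⟨rfl, rfl⟩
    obtain ⟨d, h4, h5⟩ := hP.hm₁.exists_scale hq
    refine hP.not_isSolvable ?_
    convert (hP.hm₁.scale h4 h5).isSolvable_three hq (by simp) using 2 <;>
    · ext g
      simp [mem_isoG, fG_smul, h4]
  · exact .res ⟨L, hL.core, fun ⟨Q, h2, h3⟩ => hq.ne_id (hL.form _ _ _
      (IsNondegenerateQuadraticForm.hm h2) (isom_iff_fixesForm.2 (fixesForm_polar h3))).symm,
      fun ⟨f', h2, h3⟩ => hq.ne_id (hL.form _ _ _ (IsSymplecticForm.hm h2)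
        (isom_iff_fixesForm.2 h3)).symm⟩

end

theorem hm_hermForm {q : ℕ} (hq : IsConj σ q) (n : ℕ) : Hm σ 1 (hermForm n F q) :=
  (funext₂ fun u v => by simp [fG_eq, hermForm, dotProduct, hq.apply] :
    formOfGram σ (1 : Matrix (Fin n) (Fin n) F) = hermForm n F q) ▸ hm_fG hq.σσ isUnit_one (by simp)

theorem suCase [Fintype F] {n q : ℕ} (hF : Fintype.card F = q ^ 2) (hn : 3 ≤ n) (h32 : ¬ (n = 3 ∧ q = 2))
    {H : Subgroup (GL (Fin n) F)} (hH : H ≤ GU n F q ⊓ specialLinear (Fin n) F) :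
    SUCase q (hermForm n F q) H :=
  let ⟨_, hq⟩ := isConj_of_card hF
  have h := hm_hermForm hq n
  (ctx_sup h (cl_su hF hn h32) (isom_iff.2 inf_le_left) (h.noDec_su hq (cl_su hF hn h32)) hH).suCase hq
    hH le_sup_left (sup_le_sup_left inf_le_left H)

/-- The field conditions for an extraspecial normaliser with `r` odd. -/
theorem minimal_unitary [Fintype F] {q r p e : ℕ} (hF : Fintype.card F = q ^ 2) (hr : r.Prime)
    (hrp : r ≠ p) (h : IsMinimalFieldFor r p e F) : ∃ d, q = p ^ d ∧ 2 * d < r ∧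
      (p % r) ^ (2 * d) % r = 1 ∧ ∀ k < 2 * d, 0 < k → (p % r) ^ k % r ≠ 1 := by
  obtain ⟨d, -, h1⟩ := (Nat.dvd_prime_pow h.1).1 ((dvd_pow_self q two_ne_zero).trans (hF ▸ h.2.2.1).dvd)
  obtain rfl : e = 2 * d := Nat.pow_right_injective h.1.two_le (by
    simp only; rw [← h.2.2.1, hF, h1, ← pow_mul, mul_comm])
  exact ⟨d, h1, IsMinimalFieldFor.mod hr hrp h⟩

theorem minimal_four [Fintype F] {q p : ℕ} (hF : Fintype.card F = q ^ 2) (hp : 2 ≠ p)
    (h : IsMinimalFieldFor 4 p 2 F) : q = p ∧ p % 4 = 3 := by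
  have h1 := h.2.2.2.2 1 one_pos one_lt_two
  rw [pow_one] at h1
  have := h.1.eq_two_or_odd
  exact ⟨Nat.pow_left_injective two_ne_zero (hF.symm.trans h.2.2.1), by omega⟩

end Cfsg.Lib.Asch
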