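import Cfsg.Agent.Lib.Asch.Sp
import Cfsg.Agent.Lib.Asch.SU
import Cfsg.Agent.Lib.Max.Std
import Cfsg.Agent.Lib.Forms.Disc
import Cfsg.Agent.Lib.Forms.Ext

/-! Tools for the orthogonal groups: types of subspaces and decompositions. -/

set_option autoImplicit false

namespace Cfsg.Lib.Asch

open Matrix Cfsg.Geo Module Cfsg.Lib.Forms Subgroup
open QuadraticMap (polar)
open scoped MatrixGroups Kronecker commutatorElement

variable {ι κ μ : Type} [Fintype ι] [DecidableEq ι] [Fintype κ] [DecidableEq κ]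
  [Fintype μ] [DecidableEq μ] {F : Type*} [Field F] {σ : F →+* F} {ε : F}
  {f : (ι → F) → (ι → F) → F} {Q : (ι → F) → F}

theorem Irr.span_eq_top {H : Subgroup (GL ι F)} (h : Irr H) {T : Set (ι → F)}
    (hT : ∀ g ∈ H, ∀ v ∈ T, (g : Matrix ι ι F) *ᵥ v ∈ T) {v : ι → F} (hv : v ∈ T) (h0 : v ≠ 0) :
    Submodule.span F T = ⊤ :=
  (h _ fun g hg _ hw => (Submodule.span_le (p := (Submodule.span F T).comap (toLin' g.1))).2
    (fun v hv => Submodule.subset_span (hT g hg v hv)) hw).resolve_left fun h1 =>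
      h0 ((Submodule.mem_bot F).1 (h1 ▸ Submodule.subset_span hv))

theorem det_mem_subfield {F₀ : Subfield F} {A : Matrix ι ι F} (h : ∀ i j, A i j ∈ F₀) : A.det ∈ F₀ :=
  det_apply' A ▸ sum_mem fun _ _ => mul_mem (intCast_mem _ _) (prod_mem fun _ _ => h _ _)

theorem inv_mem_subfield {F₀ : Subfield F} {A : Matrix ι ι F} (h : ∀ i j, A i j ∈ F₀) (i j : ι) :
    A⁻¹ i j ∈ F₀ := by
  rw [inv_def, Matrix.smul_apply, Ring.inverse_eq_inv, adjugate_apply]
  refine mul_mem (inv_mem (det_mem_subfield h)) (det_mem_subfield fun a b => ?_)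
  rw [updateRow_apply, Pi.single_apply]
  split_ifs
  exacts [one_mem _, zero_mem _, h a b]

theorem Hm.sub5_of_set [Fintype F] (h : Hm (RingHom.id F) ε f) {H : Subgroup (GL ι F)}
    {T : Set (ι → F)} (hs : Submodule.span F T = ⊤)
    (hT : ∀ g ∈ H, ∀ v ∈ T, (g : Matrix ι ι F) *ᵥ v ∈ T) {F₀ : Subfield F} (h0 : F₀ ≠ ⊤) {ζ : F}
    (hζ : ζ ≠ 0) (hf : ∀ u ∈ T, ∀ v ∈ T, ζ * f u v ∈ F₀) : Sub5 f H := by
  obtain ⟨F₁, r, h1, hr, hc⟩ := exists_maximal_subfield h0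
  obtain ⟨s, h2, h3, h4⟩ := exists_linearIndependent F T
  let b := Basis.mk h4 (by rw [Subtype.range_coe, h3, hs])
  let P := (glEquiv ι F).symm ((Pi.basisFun F ι).equiv b ((Pi.basisFun F ι).indexEquiv b))
  have hP : ∀ i, vec (Equiv.refl ι) P (Pi.single i 1) ∈ T := fun i => by
    rw [vec_apply, mulVec_glEquiv_symm, Equiv.coe_refl, Function.comp_id, ← Pi.basisFun_apply,
      Basis.equiv_apply, Basis.mk_apply]
    exact h2 (Subtype.prop _)
  have h5 := fun i j => h1 (hf _ (hP i) _ (hP j))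
  refine ⟨F₁, r, P, ζ, hr, hc, fun g hg => mem_subfieldSubgroup_iff.2 ⟨1, one_ne_zero, ?_⟩, hζ, h5⟩
  obtain ⟨x, hx⟩ := (tr (Equiv.refl ι) P).surjective g
  set G := ζ • gramMatrix (Asch.pull f (Equiv.refl ι) P)
  have h6 : IsUnit G.det := by
    rw [det_smul]
    exact (IsUnit.mk0 _ (pow_ne_zero _ hζ)).mul ((isUnit_iff_isUnit_det _).1 (h.pull _ P).unit)
  rw [one_smul, ← hx, ratl_tr, ← nonsing_inv_mul_cancel_left G x h6]
  refine fun i j => sum_mem fun k _ => mul_mem (inv_mem_subfield h5 _ _) ?_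
  convert h1 (hf _ (hP k) _ (hT g hg _ (hP j)))
  rw [← hx, tr_vec]
  change _ = ζ * Asch.pull f _ P _ _
  rw [(h.pull _ P).eq_fG, fG_mulVec_right, smul_mul_assoc]
  simp [formOfGram, Pi.single_apply]

/-- Non-degenerate quadratic forms. -/
abbrev NQ (Q : (ι → F) → F) : Prop := IsNondegenerateQuadraticForm Q

/-- Plus type. -/
abbrev Plus (Q : (ι → F) → F) : Prop := IsPlusTypeOn Q ⊤

omit [DecidableEq ι] in
theorem finrank_sup_of_disjoint {W W' : Submodule F (ι → F)} (h : Disjoint W W') :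
    finrank F ↥(W ⊔ W') = finrank F W + finrank F W' := by
  rw [← Submodule.finrank_sup_add_finrank_inf_eq, h.eq_bot, finrank_bot, add_zero]

omit [Fintype ι] [DecidableEq ι] in
theorem Hm.nondeg_sup (h : Hm σ ε f) {W W' : Submodule F (ι → F)} (hW : IsNondegenerateOn f W)
    (hW' : IsNondegenerateOn f W') (ho : AreOrthogonalFor f W W') :
    IsNondegenerateOn f (W ⊔ W') ∧ Disjoint W W' := by
  rw [h.nondegOn_iff] at hW hW' ⊢
  refine ⟨eq_bot_iff.2 fun x ⟨hx, hx'⟩ => ?_, (disjoint_iff.2 hW).mono_right fun y hy =>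
    h.mem_perp'.2 fun w hw => ho w hw y hy⟩
  obtain ⟨a, ha, b, hb, rfl⟩ := Submodule.mem_sup.1 hx
  obtain rfl : a = 0 := hW.le ⟨ha, fun w hw => by
    simpa [h.add_left, h.symm0 (ho w hw b hb)] using hx' w (Submodule.mem_sup_left hw)⟩
  simpa using hW'.le ⟨hb, fun w hw => by simpa using hx' w (Submodule.mem_sup_right hw)⟩

omit [DecidableEq ι] in
theorem Hm.prod_dec (h : Hm σ ε f) {t k d : ℕ} {D : Fin t → Submodule F (ι → F)}
    (hD : IsNondegenerateMDecomposition f k D) (hd : d ∣ k) {M : Type*} [CommMonoid M]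
    (τ : Submodule F (ι → F) → M) (h0 : τ ⊥ = 1)
    (hm : ∀ W W', IsNondegenerateOn f W → IsNondegenerateOn f W' → AreOrthogonalFor f W W' →
      d ∣ finrank F W → d ∣ finrank F W' → τ (W ⊔ W') = τ W * τ W') : τ ⊤ = ∏ i, τ (D i) := by
  have key : ∀ s : Finset (Fin t), IsNondegenerateOn f (s.sup D) ∧ d ∣ finrank F ↥(s.sup D) ∧
      τ (s.sup D) = ∏ i ∈ s, τ (D i) := fun s => by
    induction s using Finset.induction_on with
    | empty => rw [Finset.sup_empty]; simp [h0, h.nondegOn_iff]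
    | insert i s hi ih =>
      have h1 : AreOrthogonalFor f (D i) (s.sup D) := fun u hu v hv => h.mem_perp'.1
        (Finset.sup_le (a := h.perp (D i)) (fun j hj v hv => h.mem_perp'.2 fun w hw =>
          hD.orthogonal i j (by rintro rfl; exact hi hj) w hw v hv) hv) u hu
      have h2 := h.nondeg_sup (hD.nondegenerate i) ih.1 h1
      have h3 : d ∣ finrank F (D i) := hD.decomp.finrank_eq i ▸ hd
      rw [Finset.sup_insert, Finset.prod_insert hi, hm _ _ (hD.nondegenerate i) ih.1 h1 h3 ih.2.1, ih.2.2,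
        finrank_sup_of_disjoint h2.2]
      exact ⟨h2.1, dvd_add h3 ih.2.1, rfl⟩
  rw [← (key .univ).2.2, Finset.sup_univ_eq_iSup, hD.decomp.iSup_eq_top]

theorem iSup_two {α : Type*} [CompleteLattice α] (D : Fin 2 → α) : iSup D = D 0 ⊔ D 1 :=
  le_antisymm (iSup_le (Fin.forall_fin_two.2 ⟨le_sup_left, le_sup_right⟩))
    (sup_le (le_iSup D 0) (le_iSup D 1))

namespace NQ

variable (hQ : NQ Q)
include hQ

section

omit [Fintype ι] [DecidableEq ι]

theorem hm : Hm (RingHom.id F) 1 (polar Q) := IsNondegenerateQuadraticForm.hm hQ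

theorem zero : Q 0 = 0 := (qForm hQ).Q_zero

theorem self (v : ι → F) : polar Q v v = 2 * Q v := (qForm hQ).B_self v

omit hQ in
theorem add (u v : ι → F) : Q (u + v) = Q u + Q v + polar Q u v := by
  rw [polar]; ring

theorem ne_zero {v : ι → F} {c : F} (h : Q v = c) (hc : c ≠ 0) : v ≠ 0 := by
  rintro rfl; exact hc (h ▸ hQ.zero)

theorem nd {W : Submodule F (ι → F)} (hW : IsNondegenerateOn (polar Q) W) :
    ((qForm hQ).restrict W).Nondeg := (br_qForm hQ).nondeg_restrict hW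

omit hQ in
theorem ts {W : Submodule F (ι → F)} (hW : IsTotallySingularQuad Q W) :
    IsTotallySingularFor (polar Q) W := fun u hu v hv => by
  rw [polar, hW u hu, hW v hv, hW _ (add_mem hu hv)]; simp

theorem eq_zero (h2 : (2 : F) ≠ 0) {v : ι → F} (h : polar Q v v = 0) : Q v = 0 :=
  (mul_eq_zero.1 (hQ.self v ▸ h)).resolve_left h2

theorem alt (h2 : (2 : F) = 0) (v : ι → F) : polar Q v v = 0 := by rw [hQ.self, h2, zero_mul]

theorem iso_sup {W W' : Submodule F (ι → F)} (hd : Disjoint W W')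
    (ho : AreOrthogonalFor (polar Q) W W') : ((qForm hQ).restrict (W ⊔ W')).Iso
      (((qForm hQ).restrict W).prod ((qForm hQ).restrict W')) := by
  let φ := (W.subtype.coprod W'.subtype).codRestrict (W ⊔ W') fun x => Submodule.add_mem_sup x.1.2 x.2.2
  refine Form.Iso.symm ⟨.ofBijective φ ⟨(injective_iff_map_eq_zero _).2 fun x hx => ?_, ?_⟩,
    quad_isIsometry (map_add _) fun x => ?_⟩
  · have h1 : (x.1 : ι → F) = -x.2 := eq_neg_of_add_eq_zero_left (congrArg Subtype.val hx)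
    have h2 := Submodule.disjoint_def.1 hd _ x.1.2 (h1 ▸ neg_mem x.2.2)
    exact Prod.ext (Subtype.ext h2) (Subtype.ext (neg_eq_zero.1 (h1 ▸ h2)))
  · rintro ⟨x, hx⟩
    obtain ⟨a, ha, b, hb, rfl⟩ := Submodule.mem_sup.1 hx
    exact ⟨(⟨a, ha⟩, ⟨b, hb⟩), rfl⟩
  · exact (add x.1.1 x.2.1).trans (by rw [ho _ x.1.2 _ x.2.2, add_zero]; rfl)

end

omit [DecidableEq ι]

theorem plus_iff {W : Submodule F (ι → F)} {m : ℕ} (h : finrank F W = 2 * m) :
    IsPlusTypeOn Q W ↔ ((qForm hQ).restrict W).HasTS m := isPlusTypeOn_iff' (D := qForm hQ) h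

theorem plus_top {m : ℕ} (h : Fintype.card ι = 2 * m) : Plus Q ↔ (qForm hQ).HasTS m :=
  isPlusTypeOn_top (D := qForm hQ) (by simpa using h)

omit [Fintype ι] in
theorem iso_iff {W W' : Submodule F (ι → F)} : AreIsometricFor Q W W' ↔
    ((qForm hQ).restrict W).Iso ((qForm hQ).restrict W') := areIsometricFor_iff (D := qForm hQ)

theorem plus_congr {W W' : Submodule F (ι → F)} (h : AreIsometricFor Q W W') :
    IsPlusTypeOn Q W → IsPlusTypeOn Q W' := fun h1 =>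
  let ⟨_, h2, h3⟩ := (isPlusTypeOn_iff (D := qForm hQ)).1 h1
  (hQ.plus_iff ((hQ.iso_iff.1 h).finrank_eq ▸ h2)).2 ((hQ.iso_iff.1 h).hasTS_iff.1 h3)

variable [Fintype F]

theorem plus_sup {W W' : Submodule F (ι → F)} (hW : IsNondegenerateOn (polar Q) W)
    (hW' : IsNondegenerateOn (polar Q) W') (ho : AreOrthogonalFor (polar Q) W W')
    (h1 : 2 ∣ finrank F W) (h2 : 2 ∣ finrank F W') :
    IsPlusTypeOn Q (W ⊔ W') ↔ (IsPlusTypeOn Q W ↔ IsPlusTypeOn Q W') := by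
  obtain ⟨m, h1⟩ := h1
  obtain ⟨l, h2⟩ := h2
  have h3 := (hQ.hm.nondeg_sup hW hW' ho).2
  rw [hQ.plus_iff h1, hQ.plus_iff h2, hQ.plus_iff (m := m + l) (by
    rw [finrank_sup_of_disjoint h3, h1, h2, mul_add]), (hQ.iso_sup h3 ho).hasTS_iff,
    Quad.hasTS_prod_iff_iff (hQ.nd hW) (hQ.nd hW') h1 h2]

theorem type_even {t k : ℕ} {D : Fin t → Submodule F (ι → F)} (hD : IsOrthogonalMDecomposition Q k D)
    (hk : Even k) : ((∀ i, IsPlusTypeOn Q (D i)) ∧ Plus Q) ∨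
      ((∀ i, ¬ IsPlusTypeOn Q (D i)) ∧ (Plus Q ↔ Even t)) := by
  classical
  have := hQ.hm.prod_dec hD.decomp hk.two_dvd (fun W => if IsPlusTypeOn Q W then (1 : ℤˣ) else -1)
    (if_pos ⟨⊥, le_rfl, fun w hw => by rw [(Submodule.mem_bot F).1 hw, hQ.zero], by simp⟩)
    fun W W' h1 h2 h3 h4 h5 => by
      rw [hQ.plus_sup h1 h2 h3 h4 h5]
      by_cases a : IsPlusTypeOn Q W <;> by_cases b : IsPlusTypeOn Q W' <;> simp [a, b]
  by_cases h : ∃ i, IsPlusTypeOn Q (D i)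
  · obtain ⟨i, hi⟩ := h
    have h1 := fun j => hQ.plus_congr (hD.isometric i j) hi
    exact Or.inl ⟨h1, by simpa [h1] using this⟩
  · push Not at h
    refine Or.inr ⟨h, ?_⟩
    rcases t.even_or_odd with ht | ht
    · simpa [h, ht, ht.neg_one_pow] using this
    · simpa [h, Nat.not_even_iff_odd.2 ht, ht.neg_one_pow] using this

open Classical in
/-- The discriminant of a non-degenerate subspace. -/
noncomputable def dsc (W : Submodule F (ι → F)) : ℤˣ :=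
  if h : IsNondegenerateOn (polar Q) W then Form.disc (hQ.nd h) else 1

theorem dsc_eq {W : Submodule F (ι → F)} (h : IsNondegenerateOn (polar Q) W) :
    hQ.dsc W = Form.disc (hQ.nd h) := dif_pos h

theorem dsc_sup {W W' : Submodule F (ι → F)} (hW : IsNondegenerateOn (polar Q) W)
    (hW' : IsNondegenerateOn (polar Q) W') (ho : AreOrthogonalFor (polar Q) W W') :
    hQ.dsc (W ⊔ W') = hQ.dsc W * hQ.dsc W' := by
  have h := hQ.hm.nondeg_sup hW hW' ho
  rw [hQ.dsc_eq hW, hQ.dsc_eq hW', hQ.dsc_eq h.1, ← Form.disc_prod, (hQ.iso_sup h.2 ho).disc_eq]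

theorem dsc_top {t k : ℕ} {D : Fin t → Submodule F (ι → F)}
    (hD : IsNondegenerateMDecomposition (polar Q) k D) :
    Form.disc (qForm_nondeg hQ) = ∏ i, Form.disc (hQ.nd (hD.nondegenerate i)) := by
  have h1 : IsNondegenerateOn (polar Q) ⊤ := fun w _ h0 => by simpa using hQ.nondegenerate w h0
  have := hQ.hm.prod_dec hD (one_dvd _) hQ.dsc
    ((hQ.dsc_eq fun w hw h => absurd hw h).trans (Form.disc_of_finrank_zero _ (by simp)))
    fun W W' h1 h2 h3 _ _ => hQ.dsc_sup h1 h2 h3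
  simp only [hQ.dsc_eq h1, hQ.dsc_eq (hD.nondegenerate _)] at this
  rw [← this, (Form.iso_restrict_top _).disc_eq]

theorem odd_card {W : Submodule F (ι → F)} (hW : IsNondegenerateOn (polar Q) W)
    (h : Odd (finrank F W)) : Odd (Fintype.card F) :=
  let ⟨_, h⟩ := h
  odd_iff_two_ne_zero.2 (Quad.two_ne_zero_of_odd (hQ.nd hW) h)

theorem plus_iff_disc (ho : Odd (Fintype.card F)) {m : ℕ} (h : Fintype.card ι = 2 * m) :
    Plus Q ↔ (Form.disc (qForm_nondeg hQ) = 1 ↔ (m % 2 = 0 ∨ Fintype.card F % 4 = 1)) := by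
  have h2 := two_ne_zero_of_odd ho
  have h3 := (chi_neg_one_pow h2 1).1
  rw [pow_one, pow_one, Nat.card_eq_fintype_card] at h3
  rw [hQ.plus_top h, Form.hasTS_iff_disc (qForm_nondeg hQ) h2 (by simpa using h), ← h3, ← Nat.even_iff]
  rcases Int.units_eq_one_or (chi (-1 : F)) with h4 | h4 <;>
    rcases Int.units_eq_one_or (Form.disc (qForm_nondeg hQ)) with h5 | h5 <;>
    rcases m.even_or_odd with h6 | h6 <;> simp [h4, h5, h6.neg_one_pow, h6, ← Nat.not_odd_iff_even]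

variable [DecidableEq ι]

theorem type_odd {t k : ℕ} {D : Fin t → Submodule F (ι → F)} (hD : IsOrthogonalMDecomposition Q k D)
    (hk : Odd k) (ht : Even t) : Plus Q ↔ (t * k % 4 = 0 ∨ Fintype.card F % 4 = 1) := by
  have h0 := hD.decomp.decomp.two_le
  let o : Fin t := ⟨0, by omega⟩
  have h1 := IsMDecomposition.mul_eq hD.decomp.decomp
  obtain ⟨s, hs⟩ := ht.two_dvd
  rw [hQ.plus_iff_disc (hQ.odd_card (hD.decomp.nondegenerate o) (hD.decomp.decomp.finrank_eq o ▸ hk))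
    (m := s * k) (by rw [← h1, hs, mul_assoc]), hQ.dsc_top hD.decomp, Finset.prod_congr rfl fun i _ =>
      (hQ.iso_iff.1 (hD.isometric i o)).disc_eq _ (hQ.nd (hD.decomp.nondegenerate o)),
    Finset.prod_const, Finset.card_fin, Int.units_pow_eq_pow_mod_two, Nat.even_iff.1 ht, pow_zero, hs,
    mul_assoc, iff_true_left rfl]
  omega

theorem type_half {k : ℕ} {D : Fin 2 → Submodule F (ι → F)}
    (hD : IsNondegenerateMDecomposition (polar Q) k D) (h : ¬ AreIsometricFor Q (D 0) (D 1)) :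
    (Even k ∧ ¬ Plus Q) ∨ (Odd k ∧ Odd (Fintype.card F) ∧ (Plus Q ↔ Fintype.card F % 4 = 3)) := by
  rw [hQ.iso_iff] at h
  have h1 := hD.decomp.finrank_eq
  rcases k.even_or_odd with hk | hk
  · obtain ⟨m, rfl⟩ := hk.two_dvd
    refine Or.inl ⟨hk, fun h2 => h (Quad.iso_of_type (hQ.nd (hD.nondegenerate 0))
      (hQ.nd (hD.nondegenerate 1)) (h1 0) (h1 1) ?_)⟩
    rwa [← hQ.plus_iff (h1 0), ← hQ.plus_iff (h1 1), ← hQ.plus_sup (hD.nondegenerate 0)
      (hD.nondegenerate 1) (hD.orthogonal 0 1 (by decide)) ⟨m, h1 0⟩ ⟨m, h1 1⟩, ← iSup_two,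
      hD.decomp.iSup_eq_top]
  have ho := hQ.odd_card (hD.nondegenerate 0) (h1 0 ▸ hk)
  refine Or.inr ⟨hk, ho, ?_⟩
  rw [hQ.plus_iff_disc ho (IsMDecomposition.mul_eq hD.decomp).symm, hQ.dsc_top hD, Fin.prod_univ_two,
    mul_eq_one_iff_eq_inv, Int.units_inv_eq_self, iff_false_left fun h2 => h (Form.iso_of_disc _ _
      (two_ne_zero_of_odd ho) ((h1 0).trans (h1 1).symm) h2)]
  rw [Nat.odd_iff] at ho hk
  omega

/-! ### Totally singular subspaces -/

omit [Fintype F] in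
theorem omega_even (hn : Fintype.card ι ≠ 4) {U : Submodule F (ι → F)} (hU : IsTotallySingularQuad Q U)
    (h : 2 * finrank F U = Fintype.card ι) {g : GL ι F} (hg : g ∈ omegaGL Q) :
    Even (finrank F U - finrank F ↥(U ⊓ U.map (toLin' (g : Matrix ι ι F)))) := by
  obtain ⟨x, hx, rfl⟩ := (omegaGL_eq_commutator (qForm hQ)).le hg
  rw [toLin'_toGL]
  exact ((Form.isTS_quad (D := qForm hQ) hU).dickson_eq_one_iff (qForm_nondeg hQ) (Form.good_of_finrank (by simpa))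
    (by simpa) x).1 (Abelianization.commutator_subset_ker _ hx)

omit [Fintype F] in
theorem exists_max (hn : Fintype.card ι ≠ 4) (hp : Plus Q) {H : Subgroup (GL ι F)} (hH : H ≤ omegaGL Q)
    {W : Submodule F (ι → F)} (hW : IsTotallySingularQuad Q W) (hI : Inv H W)
    (h : 2 * (finrank F W + 1) = Fintype.card ι) :
    ∃ U, IsTotallySingularQuad Q U ∧ 2 * finrank F U = Fintype.card ι ∧ Inv H U := by
  have h1 := Form.isTS_quad (D := qForm hQ) hW
  obtain ⟨x, h2, h3, h4⟩ : ∃ x ∈ (qForm hQ).perp W, (qForm hQ).Q x = 0 ∧ x ∉ W := by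
    by_contra hc
    push Not at hc
    exact (qForm_nondeg hQ).not_hasTS_succ h1 hc ((hQ.plus_top h.symm).1 hp)
  have h5 := Submodule.finrank_sup_span_singleton h4
  have h6 := (h1.sup_span h3 h2).Q_eq
  refine ⟨_, h6, h5 ▸ h, inv_iff_le_stab.2 fun g hg => mem_stab_iff_map.2 ?_⟩
  have h7 := hQ.omega_even hn h6 (h5 ▸ h) (hH hg)
  have h8 := Submodule.finrank_mono (le_inf (le_sup_left (b := Submodule.span F {x}))
    ((hI.map_eq hg).ge.trans (Submodule.map_mono (le_sup_left (b := Submodule.span F {x})))))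
  have h9 := (inf_le_left : (W ⊔ Submodule.span F {x}) ⊓ (W ⊔ Submodule.span F {x}).map (toLin' g.1) ≤ _)
  have h10 := Submodule.finrank_mono h9
  exact (Submodule.eq_of_le_of_finrank_eq ((Submodule.eq_of_le_of_finrank_eq h9 (by
    rw [Nat.even_iff] at h7; omega)).ge.trans inf_le_right) (finrank_map_gl g _).symm).symm

theorem reducible {H : Subgroup (GL ι F)} (hH : H ≤ isometryGroup F Q) (hI : ¬ Irr H) :
    (∃ W : Submodule F (ι → F), W ≠ ⊥ ∧ IsTotallySingularQuad Q W ∧ Inv H W) ∨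
    (∃ W : Submodule F (ι → F), W ≠ ⊥ ∧ IsNondegenerateOn (polar Q) W ∧
      2 * finrank F W ≤ Fintype.card ι ∧ Inv H W) ∨
    (¬ Odd (Fintype.card F) ∧ ∃ v, Q v ≠ 0 ∧ Inv H (Submodule.span F {v})) := by
  rcases hQ.hm.reducible (hH.trans (isometryGroup_le.trans isoG_le_sim)) hI with ⟨W, h0, h1, h2⟩ | h
  swap
  · exact Or.inr (Or.inl h)
  let U : Submodule F (ι → F) :=
    { carrier := {w | w ∈ W ∧ Q w = 0}
      add_mem' := fun {a b} ha hb => ⟨add_mem ha.1 hb.1, by simp [add, ha.2, hb.2, h1 a ha.1 b hb.1]⟩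
      zero_mem' := ⟨zero_mem _, hQ.zero⟩
      smul_mem' := fun c v hv => ⟨W.smul_mem c hv.1, by rw [hQ.smul, hv.2, mul_zero]⟩ }
  by_cases hU : U = ⊥
  swap
  · exact Or.inl ⟨U, hU, fun w hw => hw.2, fun g hg w hw =>
      ⟨h2 g hg w hw.1, (mem_isometryGroup.1 (hH hg) w).trans hw.2⟩⟩
  obtain ⟨v, hv, hv0⟩ := Submodule.exists_mem_ne_zero_of_ne_bot h0
  have h3 : Q v ≠ 0 := fun h => hv0 (hU.le ⟨hv, h⟩)
  have h4 : (2 : F) = 0 := by_contra fun h => h3 (hQ.eq_zero h (h1 v hv v hv))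
  refine Or.inr (Or.inr ⟨fun h => two_ne_zero_of_odd h h4, v, h3, ?_⟩)
  convert h2
  refine le_antisymm ((Submodule.span_singleton_le_iff_mem _ _).2 hv) fun w hw => ?_
  obtain ⟨c, hc⟩ := exists_sq_eq h4 (Q w / Q v)
  refine Submodule.mem_span_singleton.2 ⟨-c, ?_⟩
  rw [neg_smul, neg_eq_iff_add_eq_zero]
  refine hU.le ⟨add_mem (W.smul_mem c hv) hw, ?_⟩
  rw [add (Q := Q), h1 _ (W.smul_mem c hv) w hw, hQ.smul, hc, div_mul_cancel₀ _ h3, ← two_mul, h4]
  simp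

omit [Fintype F] in
theorem plus_of_idem {e : Matrix ι ι F} (he : e * e = e) (ha : e + adj (RingHom.id F) (polar Q) e = 1)
    (h0 : IsTotallySingularQuad Q (rg e)) : Plus Q ∧ 2 * finrank F (rg e) = Fintype.card ι := by
  have h1 := hQ.hm.two_mul_le_of_ts (ts h0)
  have h2 := hQ.hm.two_mul_le_of_ts (W := rg (adj (RingHom.id F) (polar Q) e)) (by
    rintro _ ⟨u, rfl⟩ _ ⟨v, rfl⟩
    rw [toLin'_apply, toLin'_apply, ← hQ.hm.adj_spec, mulVec_mulVec, eq_sub_of_add_eq' ha, mul_sub, he,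
      mul_one, sub_self, zero_mulVec, hQ.hm.zero_left])
  have h3 := Submodule.finrank_add_le_finrank_add_finrank (rg e) (rg (adj (RingHom.id F) (polar Q) e))
  rw [show rg e ⊔ _ = ⊤ from eq_top_iff.2 fun v _ => by
    rw [← one_mulVec v, ← ha, add_mulVec]
    exact Submodule.add_mem_sup (mulVec_mem_rg _ _) (mulVec_mem_rg _ _), finrank_top,
    finrank_fintype_fun_eq_card] at h3
  exact ⟨⟨_, le_top, h0, by rw [finrank_top, finrank_fintype_fun_eq_card]; omega⟩, by omega⟩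

theorem eq_theta (hn : 2 ≤ Fintype.card ι) {H : Subgroup (GL ι F)} (hI : Irr H)
    (hH : H ≤ isometryGroup F Q) {θ : Matrix ι ι F} (hθ : θ + adj (RingHom.id F) (polar Q) θ = 1)
    (hc : ∀ g ∈ H, θ * cj g θ = cj g θ * θ ∨ ∃ η, η + adj (RingHom.id F) (polar Q) η = 1 ∧
      θ * η = η * θ ∧ η * cj g θ = cj g θ * η) (v : ι → F) : Q v = polar Q (θ *ᵥ v) v :=
  congrFun (hI.quad_unique hn hQ (hQ.hm.quad_theta hθ) (fun u v => by rw [hQ.hm.polar_theta hθ]) hH
    (hQ.hm.le_isometry_theta (isom_iff.2 (hH.trans isometryGroup_le)) hθ hc)) v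

/-! ### Small subspaces over small fields -/

omit [DecidableEq ι]

theorem model {W : Submodule F (ι → F)} (hW : IsNondegenerateOn (polar Q) W) {m : ℕ}
    (h : finrank F W = 2 * m) (hp : IsPlusTypeOn Q W) : ∃ φ : (Fin m ⊕ Fin m → F) →ₗ[F] ι → F,
      (∀ w, w ∈ W ↔ ∃ x, φ x = w) ∧ (∀ x, Q (φ x) = ∑ i, x (.inl i) * x (.inr i)) ∧
      ∀ x y, polar Q (φ x) (φ y) = ∑ i, (x (.inl i) * y (.inr i) + x (.inr i) * y (.inl i)) := by
  obtain ⟨e, he⟩ := (Quad.iso_fPlus (hQ.nd hW) h ((hQ.plus_iff h).1 hp)).symm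
  exact ⟨W.subtype ∘ₗ e, fun w => ⟨fun hw => ⟨e.symm ⟨w, hw⟩, by simp⟩, by
    rintro ⟨x, rfl⟩; exact (e x).2⟩, he.2, fun x y => (hQ.hm.symm _ _).trans (he.1 x y)⟩

theorem plane_three (h3 : Fintype.card F ≤ 3) {W : Submodule F (ι → F)}
    (hW : IsNondegenerateOn (polar Q) W) (h : finrank F W = 2) (hp : IsPlusTypeOn Q W) :
    ∃ v ∈ W, Q v = 1 ∧ (∀ w ∈ W, Q w = 1 → w ∈ Submodule.span F {v}) ∧
      ∃ u ∈ W, u ≠ 0 ∧ polar Q v u = 0 := by
  obtain ⟨φ, h1, h2, h4⟩ := hQ.model hW (m := 1) h hp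
  refine ⟨φ 1, (h1 _).2 ⟨_, rfl⟩, by simp [h2], fun w hw h5 => ?_, φ (Sum.elim 1 (-1)), (h1 _).2 ⟨_, rfl⟩,
    hQ.ne_zero (c := -1) (by simp [h2]) (by simp), by simp [h4]⟩
  obtain ⟨x, rfl⟩ := (h1 w).1 hw
  rw [h2, Fin.sum_univ_one] at h5
  have h6 : x (.inl 0) * x (.inl 0) = 1 := by
    have := Fintype.one_lt_card (α := F)
    have h0 := left_ne_zero_of_mul_eq_one h5
    rcases h3.eq_or_lt with h3 | h3
    · rw [← sq, pow_eq_one_of_card h3 h0]
    · simp [(eq_zero_or_one (by omega) _).resolve_left h0]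
  refine Submodule.mem_span_singleton.2 ⟨x (.inl 0), ?_⟩
  rw [← map_smul]
  congr 1
  ext (i | i) <;> obtain rfl := Subsingleton.elim i 0 <;> simp
  linear_combination x (.inr 0) * h6 - x (.inl 0) * h5

theorem plane_four (h4 : Fintype.card F = 4) {W : Submodule F (ι → F)}
    (hW : IsNondegenerateOn (polar Q) W) (h : finrank F W = 2) (hp : IsPlusTypeOn Q W) {u v : ι → F}
    (hu : u ∈ W) (hv : v ∈ W) (h1 : Q u = 1) (h2 : Q v = 1) : polar Q u v = 2 ∨ polar Q u v = -1 := by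
  obtain ⟨φ, h3, h5, h6⟩ := hQ.model hW (m := 1) h hp
  obtain ⟨x, rfl⟩ := (h3 u).1 hu
  obtain ⟨y, rfl⟩ := (h3 v).1 hv
  simp only [h5, h6, Fin.sum_univ_one] at h1 h2 ⊢
  have h7 : x (.inl 0) * y (.inr 0) * (x (.inr 0) * y (.inl 0)) = 1 := by
    linear_combination y (.inl 0) * y (.inr 0) * h1 + h2
  have h8 := pow_eq_one_of_card h4 (left_ne_zero_of_mul_eq_one h7)
  generalize x (.inl 0) * y (.inr 0) = a at *
  generalize x (.inr 0) * y (.inl 0) = b at *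
  obtain rfl : b = a ^ 2 := by linear_combination a ^ 2 * h7 - b * h8
  rcases mul_eq_zero.1 (show (a - 1) * (a + a ^ 2 + 1) = 0 by linear_combination h8) with h | h
  · exact Or.inl (by rw [sub_eq_zero.1 h]; norm_num)
  · exact Or.inr (by linear_combination h)

theorem plane_five (h4 : Fintype.card F = 5) {W : Submodule F (ι → F)}
    (hW : IsNondegenerateOn (polar Q) W) (h : finrank F W = 2) (hp : IsPlusTypeOn Q W) :
    ∀ u ∈ W, ∀ v ∈ W, Q u = 1 → Q v = 1 → v ∈ Submodule.span F {u} ∨ polar Q u v = 0 := by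
  intro u hu v hv h1 h2
  obtain ⟨φ, h3, h5, h6⟩ := hQ.model hW (m := 1) h hp
  obtain ⟨x, rfl⟩ := (h3 u).1 hu
  obtain ⟨y, rfl⟩ := (h3 v).1 hv
  simp only [h5, h6, Fin.sum_univ_one] at h1 h2 ⊢
  have h7 : x (.inl 0) * y (.inr 0) * (x (.inr 0) * y (.inl 0)) = 1 := by
    linear_combination y (.inl 0) * y (.inr 0) * h1 + h2
  have h8 := pow_eq_one_of_card h4 (left_ne_zero_of_mul_eq_one h7)
  set a := x (.inl 0) * y (.inr 0) with ha
  rcases mul_eq_zero.1 (show (a ^ 2 - 1) * (a ^ 2 + 1) = 0 by linear_combination h8) with h | h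
  · refine Or.inl (Submodule.mem_span_singleton.2 ⟨a, ?_⟩)
    rw [← map_smul]
    congr 1
    ext (i | i) <;> obtain rfl := Subsingleton.elim i 0 <;> simp
    · linear_combination y (.inl 0) * h - a * x (.inl 0) * h2 - a * y (.inl 0) * ha
    · linear_combination y (.inr 0) * h1 + x (.inr 0) * ha
  · exact Or.inr (by linear_combination (x (.inr 0) * y (.inl 0)) * h - a * h7)

omit [Fintype F] in
theorem aniso {W : Submodule F (ι → F)} (h : finrank F W = 2) :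
    ¬ IsPlusTypeOn Q W ↔ ∀ w ∈ W, Q w = 0 → w = 0 := by
  rw [hQ.plus_iff (m := 1) h, Form.hasTS_one_iff]
  simp only [qForm, ne_eq, not_exists, not_and', not_not, Form.restrict_Q, Subtype.forall,
    Submodule.mk_eq_zero]

theorem plane_minus (h3 : Fintype.card F = 3) {W : Submodule F (ι → F)} (h : finrank F W = 2)
    (hp : ¬ IsPlusTypeOn Q W) :
    ∀ u ∈ W, ∀ v ∈ W, Q u = 1 → Q v = 1 → v ∈ Submodule.span F {u} ∨ polar Q u v = 0 := by
  intro u hu v hv h1 h2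
  refine or_iff_not_imp_right.2 fun h4 => Submodule.mem_span_singleton.2 ⟨-polar Q u v, ?_⟩
  have h5 := pow_eq_one_of_card h3 h4
  have h6 : (3 : F) = 0 := by simpa [h3] using FiniteField.cast_card_eq_zero F
  rw [neg_smul, neg_eq_iff_add_eq_zero]
  refine (hQ.aniso h).1 hp _ (add_mem (W.smul_mem _ hu) hv) ?_
  rw [add (Q := Q), hQ.smul, hQ.hm.smul_left, h1, h2]
  linear_combination 2 * h5 + h6

theorem space_three (h3 : Fintype.card F = 3) {W : Submodule F (ι → F)}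
    (hW : IsNondegenerateOn (polar Q) W) (h : finrank F W = 3) : ∃ c, c ≠ 0 ∧
      ∀ u ∈ W, ∀ v ∈ W, Q u = c → Q v = c → v ∈ Submodule.span F {u} ∨ polar Q u v = 0 := by
  have h2 := two_ne_zero_of_three h3
  obtain ⟨c, hc, e, he⟩ := Quad.exists_iso_qsmul (fDiag_nondeg h2 (w := fun _ : Fin 3 => (1 : F))
    fun _ => one_ne_zero) (hQ.nd hW) (m := 1) (by simp) h
  refine ⟨c, hc, fun u hu v hv h4 h5 => ?_⟩
  let φ := ZMod.ringEquivOfPrime F Nat.prime_three h3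
  obtain ⟨x, hx⟩ := (e.surjective.comp φ.surjective.comp_left) ⟨u, hu⟩
  obtain ⟨y, hy⟩ := (e.surjective.comp φ.surjective.comp_left) ⟨v, hv⟩
  obtain rfl : e (φ ∘ x) = u := congrArg Subtype.val hx
  obtain rfl : e (φ ∘ y) = v := congrArg Subtype.val hy
  have h6 : ∀ x : Fin 3 → ZMod 3, Q (e (φ ∘ x)) = c → ∑ i, x i ^ 2 = 1 := fun x hx => φ.injective (by
    simpa [fDiag_Q, hc] using (he.2 _).symm.trans hx)
  have key : ∀ x y : Fin 3 → ZMod 3, ∑ i, x i ^ 2 = 1 → ∑ i, y i ^ 2 = 1 →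
      (∃ a : ZMod 3, y = a • x) ∨ ∑ i, y i * x i = 0 := by decide +kernel
  refine (key x y (h6 x h4) (h6 y h5)).imp (fun ⟨a, h⟩ => Submodule.mem_span_singleton.2 ⟨φ a, ?_⟩)
    fun h => (he.1 _ _).trans ?_
  · simpa [fDiag_B, hc, h2, ← Finset.mul_sum] using congrArg φ h
  · rw [← Submodule.coe_smul, ← map_smul, h]
    congr 2
    ext; simp

theorem space_four (h2 : Fintype.card F = 2) {W : Submodule F (ι → F)}
    (hW : IsNondegenerateOn (polar Q) W) (h : finrank F W = 4) (hp : IsPlusTypeOn Q W) {u v w : ι → F}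
    (hu : u ∈ W) (hv : v ∈ W) (hw : w ∈ W) (h1 : Q u = 1) (h3 : Q v = 1) (h4 : Q w = 1)
    (h5 : polar Q u v = 1) :
    w ∈ Submodule.span F {u, v} ∨ (polar Q u w = 0 ∧ polar Q v w = 0) := by
  obtain ⟨ψ, h6, h7, h8⟩ := hQ.model hW (m := 2) h hp
  let φ := ZMod.ringEquivOfPrime F Nat.prime_two h2
  obtain ⟨x, rfl⟩ := (h6 u).1 hu
  obtain ⟨y, rfl⟩ := (h6 v).1 hv
  obtain ⟨z, rfl⟩ := (h6 w).1 hw
  obtain ⟨x, rfl⟩ := φ.surjective.comp_left x
  obtain ⟨y, rfl⟩ := φ.surjective.comp_left y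
  obtain ⟨z, rfl⟩ := φ.surjective.comp_left z
  simp only [h7, h8, Function.comp, ← map_mul, ← map_add, ← map_sum, map_eq_one_iff _ φ.injective,
    map_eq_zero_iff _ φ.injective] at h1 h3 h4 h5 ⊢
  have key : ∀ x y : Fin 2 ⊕ Fin 2 → ZMod 2, ∑ i, x (.inl i) * x (.inr i) = 1 →
      ∑ i, y (.inl i) * y (.inr i) = 1 → ∑ i, (x (.inl i) * y (.inr i) + x (.inr i) * y (.inl i)) = 1 →
      ∀ z : Fin 2 ⊕ Fin 2 → ZMod 2, ∑ i, z (.inl i) * z (.inr i) = 1 →
        (∃ a b : ZMod 2, a • x + b • y = z) ∨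
        (∑ i, (x (.inl i) * z (.inr i) + x (.inr i) * z (.inl i)) = 0 ∧
          ∑ i, (y (.inl i) * z (.inr i) + y (.inr i) * z (.inl i)) = 0) := by decide +kernel
  refine (key x y h1 h3 h5 z h4).imp_left fun ⟨a, b, h⟩ => Submodule.mem_span_pair.2 ⟨φ a, φ b, ?_⟩
  rw [← map_smul, ← map_smul, ← map_add, ← h]
  congr 1
  ext; simp

/-! ### Refining decompositions -/

variable [DecidableEq ι] {H : Subgroup (GL ι F)} (hI : Irr H) (hH : H ≤ isometryGroup F Q) {t k : ℕ}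
  {D : Fin t → Submodule F (ι → F)} (hle : H ≤ decompositionStabilizer D)

omit hQ [Fintype F] in
include hH hle in
theorem inv_set (c : F) : ∀ g ∈ H, ∀ v ∈ {v | Q v = c ∧ ∃ i, v ∈ D i},
    (g : Matrix ι ι F) *ᵥ v ∈ {v | Q v = c ∧ ∃ i, v ∈ D i} := fun _ hg v ⟨h1, i, h2⟩ =>
  let ⟨π, hπ⟩ := hle hg
  ⟨(mem_isometryGroup.1 (hH hg) v).trans h1, π i, hπ i ▸ Submodule.mem_map_of_mem h2⟩

include hI hH hle

theorem frame (hD : IsOrthogonalMDecomposition Q k D) (h2 : (2 : F) ≠ 0) {c : F} (hc : c ≠ 0) {i : Fin t}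
    (hv : ∃ v ∈ D i, Q v = c)
    (hp : ∀ u ∈ D i, ∀ v ∈ D i, Q u = c → Q v = c → v ∈ Submodule.span F {u} ∨ polar Q u v = 0) :
    ∃ E : Fin (Fintype.card ι) → Submodule F (ι → F), IsOrthogonalMDecomposition Q 1 E ∧
      H ≤ decompositionStabilizer E := by
  obtain ⟨v, hv, h0⟩ := hv
  have h1 := inv_set hH hle c
  obtain ⟨E, h3, h4, h5⟩ := hQ.hm.exists_frame (H := H) (T := {v | Q v = c ∧ ∃ i, v ∈ D i})
    (IsMDecomposition.mul_eq hD.decomp.decomp ▸ hD.decomp.decomp.two_le.trans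
      (Nat.le_mul_of_pos_right _ hD.decomp.decomp.pos))
    (fun v hv => by rw [hQ.self, hv.1]; exact mul_ne_zero h2 hc)
    (fun u ⟨hu, j, hj⟩ w ⟨hw, l, hl⟩ => by
      by_cases hjl : j = l
      swap
      · exact Or.inr (hD.decomp.orthogonal j l hjl u hj w hl)
      subst hjl
      obtain ⟨e, he⟩ := hD.isometric j i
      refine (hp _ (e ⟨u, hj⟩).2 _ (e ⟨w, hl⟩).2 ((he _).trans hu) ((he _).trans hw)).imp
        (fun h => ?_) fun h => ?_
      · obtain ⟨a, ha⟩ := Submodule.mem_span_singleton.1 h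
        exact Submodule.mem_span_singleton.2 ⟨a, congrArg Subtype.val (e.injective
          (a₁ := a • ⟨u, hj⟩) (a₂ := ⟨w, hl⟩) (Subtype.ext (by rw [map_smul]; exact ha)))⟩
      · rwa [polar, ← Submodule.coe_add, ← map_add, he, he, he] at h)
    (hI.span_eq_top h1 ⟨h0, i, hv⟩ (hQ.ne_zero h0 hc))
    fun g hg v hv => ⟨_, h1 g hg v hv, Submodule.mem_span_singleton_self _⟩
  refine ⟨E, ⟨h3, fun a b => hQ.iso_iff.2 ?_⟩, h4⟩
  obtain ⟨u, hu, h6⟩ := h5 a
  obtain ⟨w, hw, h7⟩ := h5 b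
  rw [h6, h7]
  exact Form.iso_span_singleton (hQ.ne_zero hu.1 hc) (hQ.ne_zero hw.1 hc) (hw.1.trans hu.1.symm)

theorem sub5_dec (hD : IsNondegenerateMDecomposition (polar Q) k D) (h0 : (⊥ : Subfield F) ≠ ⊤) {c : F}
    (hc : c ≠ 0) {i : Fin t} (hv : ∃ v ∈ D i, Q v = c)
    (hp : ∀ i, ∀ u ∈ D i, ∀ v ∈ D i, Q u = c → Q v = c → c⁻¹ * polar Q u v ∈ (⊥ : Subfield F)) :
    Sub5 (polar Q) H := by
  obtain ⟨v, hv, h2⟩ := hv
  have h1 := inv_set hH hle c
  refine hQ.hm.sub5_of_set (hI.span_eq_top h1 ⟨h2, i, hv⟩ (hQ.ne_zero h2 hc)) h1 h0 (inv_ne_zero hc)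
    fun u ⟨hu, j, hj⟩ w ⟨hw, l, hl⟩ => ?_
  by_cases hjl : j = l
  · exact hp j u hj w (hjl ▸ hl) hu hw
  · simp [hD.orthogonal j l hjl u hj w hl]

theorem sub5_frame (hD : IsOrthogonalMDecomposition Q 1 D) (h0 : (⊥ : Subfield F) ≠ ⊤) :
    Sub5 (polar Q) H := by
  let i : Fin t := ⟨0, by have := hD.decomp.decomp.two_le; omega⟩
  have := Submodule.nontrivial_iff_ne_bot.2 (IsMDecomposition.ne_bot hD.decomp.decomp i)
  obtain ⟨v, hv⟩ := (hQ.nd (hD.decomp.nondegenerate i)).quad_exists_Q_ne_zero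
  refine hQ.sub5_dec hI hH hle hD.decomp h0 hv ⟨v, v.2, rfl⟩ fun j u hu w hw h1 h2 => ?_
  obtain ⟨a, ha⟩ := (finrank_eq_one_iff_of_nonzero' (⟨u, hu⟩ : D j) fun h =>
    hQ.ne_zero h1 hv (congrArg Subtype.val h)).1 (hD.decomp.decomp.finrank_eq j) ⟨w, hw⟩
  obtain rfl : a • u = w := congrArg Subtype.val ha
  rw [hQ.smul, h1, mul_eq_right₀ hv, sq_eq_one_iff] at h2
  rw [hQ.hm.smul_right, hQ.self, h1, mul_comm, mul_assoc, mul_assoc, mul_inv_cancel₀ hv, mul_one]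
  rcases h2 with rfl | rfl <;> simp

theorem not_plus_planes (hD : IsNondegenerateMDecomposition (polar Q) 2 D)
    (hp : ∀ i, IsPlusTypeOn Q (D i)) : 4 ≤ Fintype.card F := by
  by_contra h3
  let i : Fin t := ⟨0, by have := hD.decomp.two_le; omega⟩
  obtain ⟨v, hv, h1, h2, u, hu, h4, h5⟩ := hQ.plane_three (by omega) (hD.nondegenerate i)
    (hD.decomp.finrank_eq i) (hp i)
  have := hI.span_eq_top (inv_set hH hle 1) ⟨h1, i, hv⟩ (hQ.ne_zero h1 one_ne_zero)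
  refine h4 (hQ.hm.nd u fun w => hQ.hm.toIsSesq.mem_perp.1 ((this.ge.trans (Submodule.span_le.2 ?_) :
    ⊤ ≤ hQ.hm.perp (Submodule.span F {u})) trivial) u (Submodule.mem_span_singleton_self u))
  rintro w ⟨h6, j, h7⟩ _ hx
  obtain ⟨a, rfl⟩ := Submodule.mem_span_singleton.1 hx
  rw [hQ.hm.smul_right]
  refine mul_eq_zero_of_right _ ?_
  by_cases hj : j = i
  · obtain ⟨b, rfl⟩ := Submodule.mem_span_singleton.1 (h2 w (hj ▸ h7) h6)
    rw [hQ.hm.smul_left, h5, mul_zero]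
  · exact hD.orthogonal j i hj w h7 u hu

theorem minus_planes (h2 : Fintype.card F = 2) (hD : IsNondegenerateMDecomposition (polar Q) 4 D)
    (hp : ∀ i, IsPlusTypeOn Q (D i)) : ∃ (s : ℕ) (E : Fin s → Submodule F (ι → F)),
      IsOrthogonalMDecomposition Q 2 E ∧ H ≤ decompositionStabilizer E ∧
        ∀ i, ¬ IsPlusTypeOn Q (E i) := by
  let S : Set (Submodule F (ι → F)) := {W | finrank F W = 2 ∧ (∀ w ∈ W, Q w = 0 → w = 0) ∧ ∃ i, W ≤ D i}
  have h0 : ∀ u v, polar Q u v ≠ 0 → finrank F (Submodule.span F {u, v}) = 2 := fun u v h => by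
    rw [← range_cons_cons_empty u v ![], finrank_span_eq_card, Fintype.card_fin]
    refine (LinearIndependent.pair_iff' (by rintro rfl; exact h (hQ.hm.zero_left _))).2 fun a ha => h ?_
    rw [← ha, hQ.hm.smul_right, hQ.alt (two_eq_zero_of_card h2), mul_zero]
  have h1 : ∀ W ∈ S, IsNondegenerateOn (polar Q) W := fun W hW => (br_qForm hQ).nondegOn
    (Form.Aniso.nondeg (fun w h => Subtype.ext (hW.2.1 w w.2 h)) hW.1.ge)
  have h3 : ∀ g ∈ H, ∀ W ∈ S, W.map (toLin' (g : Matrix ι ι F)) ∈ S := fun g hg W ⟨h3, h4, i, h5⟩ =>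
    let ⟨π, hπ⟩ := hle hg
    ⟨(finrank_map_gl g W).trans h3, by
      rintro _ ⟨w, hw, rfl⟩ h
      rw [h4 w hw ((mem_isometryGroup.1 (hH hg) w).symm.trans h), map_zero], π i,
      hπ i ▸ Submodule.map_mono h5⟩
  have hn := IsMDecomposition.mul_eq hD.decomp
  have ht := hD.decomp.two_le
  obtain ⟨s, E, h4, h5, h6⟩ := hQ.hm.exists_dec_of_set (S := S) two_pos (by omega) (fun W hW => hW.1) h1
    (fun W hW W' hW' hne => by
      obtain ⟨i, hi⟩ := hW.2.2
      obtain ⟨j, hj⟩ := hW'.2.2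
      by_cases hij : i = j
      swap
      · exact fun u hu v hv => hD.orthogonal i j hij u (hi hu) v (hj hv)
      subst hij
      have h4 : ∀ W ∈ S, ∀ w ∈ W, w ≠ 0 → Q w = 1 := fun W hW w hw h0 =>
        (eq_zero_or_one h2 _).resolve_left fun h => h0 (hW.2.1 w hw h)
      have h5 : ∀ w ∈ W', w ∈ W ∨ w ∈ hQ.hm.perp W := fun w hw => by
        by_cases hw0 : w = 0
        · exact Or.inl (hw0 ▸ zero_mem _)
        obtain ⟨u, hu, hu0⟩ := Submodule.exists_mem_ne_zero_of_ne_bot (p := W) (by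
          rintro rfl; simpa using hW.1)
        obtain ⟨v, hv, h5⟩ := (h1 W hW u hu hu0).2
        have hv0 : v ≠ 0 := by rintro rfl; exact h5 (hQ.hm.zero_right _)
        have h6 : Submodule.span F {u, v} = W := Submodule.eq_of_le_of_finrank_eq
          (Submodule.span_le.2 (Set.pair_subset hu hv)) ((h0 u v h5).trans hW.1.symm)
        refine (hQ.space_four h2 (hD.nondegenerate i) (hD.decomp.finrank_eq i) (hp i) (hi hu) (hi hv)
          (hj hw) (h4 W hW u hu hu0) (h4 W hW v hv hv0) (h4 W' hW' w hw hw0)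
          ((eq_zero_or_one h2 _).resolve_left h5)).imp (h6.le ·) fun h => hQ.hm.mem_perp'.2 fun x hx => ?_
        obtain ⟨a, b, rfl⟩ := Submodule.mem_span_pair.1 (h6.ge hx)
        simp [hQ.hm.add_left, hQ.hm.smul_left, h]
      obtain ⟨a, ha, ha'⟩ := SetLike.not_le_iff_exists.1 fun h : W' ≤ W =>
        hne (Submodule.eq_of_le_of_finrank_eq h (hW'.1.trans hW.1.symm)).symm
      have h6 := (h5 a ha).resolve_left ha'
      refine fun u hu v hv => hQ.hm.mem_perp'.1 ((h5 v hv).elim (fun h => ?_) id) u hu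
      exact (h5 _ (add_mem hv ha)).elim (fun h' => absurd ((add_mem_cancel_left h).1 h') ha')
        (add_mem_cancel_right h6).1)
    ((hI _ fun g hg v hv => (sSup_le (a := (sSup S).comap (toLin' g.1)) fun W hW =>
      Submodule.map_le_iff_le_comap.1 (le_sSup (h3 g hg W hW))) hv).resolve_left fun h => by
      let i : Fin t := ⟨0, by omega⟩
      obtain ⟨φ, h4, h5, h6⟩ := hQ.model (hD.nondegenerate i) (m := 2) (hD.decomp.finrank_eq i) (hp i)
      have h7 : polar Q (φ (Sum.elim ![1, 0] ![1, 0])) (φ (Sum.elim ![1, 1] ![0, 1])) = 1 := by simp [h6]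
      have h8 := h0 _ _ (h7.trans_ne one_ne_zero)
      refine absurd (h8.symm.trans (Submodule.finrank_eq_zero.2 (sSup_eq_bot.1 h _ ⟨h8, fun w hw h9 => ?_,
        i, Submodule.span_le.2 (Set.pair_subset ((h4 _).2 ⟨_, rfl⟩) ((h4 _).2 ⟨_, rfl⟩))⟩))) two_ne_zero
      obtain ⟨a, b, rfl⟩ := Submodule.mem_span_pair.1 hw
      rw [add (Q := Q), hQ.smul, hQ.smul, hQ.hm.smul_left, hQ.hm.smul_right, h7, h5, h5] at h9
      rcases eq_zero_or_one h2 a with rfl | rfl <;> rcases eq_zero_or_one h2 b with rfl | rfl <;>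
        simp [← two_mul, two_eq_zero_of_card h2] at h9 ⊢) h3
  have h7 := fun i => (hQ.aniso (h6 i).1).2 (h6 i).2.1
  exact ⟨s, E, ⟨h4, fun i j => hQ.iso_iff.2 (Quad.iso_of_aniso
    (fun w h => Subtype.ext ((h6 i).2.1 w w.2 h)) (fun w h => Subtype.ext ((h6 j).2.1 w w.2 h))
    (h6 i).1 (h6 j).1)⟩, h5, h7⟩

end NQ

end Cfsg.Lib.Asch
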