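import Cfsg.Agent.Lib.Asch.OF

/-! Subfields, tensor products and extraspecial groups for the orthogonal groups. -/

set_option autoImplicit false

namespace Cfsg.Lib.Asch

open Matrix Cfsg.Geo Module Cfsg.Lib.Forms Subgroup
open QuadraticMap (polar)
open scoped MatrixGroups Kronecker commutatorElement

variable {ι κ μ : Type} [Fintype ι] [DecidableEq ι] [Fintype κ] [DecidableEq κ]
  [Fintype μ] [DecidableEq μ] {F : Type*} [Field F] {σ : F →+* F} {ε : F}
  {f : (ι → F) → (ι → F) → F} {Q : (ι → F) → F}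

theorem NQ.plus_of_theta (hQ : NQ Q) {e : Matrix ι ι F} (he : e * e = e)
    (ha : e + adj (RingHom.id F) (polar Q) e = 1) (h : (2 : F) ≠ 0 ∨ ∀ v, Q v = polar Q (e *ᵥ v) v) :
    IsTotallySingularQuad Q (rg e) := by
  rintro _ ⟨v, rfl⟩
  have h1 : polar Q (e *ᵥ v) (e *ᵥ v) = 0 := by
    rw [hQ.hm.adj_spec, mulVec_mulVec, eq_sub_of_add_eq' ha, sub_mul, he, one_mul, sub_self, zero_mulVec,
      hQ.hm.zero_right]
  rcases h with h | h
  · exact hQ.eq_zero h h1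
  · rw [toLin'_apply, h, mulVec_mulVec, he, h1]

theorem NQ.le_isometry (hQ : NQ Q) (h2 : (2 : F) ≠ 0) : isoG (polar Q) ≤ isometryGroup F Q :=
  fun g hg => mem_isometryGroup_iff.2 fun v => mul_left_cancel₀ h2 (by
    rw [← hQ.self, ← hQ.self, mem_isoG.1 hg])

theorem NQ.wit (hQ : NQ Q) (h2 : (2 : F) ≠ 0) {x : GL ι F} (hx : x ∈ similarityGroup (polar Q))
    (h0 : x ∉ scalars ι F) : Wit (omegaGL Q) x := by
  have h1 : omegaGL Q = ⁅isoG (polar Q), isoG (polar Q)⁆ := by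
    rw [← le_antisymm isometryGroup_le (hQ.le_isometry h2)]
    exact map_subtype_commutator _
  exact ⟨h0, h1 ▸ (normBy_sim.commutator normBy_sim) x hx⟩

/-! ### Subfields -/

theorem NQ.rational [Finite F] (hQ : NQ Q) (hn : 2 ≤ Fintype.card ι) {H : Subgroup (GL ι F)} (hI : Irr H)
    (hH : H ≤ isometryGroup F Q) {F₀ : Subfield F} {P : GL ι F} (hle : H ≤ subfieldSubgroup F₀ P)
    {ζ : F} (h0 : ζ ≠ 0) (hζ : ∀ i j, ζ * gramMatrix (pull (polar Q) (Equiv.refl ι) P) i j ∈ F₀) :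
    IsQuadFormRationalStructure (fun v => ζ * Q v) F₀ P := fun u hu => by
  have : Nonempty ι := Fintype.card_pos_iff.1 (by omega)
  have h := hQ.hm
  suffices ∀ τ : F ≃ₐ[F₀] F, τ (ζ * Q (P.1 *ᵥ u)) = ζ * Q (P.1 *ᵥ u) by
    obtain ⟨a, ha⟩ := (IsGalois.mem_range_algebraMap_iff_fixed _).2 this
    exact (ha ▸ a.2 : ζ * Q (P.1 *ᵥ u) ∈ F₀)
  intro τ
  have hτ : ∀ a ∈ F₀, τ a = a := fun a ha => τ.commutes ⟨a, ha⟩
  let V := vec (Equiv.refl ι) P
  let T : (ι → F) → ι → F := fun v => V (τ ∘ V.symm v)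
  have h1 : ∀ u v, T (u + v) = T u + T v := fun u v => by
    rw [← map_add]; exact congrArg V (by ext; simp)
  have h2 : ∀ (c : F) v, T (c • v) = τ c • T v := fun c v => by
    rw [← map_smul]; exact congrArg V (by ext; simp)
  have h3 : ∀ u v, ζ * polar Q (T u) (T v) = τ (ζ * polar Q u v) := fun u v => by
    obtain ⟨u, rfl⟩ := V.surjective u
    obtain ⟨v, rfl⟩ := V.surjective v
    have : ∀ x y, ζ * polar Q (V x) (V y) = ∑ i, ∑ j, x i * (ζ * gramMatrix
        (pull (polar Q) (Equiv.refl ι) P) i j) * y j := fun x y => by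
      refine (congrArg _ (congrFun₂ (h.pull _ P).eq_fG x y)).trans ?_
      simp only [formOfGram, Finset.mul_sum, RingHom.id_apply, mul_assoc, mul_left_comm ζ]
    simp only [T, LinearEquiv.symm_apply_apply, this, map_sum, map_mul _ _ (v _), map_mul _ (u _),
      hτ _ (hζ _ _), Function.comp]
  let Q₁ := fun v => ζ⁻¹ * τ.symm (ζ * Q (T v))
  have h4 : polar Q₁ = polar Q := by
    funext u v
    rw [← inv_mul_cancel_left₀ h0 (polar Q u v), ← τ.symm_apply_apply (ζ * _), ← h3]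
    simp only [polar, Q₁, h1, mul_sub, map_sub]
  have h5 := hI.quad_unique hn hQ (Q' := Q₁) ⟨fun c v => by
    simp only [Q₁, h2, hQ.smul, mul_left_comm ζ, map_mul _ (_ ^ 2), map_pow, τ.symm_apply_apply]; ring,
    h4 ▸ hQ.polar_bilinear, h4 ▸ hQ.nondegenerate⟩ (fun u v => by rw [h4]) hH fun g hg =>
      mem_isometryGroup_iff.2 fun v => by
        obtain ⟨c, hc, h5⟩ := mem_subfieldSubgroup_iff.1 (hle hg)
        obtain ⟨y, hy⟩ := (tr (Equiv.refl ι) P).surjective (c • g.1)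
        rw [← hy, ratl_tr] at h5
        have h6 : ∀ v, T (g.1 *ᵥ v) = (c / τ c) • g.1 *ᵥ T v := fun v => by
          obtain ⟨v, rfl⟩ := V.surjective v
          rw [div_eq_inv_mul, mul_smul, eq_inv_smul_iff₀ (by simpa using hc), ← h2, ← smul_mulVec,
            ← smul_mulVec, ← hy, tr_vec, tr_vec]
          simp only [T, V, LinearEquiv.symm_apply_apply]
          congr 1; ext; simp [mulVec, dotProduct, hτ _ (h5 _ _)]
        obtain ⟨w, hw⟩ := exists_ne (0 : ι → F)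
        obtain ⟨w', hw'⟩ := h.exists_ne hw
        have h7 := h3 (g.1 *ᵥ w') (g.1 *ᵥ w)
        rw [h6, h6, h.smul_left, h.smul_right, mem_isoG.1 (isometryGroup_le (hH hg)),
          mem_isoG.1 (isometryGroup_le (hH hg)), RingHom.id_apply, ← mul_assoc (c / _), mul_left_comm, h3,
          mul_eq_right₀ (by simp [h0, hw'])] at h7
        simp only [Q₁, h6, hQ.smul, sq, h7, one_mul, mem_isometryGroup_iff.1 (hH hg)]
  have h6 : T (P.1 *ᵥ u) = P.1 *ᵥ u := by
    change V (τ ∘ V.symm (V u)) = V u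
    rw [V.symm_apply_apply]; congr 1; ext i; exact hτ _ (hu i)
  conv_lhs => rw [h5]
  simp only [Q₁, h6, mul_inv_cancel_left₀ h0, τ.apply_symm_apply]

theorem NQ.rational_one (hQ : NQ Q) (hn : Odd (Fintype.card ι)) {F₀ : Subfield F}
    (hG : ∀ i j, gramMatrix (polar Q) i j ∈ F₀) {P : GL ι F} {ζ : F} (h0 : ζ ≠ 0)
    (h : IsQuadFormRationalStructure (fun v => ζ * Q v) F₀ P) :
    ∃ P', IsQuadFormRationalStructure Q F₀ P' ∧ subfieldSubgroup F₀ P' = subfieldSubgroup F₀ P := by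
  obtain ⟨m, hm⟩ := hn
  have h1 : ∀ i j : ι, (Pi.single i 1 : ι → F) j ∈ F₀ := fun i j => by
    rw [Pi.single_apply]; split_ifs; exacts [one_mem _, zero_mem _]
  have h2 := det_mem_subfield (A := ζ • act (RingHom.id F) P.1 (gramMatrix (polar Q))) fun i j => by
    rw [← fG_single (σ := RingHom.id F) (ζ • act _ _ _) i j, fG_smul, fG_act, ← hQ.hm.eq_fG, polar, ← mulVec_add, mul_sub,
      mul_sub]
    exact sub_mem (sub_mem (h _ fun k => add_mem (h1 i k) (h1 j k)) (h _ (h1 i))) (h _ (h1 j))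
  have h3 := mul_mem h2 (inv_mem (det_mem_subfield hG))
  rw [det_smul, act, det_mul, det_mul, det_transpose, RingHom.coe_id, Matrix.map_id, hm] at h3
  refine ⟨_, fun u hu => ?_, subfieldSubgroup_mul_sc F₀ P (Units.mk0 (ζ ^ (m + 1) * P.1.det)
    (mul_ne_zero (pow_ne_zero _ h0) P.det_ne_zero))⟩
  simp only [Units.val_mul, coe_sc, mul_smul_comm, mul_one, smul_mulVec, hQ.smul, Units.val_mk0]
  convert mul_mem h3 (h u hu) using 1
  have := ((isUnit_iff_isUnit_det _).1 hQ.hm.unit).ne_zero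
  field_simp
  ring

theorem lift_iso {F₀ : Type*} [Field F₀] (φ : F₀ →+* F) {D₀ : Form (quadKind F₀) (ι → F₀)}
    {E₀ : Form (quadKind F₀) (κ → F₀)} {D : Form (quadKind F) (ι → F)} {E : Form (quadKind F) (κ → F)}
    (hD : ∀ x, D.Q (φ ∘ x) = φ (D₀.Q x)) (hE : ∀ x, E.Q (φ ∘ x) = φ (E₀.Q x)) (h : E₀.Iso D₀) {k : ℕ}
    (hk : E.HasTS k) : D.HasTS k := by
  obtain ⟨e, he⟩ := h
  have h1 : ∀ x, (LinearMap.toMatrix' e.toLinearMap).map φ *ᵥ (φ ∘ x) = φ ∘ e x := fun x => by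
    ext i; rw [Function.comp, ← e.coe_coe, ← LinearMap.toMatrix'_mulVec, RingHom.map_mulVec]
  have h2 : ∀ {ν : Type} (x y : ν → F₀), φ ∘ x + φ ∘ y = φ ∘ (x + y) := fun x y => by ext; simp
  refine hk.map (f := mulVecLin ((LinearMap.toMatrix' e.toLinearMap).map φ))
    (Form.isIsometry_of_span (s := Set.range fun x : κ → F₀ => φ ∘ x) ?_ ?_ ?_) ?_
  · refine eq_top_iff.2 ((Pi.basisFun F κ).span_eq.ge.trans (Submodule.span_mono ?_))
    rintro _ ⟨i, rfl⟩
    exact ⟨Pi.single i 1, (comp_single φ i).trans (Pi.basisFun_apply _ _ _).symm⟩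
  · rintro _ ⟨x, rfl⟩ _ ⟨y, rfl⟩
    rw [quad_B_eq, quad_B_eq, ← map_add, h2]
    simp only [mulVecLin_apply, h1, hD, hE, he.2]
  · rintro _ ⟨x, rfl⟩
    rw [mulVecLin_apply, h1, hD, hE, he.2]
  · refine Function.LeftInverse.injective (g := ((LinearMap.toMatrix' e.symm.toLinearMap).map φ *ᵥ ·))
      fun x => ?_
    simp [← Matrix.map_mul, ← LinearMap.toMatrix'_comp]

theorem exists_res {F₀ : Type*} [Field F₀] (φ : F₀ →+* F) {D : Form (quadKind F) (ι → F)} (hD : D.Nondeg)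
    (h : ∀ x, ∃ a, D.Q (φ ∘ x) = φ a) :
    ∃ D₀ : Form (quadKind F₀) (ι → F₀), D₀.Nondeg ∧ ∀ x, D.Q (φ ∘ x) = φ (D₀.Q x) := by
  choose q hq using h
  have h2 : ∀ x y : ι → F₀, φ ∘ (x + y) = φ ∘ x + φ ∘ y := fun x y => by ext; simp
  have h3 : ∀ (c : F₀) (x : ι → F₀), φ ∘ (c • x) = φ c • φ ∘ x := fun x y => by ext; simp
  have h4 : ∀ x y, φ (polar q x y) = D.B (φ ∘ x) (φ ∘ y) := fun x y => by
    simp only [polar, map_sub, ← hq, h2, quad_B_eq]
  refine ⟨ofQuad (.ofPolar q (fun c x => φ.injective (by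
    rw [← hq, h3, quad_Q_smul, hq, smul_eq_mul, map_mul, map_mul, sq]))
    (fun x y z => φ.injective (by simp [h4, h2])) fun c x y => φ.injective (by simp [h4, h3])),
    fun x hx => ?_, hq⟩
  have := hD (φ ∘ x) fun y => by
    rw [← Finset.univ_sum_single y, map_sum]
    refine Finset.sum_eq_zero fun i _ => ?_
    rw [← mul_one (y i), ← smul_eq_mul, Pi.single_smul, map_smul, ← comp_single φ, ← h4,
      show polar q x _ = 0 from hx _, map_zero, smul_zero]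
  exact funext fun i => φ.injective ((congrFun this i).trans (map_zero φ).symm)

theorem NQ.plus_of_sub [Fintype F] (hQ : NQ Q) (hn : Even (Fintype.card ι)) (h2 : 2 ≤ Fintype.card ι)
    {F₀ : Subfield F} (hc : Fintype.card F = Nat.card F₀ ^ 2) {P : GL ι F} {ζ : F} (h0 : ζ ≠ 0)
    (h : IsQuadFormRationalStructure (fun v => ζ * Q v) F₀ P) : Plus Q := by
  obtain ⟨m, hm⟩ : ∃ m, Fintype.card ι = 2 * (m + 1) := let ⟨k, hk⟩ := hn; ⟨k - 1, by omega⟩
  let V := vec (Equiv.refl ι) P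
  have hV : (((qForm hQ).qsmul ζ).comap V.toLinearMap).IsIsometry ((qForm hQ).qsmul ζ) V :=
    ⟨fun _ _ => rfl, fun _ => rfl⟩
  obtain ⟨D₀, h1, h3⟩ := exists_res F₀.subtype (hV.symm.nondeg ((qForm_nondeg hQ).qsmul h0))
    fun x => ⟨⟨_, h _ fun i => (x i).2⟩, rfl⟩
  refine (hQ.plus_top hm).2 ((Form.hasTS_qsmul h0).1 (Form.HasTS.map hV V.injective ?_))
  by_cases h4 : D₀.HasTS (m + 1)
  · exact lift_iso _ h3 (E := fPlus F _) (fun x => by simp [fPlus_Q, quadFormPlus])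
      (Quad.iso_fPlus h1 (by simpa using hm) h4).symm (fPlus_hasTS _)
  obtain ⟨a, b, hab⟩ := exists_aniso_coeffs F₀
  obtain ⟨z, hz⟩ := exists_root_of_aniso (K := F) (Nat.pow_right_injective Finite.one_lt_card
    ((Module.natCard_eq_pow_finrank (K := F₀)).symm.trans (Nat.card_eq_fintype_card.trans hc))) hab
  refine lift_iso F₀.subtype h3 (E := fMinus m (a : F) b) (fun x => by simp [fMinus_Q, quadFormMinus])
    (Quad.iso_fMinus h1 (by simpa using hm) h4 hab).symm (((fPlus_hasTS m).prod (l := 1) ?_).map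
      (isIsometry_fMinus m _ _).symm (LinearEquiv.injective _))
  exact by_contra fun h5 => one_ne_zero (fBin_aniso_iff.1 (Form.not_hasTS_one_iff.1 h5) z 1
    (by rw [mul_one, one_pow, mul_one]; exact hz)).2

/-! ### Extraspecial groups -/

theorem Extra.plus [Finite F] (hQ : NQ Q) (hn : 3 ≤ Fintype.card ι) {H R : Subgroup (GL ι F)} {m : ℕ}
    (hR : Extra H R 2 m) (hI : Isom (polar Q) R) : Plus Q := by
  have := hR.nonempty
  have h := hQ.hm
  have h2 : (2 : F) ≠ 0 := by simpa using hR.natCast_ne_zero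
  have h1 : ∀ x ∈ R, x ∈ scalars ι F → x = 1 ∨ x = -1 := fun x hx hs => by
    obtain ⟨c, rfl⟩ : ∃ c, sc ι c = x := hs
    exact (mul_self_eq_one_iff.1 (h.norm_of_sc_mem (isom_iff.1 hI hx))).imp
      (fun h => Units.ext (by rw [coe_sc, h]; simp)) fun h => Units.ext (by rw [coe_sc, h]; simp)
  have hc : ∀ x ∈ R, ∀ y ∈ R, PmC x y := fun x hx y hy =>
    (h1 _ (mul_mem (mul_mem (mul_mem hx hy) (inv_mem hx)) (inv_mem hy)) (hR.comm x hx y hy)).imp
      (fun h => by rwa [mul_inv_eq_one, mul_inv_eq_iff_eq_mul] at h) fun h => by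
        rwa [mul_inv_eq_iff_eq_mul, mul_inv_eq_iff_eq_mul, neg_one_mul, neg_mul] at h
  have hs : ∀ x ∈ R, x * x = 1 ∨ x * x = -1 := fun x hx => h1 _ (mul_mem hx hx) (sq x ▸ hR.pow_r x hx)
  obtain ⟨a, ha, h0⟩ : ∃ a ∈ R, a ∉ scalars ι F := by
    by_contra hc
    exact not_irr_of_le_scalars (by omega) (fun a ha => by_contra fun h => hc ⟨a, ha, h⟩)
      (irr_of_alg_top hR.top)
  obtain ⟨s, h3, h4, h5⟩ := exists_anticomm hn hR.top hc hs ha h0
  obtain ⟨t, h6, h7, h8⟩ := exists_anticomm hn hR.top hc hs h3 fun h => ne_neg_self h2 _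
    ((mem_center_iff.1 (scalars_le_center h) a).symm.trans h5)
  have : NeZero (ringChar F) := ⟨CharP.char_ne_zero_of_finite F _⟩
  obtain ⟨x, y, hxy⟩ : ∃ x y : F, x ^ 2 + y ^ 2 = -1 :=
    let ⟨x, y, h⟩ := CharP.sq_add_sq F (ringChar F) (-1); ⟨x, y, by exact_mod_cast h⟩
  have h9 : ∀ s ∈ R, s * s = -1 → adj (RingHom.id F) (polar Q) s.1 = -s.1 := fun s hs h4 => by
    rw [h.adj_of_iso (isom_iff.1 hI hs), inv_eq_of_mul_eq_one_right (b := -s) (by rw [mul_neg, h4, neg_neg])]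
    rfl
  have h4 : s.1 * s.1 = -1 := congrArg Units.val h4
  have h7 : t.1 * t.1 = -1 := congrArg Units.val h7
  have h8 : s.1 * t.1 = -(t.1 * s.1) := congrArg Units.val h8
  have h10 : (2 : F)⁻¹ • (1 + (x • s.1 + y • t.1)) + adj (RingHom.id F) (polar Q)
      ((2 : F)⁻¹ • (1 + (x • s.1 + y • t.1))) = 1 := by
    simp only [h.adj_smul, h.adj_add, h.adj_one, h9 s h3 (Units.ext h4), h9 t h6 (Units.ext h7),
      RingHom.id_apply]
    match_scalars <;> field_simp <;> ring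
  have h11 : (2 : F)⁻¹ • (1 + (x • s.1 + y • t.1)) * (2 : F)⁻¹ • (1 + (x • s.1 + y • t.1)) =
      (2 : F)⁻¹ • (1 + (x • s.1 + y • t.1)) := by
    simp only [mul_add, add_mul, smul_mul_assoc, mul_smul_comm, mul_one, one_mul, h4, h7, h8]
    match_scalars <;> field_simp
    · linear_combination -hxy
    all_goals ring
  exact (hQ.plus_of_idem h11 h10 (hQ.plus_of_theta h11 h10 (.inl h2))).1

/-! ### Tensor products -/

theorem Hm.exists_theta' [Nonempty ι] (h : Hm (RingHom.id F) ε f) (ha : ∀ v, f v v = 0) :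
    ∃ θ, θ + adj (RingHom.id F) f θ = 1 := by
  by_cases h2 : (2 : F) = 0
  · exact (h.eps_eq_one h2 ▸ h).exists_theta ha
  · exact ⟨(2 : F)⁻¹ • 1, by
      rw [h.adj_smul, h.adj_one, RingHom.id_apply, ← two_smul F, smul_inv_smul₀ h2]⟩

theorem e00_spec : single (0 : Fin 2) (0 : Fin 2) (1 : F) + adjugate (single 0 0 1) = 1 := by
  simp [add_adjugate_two]

namespace Tens

variable [Fintype F] {G H : Subgroup (GL ι F)} {e : ι ≃ κ × μ} {P : GL ι F} {A₁ : Matrix κ κ F}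
  {A₂ : Matrix μ μ F} {ε₁ ε₂ : F} (hT : Tens (RingHom.id F) 1 (polar Q) G H e P A₁ A₂ ε₁ ε₂)
  (hQ : NQ Q) (hH : H ≤ isometryGroup F Q) (h2 : ∀ v, formOfGram (RingHom.id F) A₂ v v = 0)
include hT hQ hH h2

theorem q_eq {θ : Matrix κ κ F} (hθ : θ + adj (RingHom.id F) (formOfGram (RingHom.id F) A₁) θ = 1) :
    tr e P (θ ⊗ₖ 1) + adj (RingHom.id F) (polar Q) (tr e P (θ ⊗ₖ 1)) = 1 ∧
      ∀ v, Q v = polar Q (tr e P (θ ⊗ₖ 1) *ᵥ v) v := by
  have := hT.ne₂
  obtain ⟨η, hη⟩ := hT.hm₂.exists_theta' h2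
  have h1 : tr e P (θ ⊗ₖ 1) + adj (RingHom.id F) (polar Q) (tr e P (θ ⊗ₖ 1)) = 1 := by
    rw [hT.adj_kl hQ.hm, ← map_add, ← add_kronecker, hθ, one_kronecker_one, map_one]
  refine ⟨h1, hQ.eq_theta (hT.card_eq ▸ hT.two₁.trans (Nat.le_mul_of_pos_right _ (Fintype.card_pos (α := μ))))
    hT.irr hH h1 fun g hg => .inr ⟨tr e P (1 ⊗ₖ η), ?_, ?_, ?_⟩⟩
  · rw [hT.adj_kr hQ.hm, ← map_add, ← kronecker_add, hη, one_kronecker_one, map_one]
  · simp only [← map_mul, ← mul_kronecker_mul, mul_one, one_mul]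
  · obtain ⟨a, b, -, hab⟩ := hT.exists_kron hg
    simp only [cj_kron hab, map_one, ← map_mul, ← mul_kronecker_mul, mul_one, one_mul]

theorem pure_sing (h1 : ∀ v, formOfGram (RingHom.id F) A₁ v v = 0) (x : κ → F) (y : μ → F) :
    Q ((P : Matrix ι ι F) *ᵥ ((fun a : κ × μ => x a.1 * y a.2) ∘ e)) = 0 := by
  have := hT.ne₁
  obtain ⟨θ, hθ⟩ := hT.hm₁.exists_theta' h1
  rw [(hT.q_eq hQ hH h2 hθ).2, ← vec_apply, tr_vec]
  change pull (polar Q) e P _ _ = 0
  rw [(hQ.hm.pull e P).eq_fG, hT.gram, ← mul_zero (formOfGram (RingHom.id F) A₁ (θ *ᵥ x) x), ← h2 y, fG_mulVec_left,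
    fG_mulVec_left, ← kroneckerMap_transpose, transpose_one, ← mul_kronecker_mul, one_mul]
  simp only [formOfGram, Fintype.sum_prod_type, Finset.sum_mul_sum, kronecker_apply, RingHom.id_apply]
  refine Finset.sum_congr rfl fun i _ => Finset.sum_congr rfl fun j _ => ?_
  exact Finset.sum_congr rfl fun i _ => Finset.sum_congr rfl fun j _ => by ring

end Tens

theorem Tens.plus_two [Fintype F] {G H : Subgroup (GL ι F)} {e : ι ≃ Fin 2 × μ} {P : GL ι F}
    {A₁ : Matrix (Fin 2) (Fin 2) F} {A₂ : Matrix μ μ F} {ε₁ ε₂ : F}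
    (hT : Tens (RingHom.id F) 1 (polar Q) G H e P A₁ A₂ ε₁ ε₂) (hQ : NQ Q) (hH : H ≤ isometryGroup F Q)
    (h1 : ∀ v, formOfGram (RingHom.id F) A₁ v v = 0) (h2 : ∀ v, formOfGram (RingHom.id F) A₂ v v = 0) :
    Plus Q := by
  obtain ⟨h3, h4⟩ := hT.q_eq hQ hH h2 (hT.hm₁.adj_two h1 _ ▸ e00_spec)
  have h5 := (map_mul (tr e P) (single 0 0 1 ⊗ₖ 1) (single 0 0 1 ⊗ₖ 1)).symm
  rw [← mul_kronecker_mul, single_mul_single_same, mul_one, mul_one] at h5
  exact (hQ.plus_of_idem h5 h3 (hQ.plus_of_theta h5 h3 (.inr h4))).1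

theorem Tens.comm_of_W2 [Fintype F] (hq : Fintype.card F = 2) {G H : Subgroup (GL ι F)}
    {e : ι ≃ κ × Fin 2} {P : GL ι F} {A₁ : Matrix κ κ F} {A₂ : Matrix (Fin 2) (Fin 2) F} {ε₁ ε₂ : F}
    (hT : Tens σ ε f G H e P A₁ A₂ ε₁ ε₂) (h : Hm σ ε f) (hI : Isom f H) (hσ : ∀ a, σ a = a) :
    CommCase σ f H := by
  have key : ∀ z : Matrix (Fin 2) (Fin 2) F, z * z = (1 : F) • z + (1 : F) • 1 →
      z ∈ quadAlg _ W2_mul_self := fun z hz => by
    rcases eq_W2_or hq hz with rfl | rfl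
    exacts [self_mem_quadAlg _, add_mem (one_mem _) (self_mem_quadAlg _)]
  refine hT.comm h hI (nz_quadAlg W2_mul_self fun b _ => key _ ?_) (quadAlg_comm _)
    (ac_quadAlg hT.hm₂ _ (key _ ?_)) ⟨_, self_mem_quadAlg _, ?_⟩
  · rw [← map_mul, W2_mul_self]; simp
  · rw [← hT.hm₂.adj_mul, W2_mul_self, hT.hm₂.adj_add, hT.hm₂.adj_smul, hT.hm₂.adj_smul, hT.hm₂.adj_one, hσ]
  · rintro ⟨c, hc⟩
    simpa [W2] using congrFun₂ hc 0 1

theorem Hm.exists_std_odd [Finite F] (h : Hm (RingHom.id F) 1 f) (h2 : (2 : F) ≠ 0) {k : ℕ}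
    (hn : Fintype.card ι = k) (ho : Odd k) : ∃ (e : ι ≃ Fin k) (P : GL ι F),
      ∀ x, adj (RingHom.id F) (Asch.pull f e P) x = xᵀ := by
  obtain ⟨m, rfl⟩ := ho
  obtain ⟨c, hc, b, hb⟩ := exists_orth_odd (qForm_nondeg (IsSymmetricForm.quad h2 h.symmetric))
    (m := m) (by simpa using hn)
  obtain ⟨e, P, h1, -⟩ := h.exists_vec (by simpa using hn.symm) b (A := c • 1)
    (.of_mul_eq_one (c⁻¹ • 1) (by simp [smul_smul, hc])) fun i j => mul_left_cancel₀ h2 (by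
      have := hb j i
      rw [br_qForm, IsSymmetricForm.polar h.symmetric] at this
      simpa [one_apply, eq_comm] using this)
  exact ⟨e, P, fun x => (h.pull e P).adj_eq_of_gram (by simp [h1])⟩

/-! ### Tensor powers -/

namespace Pow

variable {G H : Subgroup (GL ι F)} {t : ℕ} {P : GL ι F} {ε₁ c : F}

theorem alt_two [Finite F] {e : ι ≃ (Fin t → Fin 2)} {A : Matrix (Fin 2) (Fin 2) F}
    (h : Pow (RingHom.id F) ε f G H e P A ε₁ c) (v : Fin 2 → F) : formOfGram (RingHom.id F) A v v = 0 := by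
  obtain ⟨L, h1, h3, h4⟩ := h.factor
  by_cases h2 : (2 : F) = 0
  · obtain rfl := h.hm₁.eps_eq_one h2
    exact (irr_of_alg_top h3).alt_of_char_two h2 (by simp) (by simpa using h.hm₁.dagger') h4.le_sim v
  rcases h.hm₁.eps_or with rfl | rfl
  swap
  · exact h.hm₁.alt h2 v
  obtain ⟨y, d, -, h5, -, h6⟩ := h.hm₁.exists_skew_two h2
  have key : ∀ g ∈ L, g.1 ∈ quadAlg y h5 := fun g hg => by
    have h7 : g.1.det = 1 := congrArg Units.val (Abelianization.commutator_subset_ker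
      GeneralLinearGroup.det (commutator_mono le_top le_top (h1.ge hg)))
    have h8 : adj _ _ g.1 = adjugate g.1 := (h.hm₁.adj_of_iso (isom_iff.1 h4 hg)).trans (by
      rw [coe_units_inv, inv_def, h7, Ring.inverse_one, one_smul])
    obtain ⟨a, ha⟩ := h6 (g.1 - adjugate g.1) (by rw [← h8, h.hm₁.adj_sub, h.hm₁.adj_adj, neg_sub])
    exact ⟨2⁻¹ * g.1.trace, 2⁻¹ * a, by
      rw [mul_smul, mul_smul, ← ha, ← add_adjugate_two, ← smul_add, eq_inv_smul_iff₀ h2, two_smul]; abel⟩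
  exact absurd h3 (not_alg_top_of_comm (by simp) fun g hg g' hg' =>
    Units.ext (quadAlg_comm h5 _ (key g hg) _ (key g' hg')))

theorem plus_two [Fintype F] {e : ι ≃ (Fin t → Fin 2)} {A : Matrix (Fin 2) (Fin 2) F}
    (h : Pow (RingHom.id F) 1 (polar Q) G H e P A ε₁ c) (hQ : NQ Q) (hn : 2 ≤ Fintype.card ι)
    (hH : H ≤ isometryGroup F Q) : Plus Q := by
  have : Nontrivial (Fin t) := Fin.nontrivial_iff_two_le.2 h.two_t
  obtain ⟨i, j, hij⟩ := exists_pair_ne (Fin t)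
  have key : ∀ i, tr e P (slot i (single 0 0 1)) + adj (RingHom.id F) (polar Q)
      (tr e P (slot i (single 0 0 1))) = 1 := fun i => by
    rw [hQ.hm.adj_slot h.hm₁ h.gram, ← map_add, ← map_add, h.hm₁.adj_two h.alt_two, e00_spec, map_one,
      map_one]
  have h1 : tr e P (slot i (single 0 0 1)) * tr e P (slot i (single 0 0 1)) =
      tr e P (slot i (single 0 0 (1 : F))) := by
    rw [← map_mul, ← map_mul, single_mul_single_same, mul_one]
  refine (hQ.plus_of_idem h1 (key i) (hQ.plus_of_theta h1 (key i) (.inr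
    (hQ.eq_theta hn h.irr hH (key i) fun g hg => ?_)))).1
  obtain ⟨π, gs, h5⟩ := cj_slot_of_mem_tensorWreath (h.le hg)
  simp only [h5, ← map_mul]
  by_cases h6 : π i = i
  · exact Or.inr ⟨_, key j, by simp only [← map_mul, slot_comm hij],
      by simp only [h6, ← map_mul, slot_comm hij]⟩
  · exact Or.inl (by rw [slot_comm h6])

theorem ne_three [Fintype F] {e : ι ≃ (Fin t → Fin 3)} {A : Matrix (Fin 3) (Fin 3) F}
    (h : Pow (RingHom.id F) ε f G H e P A 1 c) : Fintype.card F ≠ 3 := fun h3 => by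
  have h2 := two_ne_zero_of_three h3
  have hQ := IsSymmetricForm.quad h2 h.hm₁.symmetric
  have : Finite (qForm hQ).isom := Finite.of_injective _ fGL_injective
  have := Agent.S0144.result (G := (qForm hQ).isom) 2 3 4 1 (by decide) (by decide) (by
    rw [Quad.card_isom_odd (qForm_nondeg hQ) (m := 1) (by simp), Nat.card_eq_fintype_card, h3]; decide)
  refine h.not_isSolvable (Group.isSolvable_of_surjective (f := (fGL (qForm hQ)).codRestrict _
    fun x => mem_isoG.2 fun u v => mul_left_cancel₀ h2 ?_) fun g => ⟨⟨glEquiv _ F g, quad_isIsometry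
      (map_add _) fun v => mem_isoG.1 g.2 v v⟩, Subtype.ext ((glEquiv _ F).symm_apply_apply _)⟩)
  simpa only [IsSymmetricForm.polar h.hm₁.symmetric] using mem_isoG.1 ((br_qForm hQ).fGL_mem x) u v

end Pow

end Cfsg.Lib.Asch
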