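import Cfsg.Agent.Lib.Asch.SpT

/-! Tools for the unitary case. -/

set_option autoImplicit false

namespace Cfsg.Lib.Asch

open Matrix Cfsg.Geo Module Cfsg.Lib.Forms Subgroup
open scoped MatrixGroups Kronecker commutatorElement

variable {ι κ μ : Type} [Fintype ι] [DecidableEq ι] [Fintype κ] [DecidableEq κ]
  [Fintype μ] [DecidableEq μ] {F : Type*} [Field F] {σ : F →+* F} {ε : F}
  {f : (ι → F) → (ι → F) → F}

/-! ### Subfields -/

theorem subfieldSubgroup_mul_sc (F₀ : Subfield F) (P : GL ι F) (l : Fˣ) :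
    subfieldSubgroup F₀ (P * sc ι l) = subfieldSubgroup F₀ P := by
  ext g
  simp only [mem_subfieldSubgroup_iff, Ratl, _root_.mul_inv_rev, cj_mul,
    cj_of_mem_scalars (inv_mem (sc_mem l))]

theorem Hm.rational_scale (h : Hm σ ε f) {F₀ : Subfield F} {ζ ζ' c l : F} {P : GL ι F}
    (hr : IsFormRationalStructure f F₀ ζ P) (hc : c ∈ F₀) (h0 : l ≠ 0)
    (hl : ζ' * (l * σ l) = c * ζ) : IsFormRationalStructure f F₀ ζ' (P * sc ι (Units.mk0 l h0)) :=
  fun u v hu hv => by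
    simp only [Units.val_mul, coe_sc, mul_smul_comm, mul_one, smul_mulVec, h.smul_left, h.smul_right,
      Units.val_mk0]
    convert mul_mem hc (hr u v hu hv) using 1
    rw [← mul_assoc c, ← hl]; ring

theorem eq_two_of_le_fixF [Fintype F] (hσ : ∀ a, σ (σ a) = a) (hne : σ ≠ RingHom.id F)
    {F₀ : Subfield F} {r : ℕ} (hr : r.Prime) (hc : Fintype.card F = Nat.card F₀ ^ r)
    (h : F₀ ≤ fixF σ) : r = 2 := by
  letI : Algebra F₀ (fixF σ) := (Subfield.inclusion h).toAlgebra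
  rw [card_fixF hσ hne, Module.natCard_eq_pow_finrank (K := F₀), ← pow_mul] at hc
  exact ((Nat.prime_dvd_prime_iff_eq Nat.prime_two hr).1
    ⟨_, (Nat.pow_right_injective Finite.one_lt_card hc).symm.trans (mul_comm _ _)⟩).symm

theorem le_sim_of_subfield (h : Hm σ ε f) {H : Subgroup (GL ι F)} (hI : Isom f H) {F₀ : Subfield F}
    {P : GL ι F} (hH : H ≤ subfieldSubgroup F₀ P) (h0 : F₀ ≤ fixF σ) :
    H ≤ similarityGroup (formOfGram (RingHom.id F)
      (trG (RingHom.id F) (Equiv.refl ι) P (gramMatrix (pull f (Equiv.refl ι) P)))) := fun g hg => by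
  obtain ⟨c, hc, h1⟩ := mem_subfieldSubgroup_iff.1 (hH hg)
  obtain ⟨y, hy⟩ := (tr (Equiv.refl ι) P).surjective g
  rw [← hy, ← map_smul, ratl_tr] at h1
  have h2 : (c • y).map σ = (c • y).map (RingHom.id F) := Matrix.ext fun i j => h0 (h1 i j)
  have h3 := h.act_pull (hI g hg) hy.symm
  have h4 : σ c ≠ 0 := by simpa using hc
  refine mem_sim_iff.2 ⟨Units.mk0 (σ c / c) (div_ne_zero h4 hc), ?_⟩
  rw [← hy, act_tr, ← trG_smul]
  congr 1
  apply smul_right_injective _ (mul_ne_zero hc hc)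
  have h5 := act_smul_left (σ := σ) y (gramMatrix (pull f (Equiv.refl ι) P)) c
  rw [h3, act, h2, ← act, act_smul_left] at h5
  refine h5.trans ?_
  simp only [Units.val_mk0, smul_smul]
  congr 1
  field_simp

/-- The three kinds of subfield subgroups of a unitary group. -/
inductive SubU [Fintype F] (q : ℕ) (f : (ι → F) → (ι → F) → F) (H : Subgroup (GL ι F)) : Prop
  | odd (F₀ : Subfield F) (r : ℕ) (P : GL ι F) (hr : r.Prime) (ho : Odd r)
      (hc : Fintype.card F = Nat.card F₀ ^ r) (h1 : IsFormRationalStructure f F₀ 1 P)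
      (h : H ≤ subfieldSubgroup F₀ P)
  | orth (ho : Odd q) (F₀ : Subfield F) (P : GL ι F) (hc : Fintype.card F = Nat.card F₀ ^ 2)
      (h1 : IsFormRationalStructure f F₀ 1 P) (h : H ≤ subfieldSubgroup F₀ P)
  | symp (he : Even (Fintype.card ι)) (F₀ : Subfield F) (P : GL ι F) (ζ : F)
      (hc : Fintype.card F = Nat.card F₀ ^ 2) (h0 : ζ ≠ 0) (h1 : ζ + ζ ^ q = 0)
      (h2 : IsFormRationalStructure f F₀ ζ P)
      (h3 : ∀ u : ι → F, (∀ i, u i ∈ F₀) →
        f ((P : Matrix ι ι F) *ᵥ u) ((P : Matrix ι ι F) *ᵥ u) = 0) (h : H ≤ subfieldSubgroup F₀ P)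

theorem Sub5.unitary [Fintype F] {q : ℕ} (hq : IsConj σ q) (h : Hm σ 1 f) {H : Subgroup (GL ι F)}
    (hn : 2 ≤ Fintype.card ι) (hH : Irr H) (hI : Isom f H) (hs : Sub5 f H) : SubU q f H := by
  have : Nonempty ι := Fintype.card_pos_iff.1 (by omega)
  obtain ⟨F₀, r, P, ζ, hr, hc, hle, h0, hB⟩ := hs
  have hσ := map_mem_subfield σ F₀
  have hR := h.rational hσ hB
  have hu := (h.pull (Equiv.refl ι) P).unit
  have hd := (h.pull (Equiv.refl ι) P).gram_dagger
  set A := gramMatrix (pull f (Equiv.refl ι) P) with hA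
  have hd' : ∀ i j, σ (A i j) = A j i := fun i j => by simpa using congrFun (congrFun hd j) i
  have hζ : σ ζ ≠ 0 := by simpa using h0
  obtain ⟨i, j, hij⟩ : ∃ i j, A i j ≠ 0 := by
    by_contra hc
    push Not at hc
    exact hu.ne_zero (Matrix.ext hc)
  have hη : σ ζ / ζ ∈ F₀ := by
    convert div_mem (hσ _ (hB j i)) (hB i j) using 1
    rw [map_mul, hd', mul_div_mul_right _ _ hij]
  have h1 : σ ζ / ζ * σ (σ ζ / ζ) = 1 := by rw [map_div₀, hq.σσ]; field_simp
  have key : ∀ c ∈ F₀, c ≠ 0 → σ (c * ζ) = c * ζ → ∃ P', IsFormRationalStructure f F₀ 1 P' ∧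
      H ≤ subfieldSubgroup F₀ P' := fun c hc h2 h3 => by
    obtain ⟨l, hl⟩ := hq.exists_norm_eq h3
    have : l ≠ 0 := by rintro rfl; exact mul_ne_zero h2 h0 (by simpa using hl.symm)
    exact ⟨_, h.rational_scale hR hc this ((one_mul _).trans hl), by rwa [subfieldSubgroup_mul_sc]⟩
  by_cases h2 : ∃ a ∈ F₀, σ a ≠ a
  · obtain ⟨c, h3, h4, h5⟩ := hilbert90 hq.σσ hσ h2 hη h1
    obtain ⟨P', h6, h7⟩ := key c h3 h4 (by rw [map_mul]; field_simp at h5; linear_combination h5)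
    refine .odd F₀ r P' hr (hr.eq_two_or_odd'.resolve_left ?_) hc h6 h7
    rintro rfl
    obtain ⟨a, ha, h8⟩ := h2
    exact h8 (mem_fixF.1 (eq_fixF hq.σσ hq.ne_id hc ▸ ha))
  push Not at h2
  obtain rfl := eq_two_of_le_fixF hq.σσ hq.ne_id hr hc h2
  rw [h2 _ hη, mul_self_eq_one_iff, div_eq_iff h0, div_eq_iff h0] at h1
  by_cases h3 : σ ζ = ζ ∧ (2 : F) ≠ 0
  · obtain ⟨P', h6, h7⟩ := key 1 (one_mem _) one_ne_zero (by simpa using h3.1)
    refine .orth ?_ F₀ P' hc h6 h7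
    have := odd_iff_two_ne_zero.2 h3.2
    rw [← Nat.card_eq_fintype_card, hq.card] at this
    exact (Nat.odd_pow_iff two_ne_zero).1 this
  have h4 : ζ + σ ζ = 0 := by
    rcases h1 with h1 | h1
    · linear_combination h1 + ζ * not_not.1 fun h => h3 ⟨by simpa using h1, h⟩
    · linear_combination h1
  have h5 : Aᵀ = -A := Matrix.ext fun i j => mul_left_cancel₀ h0 (by
    have := h2 _ (hB i j)
    rw [map_mul, hd'] at this
    simp only [transpose_apply, Matrix.neg_apply]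
    linear_combination A j i * h4 - this)
  have h6 : (trG (RingHom.id F) (Equiv.refl ι) P A)ᵀ = -trG (RingHom.id F) (Equiv.refl ι) P A := by
    rw [transpose_trG, h5, ← neg_one_smul F A, trG_smul, neg_one_smul]
  have h7 : ∀ v, formOfGram (RingHom.id F) (trG (RingHom.id F) (Equiv.refl ι) P A) v v = 0 := by
    by_cases h7 : (2 : F) = 0
    · refine hH.alt_of_char_two h7 hn (h6.trans ?_) (le_sim_of_subfield h hI hle h2)
      rw [neg_eq_iff_add_eq_zero, ← two_smul F, h7, zero_smul]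
    · exact alt_of_skew h7 h6
  refine .symp (IsSymplecticForm.even (isSymplecticForm_fG ((isUnit_trG _ _).2 hu) h7)) F₀ P ζ hc h0
    (hq.apply ζ ▸ h4) hR (fun u hu => ?_) hle
  have := (fG_trG (σ := RingHom.id F) (Equiv.refl ι) P A u u).symm.trans (h7 _)
  change pull f (Equiv.refl ι) P u u = 0
  rw [(h.pull _ P).eq_fG, fG_eq, show σ ∘ u = RingHom.id F ∘ u from funext fun i => h2 _ (hu i),
    ← fG_eq, this]

/-! ### Normalising the signs -/

theorem Hm.scale {A : Matrix ι ι F} (h : Hm σ ε (formOfGram σ A)) {c ε' : F} (hc : c ≠ 0)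
    (h1 : σ c * ε = ε' * c) : Hm σ ε' (formOfGram σ (c • A)) :=
  hm_fG h.invol ((isUnit_iff_isUnit_det _).2 (by
    simpa [hc] using (isUnit_iff_isUnit_det _).1 h.unit')) (by
    rw [map_smul_σ, transpose_smul, h.dagger', smul_smul, smul_smul, h1])

theorem Hm.exists_scale [Nonempty ι] {q : ℕ} (hq : IsConj σ q) {A : Matrix ι ι F}
    (h : Hm σ ε (formOfGram σ A)) : ∃ c, c ≠ 0 ∧ σ c * ε = 1 * c :=
  let ⟨c, _, h1, h2⟩ := hilbert90 hq.σσ (F₀ := ⊤) (fun _ _ => trivial)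
    (hq.exists_not_fixed.imp fun _ h => ⟨trivial, h⟩) trivial h.norm_ε
  ⟨c, h1, by rw [mul_comm, h2, one_mul]⟩

theorem Tens.norm_eps {q : ℕ} (hq : IsConj σ q) {G H : Subgroup (GL ι F)} {e : ι ≃ κ × μ} {P : GL ι F}
    {A₁ : Matrix κ κ F} {A₂ : Matrix μ μ F} {ε₁ ε₂ : F} (h : Tens σ 1 f G H e P A₁ A₂ ε₁ ε₂) :
    ∃ A₁ A₂, Tens σ 1 f G H e P A₁ A₂ 1 1 := by
  have := h.ne₁
  obtain ⟨c, h0, hc⟩ := h.hm₁.exists_scale hq
  have h1 : σ c ≠ 0 := by simpa using h0
  exact ⟨c • A₁, c⁻¹ • A₂, h.irr, h.top, h.two₁, h.two₂, h.nz, h.not_nz, h.hm₁.scale h0 hc,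
    h.hm₂.scale (inv_ne_zero h0) (by
      rw [map_inv₀]; field_simp; linear_combination σ c * h.eps - ε₂ * hc), one_mul _, by
    rw [h.gram, smul_kronecker, kronecker_smul, smul_inv_smul₀ h0]⟩

theorem power_struct_unitary [Nonempty ι] {q : ℕ} (hq : IsConj σ q) (h : Hm σ ε f) {t k : ℕ} (hk : 2 ≤ k)
    {e : ι ≃ (Fin t → Fin k)} {P : GL ι F} {A : Matrix (Fin k) (Fin k) F} {ε₁ c : F}
    (h1 : Hm σ ε₁ (formOfGram σ A)) (hc : c ≠ 0)
    (hA : gramMatrix (pull f e P) = c • pure fun _ => A) :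
    ∃ f₁, IsUnitaryFormPow q f₁ ∧ IsTensorPowerFormStructure (fun x => x ^ q) f f₁ e P := by
  have : NeZero k := ⟨by omega⟩
  obtain ⟨d, h0, hd⟩ := h1.exists_scale hq
  refine ⟨_, (h1.scale h0 hd).unitaryPow hq.apply, (funext hq.apply : ⇑σ = _) ▸
    h.power_struct (c := c / d ^ t) (div_ne_zero hc (pow_ne_zero _ h0)) ?_⟩
  rw [hA, pure_smul, smul_smul, Finset.prod_const, Finset.card_fin, div_mul_cancel₀ _ (pow_ne_zero _ h0)]

/-! ### Absolute irreducibility -/

theorem Irr.of_le_sup {H₀ H : Subgroup (GL ι F)} (h : Irr H) (h1 : H ≤ H₀ ⊔ scalars ι F) : Irr H₀ :=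
  fun W hW => h W fun g hg w hw => by
    obtain ⟨a, ha, z, hz, rfl⟩ := (mem_sup_center scalars_le_center).1 (h1 hg)
    obtain ⟨c, hc⟩ := mem_scalars_iff_isSc.1 hz
    rw [Units.val_mul, hc, mul_smul_comm, mul_one, smul_mulVec]
    exact W.smul_mem c (hW a ha w hw)

theorem Hm.exists_cen_field [Fintype F] (h : Hm σ ε f) (hn : 2 ≤ Fintype.card ι)
    {H : Subgroup (GL ι F)} (hH : Irr H) (hI : Isom f H) (hT : alg F H ≠ ⊤) :
    ∃ r K, r.Prime ∧ IsFieldSubalgebra r K ∧ AC σ f K ∧ K ≤ cen (alg F H) := by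
  have : Nonempty ι := Fintype.card_pos_iff.1 (by omega)
  have key : ∀ {t : ℕ} {e : Fin t → Matrix ι ι F}, 2 ≤ t → IdemSys H e → ¬ ∀ i, e i ∈ cen (alg F H) :=
    fun ht he h1 => by
      obtain ⟨m, hm⟩ := he.isMDecomposition ht
      exact (hH _ (inv_iff_le_stab.2 fun g hg => mem_stab_rg
        ((mem_cen.1 (h1 ⟨0, by omega⟩)).2 _ (coe_mem_alg hg)).symm)).elim
        (IsMDecomposition.ne_bot hm _) (IsMDecomposition.ne_top hm _)
  rcases h.comm_case hH hI.le_sim ((NormBy.self H).nz (k := F)).cen (cen_comm _) (h.ac_cen (h.ac_alg' hI))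
    (by by_contra hc; push Not at hc; exact hT (hH.alg_top hn hc)) with
    ⟨t, e, h1, h2, h3, -⟩ | ⟨e, h2, h3, -⟩ | ⟨r, K, h1, h2, -, h3, h4⟩
  exacts [(key h1 h2 h3).elim, (key le_rfl h2 h3).elim, ⟨r, K, h1, h2, h4, h3⟩]

theorem Hm.alg_top_four [Fintype F] {q : ℕ} (hq : IsConj σ q) (h : Hm σ ε f) (hn : Fintype.card ι = 4)
    {H : Subgroup (GL ι F)} (hH : Irr H) (hI : Isom f H) : alg F H = ⊤ := by
  have : Nonempty ι := Fintype.card_pos_iff.1 (by omega)
  by_contra hT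
  obtain ⟨r, K, h1, h2, h3, -⟩ := h.exists_cen_field (by omega) hH hI hT
  obtain rfl := (Nat.prime_dvd_prime_iff_eq h1 Nat.prime_two).1
    (h1.dvd_of_dvd_pow (n := 2) (by simpa [hn] using IsFieldSubalgebra.dvd_card h2))
  exact h.field_ne_two hq.exists_not_fixed h2 h3

/-! ### Small fields -/

omit [Fintype ι] in
theorem Hm.mult_fixed [Nonempty ι] (h : Hm σ ε f) {g : (ι → F) → ι → F} {c : F}
    (hg : ∀ u v, f (g u) (g v) = c * f u v) : σ c = c := by
  obtain ⟨i⟩ := ‹Nonempty ι›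
  obtain ⟨u, hu⟩ := h.exists_ne (v := Pi.single i 1) (by simp)
  have h1 := h.swap (g u) (g (Pi.single i 1))
  rw [hg, hg, map_mul, h.swap, mul_left_comm] at h1
  exact mul_right_cancel₀ hu (mul_left_cancel₀ (left_ne_zero_of_mul_eq_one h.norm_ε) h1)

theorem mul_self_of_fixed {q : ℕ} (hq : IsConj σ q) (h3 : q ≤ 3) {x : F} (h0 : x ≠ 0) (hx : σ x = x) :
    x * x = 1 := by
  have := hq.two_le
  rw [hq.fixed_iff h0] at hx
  interval_cases q
  · simp_all
  · exact (sq x).symm.trans hx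

theorem Hm.sim_le_isoG [Nonempty ι] (hq : IsConj σ 2) (h : Hm σ ε f) : similarityGroup f ≤ isoG f :=
  fun _ ⟨c, hc⟩ => by
    have : (c : F) = 1 := by simpa using (hq.fixed_iff c.ne_zero).1 (h.mult_fixed hc)
    exact mem_isoG.2 (by simpa [this] using hc)

theorem norm_sum_two (hq : IsConj σ 2) (x : Fin 2 → F) (h : ∑ a, x a * σ (x a) = 1) :
    ∃ a, ∀ a', a' ≠ a → x a' = 0 := by
  have h1 : ∀ y : F, y ≠ 0 → y * σ y = 1 := fun y hy => by
    simpa using (hq.fixed_iff (x := y * σ y) (by simpa using hy)).1 (by rw [map_mul, hq.σσ, mul_comm])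
  by_cases h0 : x 0 = 0
  · exact ⟨1, by simp [Fin.forall_fin_two, h0]⟩
  refine ⟨0, by_contra fun h2 => ?_⟩
  rw [Fin.sum_univ_two, h1 _ h0, h1 _ (by simpa [Fin.forall_fin_two] using h2)] at h
  simp at h

theorem Hm.refine_two (hq : IsConj σ 2) (h : Hm σ 1 f) {H : Subgroup (GL ι F)} (hI : Isom f H) {t : ℕ}
    {D : Fin t → Submodule F (ι → F)} (hD : IsNondegenerateMDecomposition f 2 D)
    (hH : H ≤ decompositionStabilizer D) : ∃ D : Fin (Fintype.card ι) → Submodule F (ι → F),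
      IsNondegenerateMDecomposition f 1 D ∧ H ≤ decompositionStabilizer D := by
  have := hq.finite
  choose b hb using fun i => Herm.exists_orthonormal
    ((h.br_uForm hq).nondeg_restrict (hD.nondegenerate i)) (hD.decomp.finrank_eq i)
  obtain ⟨E, h1, h2, -⟩ := h.refine_frame hI hD hH one_ne_zero b
    (fun i a a' => (hb i a' a).trans (by simp [eq_comm])) (norm_sum_two hq)
  exact ⟨E, h1, h2⟩

theorem Hm.frame_two (hq : IsConj σ 2) {f : (Fin 2 → F) → (Fin 2 → F) → F} (h : Hm σ 1 f) :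
    ∃ D : Fin 2 → Submodule F (Fin 2 → F), IsNondegenerateMDecomposition f 1 D ∧
      similarityGroup f ≤ decompositionStabilizer D := by
  have := hq.finite
  obtain ⟨b, hb⟩ := Herm.exists_orthonormal ((h.br_uForm hq).nondeg h) (n := 2) (by simp)
  exact h.frame_of_basis (by simp) (isom_iff.2 (h.sim_le_isoG hq)) one_ne_zero b
    (fun a a' => (hb a' a).trans (by simp [eq_comm])) (norm_sum_two hq)

theorem Hm.exists_std {q : ℕ} (hq : IsConj σ q) (h : Hm σ 1 f) {k : ℕ} (hn : Fintype.card ι = k) :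
    ∃ (e : ι ≃ Fin k) (P : GL ι F), Asch.pull f e P = formOfGram σ 1 := by
  obtain ⟨b, hb⟩ := Herm.exists_orthonormal ((h.br_uForm hq).nondeg h) (n := k) (by simpa using hn)
  obtain ⟨e, P, h1, -⟩ := h.exists_vec (by simpa using hn.symm) b isUnit_one
    fun i j => (hb j i).trans (by simp [one_apply, eq_comm])
  exact ⟨e, P, by rw [(h.pull e P).eq_fG, h1]⟩

theorem Hm.isSolvable_three (hq : IsConj σ 2) (h : Hm σ 1 f) (hn : Fintype.card ι = 3) :
    Group.IsSolvable (isoG f) := by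
  have := hq.finite
  have : Finite (h.uForm hq).isom := Finite.of_injective _ fGL_injective
  have := Agent.S0144.result (G := (h.uForm hq).isom) 2 3 3 4 (by decide) (by decide) (by
    rw [Herm.card_isom ((h.br_uForm hq).nondeg h), finrank_fintype_fun_eq_card, hn]; decide)
  refine Group.isSolvable_of_surjective (f := (fGL _).codRestrict _ (h.br_uForm hq).fGL_mem)
    fun g => ⟨⟨glEquiv ι F g, herm_isIsometry fun u v => mem_isoG.1 g.2 v u⟩,
      Subtype.ext ((glEquiv ι F).symm_apply_apply _)⟩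

/-! ### Bilinear forms preserved by unitary groups -/

theorem Hm.sub5_of_act [Fintype F] [Nonempty ι] (h : Hm σ ε f) (hne : σ ≠ RingHom.id F)
    {H : Subgroup (GL ι F)} (hT : alg F H = ⊤) (hI : Isom f H) {A : Matrix ι ι F} {ε' : F}
    (hA : IsUnit A) (h1 : Aᵀ = ε' • A)
    (h2 : ∀ g ∈ H, ∃ c, c * σ c = 1 ∧ act (RingHom.id F) (g : Matrix ι ι F) A = c • A) : Sub5 f H :=
  h.sub5_of_two_forms (hm_fG (σ := RingHom.id F) (fun _ => rfl) hA h1) hne.symm hI.le_sim
    (fun g hg => let ⟨_, _, h⟩ := h2 g hg; mem_sim_of hA h) hT hI fun g hg =>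
      let ⟨c, h3, h4⟩ := h2 g hg
      ⟨c, h3, fun u v => by rw [← fG_act, h4, fG_smul]⟩

theorem Tens.sub5_two [Fintype F] (hne : σ ≠ RingHom.id F) {G H : Subgroup (GL ι F)}
    {e : ι ≃ Fin 2 × Fin 2} {P : GL ι F} {A₁ A₂ : Matrix (Fin 2) (Fin 2) F} {ε₁ ε₂ : F}
    (hT : Tens σ ε f G H e P A₁ A₂ ε₁ ε₂) (h : Hm σ ε f) (hI : Isom f H) : Sub5 f H := by
  have := hT.ne
  refine h.sub5_of_act hne hT.top hI (A := trG (RingHom.id F) e P (J2 F ⊗ₖ J2 F)) (ε' := 1)
    ((isUnit_trG _ _).2 (isUnit_J2.kronecker isUnit_J2)) (by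
      rw [transpose_trG, ← kroneckerMap_transpose, J2_transpose, one_smul]
      congr 1
      ext; simp) fun g hg => ?_
  obtain ⟨a, b, -, hab⟩ := hT.exists_kron hg
  obtain ⟨s, t, h1, h2, h3⟩ := h.factor_sim hT.gram (hI g hg) hab
  have h4 := hT.hm₁.mult_pow (g := a) (c := s) fun u v => by rw [← fG_act, h2, fG_smul]
  have h5 := hT.hm₂.mult_pow (g := b) (c := t) fun u v => by rw [← fG_act, h3, fG_smul]
  refine ⟨(a : Matrix _ _ F).det * (b : Matrix _ _ F).det, ?_, by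
    rw [hab, act_tr, act_kron, act_J2, act_J2, smul_kronecker, kronecker_smul, smul_smul, trG_smul]⟩
  rw [map_mul, mul_mul_mul_comm, ← h4, ← h5, ← mul_pow, h1, one_pow]

theorem Pow.sub5_two [Fintype F] (hne : σ ≠ RingHom.id F) {G H : Subgroup (GL ι F)} {t : ℕ}
    {e : ι ≃ (Fin t → Fin 2)} {P : GL ι F} {A : Matrix (Fin 2) (Fin 2) F} {ε₁ c : F}
    (hP : Pow σ ε f G H e P A ε₁ c) (h : Hm σ ε f) (hI : Isom f H) : Sub5 f H := by
  have : Nonempty ι := e.nonempty
  obtain ⟨N, h1, h2, h3⟩ := hP.perf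
  have h4 : Hm (RingHom.id F) ((-1) ^ t) (formOfGram (RingHom.id F)
      (trG (RingHom.id F) e P (pure fun _ => J2 F))) :=
    hm_fG (fun _ => rfl) ((isUnit_trG _ _).2 (isUnit_pure fun _ => isUnit_J2))
      ((transpose_trG _ _ _).trans (by rw [transpose_pure_J2, trG_smul]))
  exact h.sub5_of_isom h4 hne.symm h2 h3 (hI.mono (h1.trans (commutator_le_self _)))
    (h4.isom_of_le_commutator (hP.le.trans (tensorWreath_two_le_sim e P)) h1)

omit [Fintype κ] [DecidableEq κ] [Fintype μ] in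
theorem bm_inj {π : Equiv.Perm μ} {gs hs : μ → Matrix κ κ F} (h : bm π gs = bm π hs) (j : μ) :
    gs j = hs j := Matrix.ext fun a b => by
  simpa [bm_apply] using congrFun (congrFun h (π j, a)) (j, b)

theorem Hm.sub5_pair [Fintype F] {q : ℕ} (hq : IsConj σ q) (h3 : q ≤ 3) (h : Hm σ 1 f)
    {H : Subgroup (GL ι F)} (hH : Irr H) (hI : H ≤ isoG f ⊓ specialLinear ι F)
    {D : Fin 2 → Submodule F (ι → F)} (hD : IsMDecomposition 2 D)
    (h1 : ∀ i, IsTotallySingularFor f (D i)) (hle : H ≤ decompositionStabilizer D) : Sub5 f H := by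
  have hn := IsMDecomposition.mul_eq hD
  have : Nonempty ι := Fintype.card_pos_iff.1 (by omega)
  have hI' : Isom f H := isom_iff.2 (hI.trans inf_le_left)
  obtain ⟨e, P, hB⟩ := IsMDecomposition.exists_blk' hD
  let s : Equiv.Perm (Fin 2) := Equiv.swap 0 1
  obtain ⟨B, hG⟩ : ∃ B : Fin 2 → Matrix (Fin 2) (Fin 2) F, gramMatrix (Asch.pull f e P) = bm s B := by
    refine ⟨fun j => of fun a b => gramMatrix (Asch.pull f e P) (s j, a) (j, b), ?_⟩
    ext ⟨i, a⟩ ⟨j, b⟩
    rw [bm_apply]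
    split_ifs with hij
    · obtain rfl : i = s j := hij
      rfl
    · obtain rfl : i = j := (by decide : ∀ i j : Fin 2, i ≠ Equiv.swap 0 1 j → i = j) i j hij
      exact h1 i _ (hB.single_mem i a) _ (hB.single_mem i b)
  have h4 : (B 0).det ≠ 0 := ((isUnit_iff_isUnit_det _).1
    (isUnit_bm.1 (hG ▸ (h.pull e P).unit) 0)).ne_zero
  have h5 : (B 1).det = σ (B 0).det := by
    have := (h.pull e P).gram_dagger
    rw [hG, bm_map, bm_transpose, one_smul] at this
    rw [← bm_inj this 1, det_transpose, σ.map_det]; rfl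
  let a : Fin 2 → F := ![1, (B 0).det]
  refine h.sub5_of_act hq.ne_id (h.alg_top_four hq hn.symm hH hI') hI'
    (A := trG (RingHom.id F) e P (bm 1 fun j => a j • J2 F)) (ε' := -1)
    ((isUnit_trG _ _).2 (isUnit_bm.2 fun j => (isUnit_iff_isUnit_det _).2 (by
      fin_cases j <;> simp [a, h4, ((isUnit_iff_isUnit_det _).1 (isUnit_J2 (F := F))).ne_zero]))) (by
      rw [transpose_trG, bm_transpose, ← trG_smul, ← bm_smul]
      simp [J2_transpose]) fun g hg => ?_
  obtain ⟨π, gs, h6, h7⟩ := hB.exists_bm (hle hg)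
  have h8 : (gs 0).det * (gs 1).det = 1 := by
    have := mem_sl.1 (hI hg).2
    rw [h7, det_tr, det_bm, Fin.prod_univ_two] at this
    rcases Int.units_eq_one_or (Equiv.Perm.sign π) with h | h <;> simpa [h] using this
  have h9 := h.act_pull (hI hg).1 h7
  rw [hG, act, bm_transpose, bm_map, bm_mul, bm_mul] at h9
  have h10 : ∀ π : Equiv.Perm (Fin 2), π = 1 ∨ π = s := by decide
  suffices ∃ c, c * σ c = 1 ∧ ∀ j, (gs j).det * a (π j) = c * a j by
    obtain ⟨c, h11, h12⟩ := this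
    refine ⟨c, h11, ?_⟩
    rw [h7, act_tr, act_bm, ← trG_smul, ← bm_smul]
    simp only [act_smul, act_J2, smul_smul, ← h12, mul_comm]
  have h11 : ∀ x : Matrix (Fin 2) (Fin 2) F, (x.map σ).det = σ x.det := fun x => (σ.map_det x).symm
  rcases h10 π with rfl | rfl
  · have h12 := congrArg det (bm_inj h9 0)
    simp [h11, s] at h12
    have h13 : σ (gs 0).det = (gs 0).det := mul_left_cancel₀ h4 (by
      linear_combination (gs 0).det * h12 - (B 0).det * σ (gs 0).det * h8)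
    have h14 := mul_self_of_fixed hq h3 (left_ne_zero_of_mul_eq_one h8) h13
    refine ⟨(gs 0).det, by rw [h13, h14], ?_⟩
    simp only [Fin.forall_fin_two, Equiv.Perm.one_apply, true_and]
    linear_combination a 1 * (gs 0).det * h8 - a 1 * (gs 1).det * h14
  · have h12 := congrArg det (bm_inj ((by simp : s⁻¹ * s * s = s) ▸ h9) 0)
    simp [h11, s, h5] at h12
    have h13 : σ ((gs 0).det * (B 0).det) = (gs 0).det * (B 0).det := by
      rw [map_mul]
      linear_combination (gs 0).det * h12 - σ (B 0).det * σ (gs 0).det * h8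
    have h14 := mul_self_of_fixed hq h3 (mul_ne_zero (left_ne_zero_of_mul_eq_one h8) h4) h13
    refine ⟨(gs 0).det * (B 0).det, by rw [h13, h14], ?_⟩
    simp [Fin.forall_fin_two, s, a]
    linear_combination (gs 0).det * (B 0).det * (B 0).det * h8 - (gs 1).det * h14

end Cfsg.Lib.Asch
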