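import Cfsg.Agent.Lib.Asch.SUT

/-! Tensor squares, products of extraspecial groups, monomial groups in dimension four. -/

set_option autoImplicit false

namespace Cfsg.Lib.Asch

open Matrix Cfsg.Geo Module Cfsg.Lib.Forms Subgroup
open scoped MatrixGroups Kronecker commutatorElement

variable {ι κ μ : Type} [Fintype ι] [DecidableEq ι] [Fintype κ] [DecidableEq κ]
  [Fintype μ] [DecidableEq μ] {F : Type*} [Field F] {σ : F →+* F} {ε : F}
  {f : (ι → F) → (ι → F) → F}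

/-- The tensor product of invertible matrices. -/
noncomputable def kG (e : ι ≃ κ × μ) (P : GL ι F) : GL κ F × GL μ F →* GL ι F :=
  (trGL e P).toMonoidHom.comp
    { toFun := fun x => x.1.kronecker x.2
      map_one' := Units.ext one_kronecker_one
      map_mul' := fun _ _ => Units.ext (mul_kronecker_mul _ _ _ _) }

theorem coe_kG (e : ι ≃ κ × μ) (P : GL ι F) (x : GL κ F × GL μ F) :
    (kG e P x : Matrix ι ι F) = tr e P ((x.1 : Matrix κ κ F) ⊗ₖ (x.2 : Matrix μ μ F)) := rfl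

theorem kG_sc (e : ι ≃ κ × μ) (P : GL ι F) (c : Fˣ) : kG e P (sc κ c, 1) = sc ι c :=
  Units.ext (by simp [coe_kG, coe_sc, smul_kronecker])

theorem kG_mem_scalars {e : ι ≃ κ × μ} {P : GL ι F} {x : GL κ F × GL μ F} (h1 : x.1 ∈ scalars κ F)
    (h2 : x.2 ∈ scalars μ F) : kG e P x ∈ scalars ι F := by
  obtain ⟨c, hc⟩ := mem_scalars_iff_isSc.1 h1
  obtain ⟨d, hd⟩ := mem_scalars_iff_isSc.1 h2
  exact mem_scalars_iff_isSc.2 ⟨c * d, by
    simp [coe_kG, hc, hd, smul_kronecker, kronecker_smul, smul_smul, mul_comm]⟩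

theorem exists_phi2 {ν : Type} [Fintype ν] [DecidableEq ν] (e : ι ≃ κ × μ) (P : GL ι F) (e₁ : κ ≃ ν)
    (P₁ : GL κ F) (e₂ : μ ≃ ν) (P₂ : GL μ F) : ∃ φ : Fin 2 → Matrix ν ν F →ₐ[F] Matrix ι ι F,
      (∀ a, φ 0 a = tr e P (tr e₁ P₁ a ⊗ₖ 1)) ∧ ∀ a, φ 1 a = tr e P (1 ⊗ₖ tr e₂ P₂ a) :=
  ⟨![((tr e P).toAlgHom.comp (kl _ _ F)).comp (tr e₁ P₁).toAlgHom,
    ((tr e P).toAlgHom.comp (kr _ _ F)).comp (tr e₂ P₂).toAlgHom], fun _ => rfl, fun _ => rfl⟩

namespace Tens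

variable {G H : Subgroup (GL ι F)} {e : ι ≃ κ × μ} {P : GL ι F} {A₁ : Matrix κ κ F}
  {A₂ : Matrix μ μ F} {ε₁ ε₂ : F} (hT : Tens σ ε f G H e P A₁ A₂ ε₁ ε₂) (h : Hm σ ε f) (hI : Isom f H)
include hT

theorem exists_kG {g : GL ι F} (hg : g ∈ H) : ∃ a ∈ facR H (e.trans (Equiv.prodComm _ _)) P,
    ∃ b ∈ facR H e P, g = kG e P (a, b) :=
  let ⟨a, b, hb, hab⟩ := hT.exists_kron hg
  ⟨a, ⟨g, hg, b, by rw [tr_swap, hab]⟩, b, hb, Units.ext hab⟩

include h hI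

theorem exists_wit : ∃ a : GL κ F, kG e P (a, 1) ∈ similarityGroup f ∧ kG e P (a, 1) ∉ scalars ι F := by
  have := hT.ne; have := hT.ne₁; have := hT.ne₂
  obtain ⟨a, ha, h1⟩ := SetLike.not_le_iff_exists.1 fun hc =>
    not_irr_of_le_scalars hT.two₁ hc (irr_of_alg_top hT.swap.facR_top)
  obtain ⟨c, hc⟩ := mem_sim_iff.1 (hT.swap.facR_sim h hI ha)
  exact ⟨a, h.mem_sim_of_act (coe_kG _ _ _) (c := c) (by
      rw [hT.gram, act_kron, hc, Units.val_one, act_one, smul_kronecker]),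
    fun hs => h1 (mem_scalars_iff_isSc.2 (isSc_of_map ((tr e P).toAlgHom.comp (kl κ μ F))
      ((tr e P).injective.comp kl_injective) (mem_scalars_iff_isSc.1 hs)))⟩

omit hI in
theorem exists_pow {k : ℕ} (hk : 2 ≤ k) {e₁ : κ ≃ Fin k} {P₁ : GL κ F} {e₂ : μ ≃ Fin k} {P₂ : GL μ F}
    (h1 : ∀ x, adj σ (pull (formOfGram σ A₂) e₂ P₂) x = adj σ (pull (formOfGram σ A₁) e₁ P₁) x) :
    ∃ (e' : ι ≃ (Fin 2 → Fin k)) (P' : GL ι F) (A : Matrix (Fin k) (Fin k) F) (ε₁ c : F),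
      (∀ a, tr e P (tr e₁ P₁ a ⊗ₖ 1) = tr e' P' (slot 0 a)) ∧ H ≤ tensorWreathSubgroup k 2 e' P' ∧
      Hm σ ε₁ (formOfGram σ A) ∧ c ≠ 0 ∧ σ c * ε₁ ^ 2 = ε * c ∧
      gramMatrix (Asch.pull f e' P') = c • pure fun _ => A := by
  have := hT.ne
  obtain ⟨φ, hφ0, hφ1⟩ := exists_phi2 e P e₁ P₁ e₂ P₂
  have k1 : ∀ i j, i ≠ j → ∀ a b, φ i a * φ j b = φ j b * φ i a := by
    have : ∀ a b, φ 0 a * φ 1 b = φ 1 b * φ 0 a := fun a b => by
      rw [hφ0, hφ1, ← map_mul, ← map_mul, ← mul_kronecker_mul, ← mul_kronecker_mul, mul_one, one_mul,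
        mul_one, one_mul]
    intro i j hij a b
    fin_cases i <;> fin_cases j
    exacts [absurd rfl hij, this a b, (this b a).symm, absurd rfl hij]
  have k2 : ∀ z, (∀ i a, z * φ i a = φ i a * z) → IsSc z := fun z hz => isSc_of_comm fun y =>
    (eq_top_of_kron (A := Subalgebra.centralizer F {z}) (e := e) (P := P)
      (fun a => by rintro _ rfl; simpa [hφ0] using hz 0 ((tr e₁ P₁).symm a))
      fun a => by rintro _ rfl; simpa [hφ1] using hz 1 ((tr e₂ P₂).symm a)).ge (trivial : y ∈ _) z rfl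
  have k3 : ∀ i a, adj σ f (φ i a) = φ i (adj σ (pull (formOfGram σ A₁) e₁ P₁) a) := by
    simp only [Fin.forall_fin_two, hφ0, hφ1, hT.adj_kl h, hT.adj_kr h, hT.hm₁.adj_tr, hT.hm₂.adj_tr,
      h1, implies_true, and_self]
  have k4 : ∀ g ∈ H, ∀ i, ∃ j, ∀ a, ∃ b, cj g (φ i a) = φ j b := fun g hg => by
    obtain ⟨a, b, -, hab⟩ := hT.exists_kron hg
    simp only [Fin.forall_fin_two, hφ0, hφ1, cj_kron hab, map_one]
    exact ⟨⟨0, fun x => ⟨(tr e₁ P₁).symm _, by rw [hφ0, AlgEquiv.apply_symm_apply]⟩⟩,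
      1, fun x => ⟨(tr e₂ P₂).symm _, by rw [hφ1, AlgEquiv.apply_symm_apply]⟩⟩
  obtain ⟨e', P', A, ε₁, c, h2, h3⟩ := h.exists_pow hk two_pos φ k1 k2 k3 k4
  exact ⟨e', P', A, ε₁, c, fun a => by rw [← h2, hφ0], h3⟩

theorem extra_or_comm [Fintype F] {R₁ : Subgroup (GL κ F)} {R₂ : Subgroup (GL μ F)} {r m₁ m₂ : ℕ}
    (h1 : Extra (facR H (e.trans (Equiv.prodComm _ _)) P) R₁ r m₁) (h2 : Extra (facR H e P) R₂ r m₂)
    (i1 : Isom (formOfGram σ A₁) R₁) (i2 : Isom (formOfGram σ A₂) R₂) :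
    ∃ H', H ≤ H' ∧ Isom f H' ∧ (CommCase σ f H' ∨ ∃ R m, Extra H' R r m) := by
  have := hT.ne
  let R := (R₁.prod R₂).map (kG e P)
  have hR : Isom f R := isom_iff.2 (by
    rintro _ ⟨x, hx, rfl⟩
    refine h.mem_isoG_of_adj ?_
    rw [coe_kG, h.adj_kron hT.hm₁ hT.hm₂ hT.gram, hT.hm₁.adj_of_iso (i1 _ hx.1),
      hT.hm₂.adj_of_iso (i2 _ hx.2), ← map_mul, ← mul_kronecker_mul]
    simp)
  have hI' : Isom f (H ⊔ R) := isom_iff.2 (sup_le (isom_iff.1 hI) (isom_iff.1 hR))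
  refine ⟨H ⊔ R, le_sup_left, hI', ?_⟩
  by_cases hab : ∀ A ≤ R, NormBy (H ⊔ R) A → (∀ x ∈ A, ∀ y ∈ A, x * y = y * x) → A ≤ scalars ι F
  · refine Or.inr ⟨R, extra_mk ?_ h1.prime le_sup_right (normBy_sup_left ?_ (NormBy.self R))
      (eq_top_of_kron (e := e) (P := P) (fun a => ?_) fun b => ?_) ?_ ?_ ?_ (fun c _ hc => ?_) hab⟩
    · have := hT.card_eq; have := hT.two₁; have := hT.two₂; nlinarith
    · rintro g hg _ ⟨x, hx, rfl⟩
      obtain ⟨a, ha, b, hb, rfl⟩ := hT.exists_kG hg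
      exact ⟨(a, b) * x * (a, b)⁻¹, ⟨h1.norm a ha _ hx.1, h2.norm b hb _ hx.2⟩,
        by simp only [map_mul, map_inv]⟩
    · exact (alg_le (A := (alg F R).comap ((tr e P).toAlgHom.comp (kl _ _ F)))).2 (fun g hg =>
        coe_mem_alg (g := kG e P (g, 1)) ⟨_, ⟨hg, one_mem _⟩, rfl⟩) (h1.top.ge trivial)
    · exact (alg_le (A := (alg F R).comap ((tr e P).toAlgHom.comp (kr _ _ F)))).2 (fun g hg =>
        coe_mem_alg (g := kG e P (1, g)) ⟨_, ⟨one_mem _, hg⟩, rfl⟩) (h2.top.ge trivial)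
    · rintro _ ⟨x, hx, rfl⟩
      rw [← map_pow, show x ^ _ = 1 from Prod.ext (h1.pow_s _ hx.1) (h2.pow_s _ hx.2), map_one]
    · rintro _ ⟨x, hx, rfl⟩
      exact map_pow (kG e P) _ _ ▸ kG_mem_scalars (h1.pow_r _ hx.1) (h2.pow_r _ hx.2)
    · rintro _ ⟨x, hx, rfl⟩ _ ⟨y, hy, rfl⟩
      exact map_commutatorElement (kG e P) _ _ ▸
        kG_mem_scalars (h1.comm _ hx.1 _ hy.1) (h2.comm _ hx.2 _ hy.2)
    · exact ⟨(sc κ c, 1), ⟨(h1.sc_mem c).2 ⟨sc_mem_facR c, hc⟩, one_mem _⟩, kG_sc e P c⟩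
  · push Not at hab
    obtain ⟨A, h3, h4, h5, h6⟩ := hab
    obtain ⟨x, hx, h7⟩ := SetLike.not_le_iff_exists.1 h6
    exact Or.inl (h.comm (hT.irr.mono le_sup_left) hI'.le_sim (h4.nz (k := F))
      (fun _ hy _ hz => alg_comm_alg h5 hy hz) (h.ac_alg' (hR.mono h3))
      ⟨x, coe_mem_alg hx, fun hs => h7 (mem_scalars_iff_isSc.2 hs)⟩
      (Or.inl ⟨x, mem_sup_right (h3 hx), h7, fun k hk => alg_comm_alg h5 (coe_mem_alg hx) hk⟩))

theorem extra_of_solvable [Fintype F] (hp : (Fintype.card μ).Prime)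
    (hs : Group.IsSolvable (facR H e P)) (h1 : Isom (formOfGram σ A₂) (facR H e P)) :
    CommCase σ f H ∨ ∃ R, Extra (facR H e P) R (Fintype.card μ) 1 := by
  have := hT.ne₂
  have h2 := irr_of_alg_top hT.facR_top
  by_cases hc : ∀ N ≤ facR H e P, NormBy (facR H e P) N → ∀ x ∈ cen (alg F N), IsSc x
  swap
  · push Not at hc
    obtain ⟨N, hle, hN, hx⟩ := hc
    exact Or.inl (hT.comm h hI (hN.nz (k := F)).cen (cen_comm _)
      (hT.hm₂.ac_cen (hT.hm₂.ac_alg' (h1.mono hle))) hx)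
  rcases h2.qp_or_tensor hc with hQ | ⟨-, -, -, n₁, n₂, e', -, h3, h4, -⟩
  swap
  · have := Fintype.card_congr e'
    simp only [Fintype.card_prod, Fintype.card_fin] at this
    exact absurd (this ▸ hp) (Nat.not_prime_mul (by omega) (by omega))
  rcases h2.min_normal_cases hT.two₂ with ⟨N, r, hN⟩ | ⟨t, L, hL⟩
  · obtain ⟨R, m, hR⟩ := hN.exists_extra hT.two₂ hQ
    obtain ⟨rfl, rfl⟩ := (Nat.Prime.pow_eq_iff hp).1 hR.card_ι.symm
    exact Or.inr ⟨R, hR⟩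
  · have h3 := map_subgroupOf_eq_of_le (hL.le' ⟨0, hL.pos⟩)
    refine absurd (Subgroup.map_injective (facR H e P).subtype_injective (by
      rw [Subgroup.map_commutator, h3, hL.perfect])) (Group.IsSolvable.commutator_lt_of_ne_bot
        (H := (L ⟨0, hL.pos⟩).subgroupOf (facR H e P)) fun h4 => hL.not_le ⟨0, hL.pos⟩ ?_).ne
    rw [← h3, h4, Subgroup.map_bot]
    exact bot_le

end Tens

theorem Extra.sub5' [Fintype F] (h : Hm σ ε f) {H H₀ R : Subgroup (GL ι F)} {r m : ℕ}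
    (hR : Extra H R r m) (hI : Isom f R) (hH : NormBy H₀ R) {F₀ : Subfield F} (h0 : F₀ ≠ ⊤)
    (hs : ∀ c : Fˣ, sc ι c ∈ R → (c : F) ∈ F₀) : Sub5 f H₀ := by
  have := hR.nonempty
  obtain ⟨F₁, r, h1, hr', hc⟩ := exists_maximal_subfield h0
  obtain ⟨P, ζ, h2⟩ := h.subfield_of_finrank hH hR.top hI (hR.finrank_alg_le fun c hc => h1 (hs c hc))
  exact ⟨F₁, r, P, ζ, hr', hc, h2⟩

/-! ### Monomial groups -/

/-- A monomial matrix. -/
def mon (π : Equiv.Perm μ) (d : μ → F) : Matrix (μ × Fin 1) (μ × Fin 1) F := bm π fun j => d j • 1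

theorem mon_mul (π ρ : Equiv.Perm μ) (d d' : μ → F) :
    mon π d * mon ρ d' = mon (π * ρ) fun j => d (ρ j) * d' j := by
  simp [mon, bm_mul, smul_smul, mul_comm]

omit [Fintype μ] in
theorem mon_smul (π : Equiv.Perm μ) (c : F) (d : μ → F) : mon π (fun j => c * d j) = c • mon π d := by
  simp only [mon, mul_smul, bm_smul]

omit [Fintype μ] in
theorem mon_const (c : F) : mon (1 : Equiv.Perm μ) (fun _ => c) = c • 1 := by
  rw [mon, bm_smul, bm_one]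

theorem mon_add (π : Equiv.Perm μ) (d d' : μ → F) : mon π d + mon π d' = mon π fun j => d j + d' j := by
  simp only [mon, bm_add, add_smul]

theorem det_mon (π : Equiv.Perm μ) (d : μ → F) : (mon π d).det = Equiv.Perm.sign π * ∏ j, d j := by
  simp [mon, det_bm]

theorem act_mon (π : Equiv.Perm μ) (d : μ → F) : act σ (mon π d) 1 = mon 1 fun j => d j * σ (d j) := by
  rw [← bm_one, mon, act_bm]
  simp [act_smul_left, act_one, mon]

theorem Blk.exists_mon {t : ℕ} {D : Fin t → Submodule F (ι → F)} {e : ι ≃ Fin t × Fin 1} {P : GL ι F}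
    (h : Blk D e P) {g : GL ι F} (hg : g ∈ decompositionStabilizer D) :
    ∃ π d, (∀ j, d j ≠ 0) ∧ (g : Matrix ι ι F) = tr e P (mon π d) := by
  obtain ⟨π, gs, h1, h2⟩ := h.exists_bm hg
  refine ⟨π, fun j => gs j 0 0, fun j => ?_, ?_⟩
  · simpa using (isUnit_iff_isUnit_det _).1 (h1 j)
  · rw [h2, mon]
    congr 2
    funext j
    ext a b
    simp [Subsingleton.elim a 0, Subsingleton.elim b 0]

/-- The Klein four-group. -/
def v4 : Fin 4 → Equiv.Perm (Fin 4) :=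
  ![1, .swap 0 1 * .swap 2 3, .swap 0 2 * .swap 1 3, .swap 0 3 * .swap 1 2]

theorem v4_apply (i j : Fin 4) : v4 i j = ![![0, 1, 2, 3], ![1, 0, 3, 2], ![2, 3, 0, 1], ![3, 2, 1, 0]] i j := by
  revert i j; decide

theorem v4_conj : ∀ (τ : Equiv.Perm (Fin 4)) i, ∃ j, τ * v4 i = v4 j * τ := by decide +kernel

theorem v4_comm : ∀ i j, v4 i * v4 j = v4 j * v4 i := by decide

theorem v4_mul_self : ∀ i, v4 i * v4 i = 1 := by decide

theorem v4_zero : ∀ i, v4 i 0 = i := by decide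

theorem v4_eq_zero : ∀ i j, v4 i j = 0 ↔ j = i := by decide

/-- The diagonal parts in `4 ∘ 2^{1+4}`. -/
def K4 (d : Fin 4 → F) : Prop :=
  (∀ j, d j ^ 4 = 1) ∧ ∀ i, ∃ s : F, (s = 1 ∨ s = -1) ∧ ∀ j, d (v4 i j) = s * d j

theorem k4_div {a : Fin 4 → F} (h : ∀ j, a j ^ 4 = 1) (h' : (∏ j, a j) ^ 2 = 1) (k : Fin 4) :
    K4 fun j => a (v4 k j) * a j ^ 3 := by
  refine ⟨fun j => by rw [mul_pow, h, pow_right_comm, h]; simp, fun i =>
    ⟨a (v4 k (v4 i 0)) * a (v4 i 0) ^ 3 * a (v4 k 0) ^ 3 * a 0, mul_self_eq_one_iff.1 ?_, fun j => ?_⟩⟩ <;>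
  have h0 := h 0 <;> have h1 := h 1 <;> have h2 := h 2 <;> have h3 := h 3 <;>
  rw [Fin.prod_univ_four] at h'
  · fin_cases i <;> fin_cases k <;> simp only [v4_apply] <;> simp <;> grind
  · fin_cases i <;> fin_cases k <;> fin_cases j <;> simp only [v4_apply] <;> simp <;> grind

theorem exists_extra_mon [Finite F] (h2 : (2 : F) ≠ 0) {e : ι ≃ Fin 4 × Fin 1} {P : GL ι F}
    {H : Subgroup (GL ι F)} (hH : ∀ g ∈ H, (g : Matrix ι ι F).det ^ 2 = 1 ∧
      ∃ π d, (∀ j, d j ^ 4 = 1) ∧ (g : Matrix ι ι F) = tr e P (mon π d)) :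
    ∃ R m, Extra (subgroupNormalizer R) R 2 m ∧ H ≤ subgroupNormalizer R ∧ ∀ M : Subgroup (GL ι F),
      (∀ (g : GL ι F) π d, (∀ j, d j ^ 4 = 1) → (g : Matrix ι ι F) = tr e P (mon π d) → g ∈ M) → R ≤ M := by
  let S : Set (GL ι F) := {g | ∃ i d, K4 d ∧ (g : Matrix ι ι F) = tr e P (mon (v4 i) d)}
  have hS : ∀ i d, K4 d → tr e P (mon (v4 i) d) ∈ alg F (closure S) := fun i d hd =>
    unit_mem_alg (((isUnit_iff_isUnit_det _).2 (by
      rw [det_mon]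
      refine (mul_ne_zero ?_ (Finset.prod_ne_zero_iff.2 fun j _ h => by simpa [h] using hd.1 j)).isUnit
      rcases Int.units_eq_one_or (Equiv.Perm.sign (v4 i)) with h | h <;> simp [h])).map _) ⟨i, d, hd, rfl⟩
  obtain ⟨m, hm⟩ := exists_extra_two h2 (by simp [Fintype.card_congr e]) (S := S) (by
      rintro s ⟨i, d, hd, hs⟩ t ⟨j, d', hd', ht⟩
      obtain ⟨a, ha, h3⟩ := hd.2 j
      obtain ⟨b, hb, h4⟩ := hd'.2 i
      rw [← pmC_coe, hs, ht]
      refine PmC.map ?_ _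
      simp only [PmC, mon_mul, h3, h4, v4_comm i j, mul_assoc, mon_smul, mul_comm (d' _)]
      rcases ha with rfl | rfl <;> rcases hb with rfl | rfl <;> simp)
    (by
      rintro s ⟨i, d, hd, hs⟩
      obtain ⟨a, ha, h3⟩ := hd.2 i
      have h4 : ∀ j, d j * d j = d 0 * d 0 := fun j => by
        obtain ⟨b, hb, h5⟩ := hd.2 j
        have := h5 0
        rw [v4_zero] at this
        rcases hb with rfl | rfl <;> simp [this]
      simp only [Units.ext_iff, Units.val_mul, hs, ← map_mul, mon_mul, h3, mul_assoc, h4, v4_mul_self,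
        mon_const]
      rcases mul_self_eq_one_iff.1 (show d 0 * d 0 * (d 0 * d 0) = 1 by linear_combination hd.1 0) with h | h <;>
        rcases ha with rfl | rfl <;> simp [h])
    (eq_top_of_single (e := e) (P := P) fun a b => by
      have h3 : ∀ i, tr e P (mon (v4 i) fun _ => 1) ∈ alg F (closure S) := fun i =>
        hS i _ ⟨by simp, fun _ => ⟨1, by simp⟩⟩
      have h4 := hS 0 ![1, 1, -1, -1] ⟨fun j => by fin_cases j <;> simp [pow_succ], fun i =>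
        ⟨![1, 1, -1, -1] i, by fin_cases i <;> simp, fun j => by
          fin_cases i <;> fin_cases j <;> simp [v4_apply]⟩⟩
      have h5 := hS 0 ![1, -1, 1, -1] ⟨fun j => by fin_cases j <;> simp [pow_succ], fun i =>
        ⟨![1, -1, 1, -1] i, by fin_cases i <;> simp, fun j => by
          fin_cases i <;> fin_cases j <;> simp [v4_apply]⟩⟩
      have h6 := add_mem (add_mem (add_mem (h3 0) h4) h5) (mul_mem h4 h5)
      simp only [← map_mul, ← map_add, mon_mul, show v4 0 = 1 from rfl, mul_one, mon_add] at h6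
      have h7 := Subalgebra.smul_mem _ (mul_mem (mul_mem (h3 a.1) h6) (h3 b.1)) (2 * 2 : F)⁻¹
      simp only [← map_mul, ← map_smul, mon_mul] at h7
      convert h7 using 2
      have h8 : ∀ j, 1 + ![1, 1, -1, -1] j + ![1, -1, 1, -1] j + ![1, 1, -1, -1] j * ![1, -1, 1, -1] j =
          if j = 0 then (2 * 2 : F) else 0 := fun j => by fin_cases j <;> simp; norm_num
      rw [eq_inv_smul_iff₀ (mul_ne_zero h2 h2)]
      obtain ⟨a, a'⟩ := a
      obtain ⟨b, b'⟩ := b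
      ext ⟨i, i'⟩ ⟨j, j'⟩
      rw [Subsingleton.elim a' 0, Subsingleton.elim b' 0, Subsingleton.elim i' 0, Subsingleton.elim j' 0]
      simp only [mon, bm_apply, Equiv.Perm.one_apply, h8, v4_eq_zero, Equiv.Perm.mul_apply]
      by_cases hj : j = b
      · simp [hj, (v4_eq_zero b b).2 rfl, v4_zero, single_apply, eq_comm]
      · simp [hj, Ne.symm hj])
    fun c hc => subset_closure ⟨0, fun _ => c, ⟨fun _ => by simpa using congrArg Units.val hc,
      fun _ => ⟨1, by simp⟩⟩, by rw [show v4 0 = 1 from rfl, mon_const, map_smul, map_one, coe_sc]⟩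
  refine ⟨_, m, hm, le_normalizer_closure fun g hg => ?_, fun M hM => (closure_le _).2 ?_⟩
  · rintro s ⟨i, d, hd, hs⟩
    obtain ⟨h3, τ, a, h4, h5⟩ := hH g hg
    have h6 := k4_div h4 (by
      rw [h5, det_tr, det_mon, mul_pow] at h3
      rcases Int.units_eq_one_or (Equiv.Perm.sign τ) with h | h <;> simpa [h] using h3) i
    obtain ⟨j, hj⟩ := v4_conj τ i
    refine ⟨j, fun k => a (v4 i (τ⁻¹ k)) * a (τ⁻¹ k) ^ 3 * d (τ⁻¹ k),
      ⟨fun k => by rw [mul_pow, h6.1, hd.1, one_mul], fun k => ?_⟩, ?_⟩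
    · obtain ⟨l, hl⟩ := v4_conj τ⁻¹ k
      obtain ⟨s, h7, h8⟩ := h6.2 l
      obtain ⟨s', h9, h10⟩ := hd.2 l
      refine ⟨s * s', by rcases h7 with rfl | rfl <;> rcases h9 with rfl | rfl <;> simp, fun x => ?_⟩
      simp only [show τ⁻¹ (v4 k x) = v4 l (τ⁻¹ x) from DFunLike.congr_fun hl x, h10]
      linear_combination s' * d (τ⁻¹ x) * h8 (τ⁻¹ x)
    · rw [← cj_coe, cj_eq_iff, hs, h5, ← map_mul, ← map_mul, mon_mul, mon_mul, hj]
      congr 2
      funext x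
      simp only [Equiv.Perm.coe_inv, Equiv.symm_apply_apply]
      linear_combination -a (v4 i x) * d x * h4 x
  · rintro s ⟨i, d, hd, hs⟩
    exact hM s _ d hd.1 hs

end Cfsg.Lib.Asch
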