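import Cfsg.Agent.Lib.Asch.Core
import Cfsg.Agent.Lib.Forms.Refl

/-! Sesquilinear forms given by Gram matrices; forms fixed by an absolutely irreducible group. -/

set_option autoImplicit false

namespace Cfsg.Lib.Asch

open Matrix Cfsg.Geo Module
open scoped MatrixGroups Kronecker

variable {ι κ μ : Type} [Fintype ι] [DecidableEq ι] [Fintype κ] [DecidableEq κ]
  [Fintype μ] [DecidableEq μ] {F : Type*} [Field F] {σ : F →+* F}

omit [DecidableEq ι] in
theorem fG_eq (G : Matrix ι ι F) (u v : ι → F) :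
    formOfGram σ G u v = u ⬝ᵥ (G *ᵥ (σ ∘ v)) := by
  simp [formOfGram, dotProduct, mulVec, Finset.mul_sum, mul_assoc]

omit [DecidableEq ι] in
theorem comp_mulVec (y : Matrix ι ι F) (v : ι → F) : σ ∘ (y *ᵥ v) = y.map σ *ᵥ (σ ∘ v) :=
  funext fun i => RingHom.map_mulVec σ y v i

omit [DecidableEq ι] in
theorem fG_mulVec (G x y : Matrix ι ι F) (u v : ι → F) :
    formOfGram σ G (x *ᵥ u) (y *ᵥ v) = formOfGram σ (xᵀ * G * y.map σ) u v := by
  rw [fG_eq, fG_eq, comp_mulVec, mulVec_mulVec, mul_assoc, ← mulVec_mulVec _ xᵀ, dotProduct_mulVec u,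
    vecMul_transpose]

theorem fG_mulVec_left (G x : Matrix ι ι F) (u v : ι → F) :
    formOfGram σ G (x *ᵥ u) v = formOfGram σ (xᵀ * G) u v := by
  simpa using fG_mulVec (σ := σ) G x 1 u v

theorem fG_mulVec_right (G y : Matrix ι ι F) (u v : ι → F) :
    formOfGram σ G u (y *ᵥ v) = formOfGram σ (G * y.map σ) u v := by
  simpa using fG_mulVec (σ := σ) G 1 y u v

theorem fG_single (G : Matrix ι ι F) (a b : ι) :
    formOfGram σ G (Pi.single a 1) (Pi.single b 1) = G a b := by
  simp [formOfGram, Pi.single_apply, apply_ite σ]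

theorem gram_fG (G : Matrix ι ι F) : gramMatrix (formOfGram σ G) = G :=
  Matrix.ext fun a b => fG_single G a b

theorem fG_injective {G G' : Matrix ι ι F} (h : ∀ u v, formOfGram σ G u v = formOfGram σ G' u v) :
    G = G' := Matrix.ext fun a b => by rw [← fG_single (σ := σ) G, h, fG_single]

omit [DecidableEq ι] in
theorem fG_smul (c : F) (G : Matrix ι ι F) (u v : ι → F) :
    formOfGram σ (c • G) u v = c * formOfGram σ G u v := by
  simp [fG_eq, smul_mulVec]

omit [DecidableEq ι] in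
theorem fG_add (G G' : Matrix ι ι F) (u v : ι → F) :
    formOfGram σ (G + G') u v = formOfGram σ G u v + formOfGram σ G' u v := by
  simp [fG_eq, add_mulVec]

omit [DecidableEq ι] in
theorem fG_swap (hσ : ∀ a, σ (σ a) = a) (G : Matrix ι ι F) (u v : ι → F) :
    formOfGram σ (G.map σ)ᵀ u v = σ (formOfGram σ G v u) := by
  simp only [formOfGram, map_sum, map_mul, hσ, transpose_apply, map_apply]
  rw [Finset.sum_comm]
  exact Finset.sum_congr rfl fun a _ => Finset.sum_congr rfl fun b _ => by ring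

/-- `f` is linear in the first and `σ`-semilinear in the second variable. -/
structure IsSesq (σ : F →+* F) (f : (ι → F) → (ι → F) → F) : Prop where
  add_left : ∀ x y v, f (x + y) v = f x v + f y v
  smul_left : ∀ (c : F) x v, f (c • x) v = c * f x v
  add_right : ∀ v x y, f v (x + y) = f v x + f v y
  smul_right : ∀ (c : F) v x, f v (c • x) = σ c * f v x

omit [DecidableEq ι] in
theorem isSesq_fG (G : Matrix ι ι F) : IsSesq σ (formOfGram σ G) where
  add_left x y v := by simp [fG_eq]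
  smul_left c x v := by simp [fG_eq]
  add_right v x y := by simp [formOfGram, mul_add, Finset.sum_add_distrib]
  smul_right c v x := by
    simp only [formOfGram, Pi.smul_apply, smul_eq_mul, map_mul, Finset.mul_sum]
    exact Finset.sum_congr rfl fun a _ => Finset.sum_congr rfl fun b _ => by ring

namespace IsSesq

omit [Fintype ι] [DecidableEq ι]

variable {f : (ι → F) → (ι → F) → F} (h : IsSesq σ f)
include h

theorem zero_left (v : ι → F) : f 0 v = 0 := by simpa using h.smul_left 0 0 v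
theorem zero_right (v : ι → F) : f v 0 = 0 := by simpa using h.smul_right 0 v 0
theorem neg_left (u v : ι → F) : f (-u) v = -f u v := by simpa using h.smul_left (-1) u v
theorem neg_right (u v : ι → F) : f u (-v) = -f u v := by simpa using h.smul_right (-1) u v
theorem sub_left (u w v : ι → F) : f (u - w) v = f u v - f w v := by
  rw [sub_eq_add_neg, h.add_left, h.neg_left, sub_eq_add_neg]
theorem sub_right (u v w : ι → F) : f u (v - w) = f u v - f u w := by
  rw [sub_eq_add_neg, h.add_right, h.neg_right, sub_eq_add_neg]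

theorem sum_left {α : Type*} (s : Finset α) (x : α → ι → F) (v : ι → F) :
    f (∑ i ∈ s, x i) v = ∑ i ∈ s, f (x i) v :=
  map_sum (AddMonoidHom.mk' (fun u => f u v) fun x y => h.add_left x y v) x s

theorem sum_right {α : Type*} (s : Finset α) (x : α → ι → F) (v : ι → F) :
    f v (∑ i ∈ s, x i) = ∑ i ∈ s, f v (x i) :=
  map_sum (AddMonoidHom.mk' (fun u => f v u) fun x y => h.add_right v x y) x s

end IsSesq

theorem IsSesq.eq_fG {f : (ι → F) → (ι → F) → F} (h : IsSesq σ f) :
    f = formOfGram σ (gramMatrix f) := by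
  funext u v
  conv_lhs => rw [pi_eq_sum_univ' u, pi_eq_sum_univ' v]
  simp only [h.sum_left, h.sum_right, h.smul_left, h.smul_right, formOfGram, gramMatrix,
    Finset.mul_sum]
  first
  | exact Finset.sum_congr rfl fun a _ => Finset.sum_congr rfl fun b _ => by ring
  | rw [Finset.sum_comm]
    exact Finset.sum_congr rfl fun a _ => Finset.sum_congr rfl fun b _ => by simp; ring

omit [Fintype ι] [DecidableEq ι] in
theorem isSesq_id_iff {f : (ι → F) → (ι → F) → F} :
    IsSesq (RingHom.id F) f ↔ IsBilinearForm f :=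
  ⟨fun h => ⟨h.1, h.2, h.3, h.4⟩, fun h => ⟨h.1, h.2, h.3, h.4⟩⟩

omit [Fintype ι] [DecidableEq ι] in
theorem IsUnitaryForm.isSesq {σ : F ≃+* F} {f : (ι → F) → (ι → F) → F} (h : IsUnitaryForm σ f) :
    IsSesq (σ : F →+* F) f :=
  ⟨h.add_left, h.smul_left,
    fun v x y => by rw [h.herm, h.add_left, map_add, ← h.herm, ← h.herm],
    fun c v x => by rw [h.herm, h.smul_left, map_mul, ← h.herm]; rfl⟩

theorem nondeg_fG_iff (hσ : Function.Surjective σ) {G : Matrix ι ι F} :
    IsNondegenerateForm (formOfGram σ G) ↔ IsUnit G := by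
  constructor
  · intro h
    rw [← vecMul_injective_iff_isUnit]
    refine (injective_iff_map_eq_zero G.vecMulLinear).2 fun v hv => ?_
    by_contra h0
    obtain ⟨x, hx⟩ := (h v h0).2
    rw [fG_eq, dotProduct_mulVec, show v ᵥ* G = 0 from hv, zero_dotProduct] at hx
    exact hx rfl
  · intro h v hv
    constructor
    · by_contra hc
      push Not at hc
      have : G *ᵥ (σ ∘ v) = G *ᵥ 0 := by
        funext i
        simpa [fG_eq] using hc (Pi.single i 1)
      have := mulVec_injective_iff_isUnit.2 h this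
      exact hv (funext fun i => by simpa using congrFun this i)
    · by_contra hc
      push Not at hc
      have : v ᵥ* G = 0 ᵥ* G := by
        funext i
        have := hc (Pi.single i 1)
        rw [fG_eq, dotProduct_mulVec] at this
        simpa [dotProduct, Pi.single_apply, apply_ite σ] using this
      exact hv (vecMul_injective_iff_isUnit.2 h this)

/-- Change of basis for a Gram matrix. -/
def act (σ : F →+* F) (x G : Matrix ι ι F) : Matrix ι ι F := xᵀ * G * x.map σ

omit [DecidableEq ι] in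
theorem fG_act (x G : Matrix ι ι F) (u v : ι → F) :
    formOfGram σ (act σ x G) u v = formOfGram σ G (x *ᵥ u) (x *ᵥ v) := (fG_mulVec _ _ _ _ _).symm

omit [DecidableEq ι] in
theorem act_mul (x y G : Matrix ι ι F) : act σ (x * y) G = act σ y (act σ x G) := by
  simp [act, Matrix.map_mul, mul_assoc]

@[simp] theorem act_one (G : Matrix ι ι F) : act σ 1 G = G := by simp [act]

omit [DecidableEq ι] in
theorem act_smul (x G : Matrix ι ι F) (c : F) : act σ x (c • G) = c • act σ x G := by simp [act]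

omit [DecidableEq ι] in
theorem act_add (x G G' : Matrix ι ι F) : act σ x (G + G') = act σ x G + act σ x G' := by
  simp [act, mul_add, add_mul]

omit [Fintype ι] [DecidableEq ι] in
theorem map_smul_σ (c : F) (x : Matrix ι ι F) : (c • x).map σ = σ c • x.map σ := by
  ext; simp

omit [DecidableEq ι] in
theorem act_smul_left (x G : Matrix ι ι F) (c : F) :
    act σ (c • x) G = (c * σ c) • act σ x G := by
  simp [act, map_smul_σ, smul_smul, mul_comm]

theorem act_sc (c : Fˣ) (G : Matrix ι ι F) :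
    act σ (sc ι c : Matrix ι ι F) G = ((c : F) * σ c) • G := by
  rw [coe_sc, act_smul_left, act_one]

theorem act_act_inv (g : GL ι F) (G : Matrix ι ι F) :
    act σ (g : Matrix ι ι F) (act σ ((g⁻¹ : GL ι F) : Matrix ι ι F) G) = G := by
  rw [← act_mul]; simp

theorem act_inv_act (g : GL ι F) (G : Matrix ι ι F) :
    act σ ((g⁻¹ : GL ι F) : Matrix ι ι F) (act σ (g : Matrix ι ι F) G) = G := by
  rw [← act_mul]; simp

theorem isUnit_map_σ (g : GL ι F) : IsUnit ((g : Matrix ι ι F).map σ) :=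
  g.isUnit.map (σ.mapMatrix)

theorem isUnit_act (g : GL ι F) {G : Matrix ι ι F} (h : IsUnit G) :
    IsUnit (act σ (g : Matrix ι ι F) G) :=
  (((isUnit_transpose _).2 g.isUnit).mul h).mul (isUnit_map_σ g)

omit [Fintype ι] [DecidableEq ι] in
theorem map_map_σ (hσ : ∀ a, σ (σ a) = a) (x : Matrix ι ι F) : (x.map σ).map σ = x := by
  ext; simp [hσ]

omit [DecidableEq ι] in
theorem dagger_act (hσ : ∀ a, σ (σ a) = a) (x G : Matrix ι ι F) :
    ((act σ x G).map σ)ᵀ = act σ x (G.map σ)ᵀ := by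
  simp only [act, Matrix.map_mul, transpose_mul, map_map_σ hσ, mul_assoc]
  rfl

theorem mem_sim_iff {G : Matrix ι ι F} {g : GL ι F} :
    g ∈ similarityGroup (formOfGram σ G) ↔
      ∃ c : Fˣ, act σ (g : Matrix ι ι F) G = (c : F) • G :=
  exists_congr fun c => ⟨fun h => fG_injective (σ := σ) fun u v => by rw [fG_act, fG_smul, h],
    fun h u v => by rw [← fG_act, h, fG_smul]⟩

theorem mem_sim_of [Nonempty ι] {G : Matrix ι ι F} (hG : IsUnit G) {g : GL ι F} {c : F}
    (h : act σ (g : Matrix ι ι F) G = c • G) : g ∈ similarityGroup (formOfGram σ G) := by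
  have : c ≠ 0 := by
    rintro rfl
    exact (isUnit_act (σ := σ) g hG).ne_zero (by simpa using h)
  exact mem_sim_iff.2 ⟨Units.mk0 c this, h⟩

theorem scalars_le_sim (G : Matrix ι ι F) : scalars ι F ≤ similarityGroup (formOfGram σ G) := by
  rintro _ ⟨c, rfl⟩
  exact mem_sim_iff.2 ⟨c * Units.map σ.toMonoidHom c, act_sc c G⟩

/-- `L` fixes the form with Gram matrix `G`. -/
def Fixes (σ : F →+* F) (L : Subgroup (GL ι F)) (G : Matrix ι ι F) : Prop :=
  ∀ g ∈ L, act σ (g : Matrix ι ι F) G = G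

theorem fixes_iff {L : Subgroup (GL ι F)} {G : Matrix ι ι F} :
    Fixes σ L G ↔ FixesForm (matrixSet L) (formOfGram σ G) :=
  ⟨by rintro h _ ⟨g, hg, rfl⟩ u v; rw [← fG_act, h g hg],
    fun h g hg => fG_injective (σ := σ) fun u v => by rw [fG_act, h _ ⟨g, hg, rfl⟩]⟩

theorem IsSesq.fixes {L : Subgroup (GL ι F)} {f : (ι → F) → (ι → F) → F} (h : IsSesq σ f)
    (hf : FixesForm (matrixSet L) f) : Fixes σ L (gramMatrix f) := by
  rwa [fixes_iff, ← h.eq_fG]

theorem IsSesq.isUnit {f : (ι → F) → (ι → F) → F} (h : IsSesq σ f) (hσ : Function.Surjective σ)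
    (hf : IsNondegenerateForm f) : IsUnit (gramMatrix f) := by
  rwa [← nondeg_fG_iff hσ, ← h.eq_fG]

theorem isUnit_of_sim {H : Subgroup (GL ι F)} (hH : Irr H) {G : Matrix ι ι F}
    (h : H ≤ similarityGroup (formOfGram σ G)) (h0 : G ≠ 0) : IsUnit G := by
  rw [← vecMul_injective_iff_isUnit]
  have hm : ∀ u, u ∈ LinearMap.ker G.vecMulLinear ↔ ∀ v, formOfGram σ G u v = 0 := fun u => by
    constructor
    · intro hu v
      rw [fG_eq, dotProduct_mulVec, show u ᵥ* G = 0 from hu, zero_dotProduct]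
    · intro hu
      funext i
      have := hu (Pi.single i 1)
      rw [fG_eq, dotProduct_mulVec] at this
      simpa [dotProduct, Pi.single_apply, apply_ite σ] using this
  rcases hH (LinearMap.ker G.vecMulLinear) (fun g hg u hu => (hm _).2 fun v => by
    obtain ⟨c, hc⟩ := h hg
    rw [← mulVec_inv_mulVec g v, hc, (hm u).1 hu, mul_zero]) with h1 | h1
  · exact LinearMap.ker_eq_bot.1 h1
  · refine absurd (fG_injective (σ := σ) fun u v => ?_) h0
    rw [(hm u).1 (h1 ▸ Submodule.mem_top)]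
    simp [formOfGram]

namespace Fixes

variable {L : Subgroup (GL ι F)} {G G' : Matrix ι ι F}

theorem le_sim (h : Fixes σ L G) : L ≤ similarityGroup (formOfGram σ G) := fun g hg =>
  mem_sim_iff.2 ⟨1, by simpa using h g hg⟩

theorem isUnit (h : Fixes σ L G) (hL : alg F L = ⊤) (h0 : G ≠ 0) : IsUnit G :=
  isUnit_of_sim (irr_of_alg_top hL) h.le_sim h0

theorem smul (h : Fixes σ L G) (c : F) : Fixes σ L (c • G) := fun g hg => by
  rw [act_smul, h g hg]

theorem add (h : Fixes σ L G) (h' : Fixes σ L G') : Fixes σ L (G + G') := fun g hg => by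
  rw [act_add, h g hg, h' g hg]

theorem dagger (hσ : ∀ a, σ (σ a) = a) (h : Fixes σ L G) : Fixes σ L (G.map σ)ᵀ := fun g hg => by
  rw [← dagger_act hσ, h g hg]

theorem mono (h : Fixes σ L G) {L' : Subgroup (GL ι F)} (h' : L' ≤ L) : Fixes σ L' G :=
  fun g hg => h g (h' hg)

theorem eq_smul (h : Fixes σ L G) (h' : Fixes σ L G') (hL : alg F L = ⊤) (hG : IsUnit G) :
    ∃ c : F, G' = c • G := by
  obtain ⟨G, rfl⟩ := hG
  obtain ⟨z, rfl⟩ : ∃ z, G' = z * G := ⟨G' * (G⁻¹ : GL ι F), by simp [mul_assoc]⟩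
  obtain ⟨c, hc⟩ : IsSc zᵀ := isSc_of_alg_top hL fun g hg => by
    apply transpose_injective
    rw [transpose_mul, transpose_mul, transpose_transpose]
    apply (G.isUnit.mul (isUnit_map_σ (σ := σ) g)).mul_right_cancel
    have h1 := h g hg
    have h2 := h' g hg
    rw [act] at h1 h2
    rw [mul_assoc z, ← mul_assoc _ (G : Matrix ι ι F), ← mul_assoc _ (G : Matrix ι ι F), h1,
      mul_assoc _ z, h2]
  refine ⟨c, ?_⟩
  rw [← transpose_transpose z, hc]; simp

theorem act_of_normBy (h : Fixes σ L G) {H : Subgroup (GL ι F)} (hn : NormBy H L) {g : GL ι F}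
    (hg : g ∈ H) : Fixes σ L (act σ (g : Matrix ι ι F) G) := fun x hx => by
  have : (g : Matrix ι ι F) * x = (g * x * g⁻¹ : GL ι F) * g := by simp [mul_assoc]
  rw [← act_mul, this, act_mul, h _ (hn g hg x hx)]

theorem normBy_le_sim [Nonempty ι] (h : Fixes σ L G) (hL : alg F L = ⊤) (h0 : G ≠ 0)
    {H : Subgroup (GL ι F)} (hn : NormBy H L) : H ≤ similarityGroup (formOfGram σ G) := by
  intro g hg
  obtain ⟨c, hc⟩ := h.eq_smul (h.act_of_normBy hn hg) hL (h.isUnit hL h0)
  exact mem_sim_of (h.isUnit hL h0) hc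

theorem transpose_eq [Nonempty ι] (h : Fixes (RingHom.id F) L G) (hL : alg F L = ⊤) (h0 : G ≠ 0) :
    Gᵀ = G ∨ Gᵀ = -G := by
  obtain ⟨c, hc⟩ := h.eq_smul (h.dagger fun _ => rfl) hL (h.isUnit hL h0)
  have h1 : Gᵀ = c • G := by simpa using hc
  have h2 : (c * c) • G = (1 : F) • G := by
    rw [mul_smul, ← h1, ← transpose_smul, ← h1, transpose_transpose, one_smul]
  rcases mul_self_eq_one_iff.1 (smul_left_injective F h0 h2) with rfl | rfl
  · left; simpa using h1
  · right; simpa using h1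

theorem exists_herm (hσ : ∀ a, σ (σ a) = a) (hne : ∃ a, σ a ≠ a) (h : Fixes σ L G) (h0 : G ≠ 0) :
    ∃ G' : Matrix ι ι F, G' ≠ 0 ∧ Fixes σ L G' ∧ (G'.map σ)ᵀ = G' := by
  have key : ∀ a : F, ((a • G + σ a • (G.map σ)ᵀ).map σ)ᵀ = a • G + σ a • (G.map σ)ᵀ := fun a => by
    ext i j; simp [hσ, add_comm]
  obtain ⟨a, ha⟩ := hne
  by_cases h1 : a • G + σ a • (G.map σ)ᵀ = 0
  · refine ⟨_, fun h2 => ?_, (h.smul 1).add ((h.dagger hσ).smul _), key 1⟩
    rw [map_one, one_smul, one_smul, add_comm, add_eq_zero_iff_eq_neg] at h2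
    rw [h2, smul_neg, ← sub_eq_add_neg, ← sub_smul, smul_eq_zero, sub_eq_zero] at h1
    exact h1.elim (fun h => ha h.symm) h0
  · exact ⟨_, h1, (h.smul a).add ((h.dagger hσ).smul _), key a⟩

end Fixes

/-- A perfect group of similarities consists of isometries. -/
theorem fixes_of_le_commutator [Nonempty ι] {H L : Subgroup (GL ι F)} {G : Matrix ι ι F}
    (hG : G ≠ 0) (hH : H ≤ similarityGroup (formOfGram σ G)) (hL : L ≤ ⁅H, H⁆) : Fixes σ L G := by
  let I : Subgroup (GL ι F) :=
    { carrier := {g | act σ (g : Matrix ι ι F) G = G}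
      one_mem' := act_one G
      mul_mem' := fun {a b} ha hb => by
        rw [Set.mem_setOf_eq, Units.val_mul, act_mul, ha, hb]
      inv_mem' := fun {a} ha => by
        rw [Set.mem_setOf_eq]; conv_lhs => rw [← ha, act_inv_act] }
  refine fun g hg => (Subgroup.commutator_le.2 fun a ha b hb => ?_ : ⁅H, H⁆ ≤ I) (hL hg)
  obtain ⟨c, hc⟩ := mem_sim_iff.1 (hH ha)
  obtain ⟨d, hd⟩ := mem_sim_iff.1 (hH hb)
  have hi : ∀ (a : GL ι F) (c : Fˣ), act σ (a : Matrix ι ι F) G = (c : F) • G →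
      act σ ((a⁻¹ : GL ι F) : Matrix ι ι F) G = ((c : F)⁻¹) • G := fun a c hc => by
    rw [eq_inv_smul_iff₀ c.ne_zero, ← act_smul, ← hc, act_inv_act]
  change act σ _ G = G
  simp only [commutatorElement_def, Units.val_mul, act_mul, hc, hd, hi a c hc, hi b d hd, act_smul,
    smul_smul]
  rw [show (c : F) * d * (c : F)⁻¹ * (d : F)⁻¹ = 1 by field_simp, one_smul]

/-- A group of symplectic type whose scalars have norm one fixes a sesquilinear form. -/
theorem Extra.exists_fixes {H R : Subgroup (GL ι F)} {r m : ℕ} (h : Extra H R r m)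
    (hs : ∀ c : Fˣ, sc ι c ∈ R → (c : F) * σ c = 1) :
    ∃ G : Matrix ι ι F, G ≠ 0 ∧ Fixes σ R G := by
  have := h.nonempty
  obtain ⟨T, hTR, hli, hT⟩ := h.basis
  let b := basisOfLinearIndependentOfCardEqFinrank hli (by simp [finrank_matrix])
  have hb : ∀ j, b j = T j := fun j => by simp [b]
  let ρ : GL ι F → Matrix ι ι F := fun x => (((x⁻¹ : GL ι F) : Matrix ι ι F).map σ)ᵀ
  have hρ : ∀ x y, ρ (x * y) = ρ x * ρ y := fun x y => by
    simp only [ρ, _root_.mul_inv_rev, Units.val_mul, Matrix.map_mul, transpose_mul]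
  let Θ : Matrix ι ι F →ₗ[F] Matrix ι ι F := b.constr F fun j => ρ (T j)
  have hΘ : ∀ x ∈ R, Θ x = ρ x := fun x hx => by
    obtain ⟨j, c, hc, rfl⟩ := hT x hx
    have : ρ (sc ι c) = (c : F) • 1 := by
      simp only [ρ]
      rw [← scHom_apply, ← map_inv, scHom_apply, coe_sc, map_smul_σ, Units.val_inv_eq_inv_val,
        map_inv₀, eq_inv_of_mul_eq_one_right (hs c hc)]
      simp
    rw [hρ, this, Units.val_mul, coe_sc, mul_smul_comm, mul_smul_comm, mul_one, mul_one, map_smul,
      ← hb, Basis.constr_basis]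
  obtain ⟨a, ha⟩ := exists_cj_eq (AlgHom.ofLinearMap Θ (by simpa [ρ] using hΘ 1 (one_mem _))
    fun x y => by
      have : (LinearMap.mul F (Matrix ι ι F)).compr₂ Θ =
          (LinearMap.mul F (Matrix ι ι F)).compl₁₂ Θ Θ :=
        b.ext fun i => b.ext fun j => by
          simp only [LinearMap.compr₂_apply, LinearMap.mul_apply', LinearMap.compl₁₂_apply, hb]
          rw [← Units.val_mul, hΘ _ (mul_mem (hTR i) (hTR j)), hΘ _ (hTR i), hΘ _ (hTR j), hρ]
      exact LinearMap.congr_fun₂ this x y)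
  refine ⟨(a : Matrix ι ι F)ᵀ, ((isUnit_transpose _).2 a.isUnit).ne_zero, fun g hg => ?_⟩
  have h1 : (a : Matrix ι ι F) * g = ρ g * a := cj_eq_iff.1 ((ha g).symm.trans (hΘ g hg))
  rw [act, ← transpose_mul, h1, transpose_mul, transpose_transpose, mul_assoc, ← Matrix.map_mul]
  simp

/-! ### Class 8 in the linear case -/

theorem two_ne_zero_of_odd [Fintype F] (h : Odd (Fintype.card F)) : (2 : F) ≠ 0 := by
  intro h2
  obtain ⟨p, hp⟩ := CharP.exists F
  obtain ⟨n, hpp, hn⟩ := FiniteField.card F p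
  have : p ∣ 2 := (CharP.cast_eq_zero_iff F p 2).1 (by exact_mod_cast h2)
  obtain rfl := (Nat.prime_dvd_prime_iff_eq hpp Nat.prime_two).1 this
  rw [hn] at h
  exact (Nat.not_even_iff_odd.2 h) (Nat.even_pow.2 ⟨even_two, n.ne_zero⟩)

theorem two_eq_zero_of_not_odd [Fintype F] (h : ¬ Odd (Fintype.card F)) : (2 : F) = 0 := by
  obtain ⟨p, hp⟩ := CharP.exists F
  obtain ⟨n, hpp, hn⟩ := FiniteField.card F p
  rw [hn, Nat.not_odd_iff_even, Nat.even_pow] at h
  obtain rfl := (hpp.even_iff).1 h.1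
  exact_mod_cast CharP.cast_eq_zero F 2

theorem odd_iff_two_ne_zero [Fintype F] : Odd (Fintype.card F) ↔ (2 : F) ≠ 0 :=
  ⟨two_ne_zero_of_odd, fun h => by_contra fun h' => h (two_eq_zero_of_not_odd h')⟩

theorem exists_sq_eq [Finite F] (h2 : (2 : F) = 0) (a : F) : ∃ b, b ^ 2 = a := by
  have : CharP F 2 := (CharP.charP_iff_prime_eq_zero Nat.prime_two).2 (by exact_mod_cast h2)
  exact surjective_frobenius F 2 a

/-- An additive map with `q (c v) = c² q v` on a space of dimension at least two over a finite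
field of characteristic two, whose zero set is invariant under an irreducible group, vanishes. -/
theorem Irr.eq_zero_of_additive [Finite F] (h2 : (2 : F) = 0) (hn : 2 ≤ Fintype.card ι)
    {H : Subgroup (GL ι F)} (hH : Irr H) {q : (ι → F) → F} (hadd : ∀ u v, q (u + v) = q u + q v)
    (hsm : ∀ (c : F) v, q (c • v) = c ^ 2 * q v)
    (hi : ∀ g ∈ H, ∀ v, q v = 0 → q ((g : Matrix ι ι F) *ᵥ v) = 0) (v : ι → F) : q v = 0 := by
  let W : Submodule F (ι → F) :=
    { carrier := {v | q v = 0}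
      add_mem' := fun {a b} ha hb => by rw [Set.mem_setOf_eq, hadd, ha, hb, add_zero]
      zero_mem' := by simpa using hsm 0 0
      smul_mem' := fun c v hv => by rw [Set.mem_setOf_eq, hsm, hv, mul_zero] }
  rcases hH W hi with h | h
  · exfalso
    obtain ⟨a, b, hab⟩ := Fintype.exists_pair_of_one_lt_card hn
    have ha : q (Pi.single a 1) ≠ 0 := fun h0 => by
      have : (Pi.single a 1 : ι → F) ∈ W := h0
      rw [h] at this
      simpa using congrFun this a
    obtain ⟨c, hc⟩ := exists_sq_eq h2 (q (Pi.single b 1) / q (Pi.single a 1))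
    have : c • (Pi.single a 1 : ι → F) + Pi.single b 1 ∈ W := by
      change q _ = 0
      rw [hadd, hsm, hc, div_mul_cancel₀ _ ha, ← two_mul, h2, zero_mul]
    rw [h] at this
    simpa [Ne.symm hab] using congrFun this b
  · exact (h ▸ Submodule.mem_top : v ∈ W)

theorem IsSymplecticForm.even {f : (ι → F) → (ι → F) → F} (h : IsSymplecticForm f) :
    Even (Fintype.card ι) := by
  let B : LinearMap.BilinForm F (ι → F) := LinearMap.mk₂ F f h.bilinear.add_left
    h.bilinear.smul_left h.bilinear.add_right fun c x y => h.bilinear.smul_right c x y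
  have := Forms.Form.alt_even_finrank (D := Forms.ofAlt B h.alternating) fun x hx => by
    by_contra h0
    obtain ⟨y, hy⟩ := (h.nondegenerate x h0).2
    exact hy (hx y)
  simpa using this

theorem fG_transpose (G : Matrix ι ι F) (u v : ι → F) :
    formOfGram (RingHom.id F) Gᵀ u v = formOfGram (RingHom.id F) G v u := by
  simpa using fG_swap (σ := RingHom.id F) (fun _ => rfl) G u v

theorem isSymplecticForm_fG {G : Matrix ι ι F} (hG : IsUnit G)
    (h : ∀ v, formOfGram (RingHom.id F) G v v = 0) :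
    IsSymplecticForm (formOfGram (RingHom.id F) G) := by
  have hs := isSesq_fG (σ := RingHom.id F) G
  refine ⟨isSesq_id_iff.1 hs, fun v w => ?_, h, (nondeg_fG_iff Function.surjective_id).2 hG⟩
  have := h (v + w)
  rwa [hs.add_left, hs.add_right, hs.add_right, h, h, zero_add, add_zero,
    add_eq_zero_iff_eq_neg] at this

theorem alt_of_skew (h2 : (2 : F) ≠ 0) {G : Matrix ι ι F} (h : Gᵀ = -G) (v : ι → F) :
    formOfGram (RingHom.id F) G v v = 0 := by
  have := fG_transpose G v v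
  rw [h, ← neg_one_smul F G, fG_smul, neg_one_mul, neg_eq_iff_add_eq_zero, ← two_mul] at this
  exact (mul_eq_zero.1 this).resolve_left h2

theorem isSymmetricForm_fG {G : Matrix ι ι F} (hG : IsUnit G) (h : Gᵀ = G) :
    IsSymmetricForm (formOfGram (RingHom.id F) G) :=
  ⟨isSesq_id_iff.1 (isSesq_fG G), fun u v => by rw [← fG_transpose, h],
    (nondeg_fG_iff Function.surjective_id).2 hG⟩

theorem Irr.alt_of_char_two [Finite F] (h2 : (2 : F) = 0) (hn : 2 ≤ Fintype.card ι)
    {H : Subgroup (GL ι F)} (hH : Irr H) {G : Matrix ι ι F} (hG : Gᵀ = G)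
    (h : H ≤ similarityGroup (formOfGram (RingHom.id F) G)) (v : ι → F) :
    formOfGram (RingHom.id F) G v v = 0 := by
  have hs := isSesq_fG (σ := RingHom.id F) G
  refine hH.eq_zero_of_additive h2 hn (q := fun v => formOfGram (RingHom.id F) G v v)
    (fun u v => ?_) (fun c v => ?_) (fun g hg v hv => ?_) v
  · rw [hs.add_left, hs.add_right, hs.add_right, ← fG_transpose G u v, hG]
    linear_combination (formOfGram (RingHom.id F) G u v) * h2
  · rw [hs.smul_left, hs.smul_right]; simp [sq, mul_assoc]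
  · obtain ⟨c, hc⟩ := h hg
    rw [hc, hv, mul_zero]

omit [Fintype ι] [DecidableEq ι] in
theorem IsSymmetricForm.polar {f : (ι → F) → (ι → F) → F} (h : IsSymmetricForm f) :
    QuadraticMap.polar (fun v => f v v) = fun u v => 2 * f u v := by
  funext u v
  rw [QuadraticMap.polar, h.bilinear.add_left, h.bilinear.add_right, h.bilinear.add_right,
    h.symm v u]
  ring

omit [Fintype ι] [DecidableEq ι] in
theorem IsSymmetricForm.quad (h2 : (2 : F) ≠ 0) {f : (ι → F) → (ι → F) → F}
    (h : IsSymmetricForm f) : IsNondegenerateQuadraticForm fun v => f v v := by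
  have hb := h.bilinear
  refine ⟨fun c v => by rw [hb.smul_left, hb.smul_right]; ring, ?_, ?_⟩
  · rw [IsSymmetricForm.polar h]
    exact ⟨fun x y v => by rw [hb.add_left]; ring, fun c x v => by rw [hb.smul_left]; ring,
      fun v x y => by rw [hb.add_right]; ring, fun c v x => by rw [hb.smul_right]; ring⟩
  · rw [IsSymmetricForm.polar h]
    intro v hv
    obtain ⟨⟨x, hx⟩, ⟨y, hy⟩⟩ := h.nondegenerate v hv
    exact ⟨⟨x, mul_ne_zero h2 hx⟩, ⟨y, mul_ne_zero h2 hy⟩⟩

theorem sim_le_quadSim (f : (ι → F) → (ι → F) → F) :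
    similarityGroup f ≤ quadSimilarityGroup fun v => f v v := by
  rintro g ⟨c, hc⟩
  exact ⟨c, fun v => hc v v⟩

theorem quadSim_le_sim (Q : (ι → F) → F) :
    quadSimilarityGroup Q ≤ similarityGroup (QuadraticMap.polar Q) := by
  rintro g ⟨c, hc⟩
  refine ⟨c, fun u v => ?_⟩
  rw [QuadraticMap.polar, QuadraticMap.polar, ← mulVec_add, hc, hc, hc]; ring

theorem fixesForm_polar {S : Set (Matrix ι ι F)} {Q : (ι → F) → F} (h : FixesQuadForm S Q) :
    FixesForm S (QuadraticMap.polar Q) := fun s hs u v => by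
  rw [QuadraticMap.polar, QuadraticMap.polar, ← mulVec_add, h s hs, h s hs, h s hs]

/-- The bilinear part of class 8. -/
def C8b (H : Subgroup (GL ι F)) [Fintype F] : Prop :=
  (∃ f : (ι → F) → (ι → F) → F, IsSymplecticForm f ∧ H ≤ similarityGroup f) ∨
  (Odd (Fintype.card F) ∧ ∃ Q : (ι → F) → F, IsNondegenerateQuadraticForm Q ∧
    H ≤ quadSimilarityGroup Q)

theorem Irr.c8b [Fintype F] (hn : 2 ≤ Fintype.card ι) {H : Subgroup (GL ι F)} (hH : Irr H)
    {G : Matrix ι ι F} (h0 : G ≠ 0) (hG : Gᵀ = G ∨ Gᵀ = -G)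
    (h : H ≤ similarityGroup (formOfGram (RingHom.id F) G)) : C8b H := by
  have hu := isUnit_of_sim hH h h0
  by_cases h2 : (2 : F) = 0
  · have : Gᵀ = G := hG.elim id fun h => by
      rw [h, neg_eq_iff_add_eq_zero, ← two_smul F, h2, zero_smul]
    exact Or.inl ⟨_, isSymplecticForm_fG hu (hH.alt_of_char_two h2 hn this h), h⟩
  rcases hG with hG | hG
  · exact Or.inr ⟨odd_iff_two_ne_zero.2 h2, _, IsSymmetricForm.quad h2 (isSymmetricForm_fG hu hG),
      h.trans (sim_le_quadSim _)⟩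
  · exact Or.inl ⟨_, isSymplecticForm_fG hu (alt_of_skew h2 hG), h⟩

theorem Fixes.c8b [Fintype F] (hn : 2 ≤ Fintype.card ι) {H L : Subgroup (GL ι F)} (hH : Irr H)
    (hL : alg F L = ⊤) (hN : NormBy H L) {G : Matrix ι ι F} (h0 : G ≠ 0)
    (h : Fixes (RingHom.id F) L G) : C8b H :=
  have : Nonempty ι := Fintype.card_pos_iff.1 (by omega)
  hH.c8b hn h0 (h.transpose_eq hL h0) (h.normBy_le_sim hL h0 hN)

theorem isUnitaryForm_fG {σ : F ≃+* F} (hσ : ∀ a, σ (σ a) = a) (hne : ∃ a, σ a ≠ a)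
    {G : Matrix ι ι F} (hG : IsUnit G) (h : (G.map σ)ᵀ = G) :
    IsUnitaryForm σ (formOfGram (σ : F →+* F) G) := by
  have hs := isSesq_fG (σ := (σ : F →+* F)) G
  refine ⟨?_, hσ, hs.add_left, hs.smul_left, fun v w => ?_, (nondeg_fG_iff σ.surjective).2 hG⟩
  · rintro rfl
    obtain ⟨a, ha⟩ := hne
    exact ha rfl
  · have := fG_swap (σ := (σ : F →+* F)) hσ G v w
    rwa [show (G.map (σ : F →+* F))ᵀ = G from h] at this

theorem Fixes.c8u [Nonempty ι] {σ : F ≃+* F} (hσ : ∀ a, σ (σ a) = a) (hne : ∃ a, σ a ≠ a)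
    {H L : Subgroup (GL ι F)} (hL : alg F L = ⊤) (hN : NormBy H L) {G : Matrix ι ι F} (h0 : G ≠ 0)
    (h : Fixes (σ : F →+* F) L G) :
    ∃ f : (ι → F) → (ι → F) → F, IsUnitaryForm σ f ∧ H ≤ similarityGroup f := by
  obtain ⟨G', h0', h', hh⟩ := h.exists_herm hσ hne h0
  exact ⟨_, isUnitaryForm_fG hσ hne (h'.isUnit hL h0') hh, h'.normBy_le_sim hL h0' hN⟩

/-! ### Transport of Gram matrices, tensor products -/

/-- Transport of a Gram matrix along `tr`. -/
def trG (σ : F →+* F) (e : ι ≃ κ) (P : GL ι F) (G : Matrix κ κ F) : Matrix ι ι F :=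
  act σ ((P⁻¹ : GL ι F) : Matrix ι ι F) (G.submatrix e e)

omit [DecidableEq κ] [DecidableEq ι] in
theorem act_submatrix (e : ι ≃ κ) (x G : Matrix κ κ F) :
    act σ (x.submatrix e e) (G.submatrix e e) = (act σ x G).submatrix e e := by
  simp only [act, transpose_submatrix, ← submatrix_map, submatrix_mul_equiv]

theorem act_tr (e : ι ≃ κ) (P : GL ι F) (x G : Matrix κ κ F) :
    act σ (tr e P x) (trG σ e P G) = trG σ e P (act σ x G) := by
  rw [trG, trG, ← act_submatrix, ← act_mul, ← act_mul, tr_apply, cj_apply]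
  simp [← mul_assoc]

omit [Fintype κ] [DecidableEq κ] in
theorem trG_smul (e : ι ≃ κ) (P : GL ι F) (c : F) (G : Matrix κ κ F) :
    trG σ e P (c • G) = c • trG σ e P G := by
  rw [trG, trG, ← act_smul]; rfl

omit [Fintype κ] [DecidableEq κ] in
theorem exists_trG (σ : F →+* F) (e : ι ≃ κ) (P : GL ι F) (G : Matrix ι ι F) :
    ∃ G', G = trG σ e P G' :=
  ⟨(act σ (P : Matrix ι ι F) G).submatrix e.symm e.symm, by
    rw [trG, submatrix_submatrix, e.symm_comp_self, submatrix_id_id, act_inv_act]⟩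

omit [Fintype κ] [DecidableEq κ] in
theorem trG_injective (e : ι ≃ κ) (P : GL ι F) : Function.Injective (trG σ e P) := by
  intro G G' h
  have := congrArg (fun X => (act σ (P : Matrix ι ι F) X).submatrix e.symm e.symm) h
  simpa only [trG, act_act_inv, submatrix_submatrix, e.self_comp_symm, submatrix_id_id] using this

theorem isUnit_trG (e : ι ≃ κ) (P : GL ι F) {G : Matrix κ κ F} :
    IsUnit (trG σ e P G) ↔ IsUnit G := by
  rw [← isUnit_submatrix_equiv (A := G) e e]
  exact ⟨fun h => by simpa only [trG, act_act_inv] using isUnit_act (σ := σ) P h, isUnit_act _⟩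

omit [Fintype κ] [DecidableEq κ] in
theorem dagger_trG (hσ : ∀ a, σ (σ a) = a) (e : ι ≃ κ) (P : GL ι F) (G : Matrix κ κ F) :
    ((trG σ e P G).map σ)ᵀ = trG σ e P (G.map σ)ᵀ := dagger_act hσ _ _

omit [DecidableEq κ] in
theorem fG_trG (e : ι ≃ κ) (P : GL ι F) (G : Matrix κ κ F) (x y : κ → F) :
    formOfGram σ (trG σ e P G) ((P : Matrix ι ι F) *ᵥ (x ∘ e)) ((P : Matrix ι ι F) *ᵥ (y ∘ e)) =
      formOfGram σ G x y := by
  rw [← fG_act, trG, act_act_inv]
  simp only [formOfGram, submatrix_apply, Function.comp_apply]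
  rw [← e.sum_comp]
  exact Finset.sum_congr rfl fun a _ => e.sum_comp fun b => x (e a) * G (e a) b * σ (y b)

theorem mem_sim_trG (e : ι ≃ κ) (P : GL ι F) {G : Matrix κ κ F} {g : GL ι F} :
    g ∈ similarityGroup (formOfGram σ (trG σ e P G)) ↔
      (trGL e P).symm g ∈ similarityGroup (formOfGram σ G) := by
  rw [mem_sim_iff, mem_sim_iff]
  refine exists_congr fun c => ?_
  rw [← trG_smul, ← (trG_injective (σ := σ) e P).eq_iff, ← act_tr, coe_trGL_symm,
    AlgEquiv.apply_symm_apply]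

omit [DecidableEq κ] [DecidableEq μ] in
theorem act_kron (a G₁ : Matrix κ κ F) (b G₂ : Matrix μ μ F) :
    act σ (a ⊗ₖ b) (G₁ ⊗ₖ G₂) = act σ a G₁ ⊗ₖ act σ b G₂ := by
  have : (a ⊗ₖ b).map σ = a.map σ ⊗ₖ b.map σ := by ext; simp
  simp only [act, this, ← kroneckerMap_transpose, mul_kronecker_mul]

variable {t : ℕ}

omit [DecidableEq κ] in
theorem act_pure (gs Gs : Fin t → Matrix κ κ F) :
    act σ (pure gs) (pure Gs) = pure fun i => act σ (gs i) (Gs i) := by
  have h1 : (pure gs).map σ = pure fun i => (gs i).map σ := by ext; simp [pure_apply]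
  have h2 : (pure gs)ᵀ = pure fun i => (gs i)ᵀ := rfl
  rw [act, h1, h2, ← pure_mul, ← pure_mul]; rfl

omit [Fintype κ] [DecidableEq κ] in
theorem pure_smul (c : Fin t → F) (Gs : Fin t → Matrix κ κ F) :
    pure (fun i => c i • Gs i) = (∏ i, c i) • pure Gs := by
  ext; simp [pure_apply, Finset.prod_mul_distrib]

theorem act_fperm (π : Equiv.Perm (Fin t)) (G : Matrix κ κ F) :
    act σ (fperm π κ F).val (pure fun _ => G) = pure fun _ => G := by
  have h1 : (fperm π κ F).val.map σ = (fperm π κ F).val := by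
    ext; simp [fperm, apply_ite σ]
  have h2 : (fperm π κ F).valᵀ = ((fperm π κ F)⁻¹).val := rfl
  have h3 := cj_fperm_pure π fun _ => G
  rw [act, h1, h2]
  conv_lhs => rw [show (pure fun _ => G) = _ from h3.symm, cj_apply]
  simp [mul_assoc]

theorem fperm_mul_mem_sim (π : Equiv.Perm (Fin t)) {gs : Fin t → GL κ F} (c : Fˣ)
    {G : Matrix κ κ F} (h : ∀ i, gs i ∈ similarityGroup (formOfGram σ G)) :
    fperm π κ F * pureGL gs * sc _ c ∈ similarityGroup (formOfGram σ (pure fun _ => G)) := by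
  refine mul_mem (mul_mem (mem_sim_iff.2 ⟨1, by simpa using act_fperm π G⟩) ?_)
    (scalars_le_sim _ (sc_mem c))
  choose d hd using fun i => mem_sim_iff.1 (h i)
  exact mem_sim_iff.2 ⟨∏ i, d i, by rw [coe_pureGL, act_pure]; simp only [hd, pure_smul, Units.coe_prod]⟩

/-- The standard alternating matrix of size two. -/
def J2 (F : Type*) [Field F] : Matrix (Fin 2) (Fin 2) F := !![0, 1; -1, 0]

theorem act_J2 (a : Matrix (Fin 2) (Fin 2) F) :
    act (RingHom.id F) a (J2 F) = a.det • J2 F := by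
  ext i j
  fin_cases i <;> fin_cases j <;> simp [act, J2, det_fin_two, mul_apply, Fin.sum_univ_two] <;> ring

theorem J2_transpose : (J2 F)ᵀ = -J2 F := by
  ext i j; fin_cases i <;> fin_cases j <;> simp [J2]

theorem isUnit_J2 : IsUnit (J2 F) := by
  rw [isUnit_iff_isUnit_det]; simp [J2, det_fin_two]

theorem mem_sim_J2 (a : GL (Fin 2) F) : a ∈ similarityGroup (formOfGram (RingHom.id F) (J2 F)) :=
  mem_sim_of isUnit_J2 (act_J2 _)

theorem isUnit_pure {Gs : Fin t → Matrix κ κ F} (h : ∀ i, IsUnit (Gs i)) : IsUnit (pure Gs) :=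
  (Pi.isUnit_iff.2 h).map (pureHom t κ F)

theorem tensorWreath_two_le_sim (e : ι ≃ (Fin t → Fin 2)) (P : GL ι F) :
    tensorWreathSubgroup 2 t e P ≤
      similarityGroup (formOfGram (RingHom.id F) (trG (RingHom.id F) e P (pure fun _ => J2 F))) := by
  intro g hg
  rw [mem_sim_trG]
  obtain ⟨π, gs, h⟩ := cj_slot_of_mem_tensorWreath hg
  obtain ⟨π', gs', c, hc⟩ := exists_eq_fperm_mul (κ := Fin 2) (by simp) (g := (trGL e P).symm g)
    fun i => ⟨π i, fun a => ⟨_, (tr e P).injective (by rw [tr_symm_cj, h])⟩⟩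
  rw [hc]
  exact fperm_mul_mem_sim _ _ fun i => mem_sim_J2 _

theorem transpose_pure_J2 : (pure fun _ : Fin t => J2 F)ᵀ = (-1 : F) ^ t • pure fun _ => J2 F := by
  have : (pure fun _ : Fin t => J2 F)ᵀ = pure fun _ => (-1 : F) • J2 F := by
    rw [neg_one_smul, ← J2_transpose]; rfl
  rw [this, pure_smul]; simp

theorem transpose_trG (e : ι ≃ κ) (P : GL ι F) (G : Matrix κ κ F) :
    (trG (RingHom.id F) e P G)ᵀ = trG (RingHom.id F) e P Gᵀ := by
  simpa using dagger_trG (σ := RingHom.id F) (fun _ => rfl) e P G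

theorem Irr.c8b_of_tensorWreath_two [Fintype F] (hn : 2 ≤ Fintype.card ι) {H : Subgroup (GL ι F)}
    (hH : Irr H) {e : ι ≃ (Fin t → Fin 2)} {P : GL ι F} (h : H ≤ tensorWreathSubgroup 2 t e P) :
    C8b H := by
  have : Nonempty ι := Fintype.card_pos_iff.1 (by omega)
  refine hH.c8b hn ((isUnit_trG e P).2 (isUnit_pure fun _ => isUnit_J2)).ne_zero ?_
    (h.trans (tensorWreath_two_le_sim e P))
  rw [transpose_trG, transpose_pure_J2, trG_smul]
  rcases neg_one_pow_eq_or F t with h | h <;> simp [h]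

/-- Two commuting matrix algebras of the same size as a tensor square. -/
theorem exists_tr_two [Nonempty ι] [Nonempty κ] (e : ι ≃ κ × κ) (P : GL ι F) (b : GL κ F) :
    ∃ (e' : ι ≃ (Fin 2 → κ)) (P' : GL ι F), (∀ a, tr e' P' (slot 0 a) = tr e P (kl _ _ F a)) ∧
      ∀ a, tr e' P' (slot 1 a) = tr e P (kr _ _ F (cj b a)) := by
  obtain ⟨e', P', h⟩ := exists_tr_power
    ![(tr e P).toAlgHom.comp (kl κ κ F), (tr e P).toAlgHom.comp ((kr κ κ F).comp (cj b).toAlgHom)]
    (fun i j hij a c => by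
      fin_cases i <;> fin_cases j <;> simp at hij <;>
        simp [← map_mul, kl_mul_kr, kr_mul_kl])
    (fun z hz => by
      obtain ⟨z, rfl⟩ := (tr e P).surjective z
      refine IsSc.map ?_ (tr e P).toAlgHom
      obtain ⟨y, rfl⟩ := exists_eq_kr (z := z) fun x => (tr e P).injective (by
        simpa using hz 0 x)
      refine IsSc.map (isSc_of_comm fun x => kr_injective (κ := κ) ((tr e P).injective ?_)) _
      simpa using hz 1 (cj b⁻¹ x))
  exact ⟨e', P', fun a => (h 0 a).symm, fun a => (h 1 a).symm⟩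

theorem cj_kr_of_cj_kl [Nonempty κ] {e : ι ≃ κ × μ} {P g : GL ι F}
    (h : ∀ x, ∃ y, cj g⁻¹ (tr e P (kl _ _ F x)) = tr e P (kl _ _ F y)) (x : Matrix μ μ F) :
    ∃ y, cj g (tr e P (kr _ _ F x)) = tr e P (kr _ _ F y) := by
  obtain ⟨y, hy⟩ := exists_eq_kr (z := (tr e P).symm (cj g (tr e P (kr _ _ F x)))) fun a => by
    apply (tr e P).injective
    obtain ⟨b, hb⟩ := h a
    rw [map_mul, map_mul, AlgEquiv.apply_symm_apply, ← cj_cj_inv g (tr e P (kl _ _ F a)), hb,
      ← map_mul, ← map_mul, ← map_mul, ← map_mul, kl_mul_kr, kr_mul_kl]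
  exact ⟨y, by rw [← hy, AlgEquiv.apply_symm_apply]⟩

theorem le_tensorWreath_two {k : ℕ} (hk : 2 ≤ k) {H : Subgroup (GL ι F)} {e : ι ≃ Fin k × Fin k}
    {P : GL ι F} (h : ∀ g ∈ H, ∀ x, ∃ y, cj g (tr e P (kl _ _ F x)) = tr e P (kl _ _ F y))
    {b : GL (Fin k) F} {e' : ι ≃ (Fin 2 → Fin k)} {P' : GL ι F}
    (h0 : ∀ a, tr e' P' (slot 0 a) = tr e P (kl _ _ F a))
    (h1 : ∀ a, tr e' P' (slot 1 a) = tr e P (kr _ _ F (cj b a))) :
    H ≤ tensorWreathSubgroup k 2 e' P' := fun g hg =>
  mem_tensorWreathSubgroup_of hk two_pos e' P' fun i => ⟨i, fun a => by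
    have : NeZero k := ⟨by omega⟩
    fin_cases i
    · simpa only [Fin.zero_eta, h0] using h g hg a
    · obtain ⟨y, hy⟩ := cj_kr_of_cj_kl (h g⁻¹ (inv_mem hg)) (cj b a)
      exact ⟨cj b⁻¹ y, by simpa only [Fin.mk_one, h1, cj_cj_inv] using hy⟩⟩

end Cfsg.Lib.Asch
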