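import Cfsg.Agent.Lib.Asch.SpT

/-! The subgroup structure of the symplectic groups. -/

set_option autoImplicit false

namespace Cfsg.Lib.Asch

open Matrix Cfsg.Geo Module Cfsg.Lib.Forms Subgroup
open scoped MatrixGroups Kronecker commutatorElement

variable {ι κ μ : Type} [Fintype ι] [DecidableEq ι] [Fintype κ] [DecidableEq κ]
  [Fintype μ] [DecidableEq μ] {F : Type*} [Field F] {σ : F →+* F} {ε : F}
  {f : (ι → F) → (ι → F) → F}

/-- The alternatives for a subgroup of a symplectic group. -/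
inductive SpCase [Fintype F] (f : (ι → F) → (ι → F) → F) (H : Subgroup (GL ι F)) : Prop
  | ts (W : Submodule F (ι → F)) (h0 : W ≠ ⊥) (h1 : IsTotallySingularFor f W)
      (h : Over (isoG f) H (subspaceStabilizer W))
  | nd (W : Submodule F (ι → F)) (h0 : W ≠ ⊥) (h1 : IsNondegenerateOn f W)
      (h2 : 2 * finrank F W < Fintype.card ι) (h : Over (isoG f) H (subspaceStabilizer W))
  | dec (t k : ℕ) (ht : 2 ≤ t) (hn : t * k = Fintype.card ι) (he : Even k)
      (h2 : k = 2 → 3 ≤ Fintype.card F) (D : Fin t → Submodule F (ι → F))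
      (hD : IsNondegenerateMDecomposition f k D) (h : Over (isoG f) H (decompositionStabilizer D))
  | pair (k : ℕ) (hn : 2 * k = Fintype.card ι) (ho : Odd (Fintype.card F))
      (h5 : Fintype.card ι = 4 → 5 ≤ Fintype.card F) (D : Fin 2 → Submodule F (ι → F))
      (hD : IsMDecomposition k D) (h1 : ∀ i, IsTotallySingularFor f (D i))
      (h : Over (isoG f) H (decompositionStabilizer D))
  | fld (r : ℕ) (hr : r.Prime) (hn : 2 * r ∣ Fintype.card ι) (K : Subalgebra F (Matrix ι ι F))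
      (hK : IsFieldSubalgebra r K) (h1 : IsSelfAdjointFor f K) (h2 : ∀ k ∈ K, ∀ v, f (k *ᵥ v) v = 0)
      (h : Over (isoG f) H (subalgebraNormalizer K))
  | fldu (ho : Odd (Fintype.card F)) (h5 : Fintype.card ι = 4 → 5 ≤ Fintype.card F)
      (K : Subalgebra F (Matrix ι ι F)) (hK : IsFieldSubalgebra 2 K) (h1 : IsAdjointClosedFor f K)
      (h2 : ¬ IsSelfAdjointFor f K) (h : Over (isoG f) H (subalgebraNormalizer K))
  | tens (n₁ n₂ : ℕ) (hn : n₁ * n₂ = Fintype.card ι) (he : Even n₁) (h3 : 3 ≤ n₂)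
      (ho : Odd (Fintype.card F)) (h5 : n₂ = 3 → 5 ≤ Fintype.card F) (e : ι ≃ Fin n₁ × Fin n₂)
      (P : GL ι F) (f₁ : (Fin n₁ → F) → (Fin n₁ → F) → F) (f₂ : (Fin n₂ → F) → (Fin n₂ → F) → F)
      (h1 : IsSymplecticForm f₁) (h2 : IsSymmetricForm f₂)
      (hm : n₁ = 2 → n₂ = 4 → ¬ IsPlusTypeOn (fun v => f₂ v v) ⊤)
      (hs : IsTensorFormStructure id f f₁ f₂ e P)
      (h : Over (isoG f) H (tensorProductSubgroup n₁ n₂ e P))
  | sub (F₀ : Subfield F) (r : ℕ) (P : GL ι F) (ζ : F) (hr : r.Prime)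
      (hc : Fintype.card F = Nat.card F₀ ^ r) (h0 : ζ ≠ 0) (h1 : IsFormRationalStructure f F₀ ζ P)
      (h : Over (isoG f) H (subfieldSubgroup F₀ P))
  | extra (k : ℕ) (hn : Fintype.card ι = 2 ^ k) (hp : (Fintype.card F).Prime)
      (ho : Odd (Fintype.card F)) (R : Subgroup (GL ι F)) (h1 : IsSymplecticTypeGroup 2 R)
      (h2 : ActsAbsolutelyIrreducibly (matrixSet R)) (h3 : R ≤ similarityGroup f)
      (h4 : Nat.card R = 2 ^ (1 + 2 * k)) (h5 : Nat.card (center R) = 2) (h6 : IsOfMinusType k R)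
      (h : Over (isoG f) H (subgroupNormalizer R))
  | pow (k t : ℕ) (hn : k ^ t = Fintype.card ι) (hk : 2 ≤ k) (ho : Odd (Fintype.card F)) (ht : Odd t)
      (h3 : 3 ≤ t) (h5 : ¬ (Fintype.card F = 3 ∧ k = 2)) (e : ι ≃ (Fin t → Fin k)) (P : GL ι F)
      (f₁ : (Fin k → F) → (Fin k → F) → F) (h1 : IsSymplecticForm f₁)
      (hs : IsTensorPowerFormStructure id f f₁ e P) (h : Over (isoG f) H (tensorWreathSubgroup k t e P))
  | quad (he : ¬ Odd (Fintype.card F)) (Q : (ι → F) → F) (h1 : IsNondegenerateQuadraticForm Q)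
      (h2 : ∀ u v, QuadraticMap.polar Q u v = f u v) (h : Over (isoG f) H (quadSimilarityGroup Q))
  | res (h : InSymplecticResidualClass H)

theorem isometryGroup_le_quadSim {Q : (ι → F) → F} : isometryGroup F Q ≤ quadSimilarityGroup Q :=
  fun _ hg => ⟨1, fun v => by simpa using mem_isometryGroup.1 hg v⟩

theorem card_prime_or [Fintype F] : (Fintype.card F).Prime ∨ (⊥ : Subfield F) ≠ ⊤ := by
  refine or_iff_not_imp_right.2 fun h => ?_
  have := Fact.mk (CharP.char_is_prime F (ringChar F))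
  have := Subfield.card_bot F (ringChar F)
  rw [not_not.1 h, Nat.card_congr Subfield.topEquiv.toEquiv, Nat.card_eq_fintype_card] at this
  exact this ▸ CharP.char_is_prime F _

theorem odd_cases [Fintype F] (h : Odd (Fintype.card F)) : Fintype.card F = 3 ∨ 5 ≤ Fintype.card F := by
  have : 2 ≤ Fintype.card F := Fintype.one_lt_card
  obtain ⟨k, hk⟩ := h
  omega

section

variable [Fintype F] {H₀ H : Subgroup (GL ι F)} (h : Ctx (RingHom.id F) (-1) f (isoG f) H)
  (ha : ∀ v, f v v = 0) (hn : 3 ≤ Fintype.card ι) (h0 : H₀ ≤ H)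
include h ha hn h0

theorem Ctx.sp_quad (he : ¬ Odd (Fintype.card F)) (hQ : Quad8 f H) : SpCase f H₀ := by
  obtain ⟨Q, h1, h2, h3⟩ := hQ
  refine .quad he Q h1 h2 ⟨h0.trans (h3.trans isometryGroup_le_quadSim), fun hc => ?_⟩
  have := h.nonempty
  obtain ⟨u, hu, hu'⟩ := Quad.exists_singular (qForm h1) (by simpa using hn)
  obtain ⟨v, hv⟩ := (qForm_nondeg h1).quad_exists_Q_ne_zero
  obtain ⟨g, hg⟩ := Symp.exists_map ((h.hm.br_sForm ha).nondeg h.hm) hu (b := v)
    (by rintro rfl; exact hv (Form.Q_zero _))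
  obtain ⟨c, hc⟩ := hc ((h.hm.br_sForm ha).fGL_mem g)
  exact hv (by rw [← hg, ← fGL_mulVec]; exact (hc u).trans (mul_eq_zero_of_right _ hu'))

omit ha hn h0 in
theorem Ctx.hm_two (he : ¬ Odd (Fintype.card F)) : Hm (RingHom.id F) 1 f :=
  have := h.nonempty
  h.hm.eps_eq_one (two_eq_zero_of_not_odd he) ▸ h.hm

theorem Ctx.sp_dec {t k : ℕ} {D : Fin t → Submodule F (ι → F)}
    (hD : IsNondegenerateMDecomposition f k D) (hH : H ≤ decompositionStabilizer D) : SpCase f H₀ := by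
  by_cases h2 : k = 2 ∧ Fintype.card F = 2
  · obtain ⟨rfl, h2⟩ := h2
    have he : ¬ Odd (Fintype.card F) := by rw [h2]; decide
    exact h.sp_quad ha hn h0 he ((h.hm_two he).quad8_of_dec h2 ha h.iso hD hH)
  have : 2 ≤ Fintype.card F := Fintype.one_lt_card
  have h3 := hD.decomp.two_le
  exact .dec t k h3 (IsMDecomposition.mul_eq hD.decomp) (hD.decomp.finrank_eq ⟨0, by omega⟩ ▸
    h.hm.even_finrank ha (hD.nondegenerate _)) (by omega) D hD ⟨h0.trans hH, h.nd t k D hD⟩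

omit ha hn in
theorem Ctx.sp_ex2 (hp : (Fintype.card F).Prime) (hR : Ex2 f H) : SpCase f H₀ := by
  obtain ⟨H', R, k, hR, h1, h2, h3, h4⟩ := hR
  exact .extra k hR.card_ι hp (odd_iff_two_ne_zero.2 (by simpa using hR.natCast_ne_zero)) R hR.symp
    (absIrr_of_alg_top hR.top) h2 (hR.card_of_two rfl h3) h3 h4 ⟨h0.trans h1,
      h.cl.not_le_normalizer Nat.prime_two hR.symp.pGroup (irr_of_alg_top hR.top) (normBy_sim.mono h2)⟩

omit ha hn in
theorem Ctx.sp_sub (hs : Sub5 f H) : SpCase f H₀ :=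
  let ⟨F₀, r, P, ζ, h1, h2, h3, h4, h5⟩ := hs
  .sub F₀ r P ζ h1 h2 h4 (h.hm.rational (map_mem_subfield _ _) h5)
    ⟨h0.trans h3, h.cl.not_le_subfield (ne_top_of_card_pow h1.two_le h2) P⟩

theorem Ctx.sp_comm (hc : CommCase (RingHom.id F) f H) : SpCase f H₀ := by
  have := h.nonempty
  rcases hc with ⟨t, k, D, hD⟩ | ⟨e, he, h1⟩ | ⟨r, K, hK⟩
  · exact h.sp_dec ha hn h0 hD.nd hD.le
  · have h2 : e 0 + e 1 = 1 := by simpa using he.sum
    by_cases ho : Odd (Fintype.card F)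
    swap
    · exact h.sp_quad ha hn h0 ho ((h.hm_two ho).quad8 h.iso (h1 ▸ h2) fun g hg => Or.inl <| by
        obtain ⟨j, hj⟩ := he.perm g hg 0
        rw [hj, he.comm])
    obtain ⟨k, hk⟩ := he.isMDecomposition le_rfl
    have h3 := IsMDecomposition.mul_eq hk
    by_cases h4 : Fintype.card ι = 4 ∧ Fintype.card F = 3
    swap
    · exact .pair k h3 ho (by have := odd_cases ho; omega) _ hk (he.ts_pair h.hm h1)
        ⟨h0.trans he.le_stab, h.cl.not_le_dec_two hk⟩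
    obtain ⟨u, hu, hu0⟩ := Submodule.exists_mem_ne_zero_of_ne_bot (IsMDecomposition.ne_bot hk 0)
    obtain ⟨w, ⟨hw, hw'⟩, hw0⟩ := Submodule.exists_mem_ne_zero_of_ne_bot
      (p := rg (e 1) ⊓ h.hm.perp (Submodule.span F {u})) fun hc => by
        have h5 := Submodule.finrank_sup_add_finrank_inf_eq (rg (e 1)) (h.hm.perp (Submodule.span F {u}))
        have h6 := h.hm.finrank_perp (Submodule.span F {u})
        have h7 := Submodule.finrank_le (rg (e 1) ⊔ h.hm.perp (Submodule.span F {u}))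
        rw [hc, finrank_bot, hk.finrank_eq 1] at h5
        rw [finrank_span_singleton hu0] at h6
        rw [finrank_fintype_fun_eq_card] at h7
        omega
    have h5 := (mem_rg_of_idem (he.idem 0)).1 hu
    have h6 := (mem_rg_of_idem (he.idem 1)).1 hw
    have h7 := he.mulVec_eq_zero (i := 1) (by decide) hu
    have h8 := he.mulVec_eq_zero (i := 0) (by decide) hw
    have h9 : (e 0 - e 1) *ᵥ (u + w) = u - w := by
      simp [sub_mulVec, mulVec_add, h5, h6, h7, h8, sub_eq_add_neg u]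
    refine h.sp_ex2 h0 (h4.2 ▸ Nat.prime_three) (h.hm.ex2_four h4.2 h4.1 h.iso (y := e 0 - e 1)
      one_ne_zero ?_ ?_ (fun g hg => ?_) (v := u + w) ?_ ?_)
    · simp [mul_sub, sub_mul, he.idem, he.orth, ← h2]
    · rw [h.hm.adj_sub, h1, ← h1, h.hm.adj_adj, neg_sub]
    · obtain ⟨j, hj⟩ := he.perm g hg 0
      rw [map_sub, eq_sub_of_add_eq' h2, map_sub, map_one, hj]
      fin_cases j
      · exact Or.inl rfl
      · exact Or.inr (by simp [eq_sub_of_add_eq' h2])
    · have := hw' u (Submodule.mem_span_singleton_self u)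
      simp [h9, h.hm.sub_left, h.hm.add_right, ha, this, h.hm.symm0 this]
    · rw [h9, Submodule.mem_span_singleton]
      rintro ⟨c, hc⟩
      have h10 := congrArg (e 0 *ᵥ ·) hc
      have h11 := congrArg (e 1 *ᵥ ·) hc
      simp only [mulVec_smul, mulVec_add, mulVec_sub, h5, h6, h7, h8, sub_zero, add_zero, zero_sub,
        zero_add] at h10 h11
      obtain rfl : c = 1 := smul_left_injective F hu0 (h10.trans (one_smul F u).symm)
      rw [one_smul, neg_eq_iff_add_eq_zero, ← two_smul F] at h11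
      exact smul_ne_zero (two_ne_zero_of_odd ho) hw0 h11
  have hK' : Over (isoG f) H₀ (subalgebraNormalizer K) :=
    ⟨h0.trans hK.nz.le_normalizer, h.cl.not_le_field hK.prime.two_le hK.field⟩
  by_cases h1 : IsSelfAdjointFor f K
  · have h2 : ∀ k ∈ K, ∀ v, f (k *ᵥ v) v = 0 := fun k hk v => by
      by_cases h2 : (2 : F) = 0
      · obtain ⟨l, hl, rfl⟩ := IsFieldSubalgebra.exists_sq h2 hK.field hk
        rw [← mulVec_mulVec, h1 l hl, ha]
      · exact mul_left_cancel₀ h2 (by linear_combination h1 k hk v v + h.hm.skew_symm v (k *ᵥ v))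
    exact .fld r hK.prime (h.hm.two_mul_dvd hK.field hK.ac h2) K hK.field h1 h2 hK'
  obtain ⟨rfl, h2, θ, h3, h4⟩ := h.hm.field_not_self hK.prime hK.field hK.ac h1
  by_cases ho : Odd (Fintype.card F)
  swap
  · exact h.sp_quad ha hn h0 ho ((h.hm_two ho).quad8 h.iso h4 fun g hg => Or.inl
      (hK.field.comm _ h3 _ (hK.nz g hg θ h3)))
  by_cases h5 : Fintype.card ι = 4 ∧ Fintype.card F = 3
  swap
  · exact .fldu ho (by have := odd_cases ho; omega) K hK.field (h.hm.isAdjointClosedFor.2 hK.ac) h1 hK'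
  obtain ⟨y, hy, h6, h7⟩ : ∃ y ∈ K, y ≠ 0 ∧ adj (RingHom.id F) f y = -y := by
    by_contra hc
    refine h1 (h.hm.isSelfAdjointFor.2 fun k hk => by_contra fun h' => hc ⟨_, sub_mem (hK.ac k hk) hk,
      sub_ne_zero.2 h', ?_⟩)
    rw [h.hm.adj_sub, h.hm.adj_adj, neg_sub]
  obtain ⟨z, hz, h8⟩ := hK.field.inv y hy h6
  have h9 : ∀ x ∈ K, adj (RingHom.id F) f x = -x → IsSc (x * y) := fun x hx h9 =>
    h2 _ (mul_mem hx hy) (by rw [h.hm.adj_mul, h7, h9, neg_mul_neg, hK.field.comm y hy x hx])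
  obtain ⟨d, hd⟩ := h9 y hy h7
  have h10 : d ≠ 0 := by
    rintro rfl
    exact h6 (by rw [← mul_one y, ← h8, ← mul_assoc, hd, zero_smul, zero_mul])
  have h11 : Hm (RingHom.id F) 1 fun u v => f (y *ᵥ u) v :=
    ⟨⟨fun _ _ _ => by rw [mulVec_add, h.hm.add_left], fun _ _ _ => by rw [mulVec_smul, h.hm.smul_left],
      fun _ _ _ => h.hm.add_right _ _ _, fun _ _ _ => h.hm.smul_right _ _ _⟩, fun _ => rfl,
      fun v hv => h.hm.nd v fun u => by rw [← one_mulVec u, ← h8, ← mulVec_mulVec, hv],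
      fun u v => by rw [h.hm.adj_spec, h7, neg_mulVec, h.hm.neg_right, ← h.hm.skew_symm]; simp⟩
  obtain ⟨v, hv, hv'⟩ := Quad.exists_singular
    (qForm (IsSymmetricForm.quad (two_ne_zero_of_odd ho) h11.symmetric)) (by simpa using hn)
  refine h.sp_ex2 h0 (h5.2 ▸ Nat.prime_three) (h.hm.ex2_four h5.2 h5.1 h.iso h10 hd h7
    (fun g hg => ?_) hv' fun hc => ?_)
  · obtain ⟨c, hc⟩ := h9 _ (hK.nz g hg y hy) (by rw [h.hm.adj_cj (h.sim hg), h7, map_neg])
    have h12 : cj g y = (c / d) • y := by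
      rw [div_eq_inv_mul, mul_smul, eq_inv_smul_iff₀ h10, ← mul_one (cj g y), ← mul_smul_comm, ← hd,
        ← mul_assoc, hc, smul_mul_assoc, one_mul]
    rcases eq_one_or_neg_one h5.2 (c := c / d) (fun hc => h6 ((cj g).injective
      (by rw [h12, hc, zero_smul, map_zero]))) with h | h <;> simp [h12, h]
  · obtain ⟨c, hc⟩ := Submodule.mem_span_singleton.1 hc
    by_cases h12 : c • y - 1 = 0
    · exact h.hm.not_isSc_of_skew (two_ne_zero_of_odd ho) h7 h6 ⟨c⁻¹, by
        rw [← sub_eq_zero.1 h12, inv_smul_smul₀ fun h => by simp [h] at h12]⟩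
    obtain ⟨w, hw, h13⟩ := hK.field.inv _ (sub_mem (K.smul_mem hy c) (one_mem _)) h12
    rw [hK.field.comm _ (sub_mem (K.smul_mem hy c) (one_mem _)) w hw] at h13
    exact hv (by rw [← one_mulVec v, ← h13, ← mulVec_mulVec, sub_mulVec, smul_mulVec, hc, one_mulVec,
      sub_self, mulVec_zero])

omit ha in
theorem Ctx.sp_plus (ho : Odd (Fintype.card F)) {e : ι ≃ Fin 2 × Fin 4} {P : GL ι F}
    {A₁ : Matrix (Fin 2) (Fin 2) F} {A₂ : Matrix (Fin 4) (Fin 4) F}
    (hT : Tens (RingHom.id F) (-1) f (isoG f) H e P A₁ A₂ (-1) 1)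
    (hp : IsPlusTypeOn (fun v => formOfGram (RingHom.id F) A₂ v v) ⊤) : SpCase f H₀ := by
  have := h.nonempty
  have h2 := two_ne_zero_of_odd ho
  obtain ⟨e₃, P₃, A, ε₁, c, h5, h7, h8, h9, h10, h11⟩ := hT.pow_of_plus h2 h.hm h.iso hp
  rcases odd_cases ho with h12 | h12
  · exact h.sp_ex2 h0 (h12 ▸ Nat.prime_three) (h.hm.ex2_pow h12 hn (by decide) h7 h5)
  obtain rfl : ε₁ = -1 := h8.eps_or.resolve_left (by
    rintro rfl
    exact mul_ne_zero h2 h9 (by rw [RingHom.id_apply] at h10; linear_combination h10))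
  let φ := (tr e₃ P₃).toAlgHom.comp (slot 0)
  let x := Units.map φ.toMonoidHom (tv (show (0 : Fin 2) ≠ 1 by decide) (1 : F))
  exact .pow 2 3 (by simpa using (Fintype.card_congr e₃).symm) le_rfl ho (by decide) le_rfl (by omega)
    e₃ P₃ _ (h8.symplectic (h8.alt h2)) (h.hm.power_struct h9 h11) ⟨h0.trans h7,
      h.cl.not_le_wreath le_rfl (by decide) (x := x) (h.hm.wit (isoG_le_sim (h.hm.mem_isoG_of_adj
        ((congrArg (· * _) (h5 0 _)).trans ((map_mul φ _ _).symm.trans (by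
          rw [adjugate_mul, mem_sl.1 (tv_mem _ _), one_smul, map_one])))))
        fun hs => not_isSc_tv _ (isSc_of_map φ φ.toRingHom.injective
          (mem_scalars_iff_isSc.1 hs))) (i := 0) rfl⟩

theorem Ctx.sp_tens (ho : Odd (Fintype.card F)) {n₁ n₂ : ℕ} {e : ι ≃ Fin n₁ × Fin n₂} {P : GL ι F}
    {A₁ : Matrix (Fin n₁) (Fin n₁) F} {A₂ : Matrix (Fin n₂) (Fin n₂) F}
    (hT : Tens (RingHom.id F) (-1) f (isoG f) H e P A₁ A₂ (-1) 1) : SpCase f H₀ := by
  have h2 := two_ne_zero_of_odd ho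
  have h3 : 2 ≤ n₁ := by simpa using hT.two₁
  obtain rfl | h4 : 2 = n₂ ∨ 3 ≤ n₂ := by have := hT.two₂; simp at this; omega
  · exact h.sp_comm ha hn h0 (hT.comm_of_o2 h2 h.hm h.iso)
  by_cases h5 : n₂ = 3 ∧ Fintype.card F = 3
  · obtain ⟨rfl, h5⟩ := h5
    obtain ⟨D, h6, h7⟩ := hT.hm₂.frame_three h5
    exact h.sp_comm ha hn h0 (hT.comm_of_dec h.hm h.iso h6 ((hT.facR_sim h.hm h.iso).trans h7))
  by_cases h6 : n₁ = 2 ∧ n₂ = 4 ∧ IsPlusTypeOn (fun v => formOfGram (RingHom.id F) A₂ v v) ⊤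
  · obtain ⟨rfl, rfl, h6⟩ := h6
    exact h.sp_plus hn h0 ho hT h6
  have h7 := hT.hm₁.symplectic (hT.hm₁.alt h2)
  exact .tens n₁ n₂ (by simpa using hT.card_eq) (by simpa using IsSymplecticForm.even h7) h4 ho
    (by have := odd_cases ho; omega) e P _ _ h7 hT.hm₂.symmetric (by tauto) (h.hm.tensor_struct hT.gram)
    ⟨h0.trans (hT.nz.le_tensor h3 (by omega)), fun hc => hT.not_nz (nzL_of_le_tensor hc)⟩

theorem Ctx.spCase (h1 : H ≤ H₀ ⊔ scalars ι F) : SpCase f H₀ := by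
  have := h.nonempty
  rcases h.fcase h0 h1 with hI | ⟨-, hc⟩ | ⟨n₁, n₂, e, P, A₁, A₂, ε₁, ε₂, hT⟩ | ⟨-, hs⟩ |
    ⟨-, R, r, k, hR⟩ | ⟨t, k, e, P, A, ε₁, c, hP⟩ | ⟨L, hL⟩
  · rcases h.hm.reducible h.sim hI with ⟨W, h2, h3, h4⟩ | ⟨W, h2, h3, h4, h5⟩
    · exact .ts W h2 h3 ⟨h0.trans h4.le_stab, h.cl.not_le_stab h2 (h.hm.ne_top_of_ts h3 h2)⟩
    rcases h4.eq_or_lt with h4 | h4
    · exact h.sp_dec ha hn h0 (h.hm.halves h2 h3 h4) (le_dec_of_inv fun i => by
        fin_cases i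
        exacts [h5, h.hm.inv_perp h.sim h5])
    · exact .nd W h2 h3 h4 ⟨h0.trans h5.le_stab, h.cl.not_le_stab h2 (by rintro rfl; simp at h4; omega)⟩
  · exact h.sp_comm ha hn h0 hc
  · by_cases ho : Odd (Fintype.card F)
    · rcases hT.symm_eps with ⟨rfl, rfl⟩ | ⟨h2, rfl⟩
      · exact h.sp_tens ha hn h0 ho hT
      · rw [neg_neg] at h2
        exact h.sp_tens ha hn h0 ho (h2 ▸ hT.swap)
    · have h2 := two_eq_zero_of_not_odd ho
      exact h.sp_quad ha hn h0 ho ((h.hm.eps_eq_one h2 ▸ hT).quad8 h2 (h.hm_two ho) h.iso)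
  · exact h.sp_sub h0 hs
  · have hI := h.iso.mono hR.le
    obtain ⟨rfl, h2⟩ := hR.eq_two h.hm hI
    rcases card_prime_or (F := F) with h3 | h3
    · exact h.sp_ex2 h0 h3 ⟨H, R, k, hR, hR.le_normalizer, hI.le_sim, h2, hR.minus h.hm ha hI⟩
    · refine h.sp_sub h0 (hR.sub5 h.hm h.iso h3 fun c hc => ?_)
      rcases mul_self_eq_one_iff.1 (hR.mul_self_of_card_center h2 c hc) with h | h <;> simp [h]
  · by_cases ho : Odd (Fintype.card F)
    swap
    · have h2 := two_eq_zero_of_not_odd ho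
      exact h.sp_quad ha hn h0 ho ((h.hm.eps_eq_one h2 ▸ hP).quad8 h2 (h.hm_two ho) h.iso)
    have h2 := two_ne_zero_of_odd ho
    have h3 : ε₁ ^ t = -1 := mul_left_cancel₀ hP.ne (hP.eps.trans (mul_comm _ _))
    have h4 : (1 : F) ≠ -1 := fun h => h2 (by linear_combination h)
    have hk := hP.two_k
    have : NeZero k := ⟨by omega⟩
    obtain rfl : ε₁ = -1 := hP.hm₁.eps_or.resolve_left (by rintro rfl; exact h4 (by simpa using h3))
    have h5 : Odd t := Nat.not_even_iff_odd.1 fun h => h4 (h.neg_one_pow.symm.trans h3)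
    refine .pow k t (by simpa using (Fintype.card_congr e).symm) hk ho h5 ?_ ?_ e P _
      (hP.hm₁.symplectic (hP.hm₁.alt h2)) (h.hm.power_struct hP.ne hP.gram) ⟨h0.trans hP.le, hP.not_le⟩
    · have := hP.two_t
      obtain ⟨s, rfl⟩ := h5
      omega
    · rintro ⟨h6, rfl⟩
      have := isSolvable_gl_two h6
      exact hP.not_isSolvable inferInstance
  · by_cases hQ : ∃ Q : (ι → F) → F, IsNondegenerateQuadraticForm Q ∧ FixesQuadForm (matrixSet L) Q
    swap
    · exact .res ⟨L, hL.core, hQ, fun ⟨τ, f', h2, h3⟩ => h2.ne_refl (RingEquiv.toRingHom_injective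
        (hL.form _ _ _ (IsUnitaryForm.hm h2) (isom_iff_fixesForm.2 h3)))⟩
    obtain ⟨Q, h2, h3⟩ := hQ
    have h4 := IsNondegenerateQuadraticForm.hm h2
    have hI := h.iso.mono hL.le
    obtain ⟨c, hc⟩ := (h4.isom_iff_fixes.1 (isom_iff_fixesForm.2 (fixesForm_polar h3))).eq_smul
      (h.hm.isom_iff_fixes.1 hI) hL.top h4.unit
    have h5 : ∀ u v, f u v = c * QuadraticMap.polar Q u v := fun u v => by
      rw [h.hm.eq_fG, hc, fG_smul, ← h4.eq_fG]
    have ho : ¬ Odd (Fintype.card F) := fun ho => h.hm.unit.ne_zero (Matrix.ext fun i j =>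
      mul_left_cancel₀ (two_ne_zero_of_odd ho) (by
        have := h.hm.skew_symm (Pi.single i 1) (Pi.single j 1)
        rw [h5 (Pi.single j 1), ← h4.symm, ← h5] at this
        simp only [gramMatrix, Matrix.zero_apply]
        linear_combination this))
    have h6 : QuadraticMap.polar (fun v => c * Q v) = f := by
      funext u v
      rw [h5, QuadraticMap.polar, QuadraticMap.polar]
      ring
    have h7 : IsNondegenerateQuadraticForm fun v => c * Q v :=
      ⟨fun d v => by rw [h2.smul]; ring, h6 ▸ isSesq_id_iff.1 h.hm.toIsSesq, h6 ▸ h.hm.nondeg⟩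
    have h8 : L ≤ isometryGroup F fun v => c * Q v := fun g hg => mem_isometryGroup.2 fun v =>
      congrArg _ (h3 _ ⟨g, hg, rfl⟩ v)
    refine h.sp_quad ha hn h0 ho ⟨_, h7, fun u v => by rw [h6], fun g hg => mem_isometryGroup.2
      fun v => ?_⟩
    have h9 : QuadraticMap.polar (fun v => c * Q ((g : Matrix ι ι F) *ᵥ v)) = f := by
      funext u v
      rw [← h.iso g hg, ← h6]
      simp only [QuadraticMap.polar, mulVec_add]
    exact congrFun ((irr_of_alg_top hL.top).quad_unique h.cl.two (Q := fun v => c * Q (_ *ᵥ v))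
      ⟨fun d v => by rw [mulVec_smul, h7.smul], h9 ▸ isSesq_id_iff.1 h.hm.toIsSesq, h9 ▸ h.hm.nondeg⟩
      h7 (fun u v => by rw [h9, h6]) (fun x hx => mem_isometryGroup.2 fun v => by
        rw [← cj_mulVec, cj_coe]
        exact mem_isometryGroup.1 (h8 (hL.norm g hg x hx)) _) h8) v

end

theorem hm_sympForm (m : ℕ) : Hm (RingHom.id F) (-1) (sympForm m F) :=
  (funext₂ fun u v => by rw [fG_eq]; rfl : formOfGram (RingHom.id F) (J (Fin m) F) = sympForm m F) ▸
    hm_fG (fun _ => rfl) (.of_mul_eq_one (-_) (by rw [mul_neg, J_squared, neg_neg]))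
      (by simpa using J_transpose (Fin m) F)

theorem sympForm_self (m : ℕ) (v) : sympForm m F v v = 0 := (fSymp_B v v).symm.trans (Symp.B_self _ v)

theorem spCase [Fintype F] {m : ℕ} (hm : 3 ≤ m ∨ (2 ≤ m ∧ 3 ≤ Fintype.card F))
    {H : Subgroup (GL (Fin m ⊕ Fin m) F)} (hH : H ≤ spGL m F) : SpCase (sympForm m F) H :=
  have h := hm_sympForm (F := F) m
  have ha := sympForm_self (F := F) m
  (ctx_sup h (cl_sp hm) (isom_iff.2 le_rfl) (h.noDec_sp ha (cl_sp hm)) hH).spCase ha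
    (by simp; omega) le_sup_left (sup_le_sup_left inf_le_left H)

end Cfsg.Lib.Asch
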