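import Cfsg.Agent.Lib.Asch.Two

/-! Small symplectic groups over the field with three elements, and the orthogonal `4`-space of plus
type as a tensor product. -/

set_option autoImplicit false

namespace Cfsg.Lib.Asch

open Matrix Cfsg.Geo Module Cfsg.Lib.Forms Subgroup
open scoped MatrixGroups Kronecker commutatorElement

variable {ι κ μ : Type} [Fintype ι] [DecidableEq ι] [Fintype κ] [DecidableEq κ]
  [Fintype μ] [DecidableEq μ] {F : Type*} [Field F] {σ : F →+* F} {ε : F}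
  {f : (ι → F) → (ι → F) → F}

theorem Hm.exists_vec (h : Hm σ ε f) (hc : Fintype.card κ = Fintype.card ι) (b : κ → ι → F)
    {A : Matrix κ κ F} (hA : IsUnit A) (hb : ∀ i j, f (b i) (b j) = A i j) :
    ∃ (e : ι ≃ κ) (P : GL ι F), gramMatrix (Asch.pull f e P) = A ∧
      ∀ k, vec e P (Pi.single k 1) = b k := by
  have hi : LinearIndependent F b := Fintype.linearIndependent_iff.2 fun c h0 =>
    congrFun (vecMul_injective_iff_isUnit.2 hA (show c ᵥ* A = 0 ᵥ* A from funext fun j => by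
      have := congrArg (f · (b j)) h0
      simpa [h.sum_left, h.smul_left, h.zero_left, hb, vecMul, dotProduct] using this))
  obtain ⟨e, P, he⟩ := exists_vec_eq (Basis.mk hi (hi.span_eq_top_of_card_eq_finrank'
    (by simp [hc])).ge)
  simp only [Basis.mk_apply] at he
  exact ⟨e, P, Matrix.ext fun i j => by rw [← hb, ← he, ← he]; rfl, he⟩

theorem eq_tr_of_single {e : ι ≃ κ} {P : GL ι F} {y : Matrix ι ι F} {Y : Matrix κ κ F}
    (h : ∀ k, y *ᵥ vec e P (Pi.single k 1) = ∑ l, Y l k • vec e P (Pi.single l 1)) :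
    y = tr e P Y := by
  rw [← AlgEquiv.symm_apply_eq]
  ext l k
  have := (mulVec_vec e P y _).symm.trans ((h k).trans (vec_eq_sum e P fun l => Y l k).symm)
  simpa using congrFun ((vec e P).injective this) l

theorem normBy_sim : NormBy (similarityGroup f) (isoG f) := fun g ⟨c, hc⟩ x hx =>
  mem_isoG.2 fun u v => by
    simp only [Units.val_mul, ← mulVec_mulVec]
    rw [hc, mem_isoG.1 hx, ← hc, mulVec_inv_mulVec, mulVec_inv_mulVec]

theorem Hm.skew_symm (h : Hm (RingHom.id F) (-1) f) (u v : ι → F) : f u v = -f v u := by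
  simpa using h.swap v u

/-- A skew element with scalar square in dimension four. -/
theorem Hm.sp4_model (h : Hm (RingHom.id F) (-1) f) (h2 : (2 : F) ≠ 0) (hn : Fintype.card ι = 4)
    {y : Matrix ι ι F} {d : F} (hd : d ≠ 0) (hy : y * y = d • 1) (ha : adj (RingHom.id F) f y = -y)
    {v : ι → F} (hv : f (y *ᵥ v) v = 0) (hv' : v ∉ Submodule.span F {y *ᵥ v}) :
    ∃ (e : ι ≃ Fin 2 × Fin 2) (P : GL ι F),
      gramMatrix (Asch.pull f e P) = J2 F ⊗ₖ !![1, 0; 0, -d] ∧ y = tr e P (1 ⊗ₖ !![0, d; 1, 0]) := by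
  have h0 := h.alt h2
  have h1 : ∀ u w, f u (y *ᵥ w) = -f (y *ᵥ u) w := fun u w => by
    rw [h.adj_spec', ha, neg_mulVec, h.neg_left]
  have h3 : ∀ u, y *ᵥ y *ᵥ u = d • u := fun u => by rw [mulVec_mulVec, hy, smul_mulVec, one_mulVec]
  obtain ⟨w, hw, hw'⟩ := ((h.br_sForm h0).nondeg h).exists_perp_B_eq hv' 1
  replace hw : f (y *ᵥ v) w = 0 := h.symm0 ((Form.mem_perp_span_singleton _).1 hw)
  replace hw' : f v w = 1 := hw'
  obtain ⟨w, hw, hw', h4⟩ : ∃ w, f (y *ᵥ v) w = 0 ∧ f v w = 1 ∧ f (y *ᵥ w) w = 0 := by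
    refine ⟨w + (-f (y *ᵥ w) w / (2 * d)) • y *ᵥ v, ?_, ?_, ?_⟩ <;>
      simp only [mulVec_add, mulVec_smul, h.add_left, h.add_right, h.smul_left, h.smul_right, h1, h3,
        h.skew_symm w v, hw, hw', hv, h0, RingHom.id_apply] <;> field_simp <;> ring
  obtain ⟨e, P, h5, h6⟩ := h.exists_vec (κ := Fin 2 × Fin 2) (by simp [hn])
    (fun p => ![![v, y *ᵥ v], ![w, y *ᵥ w]] p.1 p.2) (A := J2 F ⊗ₖ !![1, 0; 0, -d])
    (by simp [isUnit_iff_isUnit_det, det_kronecker, J2, hd]) (by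
      simp [J2, h1, h3, h0, hv, hw, hw', h4, h.smul_left, h.skew_symm w v,
        h.skew_symm (y *ᵥ w) v, h.skew_symm w (y *ᵥ v)])
  exact ⟨e, P, h5, eq_tr_of_single (by simp [h6, Fintype.sum_prod_type, h3, one_apply])⟩

theorem eq_kr_of_anticomm (h2 : (2 : F) ≠ 0) {d : F} (hd : d ≠ 0)
    {x : Matrix (Fin 2 × Fin 2) (Fin 2 × Fin 2) F}
    (h : xᵀ * J2 F ⊗ₖ !![1, 0; 0, -d] = J2 F ⊗ₖ !![1, 0; 0, -d] * x)
    (h' : x * (1 : Matrix _ _ F) ⊗ₖ !![0, d; 1, 0] = -((1 : Matrix _ _ F) ⊗ₖ !![0, d; 1, 0] * x)) :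
    ∃ b, x = (1 : Matrix _ _ F) ⊗ₖ b := by
  have h3 := fun p q => congrFun (congrFun h p) q
  have h4 := fun p q => congrFun (congrFun h' p) q
  simp only [Prod.forall, Fin.forall_fin_two] at h3 h4
  simp [mul_apply, Fintype.sum_prod_type, J2, one_apply, hd] at h3 h4
  refine ⟨x.submatrix (0, ·) (0, ·), ?_⟩
  ext ⟨i, j⟩ ⟨k, l⟩
  fin_cases i <;> fin_cases j <;> fin_cases k <;> fin_cases l <;> simp <;> grind

section three

variable [Fintype F] (h3 : Fintype.card F = 3)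
include h3

theorem two_ne_zero_of_three : (2 : F) ≠ 0 := two_ne_zero_of_odd (h3 ▸ by decide)

set_option synthInstance.maxSize 1024 in
theorem d8_three {D : Matrix (Fin 2) (Fin 2) F} (hD : D = 1 ∨ D = Z2 F) :
    ∀ b, bᵀ * b = 1 → (b * b = 1 ∨ b * b = -1) ∧ (bᵀ * D * b = D ∨ bᵀ * D * b = -D) ∧
      (∀ b', b'ᵀ * b' = 1 → PmC b b') ∧
      ∀ a, aᵀ * D * a = D ∨ aᵀ * D * a = -D → ∃ b', b'ᵀ * b' = 1 ∧ a * b = b' * a := by
  let φ := (ZMod.ringEquivOfPrime F Nat.prime_three h3).mapMatrix (m := Fin 2)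
  have h1 : ∀ x, (φ x)ᵀ = φ xᵀ := fun _ => rfl
  have h2 : Z2 F = φ (Z2 _) := by ext i j; fin_cases i <;> fin_cases j <;> simp [φ, Z2]
  obtain ⟨D, rfl⟩ := φ.surjective D
  simp only [φ.surjective.forall, φ.surjective.exists, h1, h2, PmC, ← map_mul, ← map_one φ, ← map_neg,
    φ.injective.eq_iff] at hD ⊢
  rcases hD with rfl | rfl <;> decide +kernel

theorem eq_top_q8 {A : Subalgebra F (Matrix (Fin 2) (Fin 2) F)} (h : ∀ x, x * x = -1 → x ∈ A) :
    A = ⊤ := by
  have h1 : (1 : F) + 1 = -1 := by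
    have := FiniteField.cast_card_eq_zero F
    rw [h3] at this
    linear_combination (exp := 1) this
  have h2 : !![(1 : F), 1; 1, -1] * !![1, 1; 1, -1] = -1 := by
    ext i j; fin_cases i <;> fin_cases j <;> simp [h1]
  exact eq_top_two (two_ne_zero_of_three h3) isUnit_J2 (.of_mul_eq_one (-_) (by rw [mul_neg, h2, neg_neg]))
    (by ext i j; fin_cases i <;> fin_cases j <;> simp [J2]) (h _ J2_mul_self) (h _ h2)

theorem det_eq_one_of_sq {x : Matrix (Fin 2) (Fin 2) F} (hx : x * x = -1) : x.det = 1 := by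
  let φ := ZMod.ringEquivOfPrime F Nat.prime_three h3
  obtain ⟨x, rfl⟩ := φ.mapMatrix.surjective x
  rw [← map_mul, ← map_one φ.mapMatrix, ← map_neg, φ.mapMatrix.injective.eq_iff] at hx
  rw [← φ.map_det, det_fin_two, map_eq_one_iff _ φ.injective]
  revert x
  decide +kernel

theorem sc_mem_of_three {R : Subgroup (GL ι F)} (h : -1 ∈ R) (c : Fˣ) : sc ι c ∈ R := by
  rcases eq_one_or_neg_one h3 c.ne_zero with hc | hc
  · rw [show sc ι c = 1 from Units.ext (by simp [coe_sc, hc])]; exact one_mem _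
  · rwa [show sc ι c = -1 from Units.ext (by simp [coe_sc, hc])]

end three

theorem pmC_coe {x y : GL ι F} : PmC (x : Matrix ι ι F) y ↔ PmC x y := by
  simp [PmC, Units.ext_iff]

theorem PmC.map {A B : Type*} [Ring A] [Ring B] {x y : A} (h : PmC x y) {Φ : Type*} [FunLike Φ A B]
    [RingHomClass Φ A B] (φ : Φ) : PmC (φ x) (φ y) := by
  rcases h with h | h <;> simp [PmC, ← map_mul, h]

theorem le_normalizer_closure [Finite F] {H : Subgroup (GL ι F)} {S : Set (GL ι F)}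
    (h : ∀ g ∈ H, ∀ s ∈ S, g * s * g⁻¹ ∈ S) : H ≤ subgroupNormalizer (closure S) :=
  NormBy.le_normalizer fun g hg _ hx =>
    (closure_le ((closure S).comap (MulAut.conj g).toMonoidHom)).2
      (fun s hs => subset_closure (h g hg s hs)) hx

theorem unit_mem_alg {S : Set (GL ι F)} {x : Matrix ι ι F} (hx : IsUnit x) (h : hx.unit ∈ S) :
    x ∈ alg F (closure S) := coe_mem_alg (g := hx.unit) (subset_closure h)

/-- `H` normalises an extraspecial group of minus type. -/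
def Ex2 (f : (ι → F) → (ι → F) → F) (H : Subgroup (GL ι F)) : Prop :=
  ∃ (H' R : Subgroup (GL ι F)) (k : ℕ), Extra H' R 2 k ∧ H ≤ subgroupNormalizer R ∧
    R ≤ similarityGroup f ∧ Nat.card (center R) = 2 ∧ IsOfMinusType k R

theorem Hm.ex2_four [Fintype F] (h3 : Fintype.card F = 3) (h : Hm (RingHom.id F) (-1) f)
    (hn : Fintype.card ι = 4) {H : Subgroup (GL ι F)} (hI : Isom f H) {y : Matrix ι ι F} {d : F}
    (hd : d ≠ 0) (hy : y * y = d • 1) (ha : adj (RingHom.id F) f y = -y)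
    (hH : ∀ g ∈ H, cj g y = y ∨ cj g y = -y)
    {v : ι → F} (hv : f (y *ᵥ v) v = 0) (hv' : v ∉ Submodule.span F {y *ᵥ v}) : Ex2 f H := by
  have h2 := two_ne_zero_of_three h3
  have : Nonempty ι := Fintype.card_pos_iff.1 (by omega)
  obtain ⟨e, P, hA, rfl⟩ := h.sp4_model h2 hn hd hy ha hv hv'
  have hY : IsUnit !![0, d; 1, 0] := by simp [isUnit_iff_isUnit_det, hd]
  have hZY : Z2 F * !![0, d; 1, 0] = -(!![0, d; 1, 0] * Z2 F) := by
    ext i j; fin_cases i <;> fin_cases j <;> simp [Z2]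
  let φ := (tr e P).toAlgHom.comp (kr (Fin 2) (Fin 2) F)
  let ψ := (tr e P).toAlgHom.comp (kl (Fin 2) (Fin 2) F)
  have hm₂ : Hm (RingHom.id F) 1 (formOfGram (RingHom.id F) !![1, 0; 0, -d]) :=
    hm_fG (fun _ => rfl) (by simp [isUnit_iff_isUnit_det, hd]) (by
      ext i j; fin_cases i <;> fin_cases j <;> simp)
  have hN : NzL H e P := NzL.of_swap fun g hg x => by
    have h4 : adj _ f (φ (Z2 F)) = φ (Z2 F) := (h.adj_kron hm_J2 hm₂ hA _ _).trans (by
      rw [hm_J2.adj_one, hm₂.adj_eq_of_gram (y := Z2 F)]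
      · rfl
      · rw [gram_fG]; ext i j; fin_cases i <;> fin_cases j <;> simp [Z2, mul_apply])
    obtain ⟨b, hb⟩ := eq_kr_of_anticomm h2 hd (x := (tr e P).symm (cj g (φ (Z2 F)))) (by
      rw [← hA, (h.pull e P).transpose_mul_gram, show adj _ (Asch.pull f e P) _ =
        (tr e P).symm (cj g (φ (Z2 F))) from (tr e P).injective (by
          rw [← h.adj_tr, AlgEquiv.apply_symm_apply, h.adj_cj (hI.le_sim hg), h4])]
      rfl) ((tr e P).injective (by
        have := congrArg (fun x => cj g (φ x)) hZY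
        simp only [map_mul, map_neg, AlgEquiv.apply_symm_apply] at this ⊢
        rcases hH g hg with h5 | h5 <;> simpa [φ, kr_apply, h5, neg_eq_iff_eq_neg] using this))
    obtain ⟨c, hc⟩ : x ∈ φ.range.comap ((cj g).toAlgHom.comp φ) :=
      eq_top_two h2 isUnit_Z2 hY hZY (A := φ.range.comap ((cj g).toAlgHom.comp φ))
        ⟨b, (AlgEquiv.symm_apply_eq _).1 hb |>.symm⟩ (by
          rcases hH g hg with h5 | h5
          exacts [⟨_, h5.symm⟩, ⟨-_, (map_neg φ _).trans h5.symm⟩]) ▸ trivial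
    exact ⟨c, by rw [kl_apply, kl_apply, tr_swap, tr_swap]; exact hc.symm⟩
  have hD : !![1, 0; 0, -d] = 1 ∨ !![1, 0; 0, -d] = Z2 F := by
    rcases eq_one_or_neg_one h3 hd with rfl | rfl
    · exact Or.inr rfl
    · exact Or.inl (by simp [one_fin_two])
  have h8 := d8_three h3 hD
  let S : Set (GL ι F) := {g | (∃ x, x * x = -1 ∧ ψ x = g) ∨ ∃ b, bᵀ * b = 1 ∧ φ b = g}
  have hJ : J2 F ∈ {b : Matrix _ _ F | bᵀ * b = 1} := by simp [J2_transpose, J2_mul_self]
  obtain ⟨k, hk⟩ := exists_extra_two h2 (by omega) (S := S) (by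
      rintro s (⟨x, hx, hs⟩ | ⟨x, hx, hs⟩) t (⟨y, hy, ht⟩ | ⟨y, hy, ht⟩) <;> rw [← pmC_coe, ← hs, ← ht]
      · exact (pmC_of_sq_three h3 hx hy).map ψ
      · exact Or.inl (by simp [φ, ψ, ← map_mul, kl_mul_kr, kr_mul_kl])
      · exact Or.inl (by simp [φ, ψ, ← map_mul, kl_mul_kr, kr_mul_kl])
      · exact ((h8 x hx).2.2.1 y hy).map φ)
    (by
      rintro s (⟨x, hx, hs⟩ | ⟨x, hx, hs⟩) <;> simp only [Units.ext_iff, Units.val_mul, ← hs, ← map_mul]
      · simp [hx]
      · rcases (h8 x hx).1 with h | h <;> simp [h])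
    (eq_top_of_kron (e := e) (P := P)
      (fun a => (eq_top_q8 h3 (A := (alg F (closure S)).comap ψ) fun x hx => unit_mem_alg
        ((IsUnit.of_mul_eq_one (-x) (by simp [hx])).map ψ) (Or.inl ⟨x, hx, rfl⟩)).ge trivial)
      fun a => (eq_top_two h2 isUnit_Z2 isUnit_J2 (A := (alg F (closure S)).comap φ)
        (by ext i j; fin_cases i <;> fin_cases j <;> simp [Z2, J2])
        (unit_mem_alg (isUnit_Z2.map φ) (Or.inr ⟨_, by
          ext i j; fin_cases i <;> fin_cases j <;> simp [Z2, mul_apply], rfl⟩))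
        (unit_mem_alg (isUnit_J2.map φ) (Or.inr ⟨_, hJ, rfl⟩))).ge trivial)
    fun c _ => sc_mem_of_three h3 (subset_closure (Or.inr ⟨-1, by simp, by simp⟩)) c
  have hm : Hm (RingHom.id F) (-1) (formOfGram (RingHom.id F) (trG (RingHom.id F) e P
      (J2 F ⊗ₖ (1 : Matrix (Fin 2) (Fin 2) F)))) := hm_fG (fun _ => rfl)
    ((isUnit_trG _ _).2 (by simp [isUnit_iff_isUnit_det, det_kronecker, J2])) (by
      rw [dagger_trG (fun _ => rfl), ← trG_smul]
      rw [← smul_kronecker, neg_one_smul, ← J2_transpose]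
      simp [← kroneckerMap_transpose])
  have hI' : Isom (formOfGram (RingHom.id F) (trG (RingHom.id F) e P
      (J2 F ⊗ₖ (1 : Matrix (Fin 2) (Fin 2) F)))) (closure S) := isom_iff.2 ((closure_le _).2 (by
    rintro s (⟨x, hx, hs⟩ | ⟨x, hx, hs⟩) <;> refine mem_isoG.2 fun u v => ?_ <;> rw [← fG_act, ← hs]
    · erw [act_tr, act_kron, act_J2, act_one, det_eq_one_of_sq h3 hx, one_smul]
    · erw [act_tr, act_kron, act_one, act, mul_one, hx]))
  refine ⟨_, _, k, hk, le_normalizer_closure fun g hg => ?_, (closure_le _).2 ?_,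
    (hk.eq_two hm hI').2, hk.minus hm (hm.alt h2) hI'⟩
  · obtain ⟨a, b, hab⟩ := hN.exists_kron hg
    rintro s (⟨x, hx, hs⟩ | ⟨x, hx, hs⟩)
    · exact Or.inl ⟨cj a x, by rw [← map_mul, hx, map_neg, map_one], by
        rw [← cj_coe, ← hs]; exact ((cj_kron hab _ _).trans (by rw [map_one]; rfl)).symm⟩
    · obtain ⟨s', t, h5, -, h6⟩ := h.factor_sim hA (isom_iff.1 hI hg) hab
      obtain ⟨x', h7, h9⟩ := (h8 x hx).2.2.2 b (by
        rcases eq_one_or_neg_one h3 (right_ne_zero_of_mul_eq_one h5) with rfl | rfl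
        exacts [Or.inl (h6.trans (one_smul _ _)), Or.inr (h6.trans (neg_one_smul _ _))])
      exact Or.inr ⟨x', h7, by
        rw [← cj_coe, ← hs, ← cj_eq_iff.2 h9]
        exact ((cj_kron hab _ _).trans (by rw [map_one]; rfl)).symm⟩
  · rintro s (⟨x, hx, hs⟩ | ⟨x, hx, hs⟩)
    · exact h.mem_sim_of_act hs.symm (c := 1) (by
        erw [hA, act_kron, act_J2, act_one, det_eq_one_of_sq h3 hx]; simp)
    · rcases (h8 x hx).2.1 with h5 | h5
      · exact h.mem_sim_of_act hs.symm (c := 1) (by erw [hA, act_kron, act_one, act, h5]; simp)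
      · exact h.mem_sim_of_act hs.symm (c := -1) (by
          erw [hA, act_kron, act_one, act, h5]; simp [← kronecker_smul, -neg_smul])

/-- Tensor powers of the alternating plane over the field with three elements. -/
theorem Hm.ex2_pow [Fintype F] (h3 : Fintype.card F = 3) (h : Hm (RingHom.id F) (-1) f)
    (hn : 3 ≤ Fintype.card ι) {H : Subgroup (GL ι F)} {t : ℕ} (ht : 0 < t) {e : ι ≃ (Fin t → Fin 2)}
    {P : GL ι F} (hH : H ≤ tensorWreathSubgroup 2 t e P)
    (ha : ∀ i a, adj (RingHom.id F) f (tr e P (slot i a)) = tr e P (slot i (adjugate a))) :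
    Ex2 f H := by
  have h2 := two_ne_zero_of_three h3
  let φ := fun i => (tr e P).toAlgHom.comp (slot (κ := Fin 2) (F := F) i)
  let S : Set (GL ι F) := {g | ∃ i x, x * x = -1 ∧ φ i x = g}
  have hu : ∀ i x, x * x = -1 → IsUnit (φ i x) := fun i x hx =>
    (IsUnit.of_mul_eq_one (-x) (by simp [hx])).map _
  obtain ⟨k, hk⟩ := exists_extra_two h2 hn (S := S) (by
      rintro s ⟨i, x, hx, hs⟩ t ⟨j, y, hy, ht⟩
      rw [← pmC_coe, ← hs, ← ht]
      by_cases hij : i = j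
      · exact hij ▸ (pmC_of_sq_three h3 hx hy).map _
      · exact PmC.map (Or.inl (slot_comm hij x y)) (tr e P))
    (by
      rintro s ⟨i, x, hx, hs⟩
      simp [Units.ext_iff, ← hs, ← map_mul, hx])
    (eq_top_of_slot (e := e) (P := P) fun i a => (eq_top_q8 h3 (A := (alg F (closure S)).comap (φ i))
      fun x hx => unit_mem_alg (hu i x hx) ⟨i, x, hx, rfl⟩).ge trivial)
    fun c _ => sc_mem_of_three h3 (by
      have : (hu ⟨0, ht⟩ _ J2_mul_self).unit ∈ closure S := subset_closure ⟨_, _, J2_mul_self, rfl⟩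
      convert mul_mem this this using 1
      ext1
      simp [← map_mul, J2_mul_self]) c
  have hI : Isom f (closure S) := isom_iff.2 ((closure_le _).2 (by
    rintro s ⟨i, x, hx, hs⟩
    refine h.mem_isoG_of_adj ?_
    rw [← hs]
    erw [ha, ← map_mul, ← map_mul, adjugate_mul, det_eq_one_of_sq h3 hx, one_smul, map_one, map_one]))
  refine ⟨_, _, k, hk, le_normalizer_closure fun g hg => ?_, hI.le_sim, (hk.eq_two h hI).2,
    hk.minus h (h.alt h2) hI⟩
  obtain ⟨π, gs, h5⟩ := cj_slot_of_mem_tensorWreath (hH hg)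
  rintro s ⟨i, x, hx, hs⟩
  exact ⟨π i, cj (gs i) x, by rw [← map_mul, hx, map_neg, map_one], by
    rw [← cj_coe, ← hs]; exact (h5 i x).symm⟩

end Cfsg.Lib.Asch
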