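import Cfsg.Agent.Lib.Asch.Sp4
import Cfsg.Agent.S0144

/-! Tools for the symplectic and orthogonal cases. -/

set_option autoImplicit false

namespace Cfsg.Lib.Asch

open Matrix Cfsg.Geo Module Cfsg.Lib.Forms Subgroup
open scoped MatrixGroups Kronecker commutatorElement

variable {ι κ μ : Type} [Fintype ι] [DecidableEq ι] [Fintype κ] [DecidableEq κ]
  [Fintype μ] [DecidableEq μ] {F : Type*} [Field F] {σ : F →+* F} {ε : F}
  {f : (ι → F) → (ι → F) → F}

/-- `M` contains `H` but not `G`. -/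
def Over {Γ : Type*} [Group Γ] (G H M : Subgroup Γ) : Prop := H ≤ M ∧ ¬ G ≤ M

theorem Over.eq {Γ : Type*} [Group Γ] {G H M : Subgroup Γ} (h : Over G H M) (hH : IsMaximalIn G H) :
    H = M ⊓ G := IsMaximalIn.eq_inf hH h.1 h.2

theorem Over.le {Γ : Type*} [Group Γ] {G I H M : Subgroup Γ} (h : Over G H M) (hH : H ≤ I) :
    H ≤ M ⊓ I := le_inf h.1 hH

theorem Pow.not_isSolvable {G H : Subgroup (GL ι F)} {t k : ℕ} {e : ι ≃ (Fin t → Fin k)} {P : GL ι F}
    {A : Matrix (Fin k) (Fin k) F} {ε₁ c : F} (h : Pow σ ε f G H e P A ε₁ c) :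
    ¬ Group.IsSolvable (isoG (formOfGram σ A)) := fun hs => by
  obtain ⟨L, h1, h2, h3⟩ := h.factor
  have h4 := map_subgroupOf_eq_of_le (isom_iff.1 h3)
  refine not_irr_of_le_scalars (by simpa using h.two_k) (H := L) ?_ (irr_of_alg_top h2)
  by_contra hc
  refine (IsSolvable.commutator_lt_of_ne_bot (H := L.subgroupOf (isoG (formOfGram σ A)))
    fun h0 => hc ?_).ne (map_injective (subtype_injective _) (by rw [map_commutator, h4, h1]))
  rw [← h4, h0, Subgroup.map_bot]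
  exact bot_le

theorem isSolvable_gl_two [Fintype F] (h : Fintype.card F = 3) : Group.IsSolvable (GL (Fin 2) F) :=
  Agent.S0144.result 2 3 4 1 (by decide) (by decide) (by simp [card_GL_field, h])

theorem Hm.mult_pow (h : Hm σ ε f) {g : Matrix ι ι F} {c : F}
    (hg : ∀ u v, f (g *ᵥ u) (g *ᵥ v) = c * f u v) : c ^ Fintype.card ι = g.det * σ g.det := by
  have := congrArg det (h.act_gram hg)
  rw [act, det_mul, det_mul, det_transpose, det_smul, mul_right_comm, ← RingHom.mapMatrix_apply,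
    ← σ.map_det] at this
  exact (mul_right_cancel₀ ((isUnit_iff_isUnit_det _).1 h.unit).ne_zero this).symm

theorem Hm.frame_of_basis [Finite F] (h : Hm σ ε f) (hn : 2 ≤ Fintype.card ι) {H : Subgroup (GL ι F)}
    (hI : Isom f H) {c : F} (hc : c ≠ 0) (b : Basis κ F (ι → F))
    (hb : ∀ a a', f (b a) (b a') = if a = a' then c else 0)
    (hκ : ∀ x : κ → F, ∑ a, x a * σ (x a) = 1 → ∃ a, ∀ a', a' ≠ a → x a' = 0) :
    ∃ D : Fin (Fintype.card ι) → Submodule F (ι → F), IsNondegenerateMDecomposition f 1 D ∧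
      H ≤ decompositionStabilizer D := by
  obtain ⟨E, h5, h6, -⟩ := h.exists_frame (H := H) hn (T := Set.range b)
    (by rintro _ ⟨p, rfl⟩; simpa [hb] using hc)
    (by
      rintro _ ⟨a, rfl⟩ _ ⟨a', rfl⟩
      by_cases ha : a = a'
      · exact Or.inl (ha ▸ Submodule.mem_span_singleton_self _)
      · exact Or.inr (by simp [hb, ha])) b.span_eq
    (by
      rintro g hg _ ⟨a, rfl⟩
      have h7 := hI g hg (b a) (b a)
      rw [← b.sum_repr (_ *ᵥ _)] at h7 ⊢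
      generalize b.repr _ = x at h7
      rw [hb, if_pos rfl, h.sum_left] at h7
      simp only [h.sum_right, h.smul_left, h.smul_right, hb, mul_ite, mul_zero, Finset.sum_ite_eq,
        Finset.mem_univ, if_true, ← mul_assoc, ← Finset.sum_mul, mul_eq_right₀ hc] at h7
      obtain ⟨a', h8⟩ := hκ x h7
      refine ⟨_, ⟨a', rfl⟩, ?_⟩
      rw [Finset.sum_eq_single a' (fun k _ hk => by rw [h8 k hk, zero_smul]) (by simp)]
      exact Submodule.smul_mem _ _ (Submodule.mem_span_singleton_self _))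
  exact ⟨E, h5, h6⟩

theorem exists_orth_odd [Finite F] {V : Type*} [AddCommGroup V] [Module F V] [FiniteDimensional F V]
    {D : Form (quadKind F) V} (hD : D.Nondeg) {m : ℕ} (hn : finrank F V = 2 * m + 1) :
    ∃ c, c ≠ 0 ∧ ∃ b : Basis (Fin (2 * m + 1)) F V,
      ∀ i j, D.B (b i) (b j) = if i = j then 2 * c else 0 := by
  obtain ⟨c, hc, e, he⟩ := Quad.exists_iso_qsmul (fDiag_nondeg (Quad.two_ne_zero_of_odd hD hn)
    (w := fun _ : Fin (2 * m + 1) => (1 : F)) fun _ => one_ne_zero) hD (by simp) hn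
  exact ⟨c, hc, (Pi.basisFun F _).map e, fun i j => by
    simp [he.1, Form.qsmul_B, fDiag_B_single, Pi.single_apply, mul_comm, eq_comm]⟩

theorem sq_sum_three [Fintype F] (h3 : Fintype.card F = 3) {k : ℕ} (hk : k ≤ 3) (x : Fin k → F)
    (h : ∑ a, x a * RingHom.id F (x a) = 1) : ∃ a, ∀ a', a' ≠ a → x a' = 0 := by
  let φ := ZMod.ringEquivOfPrime F Nat.prime_three h3
  obtain ⟨x, rfl⟩ := φ.surjective.comp_left x
  simp only [Function.comp, RingHom.id_apply, ← map_mul, ← map_sum, map_eq_one_iff _ φ.injective,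
    map_eq_zero_iff _ φ.injective] at h ⊢
  revert x
  interval_cases k <;> decide +kernel

theorem Hm.frame_three [Fintype F] (h3 : Fintype.card F = 3) {f : (Fin 3 → F) → (Fin 3 → F) → F}
    (h : Hm (RingHom.id F) 1 f) : ∃ D : Fin 3 → Submodule F (Fin 3 → F),
      IsNondegenerateMDecomposition f 1 D ∧ similarityGroup f ≤ decompositionStabilizer D := by
  have h2 := two_ne_zero_of_three h3
  obtain ⟨c, hc, b, hb⟩ := exists_orth_odd (qForm_nondeg (IsSymmetricForm.quad h2 h.symmetric))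
    (m := 1) (by simp)
  refine h.frame_of_basis (by simp) (fun g ⟨d, hd⟩ => ?_) hc b (fun i j => mul_left_cancel₀ h2 ?_)
    (sq_sum_three h3 le_rfl)
  · have := h.mult_pow hd
    rw [RingHom.id_apply, ← sq, pow_eq_one_of_card h3 g.det_ne_zero] at this
    rcases eq_one_or_neg_one h3 d.ne_zero with h1 | h1
    · simpa [h1] using hd
    · exact absurd (by rw [h1, Fintype.card_fin] at this; linear_combination -this) h2
  · rw [mul_ite, mul_zero, ← hb, br_qForm, IsSymmetricForm.polar h.symmetric, h.symm]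

theorem Hm.exists_jj [Finite F] {f : (Fin 4 → F) → (Fin 4 → F) → F} (h : Hm (RingHom.id F) 1 f)
    (h2 : (2 : F) ≠ 0) (hp : IsPlusTypeOn (fun v => f v v) ⊤) :
    ∃ (e : Fin 4 ≃ Fin 2 × Fin 2) (P : GL (Fin 4) F), gramMatrix (Asch.pull f e P) = J2 F ⊗ₖ J2 F := by
  obtain ⟨U, -, h3, h4⟩ := hp
  obtain ⟨e, he⟩ := (Quad.iso_fPlus (qForm_nondeg (IsSymmetricForm.quad h2 h.symmetric)) (m := 2)
    (by simp) (Form.hasTS_quad_iff.2 ⟨U, by simp at h4; omega, h3⟩)).symm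
  have h5 : ∀ x y, f (e x) (e y) = 2⁻¹ * (fPlus F 2).B x y := fun x y => by
    rw [← he.1, br_qForm, IsSymmetricForm.polar h.symmetric, h.symm, inv_mul_cancel_left₀ h2]
  obtain ⟨e', P, h6, -⟩ := h.exists_vec (κ := Fin 2 × Fin 2) (by simp)
    (fun p => e (![![Pi.single (.inl 0) 1, Pi.single (.inl 1) 1],
      ![Pi.single (.inr 1) (-2), Pi.single (.inr 0) 2]] p.1 p.2)) (A := J2 F ⊗ₖ J2 F)
    (by simp [isUnit_iff_isUnit_det, det_kronecker, J2]) (by simp [h5, fPlus_B, J2, h2])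
  exact ⟨e', P, h6⟩

theorem IdemSys.comm {H : Subgroup (GL ι F)} {t : ℕ} {e : Fin t → Matrix ι ι F} (h : IdemSys H e)
    (i j : Fin t) : e i * e j = e j * e i := by
  by_cases hij : i = j
  · rw [hij]
  · rw [h.orth i j hij, h.orth j i (Ne.symm hij)]

theorem Hm.wit (h : Hm σ ε f) {x : GL ι F} (hx : x ∈ similarityGroup f) (h0 : x ∉ scalars ι F) :
    Wit (isoG f) x := ⟨h0, normBy_sim x hx⟩

theorem Tens.symm_eps {G H : Subgroup (GL ι F)} {e : ι ≃ κ × μ} {P : GL ι F} {A₁ : Matrix κ κ F}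
    {A₂ : Matrix μ μ F} {ε₁ ε₂ : F} (h : Tens (RingHom.id F) ε f G H e P A₁ A₂ ε₁ ε₂) :
    (ε₁ = ε ∧ ε₂ = 1) ∨ (ε₁ = -ε ∧ ε₂ = -1) := by
  have := h.ne₂
  rcases h.hm₂.eps_or with rfl | rfl
  · exact Or.inl ⟨by simpa using h.eps, rfl⟩
  · exact Or.inr ⟨by rw [← h.eps]; simp, rfl⟩

theorem Tens.alt_two [Finite F] (h2 : (2 : F) = 0) {G H : Subgroup (GL ι F)} {e : ι ≃ κ × μ}
    {P : GL ι F} {A₁ : Matrix κ κ F} {A₂ : Matrix μ μ F} {ε₁ ε₂ : F}
    (h : Tens (RingHom.id F) ε f G H e P A₁ A₂ ε₁ ε₂) (hm : Hm (RingHom.id F) ε f) (hI : Isom f H)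
    (v : μ → F) : formOfGram (RingHom.id F) A₂ v v = 0 := by
  have := h.ne₂
  obtain rfl := h.hm₂.eps_eq_one h2
  exact (irr_of_alg_top h.facR_top).alt_of_char_two h2 h.two₂ (by simpa using h.hm₂.dagger')
    (h.facR_sim hm hI) v

/-- Elements of trace one in the two factors of a tensor product in characteristic two. -/
theorem Tens.exists_theta [Finite F] (h2 : (2 : F) = 0) {G H : Subgroup (GL ι F)} {e : ι ≃ κ × μ}
    {P : GL ι F} {A₁ : Matrix κ κ F} {A₂ : Matrix μ μ F} {ε₁ ε₂ : F}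
    (h : Tens (RingHom.id F) 1 f G H e P A₁ A₂ ε₁ ε₂) (hm : Hm (RingHom.id F) 1 f) (hI : Isom f H) :
    ∃ θ, tr e P (1 ⊗ₖ θ) + adj (RingHom.id F) f (tr e P (1 ⊗ₖ θ)) = 1 := by
  have := h.ne₂
  obtain rfl := h.hm₂.eps_eq_one h2
  obtain ⟨θ, hθ⟩ := h.hm₂.exists_theta (h.alt_two h2 hm hI)
  exact ⟨θ, by rw [h.adj_kr hm, ← map_add, ← kronecker_add, hθ, one_kronecker_one, map_one]⟩

theorem Tens.quad8 [Finite F] (h2 : (2 : F) = 0) {G H : Subgroup (GL ι F)} {e : ι ≃ κ × μ}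
    {P : GL ι F} {A₁ : Matrix κ κ F} {A₂ : Matrix μ μ F} {ε₁ ε₂ : F}
    (h : Tens (RingHom.id F) 1 f G H e P A₁ A₂ ε₁ ε₂) (hm : Hm (RingHom.id F) 1 f) (hI : Isom f H) :
    Quad8 f H := by
  obtain ⟨θ, hθ⟩ := h.exists_theta h2 hm hI
  obtain ⟨η, hη⟩ := h.swap.exists_theta h2 hm hI
  refine hm.quad8 hI hθ fun g hg => Or.inr ⟨_, hη, ?_, ?_⟩
  · simp only [tr_swap, ← map_mul, ← mul_kronecker_mul, mul_one, one_mul]
  · obtain ⟨a, b, -, hab⟩ := h.exists_kron hg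
    simp only [cj_kron hab, map_one, tr_swap, ← map_mul, ← mul_kronecker_mul, mul_one, one_mul]

theorem Hm.adj_slot (h : Hm σ ε f) {t : ℕ} {e : ι ≃ (Fin t → κ)} {P : GL ι F} {A : Matrix κ κ F}
    {ε₁ c : F} (h₁ : Hm σ ε₁ (formOfGram σ A))
    (hA : gramMatrix (Asch.pull f e P) = c • pure fun _ => A) (i : Fin t) (x : Matrix κ κ F) :
    adj σ f (tr e P (slot i x)) = tr e P (slot i (adj σ (formOfGram σ A) x)) := by
  rw [h.adj_tr, (h.pull e P).adj_eq_of_gram]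
  have h1 : ∀ y : Matrix κ κ F, (slot i y)ᵀ = slot i yᵀ := slot_dagger (σ := RingHom.id F) i
  rw [hA, h1, ← transpose_transpose ((slot i _).map σ), slot_dagger, h1, transpose_transpose,
    mul_smul_comm, smul_mul_assoc, pure_mul_slot _ _ i (h₁.transpose_mul' x).symm fun _ _ => rfl]

theorem Pow.quad8 [Finite F] (h2 : (2 : F) = 0) {G H : Subgroup (GL ι F)} {t k : ℕ}
    {e : ι ≃ (Fin t → Fin k)} {P : GL ι F} {A : Matrix (Fin k) (Fin k) F} {ε₁ c : F}
    (h : Pow (RingHom.id F) 1 f G H e P A ε₁ c) (hm : Hm (RingHom.id F) 1 f) (hI : Isom f H) :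
    Quad8 f H := by
  have hk := h.two_k
  have : NeZero k := ⟨by omega⟩
  have : Nontrivial (Fin t) := Fin.nontrivial_iff_two_le.2 h.two_t
  obtain ⟨i, j, hij⟩ := exists_pair_ne (Fin t)
  obtain rfl := h.hm₁.eps_eq_one h2
  obtain ⟨L, -, h3, h4⟩ := h.factor
  obtain ⟨θ, hθ⟩ := h.hm₁.exists_theta ((irr_of_alg_top h3).alt_of_char_two h2 (by simpa using hk)
    (by simpa using h.hm₁.dagger') h4.le_sim)
  have key : ∀ i, tr e P (slot i θ) + adj (RingHom.id F) f (tr e P (slot i θ)) = 1 := fun i => by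
    rw [hm.adj_slot h.hm₁ h.gram, ← map_add, ← map_add, hθ, map_one, map_one]
  refine hm.quad8 hI (key i) fun g hg => ?_
  obtain ⟨π, gs, h5⟩ := cj_slot_of_mem_tensorWreath (h.le hg)
  simp only [h5, ← map_mul]
  by_cases h6 : π i = i
  · exact Or.inr ⟨_, key j, by simp only [← map_mul, slot_comm hij],
      by simp only [h6, ← map_mul, slot_comm hij]⟩
  · exact Or.inl (by rw [slot_comm h6])

theorem Hm.quad8_of_dec [Fintype F] (hq : Fintype.card F = 2) (h : Hm (RingHom.id F) 1 f)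
    (ha : ∀ v, f v v = 0) {H : Subgroup (GL ι F)} (hI : Isom f H) {t : ℕ}
    {D : Fin t → Submodule F (ι → F)} (hD : IsNondegenerateMDecomposition f 2 D)
    (hH : H ≤ decompositionStabilizer D) : Quad8 f H := by
  obtain ⟨e, P, hb⟩ := IsMDecomposition.exists_blk' hD.decomp
  refine h.quad8 hI (θ := tr e P (bm 1 fun _ => W2 F)) ?_ fun g hg => Or.inl ?_
  · rw [h.adj_tr, (h.pull e P).adj_eq_of_gram (y := bm 1 fun _ => adjugate (W2 F)), ← map_add, bm_add]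
    · simp [add_adjugate_two, show (W2 F).trace = 1 by simp [W2], bm_one]
    · rw [hb.gram hD.orthogonal, bm_transpose, bm_map, bm_mul, bm_mul]
      congr 1
      funext j
      rw [Equiv.Perm.one_apply, eq_smul_J2 (A := of _) (by ext a b; exact (h.symplectic ha).skew _ _) fun i => ha _,
        mul_smul_comm, smul_mul_assoc, transpose_mul_J2]
      rfl
  · obtain ⟨π, gs, h1⟩ := hb.cj_bm (hH hg)
    rw [h1, ← map_mul, ← map_mul, bm_mul, bm_mul]
    congr 2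
    funext j
    rcases eq_W2_or hq (z := cj (gs j) (W2 F)) (by rw [← map_mul, W2_mul_self]; simp) with h | h <;>
      simp [h, mul_add, add_mul]

theorem Hm.adj_jj (h : Hm (RingHom.id F) ε f) {e : ι ≃ Fin 2 × Fin 2} {P : GL ι F}
    (hA : gramMatrix (Asch.pull f e P) = J2 F ⊗ₖ J2 F) (a b : Matrix (Fin 2) (Fin 2) F) :
    adj (RingHom.id F) f (tr e P (a ⊗ₖ b)) = tr e P (adjugate a ⊗ₖ adjugate b) := by
  rw [h.adj_kron hm_J2 hm_J2 hA, hm_J2.adj_two alt_J2, hm_J2.adj_two alt_J2]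

theorem exists_phi (e : ι ≃ κ × μ) (P : GL ι F)
    (e' : μ ≃ κ × κ) (P' : GL μ F) : ∃ φ : Fin 3 → Matrix κ κ F →ₐ[F] Matrix ι ι F,
      (∀ a, φ 0 a = tr e P (a ⊗ₖ 1)) ∧ (∀ a, φ 1 a = tr e P (1 ⊗ₖ tr e' P' (a ⊗ₖ 1))) ∧
      ∀ a, φ 2 a = tr e P (1 ⊗ₖ tr e' P' (1 ⊗ₖ a)) :=
  ⟨![(tr e P).toAlgHom.comp (kl _ _ F),
    ((tr e P).toAlgHom.comp (kr _ _ F)).comp ((tr e' P').toAlgHom.comp (kl _ _ F)),
    ((tr e P).toAlgHom.comp (kr _ _ F)).comp ((tr e' P').toAlgHom.comp (kr _ _ F))],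
    fun _ => rfl, fun _ => rfl, fun _ => rfl⟩

theorem Tens.pow_of_plus [Finite F] (h2 : (2 : F) ≠ 0) {G H : Subgroup (GL ι F)}
    {e : ι ≃ Fin 2 × Fin 4} {P : GL ι F} {A₁ : Matrix (Fin 2) (Fin 2) F}
    {A₂ : Matrix (Fin 4) (Fin 4) F} (hT : Tens (RingHom.id F) ε f G H e P A₁ A₂ (-1) 1)
    (h : Hm (RingHom.id F) ε f) (hI : Isom f H)
    (hp : IsPlusTypeOn (fun v => formOfGram (RingHom.id F) A₂ v v) ⊤) :
    ∃ (e : ι ≃ (Fin 3 → Fin 2)) (P : GL ι F) (A : Matrix (Fin 2) (Fin 2) F) (ε₁ c : F),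
      (∀ i a, adj (RingHom.id F) f (tr e P (slot i a)) = tr e P (slot i (adjugate a))) ∧
      H ≤ tensorWreathSubgroup 2 3 e P ∧ Hm (RingHom.id F) ε₁ (formOfGram (RingHom.id F) A) ∧ c ≠ 0 ∧
      RingHom.id F c * ε₁ ^ 3 = ε * c ∧ gramMatrix (Asch.pull f e P) = c • pure fun _ => A := by
  have := hT.ne
  obtain ⟨e', P', h1⟩ := hT.hm₂.exists_jj h2 hp
  obtain ⟨φ, hφ0, hφ1, hφ2⟩ := exists_phi e P e' P'
  have h5 : ∀ i a, adj (RingHom.id F) f (φ i a) = φ i (adjugate a) := by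
    simp only [Fin.forall_fin_succ, Fin.succ_zero_eq_one, Fin.succ_one_eq_two, IsEmpty.forall_iff, hφ0,
      hφ1, hφ2, hT.adj_kl h, hT.adj_kr h, hT.hm₁.adj_two (hT.hm₁.alt h2), hT.hm₂.adj_jj h1,
      adjugate_one, implies_true, and_self]
  have k1 : ∀ i j, i ≠ j → ∀ a b, φ i a * φ j b = φ j b * φ i a := by
      simp only [Fin.forall_fin_succ, Fin.succ_zero_eq_one, Fin.succ_one_eq_two, IsEmpty.forall_iff,
        hφ0, hφ1, hφ2, ← map_mul, ← mul_kronecker_mul, mul_one, one_mul, ne_eq, not_true,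
        implies_true, and_self]
  have k2 : ∀ z, (∀ i a, z * φ i a = φ i a * z) → IsSc z := fun z hz => isSc_of_comm fun y => by
      have : Subalgebra.centralizer F {z} = ⊤ := eq_top_of_kron (e := e) (P := P)
        (fun a => by rintro _ rfl; exact hφ0 a ▸ hz 0 a) fun b => (eq_top_of_kron
          (A := (Subalgebra.centralizer F {z}).comap ((tr e P).toAlgHom.comp (kr _ _ F))) (e := e')
          (P := P') (fun a => by rintro _ rfl; exact (hφ1 a ▸ hz 1 a :))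
          fun a => by rintro _ rfl; exact (hφ2 a ▸ hz 2 a :)).ge trivial
      exact this.ge (trivial : y ∈ _) z rfl
  have k3 : ∀ g ∈ H, ∀ i, ∃ j, ∀ a, ∃ b, cj g (φ i a) = φ j b := fun g hg => by
      obtain ⟨a, b, hb, hab⟩ := hT.exists_kron hg
      have key : ∀ χ : Matrix (Fin 2) (Fin 2) F →ₐ[F] _,
          (∀ a, adj _ (formOfGram (RingHom.id F) A₂) (χ a) = χ (adjugate a)) →
          ∃ j, ∀ x, ∃ y, cj g (tr e P (1 ⊗ₖ χ x)) = φ j y := fun χ hχ => by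
        simp only [cj_kron hab, map_one]
        rcases range_side h2 hT.hm₂ h1 ((cj b).toAlgHom.comp χ) (fun a =>
          (hT.hm₂.adj_cj (hT.facR_sim h hI hb) _).trans (congrArg _ (hχ a))) with h7 | h7
        · exact ⟨1, fun x => (h7 x).imp fun y hy => by rw [hφ1, ← hy]; rfl⟩
        · exact ⟨2, fun x => (h7 x).imp fun y hy => by rw [hφ2, ← hy]; rfl⟩
      simp only [Fin.forall_fin_succ, Fin.succ_zero_eq_one, Fin.succ_one_eq_two, IsEmpty.forall_iff,
        hφ0, hφ1, hφ2, and_true]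
      exact ⟨⟨0, fun x => ⟨_, by rw [cj_kron hab, map_one, hφ0]⟩⟩,
        key ((tr e' P').toAlgHom.comp (kl _ _ F)) fun a =>
          (hT.hm₂.adj_jj h1 a 1).trans (by rw [adjugate_one]; rfl),
        key ((tr e' P').toAlgHom.comp (kr _ _ F)) fun a =>
          (hT.hm₂.adj_jj h1 1 a).trans (by rw [adjugate_one]; rfl)⟩
  obtain ⟨e₃, P₃, A, ε₁, c, h6, h7⟩ := h.exists_pow le_rfl (by decide) φ k1 k2 h5 k3
  exact ⟨e₃, P₃, A, ε₁, c, fun i a => by rw [← h6, ← h6, h5], h7⟩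

end Cfsg.Lib.Asch
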