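import Cfsg.Agent.Lib.Asch.ClForm

/-! Tools for the classical cases: bridges to `Forms`, quadratic forms from adjoints, refinements of
decompositions, extension fields. -/

set_option autoImplicit false

namespace Cfsg.Lib.Asch

open Matrix Cfsg.Geo Module Cfsg.Lib.Forms
open scoped MatrixGroups Kronecker commutatorElement

variable {ι κ μ : Type} [Fintype ι] [DecidableEq ι] [Fintype κ] [DecidableEq κ]
  [Fintype μ] [DecidableEq μ] {F : Type*} [Field F] {σ : F →+* F} {ε : F}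
  {f : (ι → F) → (ι → F) → F}

/-! ### Bridges -/

section Bridge

omit [Fintype ι] [DecidableEq ι]

/-- The form as a sesquilinear map. -/
def IsSesq.lin (h : IsSesq σ f) : (ι → F) →ₛₗ[σ] (ι → F) →ₗ[F] F :=
  LinearMap.mk₂'ₛₗ σ (RingHom.id F) (fun x y => f y x) (fun _ _ _ => h.add_right _ _ _)
    (fun _ _ _ => h.smul_right _ _ _) (fun _ _ _ => h.add_left _ _ _) fun _ _ _ => h.smul_left _ _ _

/-- `D` is the form `f`. -/
def Br {K : Kind σ} (D : Form K (ι → F)) (f : (ι → F) → (ι → F) → F) : Prop :=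
  ∀ x y, D.B x y = f y x

/-- An alternating form as a `Form`. -/
def Hm.sForm (h : Hm (RingHom.id F) ε f) (ha : ∀ v, f v v = 0) : Form (altKind F) (ι → F) :=
  ofAlt h.lin ha

theorem Hm.br_sForm (h : Hm (RingHom.id F) ε f) (ha : ∀ v, f v v = 0) : Br (h.sForm ha) f :=
  fun _ _ => rfl

/-- A hermitian form as a `Form`. -/
def Hm.uForm (h : Hm σ 1 f) {q : ℕ} (hq : IsConj σ q) : Form hq.kind (ι → F) :=
  ofHerm hq.σσ (Or.inl hq.ne_id) h.lin ⟨fun x y => (h.swap x y).trans (one_mul _)⟩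

theorem Hm.br_uForm (h : Hm σ 1 f) {q : ℕ} (hq : IsConj σ q) : Br (h.uForm hq) f := fun _ _ => rfl

/-- A quadratic form as a `Form`. -/
def qForm {Q : (ι → F) → F} (h : IsNondegenerateQuadraticForm Q) : Form (quadKind F) (ι → F) where
  B := (IsNondegenerateQuadraticForm.hm h).lin
  Q := Q
  symm x y := (QuadraticMap.polar_comm Q x y).trans (one_mul _).symm
  Q_add x y := by
    change _ = _ + QuadraticMap.polar Q y x
    rw [QuadraticMap.polar, add_comm y x]; ring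
  Q_smul c x := by rw [h.smul, sq]; rfl
  B_self x := by
    change QuadraticMap.polar Q x x = 2 * _
    rw [QuadraticMap.polar, ← two_smul F x, h.smul]; ring
  Q_mem x := ⟨Q x, rfl⟩

theorem br_qForm {Q : (ι → F) → F} (h : IsNondegenerateQuadraticForm Q) :
    Br (qForm h) (QuadraticMap.polar Q) := fun _ _ => rfl

variable {K : Kind σ} {D : Form K (ι → F)}

theorem Br.nondeg (h : Br D f) (hm : Hm σ ε f) : D.Nondeg :=
  fun x hx => hm.nd x fun u => h x u ▸ hx u

theorem Br.nondeg_restrict (h : Br D f) {W : Submodule F (ι → F)} (hW : IsNondegenerateOn f W) :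
    (D.restrict W).Nondeg := fun x hx => Subtype.ext <| by_contra fun h0 =>
  let ⟨y, hy, h1⟩ := (hW x x.2 h0).1
  h1 (h x y ▸ hx ⟨y, hy⟩)

theorem Br.nondegOn (h : Br D f) {W : Submodule F (ι → F)} (hW : (D.restrict W).Nondeg) :
    IsNondegenerateOn f W := fun w hw h0 => by
  obtain ⟨y, hy⟩ := hW.exists_ne_zero (x := ⟨w, hw⟩) fun h => h0 (congrArg Subtype.val h)
  exact ⟨⟨y, y.2, h w y ▸ hy⟩, y, y.2, h y w ▸ D.ne_zero_symm hy⟩

theorem Br.perp_eq (h : Br D f) (hm : Hm σ ε f) (W : Submodule F (ι → F)) :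
    D.perp W = hm.perp W := by
  ext x
  simp only [D.mem_perp, IsSesq.mem_perp, h _ x]

theorem qForm_nondeg {Q : (ι → F) → F} (h : IsNondegenerateQuadraticForm Q) : (qForm h).Nondeg :=
  (br_qForm h).nondeg (IsNondegenerateQuadraticForm.hm h)

end Bridge

theorem Hm.even_finrank (h : Hm (RingHom.id F) ε f) (ha : ∀ v, f v v = 0) {W : Submodule F (ι → F)}
    (hW : IsNondegenerateOn f W) : Even (finrank F W) :=
  Form.alt_even_finrank ((h.br_sForm ha).nondeg_restrict hW)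

theorem mem_stab_of_mapsTo {W : Submodule F (ι → F)} {g : GL ι F}
    (h : ∀ w ∈ W, (g : Matrix ι ι F) *ᵥ w ∈ W) : g ∈ subspaceStabilizer W :=
  mem_stab_iff_map.2 (Submodule.eq_of_le_of_finrank_eq (by rintro _ ⟨w, hw, rfl⟩; exact h w hw)
    (finrank_map_gl g W))

theorem Br.noDec {K : Kind σ} {D : Form K (ι → F)} (h : Br D f) (hD : D.Nondeg)
    {G : Subgroup (GL ι F)} (hG : Cl G) (hn : ∀ x : D.isom, ∀ g ∈ G, fGL D x * g * (fGL D x)⁻¹ ∈ G)
    (hr : ∀ W : Submodule F (ι → F), W ≠ ⊥ → (D.restrict W).Nondeg →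
      ∃ p ∈ W, ∃ c, p ≠ 0 ∧ c ≠ 0 ∧ D.IsRk1 p c) : NoDec f G := fun t m E hE => by
  have : Nontrivial (Fin t) := Fin.nontrivial_iff_two_le.2 hE.decomp.two_le
  obtain ⟨i, j, hij⟩ := exists_pair_ne (Fin t)
  obtain ⟨p, hp, c, h0, hc, h1⟩ := hr _ (IsMDecomposition.ne_bot hE.decomp i)
    (h.nondeg_restrict (hE.nondegenerate i))
  have h2 : ∀ k, k ≠ i → ∀ w ∈ E k, (fGL D (D.rk1 p c h1) : Matrix ι ι F) *ᵥ w = w :=
    fun k hk w hw => by rw [fGL_mulVec, D.rk1_apply_of_perp _ _ (h p w ▸ hE.orthogonal k i hk w hw p hp)]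
  refine hG.not_le_dec hE.decomp (x := fGL D (D.rk1 p c h1)) ⟨fun hs => ?_, hn _⟩ fun k =>
    mem_stab_of_mapsTo fun w hw => ?_
  · obtain ⟨w, hw, hw0⟩ := Submodule.exists_mem_ne_zero_of_ne_bot
      (IsMDecomposition.ne_bot hE.decomp j)
    obtain ⟨d, hd⟩ := mem_scalars_iff_isSc.1 hs
    have h3 := h2 j hij.symm w hw
    rw [hd, smul_mulVec, one_mulVec] at h3
    obtain rfl : d = 1 := smul_left_injective F hw0 (h3.trans (one_smul F w).symm)
    exact hD.rk1_ne_one h1 hc h0 (fGL_injective (Units.ext (by simpa using hd)))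
  · by_cases hk : k = i
    · rw [fGL_mulVec, D.rk1_apply]
      exact add_mem hw (Submodule.smul_mem _ _ (hk ▸ hp))
    · rwa [h2 k hk w hw]

theorem Br.fGL_mem {K : Kind σ} {D : Form K (ι → F)} (h : Br D f) (x : D.isom) :
    fGL D x ∈ isoG f := mem_isoG.2 fun u v => by
  rw [fGL_mulVec, fGL_mulVec, ← h, ← h, Form.B_isom]

theorem Hm.noDec_sp (h : Hm (RingHom.id F) ε f) (ha : ∀ v, f v v = 0) (hG : Cl (isoG f)) :
    NoDec f (isoG f) :=
  (h.br_sForm ha).noDec ((h.br_sForm ha).nondeg h) hG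
    (fun x => NormBy.self _ _ ((h.br_sForm ha).fGL_mem x)) fun W hW _ =>
      let ⟨p, hp, h0⟩ := Submodule.exists_mem_ne_zero_of_ne_bot hW
      ⟨p, hp, 1, h0, one_ne_zero, Symp.isRk1 _ _ _⟩

theorem exists_norm_one_ne {q : ℕ} (hq : IsConj σ q) : ∃ u : F, u ≠ 1 ∧ u * σ u = 1 := by
  obtain ⟨x, hx⟩ := hq.exists_not_fixed
  have h0 : x ≠ 0 := by rintro rfl; simp at hx
  have h1 : σ x ≠ 0 := by simpa using h0
  exact ⟨σ x / x, by rwa [Ne, div_eq_one_iff_eq h0], by rw [map_div₀, hq.σσ]; field_simp⟩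

theorem Hm.noDec_su (h : Hm σ 1 f) {q : ℕ} (hq : IsConj σ q)
    (hG : Cl (isoG f ⊓ specialLinear ι F)) : NoDec f (isoG f ⊓ specialLinear ι F) :=
  (h.br_uForm hq).noDec ((h.br_uForm hq).nondeg h) hG
    (fun x g hg => ⟨NormBy.self _ _ ((h.br_uForm hq).fGL_mem x) _ hg.1,
      (MonoidHom.normal_ker _).conj_mem g hg.2 _⟩) fun W hW h1 => by
      have := Submodule.nontrivial_iff_ne_bot.2 hW
      obtain ⟨p, hp⟩ := Herm.exists_Q_eq h1 (map_one σ)
      obtain ⟨u, h2, h3⟩ := exists_norm_one_ne hq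
      refine ⟨p, p.2, u - 1, fun h => ?_, sub_ne_zero.2 h2,
        (Herm.isRk1_iff_of_Q_eq_one (D := h.uForm hq) hp).2 (by simpa using h3)⟩
      rw [Form.restrict_Q, h, Form.Q_zero] at hp
      exact zero_ne_one hp

theorem mem_isometryGroup_iff {Q : (ι → F) → F} {g : GL ι F} :
    g ∈ isometryGroup F Q ↔ ∀ v, Q ((g : Matrix ι ι F) *ᵥ v) = Q v := mem_isometryGroup

theorem omegaGL_le {Q : (ι → F) → F} : omegaGL Q ≤ isometryGroup F Q := Subgroup.map_subtype_le _

theorem normBy_omegaGL {Q : (ι → F) → F} : NormBy (isometryGroup F Q) (omegaGL Q) := by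
  rintro g hg _ ⟨x, hx, rfl⟩
  exact ⟨_, (Subgroup.commutator_normal ⊤ ⊤).conj_mem x hx ⟨g, hg⟩, rfl⟩

theorem isometryGroup_le {Q : (ι → F) → F} : isometryGroup F Q ≤ isoG (QuadraticMap.polar Q) :=
  fun g hg => mem_isoG.2 fun u v => by
    simp only [QuadraticMap.polar, ← mulVec_add, mem_isometryGroup.1 hg]

theorem noDec_omega {Q : (ι → F) → F} (h : IsNondegenerateQuadraticForm Q) (hG : Cl (omegaGL Q)) :
    NoDec (QuadraticMap.polar Q) (omegaGL Q) :=
  (br_qForm h).noDec (qForm_nondeg h) hG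
    (fun x => normBy_omegaGL _ (mem_isometryGroup.2 fun v => by
      rw [fGL_mulVec]; exact Form.Q_isom x v)) fun W hW h1 => by
      have := Submodule.nontrivial_iff_ne_bot.2 hW
      obtain ⟨p, hp⟩ := h1.quad_exists_Q_ne_zero
      refine ⟨p, p.2, _, fun h => hp ?_, neg_ne_zero.2 (inv_ne_zero hp), Form.isRk1_refl _⟩
      rw [Form.restrict_Q, h, Form.Q_zero]

/-! ### Quadratic forms from adjoints -/

theorem Hm.adj_eq_of_gram (h : Hm σ ε f) {x y : Matrix ι ι F}
    (hy : xᵀ * gramMatrix f = gramMatrix f * y.map σ) : adj σ f x = y :=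
  h.adj_eq fun u v => by rw [h.eq_fG, fG_mulVec_left, fG_mulVec_right, hy]

theorem Hm.quad_eq (h : Hm (RingHom.id F) 1 f) {a b : Matrix ι ι F}
    (ha : a + adj (RingHom.id F) f a = 1) (hb : b + adj (RingHom.id F) f b = 1) (hab : a * b = b * a)
    (v : ι → F) : f (a *ᵥ v) v = f (b *ᵥ v) v := by
  have h1 : adj (RingHom.id F) f (a - b) = -(a - b) := by
    rw [h.adj_sub, eq_sub_of_add_eq' ha, eq_sub_of_add_eq' hb]; abel
  have h2 : f (((a - b) * adj (RingHom.id F) f a) *ᵥ v) v = -f (((a - b) * a) *ᵥ v) v := by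
    rw [h.adj_spec, h.adj_mul, h.adj_adj, h1, h.symm, mul_neg, neg_mulVec, h.neg_left, mul_sub, hab,
      ← sub_mul]
  rw [← sub_eq_zero, ← h.sub_left, ← sub_mulVec, ← mul_one (a - b), ← ha, mul_add, add_mulVec,
    h.add_left, h2, add_neg_cancel]

/-- `H` fixes a quadratic form with polar form `f`. -/
def Quad8 (f : (ι → F) → (ι → F) → F) (H : Subgroup (GL ι F)) : Prop :=
  ∃ Q : (ι → F) → F, IsNondegenerateQuadraticForm Q ∧ (∀ u v, QuadraticMap.polar Q u v = f u v) ∧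
    H ≤ isometryGroup F Q

theorem Hm.polar_theta (h : Hm (RingHom.id F) 1 f) {θ : Matrix ι ι F}
    (hθ : θ + adj (RingHom.id F) f θ = 1) : QuadraticMap.polar (fun v => f (θ *ᵥ v) v) = f := by
  funext u v
  conv_rhs => rw [← one_mulVec u, ← hθ, add_mulVec, h.add_left, ← h.adj_spec', h.symm u]
  simp only [QuadraticMap.polar, mulVec_add, h.add_left, h.add_right]
  ring

theorem Hm.quad_theta (h : Hm (RingHom.id F) 1 f) {θ : Matrix ι ι F}
    (hθ : θ + adj (RingHom.id F) f θ = 1) : IsNondegenerateQuadraticForm fun v => f (θ *ᵥ v) v :=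
  ⟨fun c v => by rw [mulVec_smul, h.smul_left, h.smul_right, sq, mul_assoc]; rfl,
    (h.polar_theta hθ).symm ▸ isSesq_id_iff.1 h.toIsSesq, (h.polar_theta hθ).symm ▸ h.nondeg⟩

theorem Hm.le_isometry_theta (h : Hm (RingHom.id F) 1 f) {H : Subgroup (GL ι F)} (hI : Isom f H)
    {θ : Matrix ι ι F} (hθ : θ + adj (RingHom.id F) f θ = 1)
    (hc : ∀ g ∈ H, θ * cj g θ = cj g θ * θ ∨ ∃ η, η + adj (RingHom.id F) f η = 1 ∧ θ * η = η * θ ∧
      η * cj g θ = cj g θ * η) : H ≤ isometryGroup F fun v => f (θ *ᵥ v) v := fun g hg => by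
  refine (Subgroup.inv_mem_iff _).1 (mem_isometryGroup.2 fun v => ?_)
  have h1 : cj g θ + adj (RingHom.id F) f (cj g θ) = 1 := by
    rw [h.adj_cj (hI.le_sim hg), ← map_add, hθ, map_one]
  rw [← hI g hg, ← cj_mulVec, mulVec_inv_mulVec]
  rcases hc g hg with h2 | ⟨η, h2, h3, h4⟩
  · exact (h.quad_eq hθ h1 h2 v).symm
  · exact ((h.quad_eq hθ h2 h3 v).trans (h.quad_eq h2 h1 h4 v)).symm

theorem Hm.quad8 (h : Hm (RingHom.id F) 1 f) {H : Subgroup (GL ι F)} (hI : Isom f H)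
    {θ : Matrix ι ι F} (hθ : θ + adj (RingHom.id F) f θ = 1)
    (hc : ∀ g ∈ H, θ * cj g θ = cj g θ * θ ∨ ∃ η, η + adj (RingHom.id F) f η = 1 ∧ θ * η = η * θ ∧
      η * cj g θ = cj g θ * η) : Quad8 f H :=
  ⟨_, h.quad_theta hθ, fun u v => by rw [h.polar_theta hθ], h.le_isometry_theta hI hθ hc⟩

theorem Hm.exists_theta (h : Hm (RingHom.id F) 1 f) (ha : ∀ v, f v v = 0) :
    ∃ θ, θ + adj (RingHom.id F) f θ = 1 := by
  letI := LinearOrder.lift' (Fintype.equivFin ι) (Fintype.equivFin ι).injective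
  have hd := (isUnit_iff_isUnit_det _).1 h.unit
  set G := gramMatrix f with hG
  have hs : Gᵀ = G := by simpa using h.gram_dagger
  let U : Matrix ι ι F := of fun i j => if i < j then G i j else 0
  have hU : U + Uᵀ = G := by
    ext i j
    rcases lt_trichotomy i j with h1 | rfl | h1
    · simp [U, h1, h1.not_gt]
    · simpa [U] using (show G i i = 0 from ha _).symm
    · simpa [U, h1, h1.not_gt] using congrFun (congrFun hs i) j
  refine ⟨G⁻¹ * U, ?_⟩
  rw [h.adj_eq_of_gram (y := G⁻¹ * Uᵀ), ← mul_add, hU, nonsing_inv_mul _ hd]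
  rw [transpose_mul, transpose_nonsing_inv, hs, ← hG, nonsing_inv_mul_cancel_right _ _ hd]
  exact (mul_nonsing_inv_cancel_left _ _ hd).symm

/-- An irreducible group fixes at most one quadratic form with a given polar form. -/
theorem Irr.quad_unique [Finite F] (hn : 2 ≤ Fintype.card ι) {H : Subgroup (GL ι F)} (hH : Irr H)
    {Q Q' : (ι → F) → F} (h : IsNondegenerateQuadraticForm Q) (h' : IsNondegenerateQuadraticForm Q')
    (hp : ∀ u v, QuadraticMap.polar Q u v = QuadraticMap.polar Q' u v)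
    (hI : H ≤ isometryGroup F Q) (hI' : H ≤ isometryGroup F Q') : Q = Q' := by
  funext v
  by_cases h2 : (2 : F) = 0
  · refine sub_eq_zero.1 (hH.eq_zero_of_additive h2 hn (q := fun v => Q v - Q' v) (fun u v => ?_)
      (fun c v => by rw [h.smul, h'.smul, mul_sub]) (fun g hg v hv => ?_) v)
    · have := hp u v
      simp only [QuadraticMap.polar] at this
      linear_combination this
    · rwa [mem_isometryGroup.1 (hI hg), mem_isometryGroup.1 (hI' hg)]
  · exact mul_left_cancel₀ h2 (((qForm h).B_self v).symm.trans ((hp v v).trans ((qForm h').B_self v)))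

/-! ### Orthogonal decompositions -/

theorem bm_add (π : Equiv.Perm μ) (gs hs : μ → Matrix κ κ F) :
    bm π gs + bm π hs = bm π fun j => gs j + hs j := by
  ext a b
  simp only [Matrix.add_apply, bm_apply]
  split_ifs <;> simp

namespace Blk

variable {t : ℕ} {D : Fin t → Submodule F (ι → F)} {e : ι ≃ Fin t × κ} {P : GL ι F} (h : Blk D e P)
include h

theorem single_mem (i : Fin t) (a : κ) : vec e P (Pi.single (i, a) 1) ∈ D i :=
  (h _ _).2 fun _ hk => Pi.single_eq_of_ne (fun hc => hk (by rw [hc])) _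

theorem gram (ho : ∀ i j, i ≠ j → AreOrthogonalFor f (D i) (D j)) :
    gramMatrix (pull f e P) = bm 1 fun j => of fun a b =>
      f (vec e P (Pi.single (j, a) 1)) (vec e P (Pi.single (j, b) 1)) := by
  ext ⟨i, a⟩ ⟨j, b⟩
  rw [bm_apply]
  split_ifs with hij
  · obtain rfl : i = j := hij
    rfl
  · exact ho i j hij _ (h.single_mem i a) _ (h.single_mem j b)

theorem cj_bm {g : GL ι F} (hg : g ∈ decompositionStabilizer D) :
    ∃ (π : Equiv.Perm (Fin t)) (gs : Fin t → GL κ F), ∀ xs,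
      cj g (tr e P (bm 1 xs)) = tr e P (bm 1 fun i => cj (gs i) (xs (π i))) := by
  obtain ⟨π, gs, h1, h2⟩ := h.exists_bm hg
  refine ⟨π⁻¹, fun i => (h1 (π⁻¹ i)).unit, fun xs => ?_⟩
  rw [cj_eq_iff, h2, ← map_mul, ← map_mul, bm_mul, bm_mul, mul_one, one_mul]
  congr 2
  funext j
  simpa using (cj_mul_self (h1 (π⁻¹ (π j))).unit (xs j)).symm

end Blk

theorem Hm.exists_dec_of_set [Finite F] (h : Hm σ ε f) {H : Subgroup (GL ι F)}
    {S : Set (Submodule F (ι → F))} {k : ℕ} (hk : 0 < k) (hk' : k < Fintype.card ι)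
    (hd : ∀ W ∈ S, finrank F W = k) (hn : ∀ W ∈ S, IsNondegenerateOn f W)
    (ho : ∀ W ∈ S, ∀ W' ∈ S, W ≠ W' → AreOrthogonalFor f W W') (hs : sSup S = ⊤)
    (hH : ∀ g ∈ H, ∀ W ∈ S, W.map (toLin' (g : Matrix ι ι F)) ∈ S) :
    ∃ (t : ℕ) (D : Fin t → Submodule F (ι → F)), IsNondegenerateMDecomposition f k D ∧
      H ≤ decompositionStabilizer D ∧ ∀ i, D i ∈ S := by
  have : Fintype S := Fintype.ofFinite _
  let b := (Fintype.equivFin S).symm
  have hb : ∀ i j, i ≠ j → AreOrthogonalFor f (b i) (b j) := fun i j hij =>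
    ho _ (b i).2 _ (b j).2 fun hc => hij (b.injective (Subtype.ext hc))
  have ht : ⨆ i, (b i : Submodule F (ι → F)) = ⊤ := by
    rw [← hs, sSup_eq_iSup']
    exact b.iSup_comp (g := Subtype.val)
  refine ⟨_, fun i => b i, ⟨⟨?_, hk, fun i => hd _ (b i).2, fun i => ?_, ht⟩, fun i => hn _ (b i).2,
    hb⟩, fun g hg => ?_, fun i => (b i).2⟩
  · by_contra hc
    have h1 : Subsingleton (Fin (Fintype.card S)) := Fin.subsingleton_iff_le_one.2 (by omega)
    rcases isEmpty_or_nonempty (Fin (Fintype.card S)) with h2 | ⟨⟨i⟩⟩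
    · rw [iSup_of_empty] at ht
      have := congrArg (fun W : Submodule F (ι → F) => finrank F W) ht
      simp only [finrank_bot, finrank_top, finrank_fintype_fun_eq_card] at this
      omega
    · have := hd _ (b i).2
      rw [ciSup_subsingleton i] at ht
      rw [ht, finrank_top, finrank_fintype_fun_eq_card] at this
      omega
  · exact (disjoint_iff.2 (h.nondegOn_iff.1 (hn _ (b i).2))).mono_right
      (iSup₂_le fun j hj u hu => h.toIsSesq.mem_perp.2 (hb j i hj u hu))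
  · let φ : S → S := fun W => ⟨_, hH g hg _ W.2⟩
    have hφ : Function.Injective φ := fun W W' hW => Subtype.ext (by
      have := congrArg (fun W : S => W.1.map (toLin' ((g⁻¹ : GL ι F) : Matrix ι ι F))) hW
      simp only [φ, map_map_toLin', inv_mul_cancel] at this
      simpa using this)
    exact ⟨(b.trans (Equiv.ofBijective φ (Finite.injective_iff_bijective.1 hφ))).trans b.symm,
      fun i => by simp [φ]⟩

theorem Hm.exists_frame [Finite F] (h : Hm σ ε f) (hn : 2 ≤ Fintype.card ι) {H : Subgroup (GL ι F)}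
    {T : Set (ι → F)} (hT : ∀ v ∈ T, f v v ≠ 0)
    (ho : ∀ v ∈ T, ∀ w ∈ T, w ∈ Submodule.span F {v} ∨ f v w = 0) (hs : Submodule.span F T = ⊤)
    (hH : ∀ g ∈ H, ∀ v ∈ T, ∃ w ∈ T, (g : Matrix ι ι F) *ᵥ v ∈ Submodule.span F {w}) :
    ∃ D : Fin (Fintype.card ι) → Submodule F (ι → F), IsNondegenerateMDecomposition f 1 D ∧
      H ≤ decompositionStabilizer D ∧ ∀ i, ∃ v ∈ T, D i = Submodule.span F {v} := by
  have h0 : ∀ v ∈ T, v ≠ 0 := fun v hv h0 => hT v hv (h0 ▸ h.zero_left _)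
  have h1 : ∀ {v w : ι → F}, v ≠ 0 → v ∈ Submodule.span F {w} →
      Submodule.span F {v} = Submodule.span F {w} := fun hv hw => by
    obtain ⟨c, rfl⟩ := Submodule.mem_span_singleton.1 hw
    exact Submodule.span_singleton_smul_eq (IsUnit.mk0 c (left_ne_zero_of_smul hv)) _
  obtain ⟨t, D, h2, h3, h4⟩ := h.exists_dec_of_set (H := H)
    (S := (fun v => Submodule.span F {v}) '' T) one_pos hn
    (by rintro _ ⟨v, hv, rfl⟩; exact finrank_span_singleton (h0 v hv))
    (by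
      rintro _ ⟨v, hv, rfl⟩ w hw hw0
      obtain ⟨c, rfl⟩ := Submodule.mem_span_singleton.1 hw
      have hc := left_ne_zero_of_smul hw0
      refine ⟨⟨v, Submodule.mem_span_singleton_self v, ?_⟩, v, Submodule.mem_span_singleton_self v, ?_⟩
      · rw [h.smul_right]; exact mul_ne_zero (by simpa using hc) (hT v hv)
      · rw [h.smul_left]; exact mul_ne_zero hc (hT v hv))
    (by
      rintro _ ⟨v, hv, rfl⟩ _ ⟨w, hw, rfl⟩ hne x hx y hy
      obtain ⟨c, rfl⟩ := Submodule.mem_span_singleton.1 hx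
      obtain ⟨d, rfl⟩ := Submodule.mem_span_singleton.1 hy
      rw [h.smul_left, h.smul_right, (ho v hv w hw).resolve_left fun h => hne (h1 (h0 w hw) h).symm,
        mul_zero, mul_zero])
    (by rw [sSup_image, ← hs, Submodule.span_eq_iSup_of_singleton_spans])
    (by
      rintro g hg _ ⟨v, hv, rfl⟩
      obtain ⟨w, hw, h2⟩ := hH g hg v hv
      refine ⟨w, hw, ?_⟩
      rw [Submodule.map_span, Set.image_singleton]
      refine (h1 (fun h3 => h0 v hv ?_) h2).symm
      rw [← inv_mulVec_mulVec g v, show (g : Matrix ι ι F) *ᵥ v = 0 from h3, mulVec_zero])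
  obtain rfl : t = Fintype.card ι := by simpa using IsMDecomposition.mul_eq h2.decomp
  exact ⟨D, h2, h3, fun i => let ⟨v, hv, h⟩ := h4 i; ⟨v, hv, h.symm⟩⟩

/-- Refining a decomposition whose members have a unique orthogonal frame of a given norm. -/
theorem Hm.refine_frame [Finite F] (h : Hm σ ε f) {H : Subgroup (GL ι F)} (hI : Isom f H) {t m : ℕ}
    {D : Fin t → Submodule F (ι → F)} (hD : IsNondegenerateMDecomposition f m D)
    (hH : H ≤ decompositionStabilizer D) {c : F} (hc : c ≠ 0) (b : ∀ i, Basis κ F (D i))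
    (hb : ∀ i a a', f (b i a) (b i a') = if a = a' then c else 0)
    (hκ : ∀ x : κ → F, ∑ a, x a * σ (x a) = 1 → ∃ a, ∀ a', a' ≠ a → x a' = 0) :
    ∃ D : Fin (Fintype.card ι) → Submodule F (ι → F), IsNondegenerateMDecomposition f 1 D ∧
      H ≤ decompositionStabilizer D ∧ ∀ i, ∃ v, f v v = c ∧ D i = Submodule.span F {v} := by
  have h2 := IsMDecomposition.mul_eq hD.decomp
  have h3 := hD.decomp.two_le
  have h4 := hD.decomp.pos
  obtain ⟨E, h5, h6, h7⟩ := h.exists_frame (H := H) (by nlinarith)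
    (T := Set.range fun p : Fin t × κ => (b p.1 p.2 : ι → F))
    (by rintro _ ⟨p, rfl⟩; simpa [hb] using hc)
    (by
      rintro _ ⟨⟨i, a⟩, rfl⟩ _ ⟨⟨j, a'⟩, rfl⟩
      by_cases hij : i = j
      · subst hij
        by_cases ha : a = a'
        · exact Or.inl (ha ▸ Submodule.mem_span_singleton_self _)
        · exact Or.inr (by simp [hb, ha])
      · exact Or.inr (hD.orthogonal i j hij _ (b i a).2 _ (b j a').2))
    (by
      rw [eq_top_iff, ← hD.decomp.iSup_eq_top]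
      refine iSup_le fun i v hv => ?_
      rw [show v = ((⟨v, hv⟩ : D i) : ι → F) from rfl, ← (b i).sum_repr ⟨v, hv⟩,
        Submodule.coe_sum]
      exact sum_mem fun a _ => Submodule.smul_mem _ _ (Submodule.subset_span ⟨(i, a), rfl⟩))
    (by
      rintro g hg _ ⟨⟨i, a⟩, rfl⟩
      obtain ⟨π, hπ⟩ := hH hg
      have h5 : (g : Matrix ι ι F) *ᵥ b i a ∈ D (π i) := hπ i ▸ Submodule.mem_map_of_mem (b i a).2
      have h6 : (g : Matrix ι ι F) *ᵥ b i a =
          ∑ a', (b (π i)).repr ⟨_, h5⟩ a' • (b (π i) a' : ι → F) := by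
        have := congrArg Subtype.val ((b (π i)).sum_repr ⟨_, h5⟩)
        rw [Submodule.coe_sum] at this
        exact this.symm
      generalize (b (π i)).repr ⟨_, h5⟩ = x at h6
      have h7 := hI g hg (b i a) (b i a)
      rw [h6, hb, if_pos rfl, h.sum_left] at h7
      simp only [h.sum_right, h.smul_left, h.smul_right, hb, mul_ite, mul_zero, Finset.sum_ite_eq,
        Finset.mem_univ, if_true, ← mul_assoc, ← Finset.sum_mul, mul_eq_right₀ hc] at h7
      obtain ⟨a', h8⟩ := hκ x h7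
      refine ⟨_, ⟨(π i, a'), rfl⟩, ?_⟩
      rw [h6, Finset.sum_eq_single a' (fun k _ hk => by rw [h8 k hk, zero_smul]) (by simp)]
      exact Submodule.smul_mem _ _ (Submodule.mem_span_singleton_self _))
  refine ⟨E, h5, h6, fun i => ?_⟩
  obtain ⟨_, ⟨p, rfl⟩, h8⟩ := h7 i
  exact ⟨_, by simp [hb], h8⟩

/-! ### Extension fields -/

theorem IsFieldSubalgebra.dvd_finrank [Nonempty ι] {r : ℕ} {K : Subalgebra F (Matrix ι ι F)}
    (h : IsFieldSubalgebra r K) {W : Submodule F (ι → F)} (hW : ∀ k ∈ K, ∀ w ∈ W, k *ᵥ w ∈ W) :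
    r ∣ finrank F W := by
  letI := (IsFieldSubalgebra.isField h).toField
  letI : Module K W :=
    { smul := fun k w => ⟨_, hW k k.2 w w.2⟩
      one_smul := fun w => Subtype.ext (one_mulVec _)
      mul_smul := fun _ _ w => Subtype.ext (mulVec_mulVec _ _ _).symm
      smul_zero := fun _ => Subtype.ext (mulVec_zero _)
      smul_add := fun _ _ _ => Subtype.ext (mulVec_add _ _ _)
      add_smul := fun _ _ _ => Subtype.ext (add_mulVec _ _ _)
      zero_smul := fun _ => Subtype.ext (zero_mulVec _) }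
  have : IsScalarTower F K W := ⟨fun c x v => Subtype.ext (smul_mulVec _ _ _)⟩
  have := @finrank_mul_finrank F K W _ _ _ _ _ _ this _ _ _ _
  rw [h.finrank_eq] at this
  exact ⟨_, this.symm⟩

theorem IsFieldSubalgebra.exists_sq [Finite F] [Nonempty ι] (h2 : (2 : F) = 0) {r : ℕ}
    {K : Subalgebra F (Matrix ι ι F)} (h : IsFieldSubalgebra r K) {k : Matrix ι ι F} (hk : k ∈ K) :
    ∃ l ∈ K, l * l = k := by
  letI := (IsFieldSubalgebra.isField h).toField
  obtain ⟨l, hl⟩ := exists_sq_eq (F := K) (by rw [← map_ofNat (algebraMap F K), h2, map_zero]) ⟨k, hk⟩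
  exact ⟨l, l.2, by simpa [sq] using congrArg Subtype.val hl⟩

theorem Hm.two_mul_dvd [Nonempty ι] (h : Hm σ ε f) {r : ℕ} {K : Subalgebra F (Matrix ι ι F)}
    (hK : IsFieldSubalgebra r K) (hA : AC σ f K) (h0 : ∀ k ∈ K, ∀ v, f (k *ᵥ v) v = 0) :
    2 * r ∣ Fintype.card ι := by
  obtain ⟨W, ⟨h1, h2⟩, h3⟩ := (wellFounded_gt (α := Submodule F (ι → F))).has_min
    {W | (∀ k ∈ K, ∀ w ∈ W, k *ᵥ w ∈ W) ∧ IsTotallySingularFor f W}
    ⟨⊥, by simp +contextual, fun u hu v _ => by rw [(Submodule.mem_bot F).1 hu, h.zero_left]⟩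
  have h4 : h.perp W = W := le_antisymm (fun v hv => ?_) h2
  · obtain ⟨c, hc⟩ := IsFieldSubalgebra.dvd_finrank hK h1
    have := h.finrank_perp W
    rw [h4, hc] at this
    exact ⟨c, by rw [← this]; ring⟩
  let U := W ⊔ K.toSubmodule.map ((mulVecBilin F F).flip v)
  have hU : ∀ u ∈ U, ∃ w ∈ W, ∃ k ∈ K, w + k *ᵥ v = u := fun u hu => by
    obtain ⟨w, hw, _, ⟨k, hk, rfl⟩, rfl⟩ := Submodule.mem_sup.1 hu
    exact ⟨w, hw, k, hk, rfl⟩
  have hU' : ∀ k ∈ K, k *ᵥ v ∈ U := fun k hk => Submodule.mem_sup_right ⟨k, hk, rfl⟩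
  have h5 : ∀ k ∈ K, ∀ w ∈ W, f (k *ᵥ v) w = 0 := fun k hk w hw => by
    rw [h.adj_spec]; exact hv _ (h1 _ (hA k hk) w hw)
  rw [(le_sup_left : W ≤ U).eq_of_not_lt (h3 U ⟨fun k hk u hu => ?_, fun u hu u' hu' => ?_⟩)]
  · simpa using hU' 1 (one_mem _)
  · obtain ⟨w, hw, l, hl, rfl⟩ := hU u hu
    rw [mulVec_add, mulVec_mulVec]
    exact add_mem (Submodule.mem_sup_left (h1 k hk w hw)) (hU' _ (mul_mem hk hl))
  · obtain ⟨w, hw, l, hl, rfl⟩ := hU u hu
    obtain ⟨w', hw', l', hl', rfl⟩ := hU u' hu'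
    rw [h.add_left, h.add_right, h.add_right, h2 w hw w' hw', h5 l hl w' hw',
      h.symm0 (h5 l' hl' w hw), h.adj_spec', mulVec_mulVec, h0 _ (mul_mem (hA _ hl') hl)]
    simp

end Cfsg.Lib.Asch
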