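import Cfsg.Agent.Lib.Asch.Ext2

/-! Tensor products of two-dimensional spaces. -/

set_option autoImplicit false

namespace Cfsg.Lib.Asch

open Matrix Cfsg.Geo Module Cfsg.Lib.Forms Subgroup
open scoped MatrixGroups Kronecker commutatorElement

variable {ι κ μ : Type} [Fintype ι] [DecidableEq ι] [Fintype κ] [DecidableEq κ]
  [Fintype μ] [DecidableEq μ] {F : Type*} [Field F] {σ : F →+* F} {ε : F}
  {f : (ι → F) → (ι → F) → F}

theorem eq_top_of_single {A : Subalgebra F (Matrix ι ι F)} {e : ι ≃ κ} {P : GL ι F}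
    (h : ∀ a b, tr e P (single a b 1) ∈ A) : A = ⊤ := eq_top_iff.2 fun x _ => by
  rw [← (tr e P).apply_symm_apply x, eq_sum_single ((tr e P).symm x)]
  simp only [map_sum, map_smul]
  exact sum_mem fun a _ => sum_mem fun b _ => A.smul_mem (h a b) _

theorem eq_top_of_kron {A : Subalgebra F (Matrix ι ι F)} {e : ι ≃ κ × μ} {P : GL ι F}
    (h1 : ∀ a, tr e P (a ⊗ₖ 1) ∈ A) (h2 : ∀ b, tr e P (1 ⊗ₖ b) ∈ A) : A = ⊤ :=
  eq_top_of_single (e := e) (P := P) fun a b => by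
    have := mul_mem (h1 (single a.1 b.1 1)) (h2 (single a.2 b.2 1))
    rwa [← map_mul, ← mul_kronecker_mul, mul_one, one_mul, single_kronecker_single, mul_one] at this

theorem eq_top_of_slot {t : ℕ} {A : Subalgebra F (Matrix ι ι F)} {e : ι ≃ (Fin t → κ)} {P : GL ι F}
    (h : ∀ i a, tr e P (slot i a) ∈ A) : A = ⊤ :=
  eq_top_of_single (e := e) (P := P) fun a b => by
    have : (fun i => single (a i) (b i) (1 : F)) ∈
        (A.comap (tr e P).toAlgHom).toSubmonoid.comap (pureHom t κ F) := by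
      rw [← Finset.noncommProd_mulSingle fun i => single (a i) (b i) (1 : F)]
      exact Submonoid.noncommProd_mem _ _ _ _ fun i _ => h i _
    rw [← pure_single]
    exact this

theorem eq_top_two (h2 : (2 : F) ≠ 0) {A : Subalgebra F (Matrix (Fin 2) (Fin 2) F)}
    {x y : Matrix (Fin 2) (Fin 2) F} (hx : IsUnit x) (hy : IsUnit y) (h : x * y = -(y * x))
    (hxA : x ∈ A) (hyA : y ∈ A) : A = ⊤ := by
  have key : ∀ a b : F, a • (1 : Matrix (Fin 2) (Fin 2) F) + b • x = 0 → a = 0 ∧ b = 0 :=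
    fun a b hab => by
      have h1 := eq_neg_of_add_eq_zero_right hab
      have h3 : ((2 : F) * b) • (y * x) = 0 := by
        have h4 : b • x * y = y * b • x := by simp [h1]
        rw [smul_mul_assoc, mul_smul_comm, h, smul_neg, neg_eq_iff_add_eq_zero] at h4
        rw [mul_smul, two_smul, h4]
      obtain rfl : b = 0 := by simpa [h2, (hy.mul hx).ne_zero] using h3
      simpa using hab
  have hi : LinearIndependent F ![1, x, y, x * y] := Fintype.linearIndependent_iff.2 fun c hc => by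
    simp only [Fin.sum_univ_four, cons_val] at hc
    have h1 : (c 0 • 1 + c 1 • x) + (c 2 • 1 + c 3 • x) * y = 0 := by
      rw [← hc, add_mul, smul_mul_assoc, smul_mul_assoc, one_mul, add_assoc, add_assoc, add_assoc]
    have h3 : ((c 0 • 1 + c 1 • x) - (c 2 • 1 + c 3 • x) * y) * x = 0 := by
      rw [← mul_zero x, ← h1, sub_mul, mul_assoc, ← neg_neg (y * x), ← h]
      simp only [mul_add, add_mul, mul_neg, smul_mul_assoc, mul_smul_comm, one_mul, mul_one]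
      abel
    rw [hx.mul_left_eq_zero, sub_eq_zero] at h3
    rw [← h3, ← two_smul F, smul_eq_zero_iff_right h2] at h1
    rw [h1, eq_comm, hy.mul_left_eq_zero] at h3
    intro i
    fin_cases i
    exacts [(key _ _ h1).1, (key _ _ h1).2, (key _ _ h3).1, (key _ _ h3).2]
  rw [eq_top_iff, ← Subalgebra.toSubmodule.le_iff_le, Algebra.top_toSubmodule,
    ← hi.span_eq_top_of_card_eq_finrank' (by simp [finrank_matrix]), Submodule.span_le]
  rintro _ ⟨i, rfl⟩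
  fin_cases i
  exacts [one_mem A, hxA, hyA, A.mul_mem hxA hyA]

theorem Hm.mem_sim_of_act (h : Hm σ ε f) {e : ι ≃ κ} {P g : GL ι F} {a : Matrix κ κ F}
    (hg : (g : Matrix ι ι F) = tr e P a) {c : Fˣ} (ha : act σ a (gramMatrix (Asch.pull f e P)) =
      (c : F) • gramMatrix (Asch.pull f e P)) : g ∈ similarityGroup f := ⟨c, fun u v => by
  obtain ⟨u, rfl⟩ := (vec e P).surjective u
  obtain ⟨v, rfl⟩ := (vec e P).surjective v
  rw [← pull_mulVec (f := f) hg, (h.pull e P).eq_fG, ← fG_act, ha, fG_smul, ← (h.pull e P).eq_fG]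
  rfl⟩

/-- `diag(1, -1)`. -/
def Z2 (F : Type*) [Field F] : Matrix (Fin 2) (Fin 2) F := !![1, 0; 0, -1]

theorem Z2_mul_self : Z2 F * Z2 F = 1 := by
  ext i j; fin_cases i <;> fin_cases j <;> simp [Z2]

theorem J2_mul_self : J2 F * J2 F = -1 := by
  ext i j; fin_cases i <;> fin_cases j <;> simp [J2]

theorem isUnit_Z2 : IsUnit (Z2 F) := .of_mul_eq_one _ Z2_mul_self

theorem hm_J2 : Hm (RingHom.id F) (-1) (formOfGram (RingHom.id F) (J2 F)) :=
  hm_fG (fun _ => rfl) isUnit_J2 (by simpa using J2_transpose)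

theorem alt_J2 (v : Fin 2 → F) : formOfGram (RingHom.id F) (J2 F) v v = 0 := by
  simp [formOfGram, J2, mul_comm]

/-- Skew elements with scalar square for the tensor square of the alternating plane. -/
theorem side_of_skew (h2 : (2 : F) ≠ 0) {x : Matrix (Fin 2 × Fin 2) (Fin 2 × Fin 2) F}
    (hx : xᵀ * J2 F ⊗ₖ J2 F = J2 F ⊗ₖ J2 F * -x) (hs : IsSc (x * x)) :
    (∃ a, x = a ⊗ₖ (1 : Matrix _ _ F)) ∨ ∃ b, x = (1 : Matrix _ _ F) ⊗ₖ b := by
  obtain ⟨s, s', a₁, a₂, b₁, b₂, rfl⟩ : ∃ s s' a₁ a₂ b₁ b₂ : F,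
      x = !![s, a₁; a₂, -s] ⊗ₖ (1 : Matrix _ _ F) + (1 : Matrix _ _ F) ⊗ₖ !![s', b₁; b₂, -s'] := by
    have h := fun p q => congrFun (congrFun hx p) q
    simp only [Prod.forall, Fin.forall_fin_two] at h
    simp [mul_apply, Fintype.sum_prod_type, J2] at h
    refine ⟨(x (0, 0) (0, 0) + x (0, 1) (0, 1)) / 2, (x (0, 0) (0, 0) - x (0, 1) (0, 1)) / 2,
      x (0, 0) (1, 0), x (1, 0) (0, 0), x (0, 0) (0, 1), x (0, 1) (0, 0), ?_⟩
    ext ⟨i, j⟩ ⟨k, l⟩
    fin_cases i <;> fin_cases j <;> fin_cases k <;> fin_cases l <;> simp <;> grind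
  have key : ∀ s a₁ a₂ : F, !![s, a₁; a₂, -s] * !![s, a₁; a₂, -s] = (s * s + a₁ * a₂) • 1 :=
    fun s a₁ a₂ => by ext i j; fin_cases i <;> fin_cases j <;> simp <;> ring
  obtain ⟨c, hc⟩ := hs
  simp only [mul_add, add_mul, ← mul_kronecker_mul, key, mul_one, one_mul, smul_kronecker,
    kronecker_smul] at hc
  by_cases ha : !![s, a₁; a₂, -s] = 0
  · exact Or.inr ⟨_, by rw [ha, zero_kronecker, zero_add]⟩
  by_cases hb : !![s', b₁; b₂, -s'] = 0
  · exact Or.inl ⟨_, by rw [hb, kronecker_zero, add_zero]⟩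
  obtain ⟨u, -, -, h3, -⟩ := exists_smul_of_kron ha hb (A := 1) (B := 1)
    (c := 2⁻¹ * (c - (s * s + a₁ * a₂) - (s' * s' + b₁ * b₂))) (by
      rw [mul_smul, eq_inv_smul_iff₀ h2, sub_smul, sub_smul, one_kronecker_one, ← hc, two_smul,
        one_kronecker_one]
      abel)
  have h4 := congrArg trace h3
  simp [h2] at h4
  exact absurd (by simp [h3, h4]) ha

theorem range_side (h2 : (2 : F) ≠ 0) [Nonempty ι] (h : Hm (RingHom.id F) ε f)
    {e : ι ≃ Fin 2 × Fin 2} {P : GL ι F} (hA : gramMatrix (pull f e P) = J2 F ⊗ₖ J2 F)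
    (ψ : Matrix (Fin 2) (Fin 2) F →ₐ[F] Matrix ι ι F)
    (hψ : ∀ a, adj (RingHom.id F) f (ψ a) = ψ (adjugate a)) :
    (∀ a, ∃ b, ψ a = tr e P (b ⊗ₖ 1)) ∨ ∀ a, ∃ b, ψ a = tr e P (1 ⊗ₖ b) := by
  have key : ∀ a, adjugate a = -a → IsSc (a * a) →
      (∃ b, ψ a = tr e P (b ⊗ₖ 1)) ∨ ∃ b, ψ a = tr e P (1 ⊗ₖ b) := fun a ha hs => by
    have h1 := (h.pull e P).transpose_mul_gram ((tr e P).symm (ψ a))
    have h3 : adj _ (pull f e P) ((tr e P).symm (ψ a)) = -(tr e P).symm (ψ a) :=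
      (tr e P).injective (by rw [← h.adj_tr, map_neg, AlgEquiv.apply_symm_apply, hψ, ha, map_neg])
    rw [h3, hA] at h1
    simpa only [AlgEquiv.symm_apply_eq] using side_of_skew h2 h1 (by
      rw [← map_mul, ← map_mul]; exact (hs.map ψ).map (tr e P).symm.toAlgHom)
  have h1 : Z2 F * J2 F = -(J2 F * Z2 F) := by
    ext i j; fin_cases i <;> fin_cases j <;> simp [Z2, J2]
  have h3 : ψ (Z2 F) * ψ (J2 F) ≠ ψ (J2 F) * ψ (Z2 F) := fun hc => by
    rw [← map_mul, h1, map_neg, ← map_mul, neg_eq_iff_add_eq_zero, ← two_smul F,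
      smul_eq_zero_iff_right h2] at hc
    exact ((isUnit_J2.mul isUnit_Z2).map ψ).ne_zero hc
  have h4 : ∀ φ : Matrix (Fin 2) (Fin 2) F →ₐ[F] Matrix ι ι F, (∃ b, ψ (Z2 F) = φ b) →
      (∃ b, ψ (J2 F) = φ b) → ∀ a, ∃ b, ψ a = φ b := fun φ ⟨b, hb⟩ ⟨c, hc⟩ a => by
    obtain ⟨b, hb⟩ : a ∈ φ.range.comap ψ :=
      eq_top_two h2 isUnit_Z2 isUnit_J2 h1 (A := φ.range.comap ψ) ⟨b, hb.symm⟩ ⟨c, hc.symm⟩ ▸ trivial
    exact ⟨b, hb.symm⟩
  rcases key (Z2 F) (by simp [Z2]) ⟨1, by simp [Z2_mul_self]⟩ with h5 | h5 <;>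
    rcases key (J2 F) (by simp [J2]) ⟨-1, by simp [J2_mul_self]⟩ with h6 | h6
  · exact Or.inl (h4 ((tr e P).toAlgHom.comp (kl _ _ F)) h5 h6)
  pick_goal 3
  · exact Or.inr (h4 ((tr e P).toAlgHom.comp (kr _ _ F)) h5 h6)
  all_goals
    obtain ⟨a, ha⟩ := h5
    obtain ⟨b, hb⟩ := h6
    exact absurd (by simp only [ha, hb, ← map_mul, ← mul_kronecker_mul, mul_one, one_mul]) h3

/-- Commuting matrix algebras permuted by a group. -/
theorem Hm.exists_pow [Nonempty ι] (h : Hm σ ε f) {t k : ℕ} (hk : 2 ≤ k) (ht : 0 < t)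
    (φ : Fin t → Matrix (Fin k) (Fin k) F →ₐ[F] Matrix ι ι F)
    (hc : ∀ i j, i ≠ j → ∀ a b, φ i a * φ j b = φ j b * φ i a)
    (hg : ∀ z, (∀ i a, z * φ i a = φ i a * z) → IsSc z) {θ : Matrix _ _ F → Matrix _ _ F}
    (hθ : ∀ i a, adj σ f (φ i a) = φ i (θ a)) {H : Subgroup (GL ι F)}
    (hH : ∀ g ∈ H, ∀ i, ∃ j, ∀ a, ∃ b, cj g (φ i a) = φ j b) :
    ∃ (e : ι ≃ (Fin t → Fin k)) (P : GL ι F) (A : Matrix (Fin k) (Fin k) F) (ε₁ c : F),
      (∀ i a, φ i a = tr e P (slot i a)) ∧ H ≤ tensorWreathSubgroup k t e P ∧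
      Hm σ ε₁ (formOfGram σ A) ∧ c ≠ 0 ∧ σ c * ε₁ ^ t = ε * c ∧
      gramMatrix (Asch.pull f e P) = c • pure fun _ => A := by
  have : NeZero k := ⟨by omega⟩
  obtain ⟨e, P, he⟩ := exists_tr_power φ hc hg
  obtain ⟨A, ε₁, c, h1⟩ := (h.pull e P).exists_pure ht (θ := θ) fun i y =>
    (tr e P).injective (by rw [← h.adj_tr, ← he, ← he, hθ])
  exact ⟨e, P, A, ε₁, c, he, fun g hg => mem_tensorWreathSubgroup_of hk ht e P
    (by simpa only [he] using hH g hg), h1⟩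

/-! ### The field with three elements -/

section three

variable [Fintype F] (h3 : Fintype.card F = 3)
include h3

theorem pmC_of_sq_three {x y : Matrix (Fin 2) (Fin 2) F} (hx : x * x = -1) (hy : y * y = -1) :
    PmC x y := by
  let φ := (ZMod.ringEquivOfPrime F Nat.prime_three h3).mapMatrix (m := Fin 2)
  obtain ⟨x, rfl⟩ := φ.surjective x
  obtain ⟨y, rfl⟩ := φ.surjective y
  simp only [PmC, ← map_mul, ← map_one φ, ← map_neg, φ.injective.eq_iff] at hx hy ⊢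
  revert x y
  decide +kernel

end three

end Cfsg.Lib.Asch
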